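import Mathlib

/-!
# A quadratic unit normalizing an abelian `p'`-group of units centralizes it

Ring-theoretic core of the "baby Hall–Higman" lemma: in a ring `E` of characteristic `p` (odd), if a
unit `A` with `(A - 1)^2 = 0` and `A^(p^k) = 1` normalizes a finite abelian subgroup `F` of `Eˣ`
whose order is prime to `p`, then `A` centralizes `F`.
-/

namespace Cfsg.Agent.Helper64

open Finset

section

variable {E : Type*} [Ring E]

/-- conjugating a quadratic unit keeps it quadratic -/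
theorem conj_sub_one_sq (A y : Eˣ) (hq : ((A : E) - 1) * ((A : E) - 1) = 0) :
    (((y * A * y⁻¹ : Eˣ) : E) - 1) * (((y * A * y⁻¹ : Eˣ) : E) - 1) = 0 := by
  have h1 : (((y * A * y⁻¹ : Eˣ) : E) - 1) = (y : E) * ((A : E) - 1) * ((y⁻¹ : Eˣ) : E) := by
    push_cast
    rw [mul_sub, sub_mul, mul_one, Units.mul_inv]
  rw [h1]
  calc (y : E) * ((A : E) - 1) * ((y⁻¹ : Eˣ) : E) * ((y : E) * ((A : E) - 1) * ((y⁻¹ : Eˣ) : E))
      = (y : E) * ((A : E) - 1) * (((y⁻¹ : Eˣ) : E) * (y : E)) * ((A : E) - 1) * ((y⁻¹ : Eˣ) : E) := by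
        noncomm_ring
    _ = (y : E) * (((A : E) - 1) * ((A : E) - 1)) * ((y⁻¹ : Eˣ) : E) := by
        rw [Units.inv_mul]; noncomm_ring
    _ = 0 := by rw [hq]; simp

end

section group

variable {M : Type*} [Group M]

/-- telescoping: if `x = y A y⁻¹ A⁻¹` commutes with `A` then `y A^n y⁻¹ A^{-n} = x^n`. -/
theorem comm_pow_telescope (A y : M) (hx : A * (y * A * y⁻¹ * A⁻¹) = (y * A * y⁻¹ * A⁻¹) * A) (n : ℕ) :
    y * A ^ n * y⁻¹ * (A ^ n)⁻¹ = (y * A * y⁻¹ * A⁻¹) ^ n := by
  induction n with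
  | zero => simp
  | succ n ih =>
    set x := y * A * y⁻¹ * A⁻¹ with hxdef
    have hc : Commute A x := hx
    have h1 : y * A ^ (n + 1) * y⁻¹ * (A ^ (n + 1))⁻¹
        = x * (A * (y * A ^ n * y⁻¹ * (A ^ n)⁻¹) * A⁻¹) := by
      rw [hxdef, pow_succ']; group
    rw [h1, ih]
    have h2 : A * x ^ n * A⁻¹ = x ^ n := by
      have := (hc.pow_right n).eq
      rw [this]; group
    rw [h2, pow_succ']

end group

theorem units_commute_of_quadratic {E : Type*} [Ring E] {p : ℕ} [hp : Fact p.Prime] (hp2 : p ≠ 2)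
    {e : ℕ} (hpE : ((p ^ e : ℕ) : E) = 0) (F : Subgroup Eˣ) [Finite F]
    (hFc : ∀ x ∈ F, ∀ y ∈ F, x * y = y * x) (hFp : (Nat.card F).Coprime p)
    (A : Eˣ) (hAF : ∀ x ∈ F, A * x * A⁻¹ ∈ F) {k : ℕ} (hAk : A ^ (p ^ k) = 1)
    (hq : ((A : E) - 1) * ((A : E) - 1) = 0) :
    ∀ x ∈ F, A * x = x * A := by
  classical
  let cg : CommGroup F :=
    { (inferInstance : Group F) with mul_comm := fun x y => Subtype.ext (hFc x x.2 y y.2) }
  -- the automorphism induced by `A`
  let α : F →* F :=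
    { toFun := fun x => ⟨A * x * A⁻¹, hAF x x.2⟩
      map_one' := by ext; simp
      map_mul' := fun x y => by ext; simp only [Subgroup.coe_mul]; group }
  have hα : ∀ x : F, ((α x : F) : Eˣ) = A * x * A⁻¹ := fun x => rfl
  -- `ψ y = y (α y)⁻¹`
  let ψ : F →* F :=
    { toFun := fun y => y * (α y)⁻¹
      map_one' := by simp
      map_mul' := fun x y => by
        rw [map_mul, mul_inv]
        exact mul_mul_mul_comm (G := F) x y (α x)⁻¹ (α y)⁻¹ }
  have hψ : ∀ y : F, ((ψ y : F) : Eˣ) = y * A * (y : Eˣ)⁻¹ * A⁻¹ := by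
    intro y
    show ((y * (α y)⁻¹ : F) : Eˣ) = _
    rw [Subgroup.coe_mul, Subgroup.coe_inv, hα]; group
  set F₁ : Subgroup F := ψ.range with hF₁
  -- elements of `F₁` commuting with `A` are trivial
  have hfix : ∀ x : F, x ∈ F₁ → A * (x : Eˣ) = x * A → x = 1 := by
    rintro x ⟨y, rfl⟩ hx
    rw [hψ] at hx
    have h1 := comm_pow_telescope A (y : Eˣ) hx (p ^ k)
    rw [hAk] at h1
    have h2 : ((ψ y : F) : Eˣ) ^ (p ^ k) = 1 := by
      rw [hψ, ← h1]; group
    have h3 : (ψ y) ^ (p ^ k) = 1 := by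
      apply Subtype.ext
      rw [Subgroup.coe_pow, h2]; rfl
    have h4 : (ψ y) ^ (Nat.card F) = 1 := pow_card_eq_one'
    have h5 : orderOf (ψ y) ∣ 1 := by
      have := Nat.dvd_gcd (orderOf_dvd_of_pow_eq_one h4) (orderOf_dvd_of_pow_eq_one h3)
      rwa [Nat.Coprime.gcd_eq_one (Nat.Coprime.pow_right k hFp)] at this
    exact orderOf_eq_one_iff.mp (Nat.dvd_one.mp h5)
  -- `F₁` is `α`-invariant
  have hαF₁ : ∀ x : F, x ∈ F₁ → α x ∈ F₁ := by
    rintro x ⟨y, rfl⟩
    refine ⟨α y, ?_⟩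
    show α y * (α (α y))⁻¹ = α (y * (α y)⁻¹)
    rw [map_mul, map_inv]
  -- `φ x = x * α x` is injective on `F₁`
  have hodd : Odd (p ^ k) := (hp.out.odd_of_ne_two hp2).pow
  have hφinj : ∀ x : F, x ∈ F₁ → x * α x = 1 → x = 1 := by
    intro x hx h1
    have h2 : A * (x : Eˣ) * A⁻¹ = (x : Eˣ)⁻¹ := by
      have := congrArg (fun z : F => (z : Eˣ)) h1
      simp only [Subgroup.coe_mul, hα, Subgroup.coe_one] at this
      rw [← hα]
      exact eq_inv_of_mul_eq_one_right this
    have h3 : A ^ 2 * (x : Eˣ) = x * A ^ 2 := by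
      have : A ^ 2 * (x : Eˣ) * (A ^ 2)⁻¹ = x := by
        calc A ^ 2 * (x : Eˣ) * (A ^ 2)⁻¹ = A * (A * x * A⁻¹) * A⁻¹ := by rw [pow_two]; group
          _ = A * (x : Eˣ)⁻¹ * A⁻¹ := by rw [h2]
          _ = (A * x * A⁻¹)⁻¹ := by group
          _ = x := by rw [h2, inv_inv]
      calc A ^ 2 * (x : Eˣ) = (A ^ 2 * (x : Eˣ) * (A ^ 2)⁻¹) * A ^ 2 := by group
        _ = x * A ^ 2 := by rw [this]
    obtain ⟨j, hj⟩ := hodd
    have h4 : A = (A ^ 2) ^ (j + 1) := by
      rw [← pow_mul, show 2 * (j + 1) = (2 * j + 1) + 1 by ring, ← hj, pow_succ, hAk, one_mul]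
    have h5 : A * (x : Eˣ) = x * A := by
      have hc : Commute (A ^ 2) (x : Eˣ) := h3
      have := (hc.pow_left (j + 1)).eq
      rwa [← h4] at this
    exact hfix x hx h5
  -- finiteness and sums
  let _ : Fintype F₁ := Fintype.ofFinite _
  -- `φ` as a bijection of `F₁`
  let φ : F₁ → F₁ := fun x => ⟨(x : F) * α x, F₁.mul_mem x.2 (hαF₁ x x.2)⟩
  have hφ_inj : Function.Injective φ := by
    intro x y hxy
    have h1 : (x : F) * α x = (y : F) * α y := congrArg Subtype.val hxy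
    have h2 : ((x : F) * (y : F)⁻¹) * α ((x : F) * (y : F)⁻¹) = 1 := by
      rw [map_mul, map_inv]
      calc (x : F) * (y : F)⁻¹ * (α x * (α y)⁻¹) = ((x : F) * α x) * ((y : F) * α y)⁻¹ := by
            rw [mul_inv]; exact mul_mul_mul_comm (G := F) _ _ _ _
        _ = 1 := by rw [h1, mul_inv_cancel]
    have h3 := hφinj _ (F₁.mul_mem x.2 (F₁.inv_mem y.2)) h2
    exact Subtype.ext (mul_inv_eq_one.mp h3)
  have hφ_bij : Function.Bijective φ := Finite.injective_iff_bijective.mp hφ_inj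
  -- coercion to `E`
  let c : F₁ → E := fun x => (((x : F) : Eˣ) : E)
  set S : E := ∑ x : F₁, c x with hS
  have hSφ : ∑ x : F₁, c (φ x) = S := by
    rw [hS]
    exact Fintype.sum_bijective φ hφ_bij _ _ (fun x => rfl)
  -- quadratic relation for `x * A`
  have hxA : ∀ x : F₁, (c x * (A : E)) * (c x * (A : E)) = 2 * (c x * (A : E)) - 1 := by
    intro x
    obtain ⟨y, hy⟩ := x.2
    have h1 : (((x : F) : Eˣ)) * A = (y : Eˣ) * A * (y : Eˣ)⁻¹ := by
      rw [← hy, hψ]; group
    have h2 := conj_sub_one_sq A (y : Eˣ) hq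
    rw [← h1] at h2
    have h3 : ((((x : F) : Eˣ) * A : Eˣ) : E) = c x * (A : E) := by push_cast; rfl
    rw [h3] at h2
    have : (c x * (A : E)) * (c x * (A : E)) - 2 * (c x * (A : E)) + 1 = 0 := by
      rw [← h2]; noncomm_ring
    calc (c x * (A : E)) * (c x * (A : E))
        = ((c x * (A : E)) * (c x * (A : E)) - 2 * (c x * (A : E)) + 1) + (2 * (c x * (A : E)) - 1) := by
          noncomm_ring
      _ = 2 * (c x * (A : E)) - 1 := by rw [this, zero_add]
  have hxA2 : ∀ x : F₁, (c x * (A : E)) * (c x * (A : E)) = c (φ x) * ((A : E) * (A : E)) := by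
    intro x
    have h1 : (A : Eˣ) * ((x : F) : Eˣ) = ((α x : F) : Eˣ) * A := by rw [hα]; group
    have h2 : (A : E) * c x = (((α x : F) : Eˣ) : E) * (A : E) := by
      have := congrArg (fun u : Eˣ => (u : E)) h1
      simpa using this
    have h3 : c (φ x) = c x * (((α x : F) : Eˣ) : E) := by
      show ((((x : F) * α x : F) : Eˣ) : E) = _
      push_cast; rfl
    rw [h3]
    calc (c x * (A : E)) * (c x * (A : E)) = c x * ((A : E) * c x) * (A : E) := by noncomm_ring
      _ = c x * ((((α x : F) : Eˣ) : E) * (A : E)) * (A : E) := by rw [h2]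
      _ = c x * (((α x : F) : Eˣ) : E) * ((A : E) * (A : E)) := by noncomm_ring
  have hA2 : (A : E) * (A : E) = 2 * (A : E) - 1 := by
    have : (A : E) * (A : E) - 2 * (A : E) + 1 = 0 := by rw [← hq]; noncomm_ring
    calc (A : E) * (A : E) = ((A : E) * (A : E) - 2 * (A : E) + 1) + (2 * (A : E) - 1) := by
          noncomm_ring
      _ = 2 * (A : E) - 1 := by rw [this, zero_add]
  -- summing up
  have hsum : S * ((A : E) * (A : E)) = 2 * (S * (A : E)) - (Fintype.card F₁ : E) := by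
    calc S * ((A : E) * (A : E)) = ∑ x : F₁, c (φ x) * ((A : E) * (A : E)) := by
          rw [← hSφ, Finset.sum_mul]
      _ = ∑ x : F₁, (2 * (c x * (A : E)) - 1) := by
          refine Finset.sum_congr rfl fun x _ => ?_
          rw [← hxA2, hxA]
      _ = 2 * (S * (A : E)) - (Fintype.card F₁ : E) := by
          rw [Finset.sum_sub_distrib, ← Finset.mul_sum, ← Finset.sum_mul, ← hS]
          simp
  have hScard : S = (Fintype.card F₁ : E) := by
    rw [hA2] at hsum
    have : S * (2 * (A : E) - 1) = 2 * (S * (A : E)) - S := by noncomm_ring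
    rw [this] at hsum
    have h := sub_right_injective hsum
    exact h
  -- every element of `F₁` acts trivially
  have htriv : ∀ y : F₁, c y = 1 := by
    intro y
    have h1 : c y * S = S := by
      rw [hS, Finset.mul_sum]
      have hb : Function.Bijective (fun x : F₁ => y * x) := Group.mulLeft_bijective y
      refine Fintype.sum_bijective _ hb _ _ (fun x => ?_)
      show c y * c x = ((((y * x : F₁) : F) : Eˣ) : E)
      push_cast; rfl
    rw [hScard] at h1
    have h2 : (Fintype.card F₁ : E) * (c y - 1) = 0 := by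
      have hcomm : c y * (Fintype.card F₁ : E) = (Fintype.card F₁ : E) * c y :=
        (Nat.cast_commute _ _).symm.eq
      rw [mul_sub, mul_one, ← hcomm, h1, sub_self]
    set q : ℕ := p ^ e with hqdef
    have h3 : (q : E) * (c y - 1) = 0 := by rw [hpE, zero_mul]
    have hcop : (Fintype.card F₁).Coprime q := by
      have hd : Fintype.card F₁ ∣ Nat.card F := by
        rw [← Nat.card_eq_fintype_card]; exact Subgroup.card_subgroup_dvd_card F₁
      exact Nat.Coprime.pow_right e (Nat.Coprime.coprime_dvd_left hd hFp)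
    have hbez : ((Fintype.card F₁ : ℤ)).gcd (q : ℤ) = 1 := by
      rw [Int.gcd_natCast_natCast]; exact hcop
    have hb := Int.gcd_eq_gcd_ab (Fintype.card F₁ : ℤ) (q : ℤ)
    rw [hbez] at hb
    have h4 : ((1 : ℤ) : E) * (c y - 1) = 0 := by
      have hb' : ((1 : ℤ) : E) = (Fintype.card F₁ : E) * ((Int.gcdA (Fintype.card F₁) q : ℤ) : E)
          + (q : E) * ((Int.gcdB (Fintype.card F₁) q : ℤ) : E) := by
        have := congrArg (fun z : ℤ => (z : E)) hb
        simpa using this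
      rw [hb', add_mul]
      have e1 : (Fintype.card F₁ : E) * ((Int.gcdA (Fintype.card F₁) q : ℤ) : E) * (c y - 1)
          = ((Int.gcdA (Fintype.card F₁) q : ℤ) : E) * ((Fintype.card F₁ : E) * (c y - 1)) := by
        rw [← mul_assoc, (Nat.cast_commute (Fintype.card F₁) _).eq]
      have e2 : (q : E) * ((Int.gcdB (Fintype.card F₁) q : ℤ) : E) * (c y - 1)
          = ((Int.gcdB (Fintype.card F₁) q : ℤ) : E) * ((q : E) * (c y - 1)) := by
        rw [← mul_assoc, (Nat.cast_commute q _).eq]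
      rw [e1, e2, h2, h3]; simp
    rw [Int.cast_one, one_mul] at h4
    exact sub_eq_zero.mp h4
  -- conclusion
  intro x hx
  have h1 : (ψ ⟨x, hx⟩ : F) ∈ F₁ := ⟨_, rfl⟩
  have h2 := htriv ⟨ψ ⟨x, hx⟩, h1⟩
  have h3 : ((ψ ⟨x, hx⟩ : F) : Eˣ) = 1 := by
    apply Units.ext
    exact h2
  rw [hψ] at h3
  have h4 : x * A * x⁻¹ * A⁻¹ = 1 := h3
  calc A * x = (x * A * x⁻¹ * A⁻¹)⁻¹ * (x * A) := by group
    _ = x * A := by rw [h4]; simp

end Cfsg.Agent.Helper64
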