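import Mathlib

/-!
# Two quadratic unipotent elements: central elements of odd order are trivial

Let `E` be a ring of odd prime characteristic `p`, and `x = 1 + a`, `y = 1 + b` units with
`a² = b² = 0`.  The subring generated by `a, b` is a quotient of a quaternion algebra over the
commutative ring generated by `c = ab + ba` (with `i = a + b`, `j = a - b`), in which the group
`⟨x, y⟩` consists of elements of norm one.  We deduce that an element `z ∈ ⟨x, y⟩` of odd order
prime to `p` which commutes with `x` and `y` is trivial (`central_eq_one`).  This is the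
"`SL₂` has only `±1` as scalars" step in the proof that groups of odd order are `p`-stable.
-/

namespace Cfsg.Agent.Helper64

open Quaternion

section Abstract

variable {S : Type*} [CommRing S] {A : Type*} [Ring A] [Algebra S A] {c : S}

theorem four_mul_cancel {p : ℕ} (hp : p.Prime) (hp2 : p ≠ 2) (hpA : (p : A) = 0) {t : A}
    (h : 4 * t = 0) : t = 0 := by
  have hcop : Nat.Coprime 4 p := by
    have h2 : Nat.Coprime 2 p := (Nat.coprime_primes Nat.prime_two hp).mpr (Ne.symm hp2)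
    have : (4 : ℕ) = 2 * 2 := rfl
    rw [this]
    exact Nat.Coprime.mul_left h2 h2
  obtain ⟨m, -, hm⟩ := Nat.exists_mul_mod_eq_one_of_coprime hcop hp.one_lt
  have h1 : 4 * m = p * (4 * m / p) + 1 := by
    have := Nat.div_add_mod (4 * m) p
    omega
  have h2 : ((4 * m : ℕ) : A) = 1 := by
    rw [h1]; push_cast; rw [hpA, zero_mul, zero_add]
  calc t = ((4 * m : ℕ) : A) * t := by rw [h2, one_mul]
    _ = (m : A) * (4 * t) := by
        push_cast
        rw [← mul_assoc, (Nat.cast_commute m (4 : A)).eq]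
    _ = 0 := by rw [h, mul_zero]

theorem liftHom_mk_scalar (q : QuaternionAlgebra.Basis A c 0 (-c)) (s : S) :
    q.liftHom (⟨s, 0, 0, 0⟩ : ℍ[S,c,0,-c]) = algebraMap S A s := by
  simp [QuaternionAlgebra.Basis.liftHom, QuaternionAlgebra.Basis.lift]

theorem liftHom_I (q : QuaternionAlgebra.Basis A c 0 (-c)) :
    q.liftHom (⟨0, 1, 0, 0⟩ : ℍ[S,c,0,-c]) = q.i := by
  simp [QuaternionAlgebra.Basis.liftHom, QuaternionAlgebra.Basis.lift]

theorem liftHom_J (q : QuaternionAlgebra.Basis A c 0 (-c)) :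
    q.liftHom (⟨0, 0, 1, 0⟩ : ℍ[S,c,0,-c]) = q.j := by
  simp [QuaternionAlgebra.Basis.liftHom, QuaternionAlgebra.Basis.lift]

theorem quat_id_K (u : ℍ[S,c,0,-c]) :
    ((u * ⟨0,1,0,0⟩ - ⟨0,1,0,0⟩ * u) * ⟨0,0,1,0⟩ + ⟨0,0,1,0⟩ * (u * ⟨0,1,0,0⟩ - ⟨0,1,0,0⟩ * u) :
      ℍ[S,c,0,-c]) = ⟨4 * (c^2 * u.imK), 0, 0, 0⟩ := by
  ext <;> simp <;> ring

theorem quat_id_J (u : ℍ[S,c,0,-c]) :
    (((u * ⟨0,1,0,0⟩ - ⟨0,1,0,0⟩ * u) * ⟨0,0,1,0⟩ - ⟨0,0,1,0⟩ * (u * ⟨0,1,0,0⟩ - ⟨0,1,0,0⟩ * u)) *
      ⟨0,1,0,0⟩ : ℍ[S,c,0,-c]) = ⟨4 * (c^2 * u.imJ), 0, 0, 0⟩ := by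
  ext <;> simp <;> ring

theorem quat_id_I (u : ℍ[S,c,0,-c]) :
    (((u * ⟨0,0,1,0⟩ - ⟨0,0,1,0⟩ * u) * ⟨0,1,0,0⟩ - ⟨0,1,0,0⟩ * (u * ⟨0,0,1,0⟩ - ⟨0,0,1,0⟩ * u)) *
      ⟨0,0,1,0⟩ : ℍ[S,c,0,-c]) = ⟨4 * (c^2 * u.imI), 0, 0, 0⟩ := by
  ext <;> simp <;> ring

/-- `u² - u ū = u (2 v)` where `v` is the imaginary part. -/
theorem quat_id_sq (u : ℍ[S,c,0,-c]) :
    u * u - u * star u = u * ⟨0, 2 * u.imI, 2 * u.imJ, 2 * u.imK⟩ := by
  ext <;> simp <;> ring

theorem quat_id_comm (u : ℍ[S,c,0,-c]) :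
    u * (⟨0, 2 * u.imI, 2 * u.imJ, 2 * u.imK⟩ : ℍ[S,c,0,-c]) =
      ⟨0, 2 * u.imI, 2 * u.imJ, 2 * u.imK⟩ * u := by
  ext <;> simp <;> ring

theorem quat_id_pow_four (u : ℍ[S,c,0,-c]) :
    (⟨0, 2 * u.imI, 2 * u.imJ, 2 * u.imK⟩ : ℍ[S,c,0,-c]) ^ 4 =
      ⟨16 * ((c^2 * u.imI) * (u.imI * (u.imI^2 - u.imJ^2 + c * u.imK^2))
        - (c^2 * u.imJ) * (u.imJ * (u.imI^2 - u.imJ^2 + c * u.imK^2))
        + (c^2 * u.imK) * (c * u.imK * (u.imI^2 - u.imJ^2 + c * u.imK^2))), 0, 0, 0⟩ := by
  have h2 : (⟨0, 2 * u.imI, 2 * u.imJ, 2 * u.imK⟩ : ℍ[S,c,0,-c]) ^ 2 =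
      ⟨4 * (c * u.imI^2 - c * u.imJ^2 + c^2 * u.imK^2), 0, 0, 0⟩ := by
    rw [pow_two]
    ext <;> simp <;> ring
  have h4 : (4 : ℕ) = 2 * 2 := rfl
  rw [h4, pow_mul, h2, pow_two]
  ext <;> simp <;> ring

/-- **Key computation.** A norm-one quaternion whose image commutes with `i` and `j` has
`(z² - 1)⁴ = 0`, in odd characteristic. -/
theorem sq_sub_one_pow_four (q : QuaternionAlgebra.Basis A c 0 (-c)) {p : ℕ} (hp : p.Prime)
    (hp2 : p ≠ 2) (hpA : (p : A) = 0) (u : ℍ[S,c,0,-c]) (hu : u * star u = 1)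
    (hi : q.liftHom u * q.i = q.i * q.liftHom u) (hj : q.liftHom u * q.j = q.j * q.liftHom u) :
    (q.liftHom u * q.liftHom u - 1) ^ 4 = 0 := by
  have hw1 : q.liftHom (u * ⟨0,1,0,0⟩ - ⟨0,1,0,0⟩ * u) = 0 := by
    rw [map_sub, map_mul, map_mul, liftHom_I, hi, sub_self]
  have hw2 : q.liftHom (u * ⟨0,0,1,0⟩ - ⟨0,0,1,0⟩ * u) = 0 := by
    rw [map_sub, map_mul, map_mul, liftHom_J, hj, sub_self]
  have hK : algebraMap S A (c^2 * u.imK) = 0 := by
    apply four_mul_cancel hp hp2 hpA
    have := congrArg q.liftHom (quat_id_K u)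
    rw [map_add, map_mul, map_mul, hw1, zero_mul, mul_zero, add_zero, liftHom_mk_scalar,
      map_mul, map_ofNat] at this
    exact this.symm
  have hJ : algebraMap S A (c^2 * u.imJ) = 0 := by
    apply four_mul_cancel hp hp2 hpA
    have := congrArg q.liftHom (quat_id_J u)
    rw [map_mul, map_sub, map_mul, map_mul, hw1, zero_mul, mul_zero, sub_zero, zero_mul,
      liftHom_mk_scalar, map_mul, map_ofNat] at this
    exact this.symm
  have hI : algebraMap S A (c^2 * u.imI) = 0 := by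
    apply four_mul_cancel hp hp2 hpA
    have := congrArg q.liftHom (quat_id_I u)
    rw [map_mul, map_sub, map_mul, map_mul, hw2, zero_mul, mul_zero, sub_zero, zero_mul,
      liftHom_mk_scalar, map_mul, map_ofNat] at this
    exact this.symm
  set v : ℍ[S,c,0,-c] := ⟨0, 2 * u.imI, 2 * u.imJ, 2 * u.imK⟩ with hv
  have h1 : q.liftHom u * q.liftHom u - 1 = q.liftHom u * q.liftHom v := by
    rw [← map_mul, ← map_mul, ← quat_id_sq, hu, map_sub, map_one, map_mul]
  have hcomm : Commute (q.liftHom u) (q.liftHom v) := by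
    show q.liftHom u * q.liftHom v = q.liftHom v * q.liftHom u
    rw [← map_mul, ← map_mul, quat_id_comm]
  have hv4 : q.liftHom v ^ 4 = 0 := by
    rw [← map_pow, hv, quat_id_pow_four, liftHom_mk_scalar]
    simp only [map_mul, map_add, map_sub, hI, hJ, hK, zero_mul, mul_zero, sub_zero, add_zero]
  rw [h1, hcomm.mul_pow, hv4, mul_zero]

theorem quat_norm_gen (h k : S) :
    (⟨1, h, k, 0⟩ : ℍ[S,c,0,-c]) * star (⟨1, h, k, 0⟩ : ℍ[S,c,0,-c]) =
      ⟨1 - c * h ^ 2 + c * k ^ 2, 0, 0, 0⟩ := by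
  ext <;> simp <;> ring

theorem quat_norm_gen' (h k : S) :
    star (⟨1, h, k, 0⟩ : ℍ[S,c,0,-c]) * (⟨1, h, k, 0⟩ : ℍ[S,c,0,-c]) =
      ⟨1 - c * h ^ 2 + c * k ^ 2, 0, 0, 0⟩ := by
  ext <;> simp <;> ring

end Abstract

section Finish

/-- In odd characteristic `p`, an element `z` with `(z² - 1)⁴ = 0` and of odd order prime to `p`
is trivial. -/
theorem eq_one_of_sq_unipotent {A : Type*} [Ring A] {p : ℕ} [hp : Fact p.Prime]
    (hpA : (p : A) = 0) (z : A) (h4 : (z * z - 1) ^ 4 = 0) {m : ℕ} (hm : Odd m)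
    (hmp : m.Coprime p) (hzm : z ^ m = 1) : z = 1 := by
  rcases subsingleton_or_nontrivial A with hs | hn
  · exact Subsingleton.elim _ _
  have hchar : CharP A p := (CharP.charP_iff_prime_eq_zero hp.out).mpr hpA
  have hp4 : 4 ≤ p ^ 2 := by
    have := hp.out.two_le
    nlinarith
  have h5 : (z * z - 1) ^ (p ^ 2) = 0 := pow_eq_zero_of_le hp4 h4
  rw [sub_pow_char_pow_of_commute p 2 (Commute.one_right (z * z)), one_pow, sub_eq_zero] at h5
  have h6 : (z * z) ^ m = 1 := by
    rw [(Commute.refl z).mul_pow, hzm, one_mul]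
  have h7 : (z * z) ^ (Nat.gcd m (p ^ 2)) = 1 := pow_gcd_eq_one.mpr ⟨h6, h5⟩
  have h8 : Nat.gcd m (p ^ 2) = 1 := Nat.Coprime.pow_right 2 hmp
  rw [h8, pow_one] at h7
  obtain ⟨k, rfl⟩ := hm
  rw [pow_succ, pow_mul, pow_two, h7, one_pow, one_mul] at hzm
  exact hzm

end Finish

section Inst

variable {E : Type*} [Ring E]

theorem units_inv_eq_of_sq_zero (x : Eˣ) (hx : ((x : E) - 1) * ((x : E) - 1) = 0) :
    ((x⁻¹ : Eˣ) : E) = 1 - ((x : E) - 1) := by
  rw [Units.inv_eq_of_mul_eq_one_right]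
  have : (x : E) * (1 - ((x : E) - 1)) = 1 - ((x : E) - 1) * ((x : E) - 1) := by noncomm_ring
  rw [this, hx, sub_zero]

/-- Elements of `⟨x, y⟩` (with `x - 1`, `y - 1` of square zero) commuting with `x` and `y` have
`(z² - 1)⁴ = 0`, in odd characteristic. -/
theorem central_sq_sub_one_pow_four {p : ℕ} (hp : p.Prime) (hp2 : p ≠ 2) (hpE : (p : E) = 0)
    (x y : Eˣ) (hx : ((x : E) - 1) * ((x : E) - 1) = 0) (hy : ((y : E) - 1) * ((y : E) - 1) = 0)
    (z : Eˣ) (hz : z ∈ Subgroup.closure ({x, y} : Set Eˣ)) (hzx : z * x = x * z)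
    (hzy : z * y = y * z) : ((z : E) * (z : E) - 1) ^ 4 = 0 := by
  have hxi := units_inv_eq_of_sq_zero x hx
  have hyi := units_inv_eq_of_sq_zero y hy
  obtain ⟨a, ha⟩ : ∃ a : E, (x : E) - 1 = a := ⟨_, rfl⟩
  obtain ⟨b, hb⟩ : ∃ b : E, (y : E) - 1 = b := ⟨_, rfl⟩
  rw [ha] at hx hxi
  rw [hb] at hy hyi
  have hxa : (x : E) = 1 + a := by rw [← ha]; abel
  have hyb : (y : E) = 1 + b := by rw [← hb]; abel
  obtain ⟨c, hc⟩ : ∃ c : E, c = a * b + b * a := ⟨_, rfl⟩
  have hca : c * a = a * c := by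
    rw [hc, add_mul, mul_add, mul_assoc b a a, hx, mul_zero, add_zero, ← mul_assoc a a b, hx,
      zero_mul, zero_add, mul_assoc]
  have hcb : c * b = b * c := by
    rw [hc, add_mul, mul_add, mul_assoc a b b, hy, mul_zero, zero_add, ← mul_assoc b b a, hy,
      zero_mul, add_zero, mul_assoc]
  let A : Subring E := Subring.centralizer ({c} : Set E)
  have haA : a ∈ A := by
    rw [Subring.mem_centralizer_iff]
    intro g hg
    rw [Set.mem_singleton_iff] at hg
    rw [hg]; exact hca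
  have hbA : b ∈ A := by
    rw [Subring.mem_centralizer_iff]
    intro g hg
    rw [Set.mem_singleton_iff] at hg
    rw [hg]; exact hcb
  have hcA : c ∈ A := by
    rw [Subring.mem_centralizer_iff]
    intro g hg
    rw [Set.mem_singleton_iff] at hg
    rw [hg]
  let a' : A := ⟨a, haA⟩
  let b' : A := ⟨b, hbA⟩
  have hcc : (⟨c, hcA⟩ : A) ∈ Subring.center A := by
    rw [Subring.mem_center_iff]
    intro g
    apply Subtype.ext
    have := (Subring.mem_centralizer_iff.mp g.2) c rfl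
    exact this.symm
  let c' : Subring.center A := ⟨⟨c, hcA⟩, hcc⟩
  let q : QuaternionAlgebra.Basis A c' 0 (-c') :=
    { i := a' + b'
      j := a' - b'
      k := (a' + b') * (a' - b')
      i_mul_i := by
        rw [zero_smul, add_zero, Algebra.smul_def, mul_one]
        show (a' + b') * (a' + b') = (⟨c, hcA⟩ : A)
        apply Subtype.ext
        show (a + b) * (a + b) = c
        rw [add_mul, mul_add, mul_add, hx, hy, zero_add, add_zero, hc]
      j_mul_j := by
        rw [Algebra.smul_def, mul_one]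
        show (a' - b') * (a' - b') = -(⟨c, hcA⟩ : A)
        apply Subtype.ext
        show (a - b) * (a - b) = -c
        rw [sub_mul, mul_sub, mul_sub, hx, hy, hc]
        abel
      i_mul_j := rfl
      j_mul_i := by
        rw [zero_smul, zero_sub]
        apply Subtype.ext
        show (a - b) * (a + b) = -((a + b) * (a - b))
        rw [sub_mul, mul_add, mul_add, add_mul, mul_sub, mul_sub, hx, hy]
        abel }
  -- the half
  have hpS : ((p : ℕ) : Subring.center A) = 0 := by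
    apply Subtype.ext
    apply Subtype.ext
    push_cast
    exact hpE
  obtain ⟨h, hh⟩ : ∃ h : Subring.center A, 2 * h = 1 := by
    obtain ⟨k, hk⟩ := hp.odd_of_ne_two hp2
    refine ⟨((k + 1 : ℕ) : Subring.center A), ?_⟩
    have : (2 : Subring.center A) * ((k + 1 : ℕ) : Subring.center A) = ((p : ℕ) : Subring.center A) + 1 := by
      rw [hk]; push_cast; ring
    rw [this, hpS, zero_add]
  -- representation of the elements of the closure
  have key : ∀ w : Eˣ, w ∈ Subgroup.closure ({x, y} : Set Eˣ) →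
      ∃ u : ℍ[Subring.center A, c', 0, -c'], u * star u = 1 ∧ star u * u = 1 ∧
        ((q.liftHom u : A) : E) = (w : E) ∧ ((q.liftHom (star u) : A) : E) = ((w⁻¹ : Eˣ) : E) := by
    intro w hw
    induction hw using Subgroup.closure_induction with
    | mem w hw =>
      have hsum : a' + b' + (a' - b') = (2 : Subring.center A) • a' := by rw [two_smul]; abel
      have hdiff : a' + b' - (a' - b') = (2 : Subring.center A) • b' := by rw [two_smul]; abel
      have hh' : h * 2 = 1 := by rw [mul_comm]; exact hh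
      rcases hw with rfl | hw
      · refine ⟨⟨1, h, h, 0⟩, ?_, ?_, ?_, ?_⟩
        · rw [quat_norm_gen]; ext <;> simp
        · rw [quat_norm_gen']; ext <;> simp
        · have h1 : q.liftHom (⟨1, h, h, 0⟩ : ℍ[Subring.center A, c', 0, -c']) = 1 + a' := by
            show algebraMap _ _ 1 + h • (a' + b') + h • (a' - b') + (0 : Subring.center A) • q.k = 1 + a'
            rw [map_one, zero_smul, add_zero, add_assoc, ← smul_add, hsum, smul_smul, hh', one_smul]
          rw [h1, hxa]; rfl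
        · have h1 : q.liftHom (star (⟨1, h, h, 0⟩ : ℍ[Subring.center A, c', 0, -c'])) = 1 - a' := by
            rw [QuaternionAlgebra.star_mk]
            show algebraMap _ _ (1 + 0 * h) + (-h) • (a' + b') + (-h) • (a' - b') +
              (-0 : Subring.center A) • q.k = 1 - a'
            rw [zero_mul, add_zero, map_one, neg_zero, zero_smul, add_zero, add_assoc, ← smul_add,
              hsum, smul_smul, neg_mul, hh', neg_smul, one_smul, sub_eq_add_neg]
          rw [h1, hxi]; rfl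
      · rw [Set.mem_singleton_iff] at hw
        subst hw
        refine ⟨⟨1, h, -h, 0⟩, ?_, ?_, ?_, ?_⟩
        · rw [quat_norm_gen]; ext <;> simp
        · rw [quat_norm_gen']; ext <;> simp
        · have h1 : q.liftHom (⟨1, h, -h, 0⟩ : ℍ[Subring.center A, c', 0, -c']) = 1 + b' := by
            show algebraMap _ _ 1 + h • (a' + b') + (-h) • (a' - b') + (0 : Subring.center A) • q.k = 1 + b'
            rw [map_one, zero_smul, add_zero, add_assoc, neg_smul, ← sub_eq_add_neg, ← smul_sub,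
              hdiff, smul_smul, hh', one_smul]
          rw [h1, hyb]; rfl
        · have h1 : q.liftHom (star (⟨1, h, -h, 0⟩ : ℍ[Subring.center A, c', 0, -c'])) = 1 - b' := by
            rw [QuaternionAlgebra.star_mk]
            show algebraMap _ _ (1 + 0 * h) + (-h) • (a' + b') + (- -h) • (a' - b') +
              (-0 : Subring.center A) • q.k = 1 - b'
            rw [zero_mul, add_zero, map_one, neg_zero, zero_smul, add_zero, add_assoc, neg_neg,
              neg_smul, add_comm (-(h • (a' + b'))), ← sub_eq_add_neg, ← smul_sub]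
            have : a' - b' - (a' + b') = -((2 : Subring.center A) • b') := by rw [two_smul]; abel
            rw [this, smul_neg, smul_smul, hh', one_smul, sub_eq_add_neg]
          rw [h1, hyi]; rfl
    | one =>
      refine ⟨1, by rw [star_one, mul_one], by rw [star_one, mul_one], ?_, ?_⟩
      · rw [map_one, Subring.coe_one, Units.val_one]
      · rw [star_one, map_one, Subring.coe_one, inv_one, Units.val_one]
    | mul w₁ w₂ _ _ ih₁ ih₂ =>
      obtain ⟨u₁, h11, h12, h13, h14⟩ := ih₁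
      obtain ⟨u₂, h21, h22, h23, h24⟩ := ih₂
      refine ⟨u₁ * u₂, ?_, ?_, ?_, ?_⟩
      · rw [star_mul, mul_assoc, ← mul_assoc u₂, h21, one_mul, h11]
      · rw [star_mul, mul_assoc, ← mul_assoc (star u₁), h12, one_mul, h22]
      · rw [map_mul, Subring.coe_mul, h13, h23, Units.val_mul]
      · rw [star_mul, map_mul, Subring.coe_mul, h14, h24, mul_inv_rev, Units.val_mul]
    | inv w _ ih =>
      obtain ⟨u, h1, h2, h3, h4⟩ := ih
      refine ⟨star u, ?_, ?_, h4, ?_⟩
      · rw [star_star]; exact h2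
      · rw [star_star]; exact h1
      · rw [star_star, inv_inv]; exact h3
  obtain ⟨u, hu1, hu2, hu3, hu4⟩ := key z hz
  have hza : (z : E) * a = a * (z : E) := by
    have h1 := congrArg Units.val hzx
    rw [Units.val_mul, Units.val_mul, hxa, mul_add, add_mul, mul_one, one_mul] at h1
    exact add_left_cancel h1
  have hzb : (z : E) * b = b * (z : E) := by
    have h1 := congrArg Units.val hzy
    rw [Units.val_mul, Units.val_mul, hyb, mul_add, add_mul, mul_one, one_mul] at h1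
    exact add_left_cancel h1
  have hi : q.liftHom u * q.i = q.i * q.liftHom u := by
    apply Subtype.ext
    show ((q.liftHom u : A) : E) * (a + b) = (a + b) * ((q.liftHom u : A) : E)
    rw [hu3, mul_add, add_mul, hza, hzb]
  have hj : q.liftHom u * q.j = q.j * q.liftHom u := by
    apply Subtype.ext
    show ((q.liftHom u : A) : E) * (a - b) = (a - b) * ((q.liftHom u : A) : E)
    rw [hu3, mul_sub, sub_mul, hza, hzb]
  have hpA : ((p : ℕ) : A) = 0 := by
    apply Subtype.ext
    push_cast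
    exact hpE
  have main := sq_sub_one_pow_four q hp hp2 hpA u hu1 hi hj
  have main' := congrArg Subtype.val main
  rw [Subring.coe_pow, AddSubgroupClass.coe_sub, Subring.coe_mul, Subring.coe_one, Subring.coe_zero,
    hu3] at main'
  exact main'

/-- **Central lemma.** In a ring of odd prime characteristic `p`, let `x, y` be units with
`(x - 1)² = (y - 1)² = 0`.  An element of `⟨x, y⟩` of odd order prime to `p` commuting with `x` and
`y` is trivial. -/
theorem central_eq_one {p : ℕ} [hp : Fact p.Prime] (hp2 : p ≠ 2) (hpE : (p : E) = 0)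
    (x y : Eˣ) (hx : ((x : E) - 1) * ((x : E) - 1) = 0) (hy : ((y : E) - 1) * ((y : E) - 1) = 0)
    (z : Eˣ) (hz : z ∈ Subgroup.closure ({x, y} : Set Eˣ)) (hzx : z * x = x * z)
    (hzy : z * y = y * z) {m : ℕ} (hm : Odd m) (hmp : m.Coprime p) (hzm : z ^ m = 1) : z = 1 := by
  have h4 := central_sq_sub_one_pow_four hp.out hp2 hpE x y hx hy z hz hzx hzy
  have h1 : (z : E) ^ m = 1 := by rw [← Units.val_pow_eq_pow_val, hzm, Units.val_one]
  exact Units.ext (eq_one_of_sq_unipotent hpE (z : E) h4 hm hmp h1)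

end Inst

end Cfsg.Agent.Helper64
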