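import Mathlib
import Cfsg.Agent.Helper64.QuadRing
import Cfsg.Agent.Helper64.QuatCentral

/-!
# Quadratic elements centralize nilpotent `p'`-groups of odd order

`units_commute_of_quadratic_of_odd`: in a ring `E` of odd prime characteristic `p`, a unit `x` with
`(x - 1)² = 0` normalizing a finite nilpotent subgroup `Q ≤ Eˣ` of odd order prime to `p`
centralizes `Q`.  (Hall–Higman Theorem B for quadratic action, in the odd order case.)
-/

namespace Cfsg.Agent.Helper64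

open Subgroup

variable {E : Type*} [Ring E]

theorem unit_pow_eq_of_sq_zero (x : Eˣ) (hx : ((x : E) - 1) * ((x : E) - 1) = 0) (n : ℕ) :
    ((x ^ n : Eˣ) : E) = 1 + (n : E) * ((x : E) - 1) := by
  induction n with
  | zero => simp
  | succ n ih =>
    rw [pow_succ, Units.val_mul, ih]
    have h1 : (x : E) = 1 + ((x : E) - 1) := by abel
    rw [add_mul, one_mul, mul_assoc]
    nth_rewrite 3 [h1]
    rw [mul_add, hx, mul_one, add_zero]
    push_cast
    rw [add_mul, one_mul]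
    nth_rewrite 1 [h1]
    abel

theorem unit_pow_char_eq_one {p : ℕ} (hpE : (p : E) = 0) (x : Eˣ)
    (hx : ((x : E) - 1) * ((x : E) - 1) = 0) : x ^ p = 1 := by
  apply Units.ext
  rw [unit_pow_eq_of_sq_zero x hx, hpE, zero_mul, add_zero, Units.val_one]

theorem conj_sq_zero (x g : Eˣ) (hx : ((x : E) - 1) * ((x : E) - 1) = 0) :
    (((g⁻¹ * x * g : Eˣ) : E) - 1) * (((g⁻¹ * x * g : Eˣ) : E) - 1) = 0 := by
  have h1 : ((g⁻¹ * x * g : Eˣ) : E) - 1 = ((g⁻¹ : Eˣ) : E) * ((x : E) - 1) * (g : E) := by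
    rw [Units.val_mul, Units.val_mul, mul_sub, sub_mul, mul_one, Units.inv_mul]
  rw [h1]
  calc ((g⁻¹ : Eˣ) : E) * ((x : E) - 1) * (g : E) * (((g⁻¹ : Eˣ) : E) * ((x : E) - 1) * (g : E))
      = ((g⁻¹ : Eˣ) : E) * ((x : E) - 1) * ((g : E) * ((g⁻¹ : Eˣ) : E)) * ((x : E) - 1) * (g : E) := by
        simp only [mul_assoc]
    _ = 0 := by
        rw [Units.mul_inv, mul_one, mul_assoc ((g⁻¹ : Eˣ) : E), hx, mul_zero, zero_mul]

/-- **Quadratic action and nilpotent groups of odd order.** -/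
theorem units_commute_of_quadratic_of_odd {p : ℕ} [hp : Fact p.Prime] (hp2 : p ≠ 2)
    (hpE : (p : E) = 0) (x : Eˣ) (hx : ((x : E) - 1) * ((x : E) - 1) = 0) :
    ∀ (n : ℕ) (Q : Subgroup Eˣ), Nat.card Q = n → Finite Q → Group.IsNilpotent Q → Odd (Nat.card Q) →
      (Nat.card Q).Coprime p → (∀ g ∈ Q, x * g * x⁻¹ ∈ Q) → (∀ g ∈ Q, x⁻¹ * g * x ∈ Q) →
      ∀ g ∈ Q, x * g = g * x := by
  intro n
  induction n using Nat.strong_induction_on with
  | _ n ih =>
  intro Q hcard hfin hnil hodd hcop hxQ hxQ'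
  by_contra hcon
  push Not at hcon
  obtain ⟨g, hgQ, hg⟩ := hcon
  have hxp : x ^ p = 1 := unit_pow_char_eq_one hpE x hx
  -- proper `x`-invariant subgroups are centralized
  have hprop : ∀ Q₁ : Subgroup Eˣ, Q₁ < Q → (∀ g ∈ Q₁, x * g * x⁻¹ ∈ Q₁) →
      (∀ g ∈ Q₁, x⁻¹ * g * x ∈ Q₁) → ∀ g ∈ Q₁, x * g = g * x := by
    intro Q₁ hlt h1 h2
    have hfin₁ : Finite Q₁ := Finite.of_injective _ (Subgroup.inclusion_injective hlt.le)
    have hdvd : Nat.card Q₁ ∣ Nat.card Q := Subgroup.card_dvd_of_le hlt.le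
    have hnil₁ : Group.IsNilpotent Q₁ := by
      refine Subgroup.isNilpotent_of_ker_le_center (Subgroup.inclusion hlt.le) ?_
      rw [(MonoidHom.ker_eq_bot_iff _).mpr (Subgroup.inclusion_injective hlt.le)]
      exact bot_le
    refine ih (Nat.card Q₁) ?_ Q₁ rfl hfin₁ hnil₁ (Odd.of_dvd_nat hodd hdvd)
      (Nat.Coprime.coprime_dvd_left hdvd hcop) h1 h2
    rw [← hcard]
    refine lt_of_le_of_ne (Subgroup.card_le_of_le hlt.le) fun heq => ?_
    exact hlt.ne (Subgroup.eq_of_le_of_card_ge hlt.le heq.ge)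
  by_cases hab : ∀ a ∈ Q, ∀ b ∈ Q, a * b = b * a
  · -- abelian case
    have hpE' : ((p ^ 1 : ℕ) : E) = 0 := by rw [pow_one]; exact hpE
    have := units_commute_of_quadratic hp2 hpE' Q hab hcop x hxQ (k := 1) (by rw [pow_one]; exact hxp) hx
    exact hg (this g hgQ)
  -- nonabelian case: the centre of `Q`
  set Z : Subgroup Eˣ := Q ⊓ centralizer (Q : Set Eˣ) with hZ
  have hZlt : Z < Q := by
    refine lt_of_le_of_ne inf_le_left ?_
    intro h
    apply hab
    intro a ha b hb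
    have ha' : a ∈ Z := h ▸ ha
    exact ((mem_centralizer_iff.mp ha'.2) b hb).symm
  have hZx : ∀ g ∈ Z, x * g * x⁻¹ ∈ Z := by
    intro g hg
    refine ⟨hxQ g hg.1, ?_⟩
    show x * g * x⁻¹ ∈ centralizer (Q : Set Eˣ)
    rw [mem_centralizer_iff]
    intro h hh
    have h1 := (mem_centralizer_iff.mp hg.2) (x⁻¹ * h * x) (hxQ' h hh)
    calc h * (x * g * x⁻¹) = x * ((x⁻¹ * h * x) * g) * x⁻¹ := by group
      _ = x * (g * (x⁻¹ * h * x)) * x⁻¹ := by rw [h1]
      _ = x * g * x⁻¹ * h := by group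
  have hZx' : ∀ g ∈ Z, x⁻¹ * g * x ∈ Z := by
    intro g hg
    refine ⟨hxQ' g hg.1, ?_⟩
    show x⁻¹ * g * x ∈ centralizer (Q : Set Eˣ)
    rw [mem_centralizer_iff]
    intro h hh
    have h1 := (mem_centralizer_iff.mp hg.2) (x * h * x⁻¹) (hxQ h hh)
    calc h * (x⁻¹ * g * x) = x⁻¹ * ((x * h * x⁻¹) * g) * x := by group
      _ = x⁻¹ * (g * (x * h * x⁻¹)) * x := by rw [h1]
      _ = x⁻¹ * g * x * h := by group
  have hZc := hprop Z hZlt hZx hZx'
  -- the conjugate `y` and the group `H = ⟨x, y⟩`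
  set y : Eˣ := g⁻¹ * x * g with hy
  have hyq : ((y : E) - 1) * ((y : E) - 1) = 0 := conj_sq_zero x g hx
  set H : Subgroup Eˣ := closure ({x, y} : Set Eˣ) with hH
  have hxH : x ∈ H := subset_closure (Set.mem_insert _ _)
  have hyH : y ∈ H := subset_closure (Set.mem_insert_of_mem _ rfl)
  have hz₀Q : x⁻¹ * y ∈ Q := by
    have : x⁻¹ * y = (x⁻¹ * g⁻¹ * x) * g := by rw [hy]; group
    rw [this]
    exact Q.mul_mem (hxQ' _ (Q.inv_mem hgQ)) hgQ
  by_cases hQH : Q ≤ H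
  · -- `Q ≤ H`: the centre of `Q` is central in `H`, hence trivial
    have hnt : Nontrivial Q := by
      rw [Subgroup.nontrivial_iff_ne_bot]
      intro hb
      apply hg
      have : g = 1 := by rw [hb] at hgQ; exact hgQ
      rw [this, mul_one, one_mul]
    have hcne := Group.IsNilpotent.center_ne_bot (G := Q)
    obtain ⟨z, hz1⟩ := (Subgroup.ne_bot_iff_exists_ne_one (H := center Q)).mp hcne
    have hzZ : (z : Eˣ) ∈ Z := by
      refine ⟨z.1.2, ?_⟩
      show ((z : Q) : Eˣ) ∈ centralizer (Q : Set Eˣ)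
      rw [mem_centralizer_iff]
      intro h hh
      have := (Subgroup.mem_center_iff.mp z.2) ⟨h, hh⟩
      exact congrArg Subtype.val this
    have hzx : (z : Eˣ) * x = x * (z : Eˣ) := (hZc _ hzZ).symm
    have hzg : (z : Eˣ) * g = g * (z : Eˣ) := ((mem_centralizer_iff.mp hzZ.2) g hgQ).symm
    have hzy : (z : Eˣ) * y = y * (z : Eˣ) := by
      have hzg' : (z : Eˣ) * g⁻¹ = g⁻¹ * (z : Eˣ) := by
        calc (z : Eˣ) * g⁻¹ = g⁻¹ * (g * (z : Eˣ)) * g⁻¹ := by group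
          _ = g⁻¹ * ((z : Eˣ) * g) * g⁻¹ := by rw [hzg]
          _ = g⁻¹ * (z : Eˣ) := by group
      calc (z : Eˣ) * y = ((z : Eˣ) * g⁻¹) * x * g := by rw [hy]; group
        _ = g⁻¹ * ((z : Eˣ) * x) * g := by rw [hzg']; group
        _ = g⁻¹ * x * ((z : Eˣ) * g) := by rw [hzx]; group
        _ = y * (z : Eˣ) := by rw [hzg, hy]; group
    have hzm : ((z : Q) : Eˣ) ^ Nat.card Q = 1 := by
      have := congrArg Subtype.val (pow_card_eq_one' (G := Q) (x := (z : Q)))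
      rw [Subgroup.coe_pow, Subgroup.coe_one] at this
      exact this
    have := central_eq_one hp2 hpE x y hx hyq (z : Eˣ) (hQH z.1.2) hzx hzy hodd hcop hzm
    apply hz1
    apply Subtype.ext
    apply Subtype.ext
    exact this
  · -- `H ⊓ Q < Q`: then `x` commutes with `y`
    set Q₀ : Subgroup Eˣ := H ⊓ Q with hQ₀
    have hlt : Q₀ < Q := by
      refine lt_of_le_of_ne inf_le_right ?_
      intro h
      apply hQH
      rw [← h]
      exact inf_le_left
    have h1 : ∀ g ∈ Q₀, x * g * x⁻¹ ∈ Q₀ := fun g hg =>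
      ⟨H.mul_mem (H.mul_mem hxH hg.1) (H.inv_mem hxH), hxQ g hg.2⟩
    have h2 : ∀ g ∈ Q₀, x⁻¹ * g * x ∈ Q₀ := fun g hg =>
      ⟨H.mul_mem (H.mul_mem (H.inv_mem hxH) hg.1) hxH, hxQ' g hg.2⟩
    have hc := hprop Q₀ hlt h1 h2 (x⁻¹ * y) ⟨H.mul_mem (H.inv_mem hxH) hyH, hz₀Q⟩
    have hxy : Commute x y := by
      show x * y = y * x
      calc x * y = x * (x * (x⁻¹ * y)) := by group
        _ = x * (x⁻¹ * y * x) := by rw [hc]
        _ = y * x := by group
    have hyp : y ^ p = 1 := by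
      rw [hy, show g⁻¹ * x * g = g⁻¹ * x * g⁻¹⁻¹ by rw [inv_inv], conj_pow, hxp]; group
    have hz₀p : (x⁻¹ * y) ^ p = 1 := by
      rw [(hxy.inv_left).mul_pow, inv_pow, hxp, hyp, inv_one, one_mul]
    have hz₀c : (x⁻¹ * y) ^ Nat.card Q = 1 := by
      have := congrArg Subtype.val (pow_card_eq_one' (G := Q) (x := (⟨x⁻¹ * y, hz₀Q⟩ : Q)))
      rw [Subgroup.coe_pow, Subgroup.coe_one] at this
      exact this
    have hz₀ : x⁻¹ * y = 1 := by
      have h3 : (x⁻¹ * y) ^ Nat.gcd (Nat.card Q) p = 1 := pow_gcd_eq_one.mpr ⟨hz₀c, hz₀p⟩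
      rw [hcop, pow_one] at h3
      exact h3
    apply hg
    have h4 : y = x := by
      calc y = x * (x⁻¹ * y) := by group
        _ = x := by rw [hz₀, mul_one]
    rw [hy] at h4
    calc x * g = g * (g⁻¹ * x * g) := by group
      _ = g * x := by rw [h4]

end Cfsg.Agent.Helper64
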