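import Mathlib
import Cfsg.Prelude.Def_PLocal
import Cfsg.Agent.Lib.Cores
import Cfsg.Agent.Lib.ZJ5
import Cfsg.Agent.Helper64.QuadRing

/-!
# Quadratic action and abelian `p'`-groups: a baby Hall–Higman theorem, and `p`-stability

Main results (namespace `Cfsg.Agent.Helper64`):
* `conjEnd U : G →* AddMonoid.End (Additive U)`: conjugation action on an abelian normal subgroup;
* `comm_mem_centralizer_of_quadratic`: an element acting quadratically on an abelian normal
  `p`-subgroup `U` (`p` odd) and normalizing a subgroup `N` which acts on `U` as an abelian `p'`-group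
  satisfies `[a, N] ≤ C_G(U)`;
* `isPStableOn_of_series`: if `G` has normal subgroups `H ≤ M` with `H` a `p`-group, `M/H` an abelian
  `p'`-group and `G/M` a `p`-group, then the action of `G` on every normal `p`-subgroup is `p`-stable.
-/

namespace Cfsg.Agent.Helper64

open Subgroup
open scoped IsMulCommutative commutatorElement

section conjEnd

variable {G : Type*} [Group G] (U : Subgroup G) [U.Normal] [IsMulCommutative U]

/-- conjugation action of `G` on the abelian normal subgroup `U`, as ring elements -/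
def conjEnd : G →* AddMonoid.End (Additive U) where
  toFun g := MonoidHom.toAdditive ((MulAut.conjNormal g : U ≃* U).toMonoidHom)
  map_one' := by
    refine AddMonoidHom.ext fun u => ?_
    rw [map_one]
    rfl
  map_mul' g h := by
    refine AddMonoidHom.ext fun u => ?_
    rw [map_mul]
    rfl

theorem conjEnd_apply (g : G) (u : U) :
    conjEnd U g (Additive.ofMul u) = Additive.ofMul (MulAut.conjNormal g u) := rfl

theorem conjEnd_eq_one_iff (g : G) : conjEnd U g = 1 ↔ g ∈ centralizer (U : Set G) := by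
  constructor
  · intro h
    rw [mem_centralizer_iff]
    intro u hu
    have h1 := DFunLike.congr_fun h (Additive.ofMul (⟨u, hu⟩ : U))
    rw [conjEnd_apply] at h1
    have h2 : (MulAut.conjNormal g (⟨u, hu⟩ : U) : U) = ⟨u, hu⟩ := Additive.ofMul.injective h1
    have h3 := congrArg Subtype.val h2
    rw [MulAut.conjNormal_apply] at h3
    calc u * g = (g * u * g⁻¹) * g := by rw [h3]
      _ = g * u := by group
  · intro h
    rw [mem_centralizer_iff] at h
    refine DFunLike.ext _ _ fun u => ?_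
    obtain ⟨u, rfl⟩ := Additive.ofMul.surjective u
    show Additive.ofMul (MulAut.conjNormal g u) = Additive.ofMul u
    congr 1
    apply Subtype.ext
    rw [MulAut.conjNormal_apply, ← h u u.2]; group

/-- the same action, into the unit group -/
def conjEndU : G →* (AddMonoid.End (Additive U))ˣ := (conjEnd U).toHomUnits

theorem coe_conjEndU (g : G) : ((conjEndU U g : (AddMonoid.End (Additive U))ˣ) : AddMonoid.End (Additive U))
    = conjEnd U g := rfl

theorem conjEndU_eq_one_iff (g : G) : conjEndU U g = 1 ↔ g ∈ centralizer (U : Set G) := by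
  rw [← conjEnd_eq_one_iff, ← coe_conjEndU, Units.ext_iff]; rfl

theorem ker_conjEndU : (conjEndU U).ker = centralizer (U : Set G) := by
  ext g
  rw [MonoidHom.mem_ker, conjEndU_eq_one_iff]

/-- the commutator `[g, u]` as an element of `U` -/
def commU (g : G) (u : U) : U :=
  ⟨g * (u : G) * g⁻¹ * (u : G)⁻¹, U.mul_mem (‹U.Normal›.conj_mem u u.2 g) (U.inv_mem u.2)⟩

theorem conjEnd_sub_one_apply (g : G) (u : U) :
    (conjEnd U g - 1) (Additive.ofMul u) = Additive.ofMul (commU U g u) := by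
  show Additive.ofMul (MulAut.conjNormal g u) - Additive.ofMul u = _
  rw [← ofMul_div]
  congr 1
  apply Subtype.ext
  simp [MulAut.conjNormal_apply, commU, div_eq_mul_inv]

theorem conjEnd_quadratic {a : G} (hq : ⁅⁅U, zpowers a⁆, zpowers a⁆ = ⊥) :
    (conjEnd U a - 1) * (conjEnd U a - 1) = 0 := by
  refine DFunLike.ext _ _ fun u => ?_
  obtain ⟨u, rfl⟩ := Additive.ofMul.surjective u
  show (conjEnd U a - 1) ((conjEnd U a - 1) (Additive.ofMul u)) = 0
  rw [conjEnd_sub_one_apply, conjEnd_sub_one_apply]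
  show _ = Additive.ofMul (1 : U)
  congr 1
  apply Subtype.ext
  show a * (a * (u : G) * a⁻¹ * (u : G)⁻¹) * a⁻¹ * (a * (u : G) * a⁻¹ * (u : G)⁻¹)⁻¹ = 1
  have h1 : ⁅a, (u : G)⁆ ∈ ⁅U, zpowers a⁆ := by
    rw [Subgroup.commutator_comm]
    exact Subgroup.commutator_mem_commutator (mem_zpowers a) u.2
  have h2 : ⁅a, ⁅a, (u : G)⁆⁆ ∈ ⁅⁅U, zpowers a⁆, zpowers a⁆ := by
    rw [Subgroup.commutator_comm]
    exact Subgroup.commutator_mem_commutator (mem_zpowers a) h1
  rw [hq, mem_bot] at h2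
  rw [← h2]
  simp only [commutatorElement_def]

theorem natCast_card_conjEnd [Finite U] : ((Nat.card U : ℕ) : AddMonoid.End (Additive U)) = 0 := by
  refine DFunLike.ext _ _ fun u => ?_
  obtain ⟨u, rfl⟩ := Additive.ofMul.surjective u
  rw [AddMonoid.End.natCast_apply, AddMonoid.End.zero_apply, ← ofMul_pow, pow_card_eq_one', ofMul_one]

end conjEnd


section KL

variable {G : Type*} [Group G] [Finite G] (U : Subgroup G) [U.Normal] [IsMulCommutative U]

/-- **Baby Hall–Higman**: `p` odd, `U` an abelian normal `p`-subgroup, `a` acting quadratically on `U`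
and normalizing a subgroup `N` whose image in `Aut U` is an abelian `p'`-group. Then `[a, N]`
centralizes `U`. -/
theorem comm_mem_centralizer_of_quadratic {p : ℕ} [hp : Fact p.Prime] (hp2 : p ≠ 2)
    (hU : IsPGroup p U) (N : Subgroup G)
    (hNc : ∀ x ∈ N, ∀ y ∈ N, ⁅x, y⁆ ∈ centralizer (U : Set G))
    (hNp : (Nat.card (N.map (conjEndU U))).Coprime p) {a : G}
    (haN : ∀ x ∈ N, a * x * a⁻¹ ∈ N) (hq : ⁅⁅U, zpowers a⁆, zpowers a⁆ = ⊥) :
    ∀ x ∈ N, ⁅a, x⁆ ∈ centralizer (U : Set G) := by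
  obtain ⟨e, he⟩ := IsPGroup.iff_card.mp hU
  have hpE : ((p ^ e : ℕ) : AddMonoid.End (Additive U)) = 0 := by
    rw [← he]; exact natCast_card_conjEnd U
  have hFc : ∀ x ∈ N.map (conjEndU U), ∀ y ∈ N.map (conjEndU U), x * y = y * x := by
    rintro _ ⟨x, hx, rfl⟩ _ ⟨y, hy, rfl⟩
    have h1 := (conjEndU_eq_one_iff U _).mpr (hNc x hx y hy)
    rw [commutatorElement_def, map_mul, map_mul, map_mul, map_inv, map_inv] at h1
    calc conjEndU U x * conjEndU U y
        = (conjEndU U x * conjEndU U y * (conjEndU U x)⁻¹ * (conjEndU U y)⁻¹)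
            * (conjEndU U y * conjEndU U x) := by group
      _ = conjEndU U y * conjEndU U x := by rw [h1, one_mul]
  have hAF : ∀ x ∈ N.map (conjEndU U), conjEndU U a * x * (conjEndU U a)⁻¹ ∈ N.map (conjEndU U) := by
    rintro _ ⟨x, hx, rfl⟩
    exact ⟨a * x * a⁻¹, haN x hx, by rw [map_mul, map_mul, map_inv]⟩
  have hAk : (conjEndU U a) ^ (p ^ e) = 1 := by
    rw [← map_pow, conjEndU_eq_one_iff, ← he]
    exact Cfsg.Agent.Lib.ZJ.quadratic_pow_card_mem_centralizer hq
  have hq' : (((conjEndU U a : (AddMonoid.End (Additive U))ˣ) : AddMonoid.End (Additive U)) - 1) *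
      (((conjEndU U a : (AddMonoid.End (Additive U))ˣ) : AddMonoid.End (Additive U)) - 1) = 0 := by
    rw [coe_conjEndU]; exact conjEnd_quadratic U hq
  have hfin : Finite (N.map (conjEndU U)) := by
    have h1 : ((N.map (conjEndU U) : Subgroup (AddMonoid.End (Additive U))ˣ) :
        Set (AddMonoid.End (Additive U))ˣ).Finite := by
      rw [Subgroup.coe_map]
      exact Set.Finite.image _ (Set.toFinite _)
    exact h1
  have key := units_commute_of_quadratic hp2 hpE (N.map (conjEndU U)) hFc hNp (conjEndU U a)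
    hAF hAk hq'
  intro x hx
  rw [← conjEndU_eq_one_iff U, commutatorElement_def, map_mul, map_mul, map_mul, map_inv, map_inv]
  have := key (conjEndU U x) ⟨x, hx, rfl⟩
  rw [this]; group

end KL


section pcore

variable {Γ : Type*} [Group Γ]

/-- A `p`-element centralizing a normal `p'`-subgroup of `p`-power index lies in `O_p`. -/
theorem mem_pCore_of_centralizes [Finite Γ] {p : ℕ} [hp : Fact p.Prime]
    (N : Subgroup Γ) [N.Normal] (hNp : (Nat.card N).Coprime p) {k : ℕ} (hNi : N.index = p ^ k)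
    {x : Γ} {j : ℕ} (hx : x ^ (p ^ j) = 1) (hxc : ∀ n ∈ N, x * n = n * x) :
    x ∈ Cfsg.pCore p Γ := by
  rw [Cfsg.Agent.Lib.pCore_eq_iInf_sylow, Subgroup.mem_iInf]
  intro P
  have htop : N ⊔ (P : Subgroup Γ) = ⊤ := by
    rw [← Subgroup.index_eq_one]
    have h1 : (N ⊔ (P : Subgroup Γ)).index ∣ p ^ k := hNi ▸ Subgroup.index_dvd_of_le le_sup_left
    have h2 : (N ⊔ (P : Subgroup Γ)).index ∣ (P : Subgroup Γ).index :=
      Subgroup.index_dvd_of_le le_sup_right
    have h3 : ((P : Subgroup Γ).index).Coprime (p ^ k) := by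
      apply Nat.Coprime.pow_right
      rw [Nat.coprime_comm, Nat.Prime.coprime_iff_not_dvd hp.out]
      exact P.not_dvd_index
    exact Nat.eq_one_of_dvd_coprimes h3 h2 h1
  have hxm : x ∈ ((N ⊔ (P : Subgroup Γ) : Subgroup Γ) : Set Γ) := by
    rw [htop]; exact Subgroup.mem_top x
  rw [Subgroup.normal_mul] at hxm
  obtain ⟨n, hn, s, hs, hns⟩ := Set.mem_mul.mp hxm
  obtain ⟨t, ht⟩ := (P.2 ⟨s, hs⟩)
  have hst : s ^ (p ^ t) = 1 := by
    have := congrArg Subtype.val ht
    simpa using this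
  have hcomm : Commute n x := (hxc n hn).symm
  have hs' : s = n⁻¹ * x := by rw [← hns]; group
  have hm : (n⁻¹ * x) ^ (p ^ t * p ^ j) = 1 := by
    rw [← hs', pow_mul, hst, one_pow]
  rw [(hcomm.inv_left).mul_pow, pow_mul' x, hx, one_pow, mul_one, inv_pow, inv_eq_one] at hm
  have hn1 : n = 1 := by
    have h1 : orderOf n ∣ p ^ t * p ^ j := orderOf_dvd_of_pow_eq_one hm
    have h2 : orderOf n ∣ Nat.card N := by
      have := orderOf_dvd_natCard (⟨n, hn⟩ : N)
      rwa [Subgroup.orderOf_mk] at this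
    have h3 : (Nat.card N).Coprime (p ^ t * p ^ j) :=
      Nat.Coprime.mul_right (Nat.Coprime.pow_right t hNp) (Nat.Coprime.pow_right j hNp)
    exact orderOf_eq_one_iff.mp (Nat.eq_one_of_dvd_coprimes h3 h2 h1)
  rw [hn1, one_mul] at hns
  rw [← hns]; exact hs

/-- membership of a coset in `O_p(G/K)`, unfolded -/
theorem mk_mem_pCore_iff {p : ℕ} (K : Subgroup Γ) [K.Normal] (a : Γ) :
    (QuotientGroup.mk a : Γ ⧸ K) ∈ Cfsg.pCore p (Γ ⧸ K) ↔
      ∃ T : Subgroup Γ, T.Normal ∧ a ∈ T ∧ ∀ t ∈ T, ∃ k : ℕ, t ^ (p ^ k) ∈ K := by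
  constructor
  · intro h
    have hn : (Cfsg.pCore p (Γ ⧸ K)).Normal := by
      have := Cfsg.Agent.Lib.pCore_characteristic (G := Γ ⧸ K) p
      infer_instance
    refine ⟨(Cfsg.pCore p (Γ ⧸ K)).comap (QuotientGroup.mk' K), hn.comap _, h, ?_⟩
    intro t ht
    rw [Subgroup.mem_comap] at ht
    obtain ⟨k, hk⟩ := (Cfsg.Agent.Lib.isPGroup_pCore (G := Γ ⧸ K) p) ⟨_, ht⟩
    refine ⟨k, ?_⟩
    have hk' : (QuotientGroup.mk' K t) ^ p ^ k = 1 := by
      have := congrArg Subtype.val hk
      simpa using this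
    rwa [← map_pow, QuotientGroup.mk'_apply, QuotientGroup.eq_one_iff] at hk'
  · rintro ⟨T, hTn, haT, hT⟩
    have hn : (T.map (QuotientGroup.mk' K)).Normal :=
      hTn.map _ (QuotientGroup.mk'_surjective K)
    have hpg : IsPGroup p (T.map (QuotientGroup.mk' K)) := by
      rintro ⟨_, t, ht, rfl⟩
      obtain ⟨k, hk⟩ := hT t ht
      refine ⟨k, ?_⟩
      apply Subtype.ext
      simp only [Subgroup.coe_pow, Subgroup.coe_one]
      rw [← map_pow, QuotientGroup.mk'_apply, QuotientGroup.eq_one_iff]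
      exact hk
    exact Cfsg.Agent.Lib.le_pCore hn hpg ⟨a, haT, rfl⟩

end pcore

section PSelem

variable {Γ : Type*} [Group Γ] [Finite Γ]

/-- `p`-stability on an abelian normal `p`-subgroup `U`, when a normal subgroup `N` of `p`-power index
acts on `U` as an abelian `p'`-group. -/
theorem mk_mem_pCore_of_quadratic {p : ℕ} [hp : Fact p.Prime] (hp2 : p ≠ 2)
    (U : Subgroup Γ) [U.Normal] [IsMulCommutative U] (hU : IsPGroup p U)
    (N : Subgroup Γ) [N.Normal]
    (hNc : ∀ x ∈ N, ∀ y ∈ N, ⁅x, y⁆ ∈ centralizer (U : Set Γ))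
    (hNp : (Nat.card (N.map (conjEndU U))).Coprime p) {k : ℕ} (hNi : N.index = p ^ k) {a : Γ}
    (hq : ⁅⁅U, zpowers a⁆, zpowers a⁆ = ⊥) :
    (QuotientGroup.mk a : Γ ⧸ centralizer (U : Set Γ)) ∈
      Cfsg.pCore p (Γ ⧸ centralizer (U : Set Γ)) := by
  set C := centralizer (U : Set Γ) with hC
  set π := QuotientGroup.mk' C with hπ
  have hπs : Function.Surjective π := QuotientGroup.mk'_surjective C
  have hNn : (N.map π).Normal := Subgroup.Normal.map inferInstance _ hπs
  have hcard : Nat.card (N.map π) = Nat.card (N.map (conjEndU U)) := by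
    rw [← Subgroup.relIndex_ker, ← Subgroup.relIndex_ker, ker_conjEndU, QuotientGroup.ker_mk']
  have hidx : ∃ k', (N.map π).index = p ^ k' := by
    have := Subgroup.index_map_dvd N hπs
    rw [hNi] at this
    exact (Nat.dvd_prime_pow hp.out).mp this |>.imp fun _ h => h.2
  obtain ⟨k', hk'⟩ := hidx
  have hkl := comm_mem_centralizer_of_quadratic U hp2 hU N hNc hNp
    (fun x hx => ‹N.Normal›.conj_mem x hx a) hq
  obtain ⟨e, he⟩ := IsPGroup.iff_card.mp hU
  refine mem_pCore_of_centralizes (N.map π) (hcard ▸ hNp) hk' (j := e) ?_ ?_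
  · show (π a) ^ (p ^ e) = 1
    rw [← map_pow, hπ, QuotientGroup.mk'_apply, QuotientGroup.eq_one_iff, ← he]
    exact Cfsg.Agent.Lib.ZJ.quadratic_pow_card_mem_centralizer hq
  · rintro _ ⟨n, hn, rfl⟩
    show π a * π n = π n * π a
    have h1 := hkl n hn
    have h2 : π ⁅a, n⁆ = 1 := by
      rw [hπ, QuotientGroup.mk'_apply, QuotientGroup.eq_one_iff]; exact h1
    rw [commutatorElement_def, map_mul, map_mul, map_mul, map_inv, map_inv] at h2
    calc π a * π n = (π a * π n * (π a)⁻¹ * (π n)⁻¹) * (π n * π a) := by group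
      _ = π n * π a := by rw [h2, one_mul]

end PSelem


section nilp

variable {G : Type*} [Group G]

/-- For a nilpotent subgroup `S` and `1 ≠ V ≤ S`: `[V, S] ≠ V`. -/
theorem commutator_ne_self_of_isNilpotent (S V : Subgroup G) [Group.IsNilpotent S]
    (hVS : V ≤ S) (hV : V ≠ ⊥) : ⁅V, S⁆ ≠ V := by
  intro h
  have hle : ∀ n, V ≤ S.lowerCentralSeries n := by
    intro n
    induction n with
    | zero => simpa using hVS
    | succ n ih =>
      calc V = ⁅V, S⁆ := h.symm
        _ ≤ ⁅S.lowerCentralSeries n, S⁆ := Subgroup.commutator_mono ih le_rfl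
        _ = S.lowerCentralSeries (n + 1) := rfl
  obtain ⟨n, hn⟩ := (Subgroup.isNilpotent_iff_lowerCentralSeries S).mp inferInstance
  exact hV (le_bot_iff.mp (hn ▸ hle n))

/-- For normal `p`-subgroups `V ≠ 1` and `H` of a finite group, `[V, VH] < V`. -/
theorem commutator_sup_lt [Finite G] {p : ℕ} [Fact p.Prime] (V H : Subgroup G) [V.Normal] [H.Normal]
    (hV : IsPGroup p V) (hH : IsPGroup p H) (hne : V ≠ ⊥) : ⁅V, V ⊔ H⁆ < V := by
  refine lt_of_le_of_ne (Subgroup.commutator_le_left V (V ⊔ H)) ?_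
  have hT₀p : IsPGroup p (V ⊔ H : Subgroup G) := IsPGroup.to_sup_of_normal_left hV hH
  have : Group.IsNilpotent (V ⊔ H : Subgroup G) := hT₀p.isNilpotent
  exact commutator_ne_self_of_isNilpotent (V ⊔ H) V le_sup_left hne

end nilp

section PS

variable {G : Type*} [Group G] [Finite G]

/-- **`p`-stability from a normal series.** If `G` has normal subgroups `H ≤ M` with `H` a `p`-group,
`M/H` an abelian `p'`-group and `G/M` a `p`-group (`p` odd), then `G` acts `p`-stably on every normal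
`p`-subgroup. -/
theorem isPStableOn_of_series {p : ℕ} [hp : Fact p.Prime] (hp2 : p ≠ 2)
    (H M : Subgroup G) [hHn : H.Normal] [hMn : M.Normal] (hH : IsPGroup p H)
    (hMH : ⁅M, M⁆ ≤ H) (hMp : (H.relIndex M).Coprime p) {k : ℕ} (hMi : M.index = p ^ k) :
    ∀ (V : Subgroup G) [V.Normal], IsPGroup p V → Cfsg.IsPStableOn p V := by
  suffices hmain : ∀ (n : ℕ) (V : Subgroup G) (hVn : V.Normal), Nat.card V = n → IsPGroup p V →
      @Cfsg.IsPStableOn G _ p V hVn from fun V hVn hV => hmain _ V hVn rfl hV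
  intro n
  induction n using Nat.strong_induction_on with
  | _ n ih =>
  intro V hVn hcard hV a hq
  rw [mk_mem_pCore_iff]
  by_cases hVb : V = ⊥
  · refine ⟨⊤, inferInstance, Subgroup.mem_top a, fun t _ => ⟨0, ?_⟩⟩
    rw [hVb, Subgroup.coe_bot, Subgroup.centralizer_eq_top_iff_subset.mpr]
    · exact Subgroup.mem_top _
    · intro x hx
      rw [Set.mem_singleton_iff] at hx
      subst hx
      exact (Subgroup.center G).one_mem
  -- the subgroup `V₁`
  set V₁ : Subgroup G := ⁅V, V ⊔ H⁆ with hV₁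
  have hV₁lt : V₁ < V := commutator_sup_lt V H hV hH hVb
  have hV₁n : V₁.Normal := by rw [hV₁]; infer_instance
  have hV₁p : IsPGroup p V₁ := hV.to_le hV₁lt.le
  have hcardlt : Nat.card V₁ < n := by
    rw [← hcard]
    exact Cfsg.Agent.Lib.ZJ.card_lt_of_lt hV₁lt
  -- induction hypothesis on `V₁`
  have hq₁ : ⁅⁅V₁, zpowers a⁆, zpowers a⁆ = ⊥ := by
    rw [eq_bot_iff, ← hq]
    exact Subgroup.commutator_mono (Subgroup.commutator_mono hV₁lt.le le_rfl) le_rfl
  have h₁ := ih _ hcardlt V₁ hV₁n rfl hV₁p a hq₁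
  rw [mk_mem_pCore_iff] at h₁
  obtain ⟨T₁, hT₁n, haT₁, hT₁⟩ := h₁
  -- the quotient by `V₁`
  set π := QuotientGroup.mk' V₁ with hπ
  have hπs : Function.Surjective π := QuotientGroup.mk'_surjective V₁
  have hker : ∀ x : G, π x = 1 ↔ x ∈ V₁ := fun x => by
    rw [hπ, QuotientGroup.mk'_apply, QuotientGroup.eq_one_iff]
  set U := V.map π with hU
  have hUn : U.Normal := Subgroup.Normal.map hVn _ hπs
  have hcommV : ∀ v ∈ V, ∀ g ∈ V ⊔ H, π v * π g = π g * π v := by
    intro v hv g hg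
    have h1 : ⁅v, g⁆ ∈ V₁ := Subgroup.commutator_mem_commutator hv hg
    rw [← hker, commutatorElement_def, map_mul, map_mul, map_mul, map_inv, map_inv] at h1
    calc π v * π g = (π v * π g * (π v)⁻¹ * (π g)⁻¹) * (π g * π v) := by group
      _ = π g * π v := by rw [h1, one_mul]
  have hUc : IsMulCommutative U := by
    refine ⟨⟨?_⟩⟩
    rintro ⟨_, v, hv, rfl⟩ ⟨_, w, hw, rfl⟩
    apply Subtype.ext
    exact hcommV v hv w (Subgroup.mem_sup_left hw)
  have hUp : IsPGroup p U := hV.map π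
  have hHcent : ∀ h ∈ H, π h ∈ centralizer (U : Set (G ⧸ V₁)) := by
    intro h hh
    rw [mem_centralizer_iff]
    rintro _ ⟨v, hv, rfl⟩
    exact hcommV v hv h (Subgroup.mem_sup_right hh)
  set N := M.map π with hN
  have hNn : N.Normal := Subgroup.Normal.map hMn _ hπs
  have hNc : ∀ x ∈ N, ∀ y ∈ N, ⁅x, y⁆ ∈ centralizer (U : Set (G ⧸ V₁)) := by
    rintro _ ⟨x, hx, rfl⟩ _ ⟨y, hy, rfl⟩
    have h1 : ⁅x, y⁆ ∈ H := hMH (Subgroup.commutator_mem_commutator hx hy)
    have h2 := hHcent _ h1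
    rwa [map_commutatorElement] at h2
  have hNp : (Nat.card (N.map (conjEndU U))).Coprime p := by
    rw [hN, Subgroup.map_map, ← Subgroup.relIndex_ker]
    have hle : H ≤ ((conjEndU U).comp π).ker := by
      intro h hh
      rw [MonoidHom.mem_ker, MonoidHom.comp_apply, conjEndU_eq_one_iff]
      exact hHcent h hh
    exact Nat.Coprime.coprime_dvd_left (Subgroup.relIndex_dvd_of_le_left M hle) hMp
  obtain ⟨k', hk'⟩ : ∃ k', N.index = p ^ k' := by
    have := Subgroup.index_map_dvd M hπs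
    rw [hMi] at this
    exact ((Nat.dvd_prime_pow hp.out).mp this).imp fun _ h => h.2
  have hq' : ⁅⁅U, zpowers (π a)⁆, zpowers (π a)⁆ = ⊥ := by
    rw [hU, ← MonoidHom.map_zpowers, ← Subgroup.map_commutator, ← Subgroup.map_commutator, hq,
      Subgroup.map_bot]
  have h₂ := mk_mem_pCore_of_quadratic hp2 U hUp N hNc hNp hk' hq'
  rw [mk_mem_pCore_iff] at h₂
  obtain ⟨T₂, hT₂n, haT₂, hT₂⟩ := h₂
  -- assemble
  obtain ⟨e, he⟩ := IsPGroup.iff_card.mp hV
  refine ⟨T₁ ⊓ T₂.comap π, ?_, ⟨haT₁, haT₂⟩, ?_⟩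
  · have := hT₂n.comap π
    infer_instance
  · rintro t ⟨ht₁, ht₂⟩
    obtain ⟨k₁, hk₁⟩ := hT₁ t ht₁
    obtain ⟨k₂, hk₂⟩ := hT₂ (π t) ht₂
    set s := t ^ (p ^ (k₁ + k₂)) with hs
    have hs₁ : s ∈ centralizer (V₁ : Set G) := by
      rw [hs, pow_add, pow_mul]
      exact Subgroup.pow_mem _ hk₁ _
    have hs₂ : π s ∈ centralizer (U : Set (G ⧸ V₁)) := by
      rw [hs, pow_add, pow_mul', map_pow, map_pow]
      exact Subgroup.pow_mem _ hk₂ _
    have hzs₁ : zpowers s ≤ centralizer (V₁ : Set G) := by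
      rw [Subgroup.zpowers_le]; exact hs₁
    have hzs₂ : (zpowers s).map π ≤ centralizer (U : Set (G ⧸ V₁)) := by
      rw [MonoidHom.map_zpowers, Subgroup.zpowers_le]; exact hs₂
    have hqs : ⁅⁅V, zpowers s⁆, zpowers s⁆ = ⊥ := by
      have h1 : ⁅V, zpowers s⁆ ≤ V₁ := by
        rw [Subgroup.commutator_le]
        intro v hv z hz
        rw [← hker, map_commutatorElement]
        have hz' : π z ∈ centralizer (U : Set (G ⧸ V₁)) := hzs₂ ⟨z, hz, rfl⟩
        rw [mem_centralizer_iff] at hz'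
        have := hz' (π v) ⟨v, hv, rfl⟩
        rw [commutatorElement_eq_one_iff_mul_comm]
        exact this
      have h2 : ⁅V₁, zpowers s⁆ = ⊥ := by
        rw [Subgroup.commutator_eq_bot_iff_le_centralizer, Subgroup.le_centralizer_iff]
        exact hzs₁
      rw [eq_bot_iff, ← h2]
      exact Subgroup.commutator_mono h1 le_rfl
    have hfin := Cfsg.Agent.Lib.ZJ.quadratic_pow_card_mem_centralizer hqs
    rw [he] at hfin
    refine ⟨k₁ + k₂ + e, ?_⟩
    rw [pow_add, pow_mul]
    exact hfin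

end PS

end Cfsg.Agent.Helper64
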