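import Mathlib
import Cfsg.Prelude.Def_PLocal
import Cfsg.Agent.Lib.Cores
import Cfsg.Agent.Helper10.MinNormal
import Cfsg.Agent.Helper10.SolvMinNormal
import Cfsg.Agent.Helper21.Fitting
import Cfsg.Agent.Helper34.BabyHHGroup
import Cfsg.Agent.Helper64.QuadAction
import Cfsg.Agent.Helper64.OddHH

/-!
# Solvable groups of odd order are `p`-stable

* `mem_centralizer_of_quadratic_of_odd`: in a finite solvable group of odd order, an element acting
  quadratically on a minimal normal `p`-subgroup centralizes it.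
* `isPStableOn_of_odd_solvable`: a finite solvable group of odd order acts `p`-stably on each of its
  normal `p`-subgroups (`Cfsg.IsPStableOn p V`).
-/

namespace Cfsg.Agent.Helper64

open Subgroup
open scoped IsMulCommutative commutatorElement

universe u

section MinNormal

variable {Γ : Type*} [Group Γ] [Finite Γ]

theorem prime_ne_two_of_odd (hodd : Odd (Nat.card Γ)) {p : ℕ} [hp : Fact p.Prime]
    (U : Subgroup Γ) (hUp : IsPGroup p U) (hUne : U ≠ ⊥) : p ≠ 2 := by
  rintro rfl
  obtain ⟨e, he⟩ := IsPGroup.iff_card.mp hUp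
  have hdvd : Nat.card U ∣ Nat.card Γ := Subgroup.card_subgroup_dvd_card U
  rcases Nat.eq_zero_or_pos e with h0 | h0
  · rw [h0, pow_zero] at he
    exact hUne (Subgroup.card_eq_one.mp he)
  · have h2 : 2 ∣ Nat.card Γ := by
      refine dvd_trans ?_ hdvd
      rw [he]
      exact dvd_pow_self 2 h0.ne'
    exact (Nat.not_even_iff_odd.mpr hodd) (even_iff_two_dvd.mpr h2)

/-- In a finite solvable group of odd order, an element acting quadratically on a minimal normal
`p`-subgroup centralizes it. -/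
theorem mem_centralizer_of_quadratic_of_odd [Group.IsSolvable Γ] (hodd : Odd (Nat.card Γ)) {p : ℕ}
    [hp : Fact p.Prime] (U : Subgroup Γ) [hUn : U.Normal] (hUp : IsPGroup p U) (hUne : U ≠ ⊥)
    (hmin : ∀ M : Subgroup Γ, M.Normal → M ≤ U → M = ⊥ ∨ M = U) {a : Γ}
    (hq : ⁅⁅U, zpowers a⁆, zpowers a⁆ = ⊥) : a ∈ centralizer (U : Set Γ) := by
  have hp2 : p ≠ 2 := prime_ne_two_of_odd hodd U hUp hUne
  have hUc := Cfsg.Agent.Helper10.minNormal_commutative_of_solvable U hUne hmin
  have hUcomm : IsMulCommutative U := ⟨⟨fun a b => Subtype.ext (hUc a a.2 b b.2)⟩⟩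
  -- exponent `p`
  have hexp : ∀ u ∈ U, u ^ p = 1 := by
    obtain ⟨p', hp', hexp, d, hd, hcard⟩ :=
      Cfsg.Agent.Helper10.minNormal_elementary_of_solvable U hUne hmin
    obtain ⟨e, he⟩ := IsPGroup.iff_card.mp hUp
    have h1 : p' ∣ p ^ e := by
      rw [← he, hcard]
      exact dvd_pow_self p' hd.ne'
    have h2 : p' = p := (Nat.prime_dvd_prime_iff_eq hp' hp.out).mp (hp'.dvd_of_dvd_pow h1)
    rw [← h2]; exact hexp
  have hpE : ((p : ℕ) : AddMonoid.End (Additive U)) = 0 := by
    refine DFunLike.ext _ _ fun u => ?_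
    obtain ⟨u, rfl⟩ := Additive.ofMul.surjective u
    rw [AddMonoid.End.natCast_apply, AddMonoid.End.zero_apply, ← ofMul_pow]
    have : u ^ p = 1 := Subtype.ext (by rw [Subgroup.coe_pow]; exact hexp u u.2)
    rw [this, ofMul_one]
  set C := centralizer (U : Set Γ) with hC
  -- the faithful representation of `Γ ⧸ C`
  let ρ : Γ ⧸ C →* (AddMonoid.End (Additive U))ˣ :=
    QuotientGroup.lift C (conjEndU U) (fun g hg => (conjEndU_eq_one_iff U g).mpr hg)
  have hρ : ∀ g : Γ, ρ (QuotientGroup.mk g) = conjEndU U g := fun g => rfl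
  have hinj : Function.Injective ρ := by
    rw [injective_iff_map_eq_one]
    intro x hx
    obtain ⟨g, rfl⟩ := QuotientGroup.mk_surjective x
    rw [hρ, conjEndU_eq_one_iff] at hx
    exact (QuotientGroup.eq_one_iff g).mpr hx
  -- `O_p(Γ ⧸ C) = 1`
  have hpc : Cfsg.pCore p (Γ ⧸ C) = ⊥ := by
    have hn : (Cfsg.pCore p (Γ ⧸ C)).Normal := by
      have := Cfsg.Agent.Lib.pCore_characteristic (G := Γ ⧸ C) p
      infer_instance
    set D := (Cfsg.pCore p (Γ ⧸ C)).comap (QuotientGroup.mk' C) with hD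
    have hDn : D.Normal := hn.comap _
    have hDp : ∀ d ∈ D, ∃ k : ℕ, ∀ n ∈ U, d ^ p ^ k * n = n * d ^ p ^ k := by
      intro d hd
      obtain ⟨k, hk⟩ := (Cfsg.Agent.Lib.isPGroup_pCore (G := Γ ⧸ C) p) ⟨_, hd⟩
      refine ⟨k, fun n hn => ?_⟩
      have hk' : (QuotientGroup.mk' C d) ^ p ^ k = 1 := by
        have := congrArg Subtype.val hk
        simpa using this
      rw [← map_pow, QuotientGroup.mk'_apply, QuotientGroup.eq_one_iff, hC,
        mem_centralizer_iff] at hk'
      exact (hk' n hn).symm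
    have hle := Cfsg.Agent.Helper34.le_centralizer_of_minimal_normal hUp hUne hmin D hDp
    rw [eq_bot_iff]
    intro x hx
    obtain ⟨g, rfl⟩ := QuotientGroup.mk_surjective x
    rw [Subgroup.mem_bot, QuotientGroup.eq_one_iff, hC, mem_centralizer_iff]
    intro u hu
    have := (mem_centralizer_iff.mp (hle hu)) g hx
    exact this.symm
  -- the Fitting subgroup of `Γ ⧸ C`
  set F := Cfsg.fittingSubgroup (Γ ⧸ C) with hF
  have hFn : F.Normal := Cfsg.Agent.Helper21.fittingSubgroup_normal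
  have hFnil : Group.IsNilpotent F := Cfsg.Agent.Lib.isNilpotent_fittingSubgroup
  have hFcop : (Nat.card F).Coprime p := by
    have := Cfsg.Agent.Lib.relIndex_pCore_fittingSubgroup_coprime (G := Γ ⧸ C) p
    rwa [hpc, Subgroup.relIndex_bot_left] at this
  have hFodd : Odd (Nat.card F) := by
    have h1 : Nat.card F ∣ Nat.card (Γ ⧸ C) := Subgroup.card_subgroup_dvd_card F
    have h2 : Nat.card (Γ ⧸ C) ∣ Nat.card Γ := Subgroup.card_quotient_dvd_card C
    exact Odd.of_dvd_nat hodd (h1.trans h2)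
  set Q := F.map ρ with hQ
  have hQfin : Finite Q := by
    have h1 : ((F.map ρ : Subgroup (AddMonoid.End (Additive U))ˣ) :
        Set (AddMonoid.End (Additive U))ˣ).Finite := by
      rw [Subgroup.coe_map]
      exact Set.Finite.image _ (Set.toFinite _)
    exact h1
  have hQnil : Group.IsNilpotent Q := Group.nilpotent_of_mulEquiv (F.equivMapOfInjective ρ hinj)
  have hQcard : Nat.card Q = Nat.card F := Subgroup.card_map_of_injective hinj
  set x := conjEndU U a with hx
  have hxq : ((x : AddMonoid.End (Additive U)) - 1) * ((x : AddMonoid.End (Additive U)) - 1) = 0 := by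
    rw [hx, coe_conjEndU]; exact conjEnd_quadratic U hq
  have h1 : ∀ g ∈ Q, x * g * x⁻¹ ∈ Q := by
    rintro _ ⟨f, hf, rfl⟩
    refine ⟨QuotientGroup.mk a * f * (QuotientGroup.mk a)⁻¹, hFn.conj_mem f hf _, ?_⟩
    rw [map_mul, map_mul, map_inv, hρ]
  have h2 : ∀ g ∈ Q, x⁻¹ * g * x ∈ Q := by
    rintro _ ⟨f, hf, rfl⟩
    refine ⟨(QuotientGroup.mk a)⁻¹ * f * (QuotientGroup.mk a), ?_, ?_⟩
    · have := hFn.conj_mem f hf (QuotientGroup.mk a)⁻¹
      rwa [inv_inv] at this
    · rw [map_mul, map_mul, map_inv, hρ]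
  have key := units_commute_of_quadratic_of_odd hp2 hpE x hxq _ Q rfl hQfin hQnil
    (hQcard ▸ hFodd) (hQcard ▸ hFcop) h1 h2
  -- `mk a` centralizes `F`, hence lies in `F`
  have hcent : (QuotientGroup.mk a : Γ ⧸ C) ∈ centralizer (F : Set (Γ ⧸ C)) := by
    rw [mem_centralizer_iff]
    intro f hf
    apply hinj
    rw [map_mul, map_mul, hρ]
    exact (key (ρ f) ⟨f, hf, rfl⟩).symm
  have hAn : (centralizer (F : Set (Γ ⧸ C))).Normal := inferInstance
  have hAs : Group.IsSolvable (centralizer (F : Set (Γ ⧸ C))) := inferInstance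
  have hAF : centralizer (F : Set (Γ ⧸ C)) ≤ F :=
    Cfsg.Agent.Helper21.le_fittingSubgroup_of_isSolvable_of_le_centralizer _ _ le_rfl hAn hAs le_rfl
  have haF : (QuotientGroup.mk a : Γ ⧸ C) ∈ F := hAF hcent
  -- a `p`-element of the `p'`-group `F` is trivial
  have hap : (QuotientGroup.mk a : Γ ⧸ C) ^ p = 1 := by
    apply hinj
    rw [map_pow, hρ, map_one]
    exact unit_pow_char_eq_one hpE x hxq
  have h3 : orderOf (QuotientGroup.mk a : Γ ⧸ C) ∣ p := orderOf_dvd_of_pow_eq_one hap
  have h4 : orderOf (QuotientGroup.mk a : Γ ⧸ C) ∣ Nat.card F := by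
    have := orderOf_dvd_natCard (⟨_, haF⟩ : F)
    rwa [Subgroup.orderOf_mk] at this
  have h5 : orderOf (QuotientGroup.mk a : Γ ⧸ C) = 1 := Nat.eq_one_of_dvd_coprimes hFcop h4 h3
  exact (QuotientGroup.eq_one_iff a).mp (orderOf_eq_one_iff.mp h5)

end MinNormal

section Gen

theorem isPStableOn_of_odd_solvable_aux {p : ℕ} [hp : Fact p.Prime] :
    ∀ (n : ℕ) (Γ : Type u) [Group Γ] [Finite Γ] [Group.IsSolvable Γ], Odd (Nat.card Γ) →
      ∀ (V : Subgroup Γ) (hVn : V.Normal), Nat.card V = n → IsPGroup p V →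
        @Cfsg.IsPStableOn Γ _ p V hVn := by
  intro n
  induction n using Nat.strong_induction_on with
  | _ n ih =>
  intro Γ _ _ _ hodd V hVn hcard hV a hq
  rw [mk_mem_pCore_iff]
  by_cases hVb : V = ⊥
  · refine ⟨⊤, inferInstance, Subgroup.mem_top a, fun t _ => ⟨0, ?_⟩⟩
    rw [hVb, Subgroup.coe_bot, Subgroup.centralizer_eq_top_iff_subset.mpr]
    · exact Subgroup.mem_top _
    · intro x hx
      rw [Set.mem_singleton_iff] at hx
      subst hx
      exact (Subgroup.center Γ).one_mem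
  obtain ⟨U, hUn, hUne, hUV, hmin⟩ := Cfsg.Agent.Helper10.exists_minimal_normal_le V hVb
  have hUp : IsPGroup p U := hV.to_le hUV
  have hqU : ⁅⁅U, zpowers a⁆, zpowers a⁆ = ⊥ := by
    rw [eq_bot_iff, ← hq]
    exact Subgroup.commutator_mono (Subgroup.commutator_mono hUV le_rfl) le_rfl
  have haC : a ∈ centralizer (U : Set Γ) :=
    mem_centralizer_of_quadratic_of_odd hodd U hUp hUne hmin hqU
  -- the quotient by `U`
  set π := QuotientGroup.mk' U with hπ
  have hπs : Function.Surjective π := QuotientGroup.mk'_surjective U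
  have hker : ∀ x : Γ, π x = 1 ↔ x ∈ U := fun x => by
    rw [hπ, QuotientGroup.mk'_apply, QuotientGroup.eq_one_iff]
  set V' := V.map π with hV'
  have hV'n : V'.Normal := Subgroup.Normal.map hVn _ hπs
  have hV'p : IsPGroup p V' := hV.map π
  have hcard' : Nat.card V' < n := by
    have h1 : Nat.card V' = U.relIndex V := by
      rw [hV', ← Subgroup.relIndex_ker, hπ, QuotientGroup.ker_mk']
    have h2 := Subgroup.relIndex_mul_relIndex (H := (⊥ : Subgroup Γ)) (K := U) (L := V) bot_le hUV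
    rw [Subgroup.relIndex_bot_left, Subgroup.relIndex_bot_left] at h2
    have h3 : 1 < Nat.card U := by
      rw [Subgroup.one_lt_card_iff_ne_bot]; exact hUne
    have h4 : 0 < U.relIndex V := by
      rcases Nat.eq_zero_or_pos (U.relIndex V) with h0 | h0
      · rw [h0, mul_zero] at h2
        have : 0 < Nat.card V := Nat.card_pos
        omega
      · exact h0
    rw [h1, ← hcard, ← h2]
    nlinarith
  have hodd' : Odd (Nat.card (Γ ⧸ U)) :=
    Odd.of_dvd_nat hodd (Subgroup.card_quotient_dvd_card U)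
  have hq' : ⁅⁅V', zpowers (π a)⁆, zpowers (π a)⁆ = ⊥ := by
    rw [hV', ← MonoidHom.map_zpowers, ← Subgroup.map_commutator, ← Subgroup.map_commutator, hq,
      Subgroup.map_bot]
  have h₂ := ih _ hcard' (Γ ⧸ U) hodd' V' hV'n rfl hV'p (π a) hq'
  rw [mk_mem_pCore_iff] at h₂
  obtain ⟨T₂, hT₂n, haT₂, hT₂⟩ := h₂
  obtain ⟨e, he⟩ := IsPGroup.iff_card.mp hV
  refine ⟨centralizer (U : Set Γ) ⊓ T₂.comap π, ?_, ⟨haC, haT₂⟩, ?_⟩
  · have := hT₂n.comap π
    infer_instance
  · rintro t ⟨ht₁, ht₂⟩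
    obtain ⟨k, hk⟩ := hT₂ (π t) ht₂
    set s := t ^ (p ^ k) with hs
    have hs₁ : s ∈ centralizer (U : Set Γ) := Subgroup.pow_mem _ ht₁ _
    have hs₂ : π s ∈ centralizer (V' : Set (Γ ⧸ U)) := by
      rw [hs, map_pow]; exact hk
    have hzs₁ : zpowers s ≤ centralizer (U : Set Γ) := by
      rw [Subgroup.zpowers_le]; exact hs₁
    have hzs₂ : (zpowers s).map π ≤ centralizer (V' : Set (Γ ⧸ U)) := by
      rw [MonoidHom.map_zpowers, Subgroup.zpowers_le]; exact hs₂
    have hqs : ⁅⁅V, zpowers s⁆, zpowers s⁆ = ⊥ := by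
      have h1 : ⁅V, zpowers s⁆ ≤ U := by
        rw [Subgroup.commutator_le]
        intro v hv z hz
        rw [← hker, map_commutatorElement]
        have hz' : π z ∈ centralizer (V' : Set (Γ ⧸ U)) := hzs₂ ⟨z, hz, rfl⟩
        rw [mem_centralizer_iff] at hz'
        have := hz' (π v) ⟨v, hv, rfl⟩
        rw [commutatorElement_eq_one_iff_mul_comm]
        exact this
      have h2 : ⁅U, zpowers s⁆ = ⊥ := by
        rw [Subgroup.commutator_eq_bot_iff_le_centralizer, Subgroup.le_centralizer_iff]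
        exact hzs₁
      rw [eq_bot_iff, ← h2]
      exact Subgroup.commutator_mono h1 le_rfl
    have hfin := Cfsg.Agent.Lib.ZJ.quadratic_pow_card_mem_centralizer hqs
    rw [he] at hfin
    refine ⟨k + e, ?_⟩
    rw [pow_add, pow_mul]
    exact hfin

/-- **Solvable groups of odd order are `p`-stable**: the conjugation action on every normal
`p`-subgroup is `p`-stable. -/
theorem isPStableOn_of_odd_solvable {Γ : Type u} [Group Γ] [Finite Γ] [Group.IsSolvable Γ]
    (hodd : Odd (Nat.card Γ)) {p : ℕ} [hp : Fact p.Prime] (V : Subgroup Γ) [hVn : V.Normal]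
    (hV : IsPGroup p V) : Cfsg.IsPStableOn p V :=
  isPStableOn_of_odd_solvable_aux _ Γ hodd V hVn rfl hV

end Gen

section Normalizer

variable {G : Type*} [Group G] [Finite G]

/-- `p`-stability of `N_G(P)` on `P`, for a finite solvable group `G` of odd order and a `p`-subgroup
`P`: an element `a ∈ N_G(P)` with `[P, a, a] = 1` maps into `O_p(N_G(P)/C_G(P))`.  The centralizer is
given as any normal subgroup `K` of `N_G(P)` with the right elements. -/
theorem mk_mem_pCore_normalizer_of_quadratic_of_odd [Group.IsSolvable G] (hodd : Odd (Nat.card G))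
    {p : ℕ} [hp : Fact p.Prime] (P : Subgroup G) (hP : IsPGroup p P)
    (a : normalizer (P : Set G)) (hq : ⁅⁅P, zpowers (a : G)⁆, zpowers (a : G)⁆ = ⊥)
    (K : Subgroup (normalizer (P : Set G))) [K.Normal]
    (hK : ∀ x : normalizer (P : Set G), x ∈ K ↔ (x : G) ∈ centralizer (P : Set G)) :
    (QuotientGroup.mk a : normalizer (P : Set G) ⧸ K) ∈
      Cfsg.pCore p (normalizer (P : Set G) ⧸ K) := by
  have hoddN : Odd (Nat.card (normalizer (P : Set G))) :=
    Odd.of_dvd_nat hodd (Subgroup.card_subgroup_dvd_card _)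
  have hP'n : (P.subgroupOf (normalizer (P : Set G))).Normal := Subgroup.normal_in_normalizer
  have hP'p : IsPGroup p (P.subgroupOf (normalizer (P : Set G))) := hP.comap_subtype
  have hmapP : (P.subgroupOf (normalizer (P : Set G))).map (normalizer (P : Set G)).subtype = P :=
    Subgroup.map_subgroupOf_eq_of_le Subgroup.le_normalizer
  have hq' : ⁅⁅P.subgroupOf (normalizer (P : Set G)), zpowers a⁆, zpowers a⁆ = ⊥ := by
    rw [← (Subgroup.map_eq_bot_iff_of_injective _ (Subgroup.subtype_injective _)),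
      Subgroup.map_commutator, Subgroup.map_commutator, hmapP, MonoidHom.map_zpowers]
    exact hq
  have hst := isPStableOn_of_odd_solvable hoddN (P.subgroupOf (normalizer (P : Set G))) hP'p a hq'
  rw [mk_mem_pCore_iff] at hst ⊢
  obtain ⟨T, hTn, haT, hT⟩ := hst
  refine ⟨T, hTn, haT, fun t ht => ?_⟩
  obtain ⟨k, hk⟩ := hT t ht
  refine ⟨k, ?_⟩
  rw [hK, mem_centralizer_iff]
  intro u hu
  rw [mem_centralizer_iff] at hk
  have := hk ⟨u, Subgroup.le_normalizer hu⟩ (Subgroup.mem_subgroupOf.mpr hu)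
  exact congrArg Subtype.val this

end Normalizer

end Cfsg.Agent.Helper64
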