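import Mathlib
import Cfsg.Prelude.Def_OddOrderLocal
import Cfsg.Agent.Helper68.BG12A
import Cfsg.Agent.Helper31.BGTrans
import Cfsg.Agent.Helper29.BenderA
import Cfsg.Agent.Helper29.BG10G
import Cfsg.Agent.Helper67.CyclicSub
import Cfsg.Agent.Helper53.Conj
import Cfsg.Agent.Lib.Cores

/-!
# Bender-Glauberman Corollary 12.6 (helper64)

For a maximal subgroup `M` of a minimal simple group of odd order and
`Y = O_{σ(M)'}(F(M))`: `Y` is a cyclic `τ₂(M)`-group and `F(M) = F(M_σ) Y`.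

The file is written against a statement-shaped hypothesis `h125` (the Sylow part of B-G Theorem 12.5,
statement S1417) and the Uniqueness Theorem as a hypothesis.
-/

set_option autoImplicit false

namespace Cfsg.Agent.Helper64.BG126

open Cfsg Cfsg.Agent.Helper29.BG10

variable {G : Type*} [Group G]

/-- `O_p(M)` as a subgroup of `G`. -/
def opOf (p : ℕ) (M : Subgroup G) : Subgroup G := (Cfsg.pCore p ↥M).map M.subtype

theorem le_normalizer_of_conj_mem {X O : Subgroup G}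
    (h : ∀ x ∈ X, ∀ o ∈ O, x * o * x⁻¹ ∈ O) : X ≤ Subgroup.normalizer (O : Set G) := by
  intro x hx
  rw [Subgroup.mem_normalizer_iff]
  intro o
  constructor
  · exact h x hx o
  · intro ho
    have h1 := h x⁻¹ (X.inv_mem hx) _ ho
    simpa [mul_assoc] using h1

theorem conj_mem_of_mem_normalizer {O : Subgroup G} {g o : G}
    (hg : g ∈ Subgroup.normalizer (O : Set G)) (ho : o ∈ O) : g * o * g⁻¹ ∈ O :=
  (Subgroup.mem_normalizer_iff.1 hg o).1 ho

theorem opOf_le (p : ℕ) (M : Subgroup G) : opOf p M ≤ M := Subgroup.map_subtype_le _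

theorem le_normalizer_opOf (p : ℕ) (M : Subgroup G) :
    M ≤ Subgroup.normalizer ((opOf p M : Subgroup G) : Set G) :=
  Subgroup.le_normalizer.trans
    (Cfsg.Agent.Helper53.char_map_normalizer_le M _ (Cfsg.Agent.Lib.pCore_characteristic p))

theorem isPGroup_opOf (p : ℕ) (M : Subgroup G) : IsPGroup p ↥(opOf p M) :=
  (Cfsg.Agent.Lib.isPGroup_pCore p).map M.subtype

theorem opOf_le_sylow {p : ℕ} {M : Subgroup G} (P : Sylow p ↥M) :
    opOf p M ≤ (P : Subgroup ↥M).map M.subtype :=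
  Subgroup.map_mono (Cfsg.Agent.Lib.pCore_le_sylow P)

section fin
variable [Finite G]

theorem opOf_le_fittingOf (p : ℕ) [Fact p.Prime] (M : Subgroup G) : opOf p M ≤ fittingOf M :=
  Subgroup.map_mono (Cfsg.Agent.Lib.pCore_le_fittingSubgroup p)

theorem relIndex_opOf_fittingOf_coprime (p : ℕ) [Fact p.Prime] (M : Subgroup G) :
    ((opOf p M).relIndex (fittingOf M)).Coprime p := by
  unfold opOf fittingOf
  rw [Subgroup.relIndex_map_map_of_injective _ _ M.subtype_injective]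
  exact Cfsg.Agent.Lib.relIndex_pCore_fittingSubgroup_coprime p

/-- the primes dividing the order of a `p`-group -/
theorem eq_of_prime_dvd_card_of_isPGroup {p q : ℕ} (hp : p.Prime) (hq : q.Prime) {T : Subgroup G}
    (hT : IsPGroup p ↥T) (hd : q ∣ Nat.card ↥T) : q = p := by
  have : Fact p.Prime := ⟨hp⟩
  obtain ⟨k, hk⟩ := IsPGroup.iff_card.1 hT
  rw [hk] at hd
  exact (Nat.prime_dvd_prime_iff_eq hq hp).1 (hq.dvd_of_dvd_pow hd)

/-- a `p`-subgroup of `F(M)` lies in `O_p(M)` -/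
theorem le_opOf_of_isPGroup {p : ℕ} [hp : Fact p.Prime] {M A : Subgroup G} (hA : IsPGroup p ↥A)
    (hAF : A ≤ fittingOf M) : A ≤ opOf p M := by
  have hFM : fittingOf M ≤ M := Cfsg.Agent.Helper29.Bender.fittingOf_le M
  have hAN : A ≤ Subgroup.normalizer ((opOf p M : Subgroup G) : Set G) :=
    (hAF.trans hFM).trans (le_normalizer_opOf p M)
  have hsup : IsPGroup p ↥(A ⊔ opOf p M) :=
    IsPGroup.to_sup_of_normal_right' hA (isPGroup_opOf p M) hAN
  have hle : A ⊔ opOf p M ≤ fittingOf M := sup_le hAF (opOf_le_fittingOf p M)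
  have h1 : (opOf p M).relIndex (A ⊔ opOf p M) ∣ (opOf p M).relIndex (fittingOf M) := by
    have := Subgroup.relIndex_mul_relIndex (opOf p M) (A ⊔ opOf p M) (fittingOf M) le_sup_right hle
    exact Dvd.intro _ this
  have h2 : ((opOf p M).relIndex (A ⊔ opOf p M)).Coprime p :=
    Nat.Coprime.coprime_dvd_left h1 (relIndex_opOf_fittingOf_coprime p M)
  have h3 : (opOf p M).relIndex (A ⊔ opOf p M) ∣ Nat.card ↥(A ⊔ opOf p M) :=
    Subgroup.relIndex_dvd_card _ _
  obtain ⟨k, hk⟩ := IsPGroup.iff_card.1 hsup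
  rw [hk] at h3
  have h4 : (opOf p M).relIndex (A ⊔ opOf p M) = 1 :=
    Nat.Coprime.eq_one_of_dvd (Nat.Coprime.pow_right k h2) h3
  exact le_sup_left.trans (Subgroup.relIndex_eq_one.1 h4)

/-- `O_p(M) ≤ F(M_σ) ⊔ O_{σ(M)'}(F(M))` for every prime `p` -/
theorem opOf_le_sup (p : ℕ) [hp : Fact p.Prime] (M : Subgroup G) :
    opOf p M ≤ fittingOf (sigmaCore M) ⊔
      piCoreOf {q | q.Prime ∧ q ∉ sigma M} (fittingOf M) := by
  have hFM : fittingOf M ≤ M := Cfsg.Agent.Helper29.Bender.fittingOf_le M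
  have hTp := isPGroup_opOf p M
  by_cases hσ : p ∈ sigma M
  · refine le_trans ?_ le_sup_left
    have hs : sigmaCore M = piCoreOf (sigma M) M := rfl
    have h1 : opOf p M ≤ sigmaCore M := by
      rw [hs]
      refine Cfsg.Agent.Helper31.le_piCoreOf_of_normal (opOf_le p M) (le_normalizer_opOf p M) ?_
      intro q hq hd
      rw [eq_of_prime_dvd_card_of_isPGroup hp.out hq hTp hd]
      exact hσ
    have h2 : sigmaCore M ≤ M := by
      rw [hs]; exact Cfsg.Agent.Helper31.piCoreOf_le _ _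
    exact Cfsg.Agent.Helper29.Bender.le_fittingOf h1 (h2.trans (le_normalizer_opOf p M))
      hTp.isNilpotent
  · refine le_trans ?_ le_sup_right
    refine Cfsg.Agent.Helper31.le_piCoreOf_of_normal (opOf_le_fittingOf p M)
      (hFM.trans (le_normalizer_opOf p M)) ?_
    intro q hq hd
    rw [eq_of_prime_dvd_card_of_isPGroup hp.out hq hTp hd]
    exact ⟨hp.out, hσ⟩

/-- part (3): `F(M) = F(M_σ) ⊔ Y` -/
theorem fittingOf_eq_sup (M : Subgroup G) :
    fittingOf M = fittingOf (sigmaCore M) ⊔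
      piCoreOf {q | q.Prime ∧ q ∉ sigma M} (fittingOf M) := by
  have hs : sigmaCore M = piCoreOf (sigma M) M := rfl
  apply le_antisymm
  · rw [← Subgroup.relIndex_eq_one]
    by_contra hne
    obtain ⟨p, hp, hpd⟩ := Nat.exists_prime_and_dvd hne
    have : Fact p.Prime := ⟨hp⟩
    have h1 := Subgroup.relIndex_dvd_of_le_left (fittingOf M) (opOf_le_sup p M)
    have h2 := relIndex_opOf_fittingOf_coprime p M
    have hc : p.Coprime p := Nat.Coprime.coprime_dvd_left (hpd.trans h1) h2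
    exact hp.one_lt.ne' ((Nat.coprime_self p).1 hc)
  · apply sup_le
    · apply Cfsg.Agent.Helper29.Bender.fittingOf_le_fittingOf
      · rw [hs]; exact Cfsg.Agent.Helper31.piCoreOf_le _ _
      · rw [hs]; exact Cfsg.Agent.Helper31.le_normalizer_piCoreOf _ _
    · exact Cfsg.Agent.Helper31.piCoreOf_le _ _

/-- in a simple group, a nontrivial subgroup normalized by a maximal subgroup `M` has normalizer
exactly `M` -/
theorem normalizer_eq_of_coatom [IsSimpleGroup G] {M A : Subgroup G} (hM : IsCoatom M)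
    (hA0 : A ≠ ⊥) (hAM : A ≤ M) (hMA : M ≤ Subgroup.normalizer (A : Set G)) :
    Subgroup.normalizer (A : Set G) = M := by
  have hA1 : A ≠ ⊤ := fun h => hM.1 (top_le_iff.1 (h ▸ hAM))
  rcases hM.le_iff.1 hMA with h | h
  · exact absurd h (Cfsg.Agent.Helper31.bgt_normalizer_ne_top_of_simple hA0 hA1)
  · exact h

/-- the hypothesis extracted from B-G Theorem 12.5(b) (statement S1417) -/
def Hyp125 (M : Subgroup G) : Prop :=
  ∀ (p : ℕ) [Fact p.Prime], p ∈ Cfsg.tau2 M → ∀ A : Subgroup G, A ≤ M →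
    Cfsg.IsElementaryAbelian p A → Nat.card A = p ^ 2 →
    ∀ P : Sylow p ↥M, A ≤ (P : Subgroup ↥M).map M.subtype →
      (∀ x ∈ (P : Subgroup ↥M).map M.subtype, x ^ p = 1 ↔ x ∈ A) ∧
      ¬ Subgroup.normalizer ((((P : Subgroup ↥M).map M.subtype : Subgroup G)) : Set G) ≤ M

/-- `O_p(M) ≠ 1` when `p` divides `|F(M)|` -/
theorem opOf_ne_bot {p : ℕ} [hp : Fact p.Prime] {M : Subgroup G}
    (hd : p ∣ Nat.card ↥(fittingOf M)) : opOf p M ≠ ⊥ := by
  intro h
  have h1 := relIndex_opOf_fittingOf_coprime p M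
  rw [h, Subgroup.relIndex_bot_left] at h1
  have hc : p.Coprime p := Nat.Coprime.coprime_dvd_left hd h1
  exact hp.out.one_lt.ne' ((Nat.coprime_self p).1 hc)

/-- part (2): the primes of `Y` are in `τ₂(M)` -/
theorem mem_tau2_of_dvd (hG : Cfsg.IsMinSimpleOddOrder G) (hU : UniquenessThm G)
    {M : Subgroup G} (hM : IsCoatom M) {p : ℕ} (hp : p.Prime)
    (hd : p ∣ Nat.card ↥(piCoreOf {q | q.Prime ∧ q ∉ sigma M} (fittingOf M))) :
    p ∈ Cfsg.tau2 M := by
  have : Fact p.Prime := ⟨hp⟩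
  have : IsSimpleGroup G := hG.2.1
  have hYF : piCoreOf {q | q.Prime ∧ q ∉ sigma M} (fittingOf M) ≤ fittingOf M :=
    Cfsg.Agent.Helper31.piCoreOf_le _ _
  have hFM : fittingOf M ≤ M := Cfsg.Agent.Helper29.Bender.fittingOf_le M
  have hpσ : p ∉ sigma M := (Cfsg.Agent.Helper31.piCoreOf_primes _ _ p hp hd).2
  have hpF : p ∣ Nat.card ↥(fittingOf M) := hd.trans (Subgroup.card_dvd_of_le hYF)
  have hpM : p ∣ Nat.card ↥M := hpF.trans (Subgroup.card_dvd_of_le hFM)
  have hp2 : p ≠ 2 := by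
    intro h2
    have hodd : Odd (Nat.card ↥M) := Odd.of_dvd_nat hG.1 (Subgroup.card_subgroup_dvd_card M)
    rw [h2] at hpM
    exact (Nat.not_even_iff_odd.2 hodd) (even_iff_two_dvd.2 hpM)
  refine ⟨hp, hpσ, ?_, ?_⟩
  · by_contra h
    exact hpσ (alpha_subset_sigma hG hU hM ⟨hp, h⟩)
  · intro hrk
    obtain ⟨P⟩ : Nonempty (Sylow p ↥M) := inferInstance
    have hPc : IsCyclic ↥(P : Subgroup ↥M) :=
      Cfsg.Agent.Helper50.sylow_isCyclic_of_pRankLE_one hp2 hrk P
    have hPGc : IsCyclic ↥((P : Subgroup ↥M).map M.subtype) :=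
      isCyclic_of_surjective _
        ((P : Subgroup ↥M).equivMapOfInjective M.subtype M.subtype_injective).surjective
    apply hpσ
    refine ⟨hp, hpM, P, ?_⟩
    have hT0 : opOf p M ≠ ⊥ := opOf_ne_bot hpF
    have hTP : opOf p M ≤ (P : Subgroup ↥M).map M.subtype := opOf_le_sylow P
    have hNT : Subgroup.normalizer ((opOf p M : Subgroup G) : Set G) = M :=
      normalizer_eq_of_coatom hM hT0 (opOf_le p M) (le_normalizer_opOf p M)
    refine le_trans ?_ hNT.le
    apply le_normalizer_of_conj_mem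
    intro g hg o ho
    have h1 : (opOf p M).map (MulAut.conj g).toMonoidHom ≤ (P : Subgroup ↥M).map M.subtype := by
      rintro _ ⟨t, ht, rfl⟩
      exact conj_mem_of_mem_normalizer hg (hTP ht)
    have h2 : Nat.card ↥((opOf p M).map (MulAut.conj g).toMonoidHom) = Nat.card ↥(opOf p M) :=
      Subgroup.card_map_of_injective (MulAut.conj g).injective
    have h3 := Cfsg.Agent.Helper67.eq_of_card_eq_of_le_cyclic
      ((P : Subgroup ↥M).map M.subtype) _ _ h1 hTP h2
    rw [← h3]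
    exact ⟨o, ho, rfl⟩

/-- the `p`-rank of `Y` is at most one -/
theorem pRankLE_one_of_dvd (hG : Cfsg.IsMinSimpleOddOrder G) (hU : UniquenessThm G)
    {M : Subgroup G} (hM : IsCoatom M) (h125 : Hyp125 M) {p : ℕ} (hp : p.Prime)
    (hd : p ∣ Nat.card ↥(piCoreOf {q | q.Prime ∧ q ∉ sigma M} (fittingOf M))) :
    Cfsg.PRankLE p 1 ↥(piCoreOf {q | q.Prime ∧ q ∉ sigma M} (fittingOf M)) := by
  have : Fact p.Prime := ⟨hp⟩
  have : IsSimpleGroup G := hG.2.1
  have hYF : piCoreOf {q | q.Prime ∧ q ∉ sigma M} (fittingOf M) ≤ fittingOf M :=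
    Cfsg.Agent.Helper31.piCoreOf_le _ _
  have hFM : fittingOf M ≤ M := Cfsg.Agent.Helper29.Bender.fittingOf_le M
  have hτ : p ∈ Cfsg.tau2 M := mem_tau2_of_dvd hG hU hM hp hd
  by_contra hcon
  obtain ⟨A, hAY, hAe, hAlt⟩ := (Cfsg.Agent.Helper23.not_pRankLE_subgroup_iff p 1 _).1 hcon
  rw [pow_one] at hAlt
  have hAM : A ≤ M := hAY.trans (hYF.trans hFM)
  have hAp : IsPGroup p ↥A := isPGroup_of_isElementaryAbelian hAe
  have hA2 : Nat.card ↥A = p ^ 2 := by
    apply card_eq_sq_of_lt_of_le hAp hAlt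
    by_contra hc
    push Not at hc
    exact (Cfsg.Agent.Helper23.not_pRankLE_subgroup_iff p 2 M).2 ⟨A, hAM, hAe, hc⟩ hτ.2.2.1
  have hAT : A ≤ opOf p M := le_opOf_of_isPGroup hAp (hAY.trans hYF)
  obtain ⟨P⟩ : Nonempty (Sylow p ↥M) := inferInstance
  have hTP : opOf p M ≤ (P : Subgroup ↥M).map M.subtype := opOf_le_sylow P
  obtain ⟨hΩ, hN⟩ := h125 p hτ A hAM hAe hA2 P (hAT.trans hTP)
  apply hN
  have hA0 : A ≠ ⊥ := by
    intro h
    rw [h, Subgroup.card_bot] at hA2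
    have : 1 < p ^ 2 := Nat.one_lt_pow (by norm_num) hp.one_lt
    omega
  have hpow : ∀ g a : G, a ^ p = 1 → (g * a * g⁻¹) ^ p = 1 := by
    intro g a ha
    rw [conj_pow, ha, mul_one, mul_inv_cancel]
  have hMA : M ≤ Subgroup.normalizer (A : Set G) := by
    apply le_normalizer_of_conj_mem
    intro m hm a ha
    have h1 : m * a * m⁻¹ ∈ opOf p M :=
      conj_mem_of_mem_normalizer (le_normalizer_opOf p M hm) (hAT ha)
    exact (hΩ _ (hTP h1)).1 (hpow m a (hAe.2 a ha))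
  have hNA : Subgroup.normalizer (A : Set G) = M := normalizer_eq_of_coatom hM hA0 hAM hMA
  refine le_trans ?_ hNA.le
  apply le_normalizer_of_conj_mem
  intro g hg a ha
  have h1 : g * a * g⁻¹ ∈ (P : Subgroup ↥M).map M.subtype :=
    conj_mem_of_mem_normalizer hg (hTP (hAT ha))
  exact (hΩ _ h1).1 (hpow g a (hAe.2 a ha))

/-- **B-G Corollary 12.6** (statement S1439), modulo the Uniqueness Theorem and B-G 12.5(b) -/
theorem main (hG : Cfsg.IsMinSimpleOddOrder G) (hU : UniquenessThm G)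
    (M : Subgroup G) (hM : IsCoatom M) (h125 : Hyp125 M) :
    IsCyclic ↥(Cfsg.piCoreOf {q | q.Prime ∧ q ∉ Cfsg.sigma M} (Cfsg.fittingOf M)) ∧
      (∀ p : ℕ, p.Prime →
        p ∣ Nat.card ↥(Cfsg.piCoreOf {q | q.Prime ∧ q ∉ Cfsg.sigma M} (Cfsg.fittingOf M)) →
        p ∈ Cfsg.tau2 M) ∧
      Cfsg.fittingOf M = Cfsg.fittingOf (Cfsg.sigmaCore M) ⊔
        Cfsg.piCoreOf {q | q.Prime ∧ q ∉ Cfsg.sigma M} (Cfsg.fittingOf M) := by
  refine ⟨?_, fun p hp hd => mem_tau2_of_dvd hG hU hM hp hd, fittingOf_eq_sup M⟩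
  have hYF : piCoreOf {q | q.Prime ∧ q ∉ sigma M} (fittingOf M) ≤ fittingOf M :=
    Cfsg.Agent.Helper31.piCoreOf_le _ _
  have hnilF : Group.IsNilpotent ↥(fittingOf M) :=
    Cfsg.Agent.Helper29.Bender.isNilpotent_fittingOf M
  have hnil : Group.IsNilpotent ↥(piCoreOf {q | q.Prime ∧ q ∉ sigma M} (fittingOf M)) :=
    Group.nilpotent_of_mulEquiv (Subgroup.subgroupOfEquivOfLe hYF)
  have hodd : Odd (Nat.card ↥(piCoreOf {q | q.Prime ∧ q ∉ sigma M} (fittingOf M))) :=
    Odd.of_dvd_nat hG.1 (Subgroup.card_subgroup_dvd_card _)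
  exact Cfsg.Agent.Helper68.BG12.isCyclic_of_nilpotent_of_pRankLE_one hodd
    (fun p hp hd => pRankLE_one_of_dvd hG hU hM h125 hp hd)

end fin

end Cfsg.Agent.Helper64.BG126
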