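import Mathlib
import Cfsg.Prelude.Def_OddOrderLocal
import Cfsg.Agent.Helper29.BG11A
import Cfsg.Agent.Helper1.BG1217
import Cfsg.Agent.Helper1.CoprimeSylow
import Cfsg.Agent.Helper31.CoprimeHyp
import Cfsg.Agent.Helper84.SylowRel

/-!
# Bender-Glauberman Lemma 12.18, second half (helper64)

`Y ≠ 1` a `σ(M)`-subgroup of `G`, `p ∈ π(M) - σ(M)` not ideal, `H` a maximal subgroup over `Y`, not
conjugate to `M`.  Then (a) `r_p(N_H(Y)) ≤ 1`; (b) if `p ∈ τ₁(M)` then `p ∤ |N_H(Y)'|`.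

Written against statement-shaped hypotheses:
* `Hyp1217 M`: parts (d1), (e3), (e2) of B-G Lemma 12.17 for the fixed maximal subgroup `M`;
* `Hyp1417e M p`: part (e) of B-G Theorem 12.5 (statement S1417) for `M` and `p`.
Paper proof: board post #2999 (helper70).
-/

set_option autoImplicit false

namespace Cfsg.Agent.Helper64.BG1218

open Cfsg Cfsg.Agent.Helper29.BG10 Cfsg.Agent.Helper29.BG11

variable {G : Type*} [Group G] [Finite G]

/-! ### index and conjugation lemmas -/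

/-- if `Ms = N T` with `N` normalized by `Ms`, then `|Ms : T|` divides `|N|` -/
theorem relIndex_dvd_card_of_sup_eq {N T Ms : Subgroup G}
    (hN : Ms ≤ Subgroup.normalizer (N : Set G)) (hsup : N ⊔ T = Ms) :
    T.relIndex Ms ∣ Nat.card ↥N := by
  have hT : T ≤ Ms := hsup ▸ le_sup_right
  have h1 := Cfsg.Agent.Helper31.card_sup_mul_card_inf' T N (hT.trans hN)
  rw [sup_comm, hsup] at h1
  have h2 : Nat.card ↥T * T.relIndex Ms = Nat.card ↥Ms := by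
    rw [← Subgroup.relIndex_bot_left, ← Subgroup.relIndex_bot_left,
      Subgroup.relIndex_mul_relIndex _ _ _ bot_le hT]
  have hpos : 0 < Nat.card ↥T := Nat.card_pos
  refine ⟨Nat.card ↥(T ⊓ N), ?_⟩
  have h3 : Nat.card ↥T * (T.relIndex Ms * Nat.card ↥(T ⊓ N)) = Nat.card ↥T * Nat.card ↥N := by
    rw [← mul_assoc, h2, h1]
  exact (Nat.eq_of_mul_eq_mul_left hpos h3).symm

/-- a `p`-subgroup of `Ms = N T`, `p ∤ |N|`, is `Ms`-conjugate into `T` -/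
theorem exists_cj_le_of_sup_eq {p : ℕ} [Fact p.Prime] {N T Ms A : Subgroup G}
    (hN : Ms ≤ Subgroup.normalizer (N : Set G)) (hsup : N ⊔ T = Ms)
    (hpN : ¬ p ∣ Nat.card ↥N) (hAMs : A ≤ Ms) (hA : IsPGroup p ↥A) :
    ∃ l ∈ Ms, cj l A ≤ T := by
  have hpp : p.Prime := Fact.out
  have hT : T ≤ Ms := hsup ▸ le_sup_right
  obtain ⟨P, -, hP⟩ := exists_isSylowIn_ge (p := p) (bot_le : (⊥ : Subgroup G) ≤ T) IsPGroup.of_bot
  have hidx : ¬ p ∣ P.relIndex Ms := by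
    rw [← Subgroup.relIndex_mul_relIndex P T Ms hP.1 hT]
    intro hd
    rcases (Nat.Prime.dvd_mul hpp).1 hd with h | h
    · exact hP.2.2 h
    · exact hpN (h.trans (relIndex_dvd_card_of_sup_eq hN hsup))
  obtain ⟨a, haMs, ha⟩ :=
    Cfsg.Agent.Helper84.exists_conj_le_of_relIndex Ms P A (hP.1.trans hT) hP.2.1 hidx hAMs hA
  refine ⟨a, haMs, ?_⟩
  intro x hx
  have h1 := ha _ (mem_cj.1 hx)
  have e : a * (a⁻¹ * x * a) * a⁻¹ = x := by group
  rw [e] at h1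
  exact hP.1 h1

omit [Finite G] in
/-- conjugates of elementary abelian subgroups are elementary abelian -/
theorem isElementaryAbelian_cj {p : ℕ} {A : Subgroup G} (hAe : Cfsg.IsElementaryAbelian p A) (l : G) :
    Cfsg.IsElementaryAbelian p (cj l A) := by
  refine ⟨⟨⟨?_⟩⟩, ?_⟩
  · rintro ⟨a, ha⟩ ⟨b, hb⟩
    apply Subtype.ext
    have ha' := mem_cj.1 ha
    have hb' := mem_cj.1 hb
    have hc : (l⁻¹ * a * l) * (l⁻¹ * b * l) = (l⁻¹ * b * l) * (l⁻¹ * a * l) := by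
      have := hAe.1.is_comm.comm ⟨_, ha'⟩ ⟨_, hb'⟩
      exact congrArg Subtype.val this
    have e1 : a * b = l * ((l⁻¹ * a * l) * (l⁻¹ * b * l)) * l⁻¹ := by group
    have e2 : b * a = l * ((l⁻¹ * b * l) * (l⁻¹ * a * l)) * l⁻¹ := by group
    show a * b = b * a
    rw [e1, e2, hc]
  · intro a ha
    have ha' := hAe.2 _ (mem_cj.1 ha)
    have h : l⁻¹ * a ^ p * l = 1 := by
      rwa [show l⁻¹ * a * l = l⁻¹ * a * (l⁻¹)⁻¹ by rw [inv_inv], conj_pow, inv_inv] at ha'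
    have e : a ^ p = l * (l⁻¹ * a ^ p * l) * l⁻¹ := by group
    rw [e, h]; group

/-! ### the hypotheses -/

/-- parts (d1), (e3) (factorization only), (e2) of B-G Lemma 12.17, for a fixed maximal subgroup
`M` -/
def Hyp1217 (M : Subgroup G) : Prop :=
  ∀ (q : ℕ) [Fact q.Prime] (X S Ms : Subgroup G), q ∈ Cfsg.sigma M → IsPGroup q ↥X → X ≠ ⊥ →
    X ≤ M → IsCoatom Ms → Ms ≠ M → Subgroup.normalizer (X : Set G) ≤ Ms →
    IsSylowIn q S (M ⊓ Ms) → X ≤ S →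
    (q ∈ Cfsg.sigma Ms → Cfsg.piCoreOf (Cfsg.beta Ms) Ms ⊔ (M ⊓ Ms) = Ms) ∧
    (q ∉ Cfsg.sigma Ms → Cfsg.sigmaCore Ms ⊔ (M ⊓ Ms) = Ms ∧
      ∀ r : ℕ, r.Prime → r ∣ Nat.card ↥M → r ∈ Cfsg.sigma Ms → r ∈ Cfsg.beta Ms)

/-- part (e) of B-G Theorem 12.5 (statement S1417) for `M` and `p` -/
def Hyp1417e (M : Subgroup G) (p : ℕ) : Prop :=
  p ∈ Cfsg.tau2 M → ∀ A L : Subgroup G, A ≤ M → Cfsg.IsElementaryAbelian p A →
    Nat.card ↥A = p ^ 2 → IsCoatom L → L ≠ M → A ≤ L → Cfsg.sigmaCore M ⊓ L = ⊥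

/-! ### the core of 12.18(a) -/

/-- the primes of `O_π(X)` lie in `π` -/
theorem not_dvd_card_piCoreOf {π : Set ℕ} {p : ℕ} (hp : p.Prime) (hpπ : p ∉ π) (X : Subgroup G) :
    ¬ p ∣ Nat.card ↥(Cfsg.piCoreOf π X) :=
  fun h => hpπ (Cfsg.Agent.Helper31.piCoreOf_primes π X p hp h)

theorem core_a (hG : Cfsg.IsMinSimpleOddOrder G) (hU : UniquenessThm G) {M : Subgroup G}
    (hM : IsCoatom M) (h17 : Hyp1217 M) {p : ℕ} [Fact p.Prime] (h1417 : Hyp1417e M p)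
    (hpM : p ∣ Nat.card ↥M) (hpσ : p ∉ Cfsg.sigma M) (hideal : ¬ Cfsg.IsIdealPrime p G)
    {H : Subgroup G} (hH : IsCoatom H) (hHM : H ≠ M)
    {q : ℕ} [Fact q.Prime] (hq : q ∈ Cfsg.sigma M) {X : Subgroup G} (hXq : IsPGroup q ↥X)
    (hX1 : X ≠ ⊥) (hXM : X ≤ M) (hXH : X ≤ H) {A : Subgroup G} (hAH : A ≤ H)
    (hAX : A ≤ Subgroup.normalizer (X : Set G)) (hAe : Cfsg.IsElementaryAbelian p A)
    (hA2 : Nat.card ↥A = p ^ 2) : False := by
  have hpp : p.Prime := Fact.out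
  have : IsSimpleGroup G := hG.2.1
  have hXσ : X ≤ Cfsg.sigmaCore M := le_sigmaCore_of_isPGroup hG hU hM hq hXq hXM
  have hAp : IsPGroup p ↥A := isPGroup_of_isElementaryAbelian hAe
  -- an elementary abelian subgroup of order `p ^ 2` of `M` inside another maximal subgroup
  -- containing `X` gives a contradiction
  have key : ∀ B L : Subgroup G, B ≤ M → Cfsg.IsElementaryAbelian p B → Nat.card ↥B = p ^ 2 →
      IsCoatom L → L ≠ M → B ≤ L → X ≤ L → False := by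
    intro B L hBM hBe hB2 hL hLM hBL hXL
    have hτ : p ∈ Cfsg.tau2 M := by
      refine ⟨hpp, hpσ, ?_, ?_⟩
      · by_contra h
        exact hpσ (alpha_subset_sigma hG hU hM ⟨hpp, h⟩)
      · apply (Cfsg.Agent.Helper23.not_pRankLE_subgroup_iff p 1 M).2
        refine ⟨B, hBM, hBe, ?_⟩
        rw [hB2, pow_one]
        nlinarith [hpp.one_lt]
    have h1 := h1417 hτ B L hBM hBe hB2 hL hLM hBL
    apply hX1
    rw [eq_bot_iff, ← h1]
    exact le_inf hXσ hXL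
  have hcard_cj : ∀ l : G, Nat.card ↥(cj l A) = p ^ 2 := fun l => by rw [card_cj, hA2]
  have hea_cj : ∀ l : G, Cfsg.IsElementaryAbelian p (cj l A) := fun l => isElementaryAbelian_cj hAe l
  by_cases huniq : ∀ L : Subgroup G, IsCoatom L → Subgroup.normalizer (X : Set G) ≤ L → L = M
  · -- `M` is the only maximal subgroup over `N_G(X)`
    have hNtop : Subgroup.normalizer (X : Set G) ≠ ⊤ :=
      Cfsg.Agent.Helper31.bgt_normalizer_ne_top_of_simple hX1 (isPGroup_ne_top hG hXq)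
    obtain ⟨L, hL, hNL⟩ := (eq_top_or_exists_le_coatom _).resolve_left hNtop
    have hLM := huniq L hL hNL
    exact key A H (hAX.trans (hLM ▸ hNL)) hAe hA2 hH hHM hAH hXH
  · push Not at huniq
    obtain ⟨Ms, hMs, hNMs, hMsM⟩ := huniq
    have hXMs : X ≤ Ms := Subgroup.le_normalizer.trans hNMs
    have hAMs : A ≤ Ms := hAX.trans hNMs
    obtain ⟨S, hXS, hS⟩ := exists_isSylowIn_ge (le_inf hXM hXMs) hXq
    obtain ⟨hd, he⟩ := h17 q X S Ms hq hXq hX1 hXM hMs hMsM hNMs hS hXS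
    have hpβ : p ∉ Cfsg.beta Ms := fun h => hideal h.2
    -- some `Ms`-conjugate of `A` lies in `M`
    obtain ⟨l, hl, hlA⟩ : ∃ l ∈ Ms, cj l A ≤ M ⊓ Ms := by
      by_cases hqσ : q ∈ Cfsg.sigma Ms
      · exact exists_cj_le_of_sup_eq (Cfsg.Agent.Helper31.le_normalizer_piCoreOf _ Ms) (hd hqσ)
          (not_dvd_card_piCoreOf hpp hpβ Ms) hAMs hAp
      · obtain ⟨hsup, he2⟩ := he hqσ
        have hpσMs : p ∉ Cfsg.sigma Ms := fun h => hpβ (he2 p hpp hpM h)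
        exact exists_cj_le_of_sup_eq (le_normalizer_sigmaCore Ms) hsup
          (not_dvd_card_piCoreOf hpp hpσMs Ms) hAMs hAp
    have hlAMs : cj l A ≤ Ms := hlA.trans inf_le_right
    exact key (cj l A) Ms (hlA.trans inf_le_left) (hea_cj l) (hcard_cj l) hMs hMsM hlAMs hXMs

/-- an elementary abelian `p`-subgroup of order `> p` contains one of order `p ^ 2` -/
theorem exists_sq_le {p : ℕ} [hp : Fact p.Prime] {A : Subgroup G} (hAe : Cfsg.IsElementaryAbelian p A)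
    (hlt : p < Nat.card ↥A) :
    ∃ A₀ : Subgroup G, A₀ ≤ A ∧ Cfsg.IsElementaryAbelian p A₀ ∧ Nat.card ↥A₀ = p ^ 2 := by
  have hAp : IsPGroup p ↥A := isPGroup_of_isElementaryAbelian hAe
  have hle : p ^ 2 ≤ Nat.card ↥A := by
    obtain ⟨k, hk⟩ := IsPGroup.iff_card.1 hAp
    rw [hk] at hlt ⊢
    have hk2 : 2 ≤ k := by
      by_contra h
      push Not at h
      have : p ^ k ≤ p ^ 1 := Nat.pow_le_pow_right hp.out.pos (by omega)
      rw [pow_one] at this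
      omega
    exact Nat.pow_le_pow_right hp.out.pos hk2
  obtain ⟨K, hK⟩ := Sylow.exists_subgroup_card_pow_prime_of_le_card hp.out hAp hle
  refine ⟨K.map A.subtype, Subgroup.map_subtype_le _, ?_, ?_⟩
  · exact Cfsg.Agent.Lib.isElementaryAbelian_mono hAe (Subgroup.map_subtype_le _)
  · rw [← hK]
    exact Subgroup.card_map_of_injective A.subtype_injective

/-- **B-G Lemma 12.18(a)** (second half of 12.18): `r_p(N_H(Y)) ≤ 1`. -/
theorem lemma_12_18a (hG : Cfsg.IsMinSimpleOddOrder G) (hU : UniquenessThm G) {M : Subgroup G}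
    (hM : IsCoatom M) (h17 : Hyp1217 M) {p : ℕ} [Fact p.Prime] (h1417 : Hyp1417e M p)
    (hpM : p ∣ Nat.card ↥M) (hpσ : p ∉ Cfsg.sigma M) (hideal : ¬ Cfsg.IsIdealPrime p G)
    {H : Subgroup G} (hH : IsCoatom H) (hconj : ∀ g : G, cj g M ≠ H)
    {Y : Subgroup G} (hY1 : Y ≠ ⊥)
    (hYσ : ∀ r : ℕ, r.Prime → r ∣ Nat.card ↥Y → r ∈ Cfsg.sigma M) (hYH : Y ≤ H) :
    Cfsg.PRankLE p 1 ↥(H ⊓ Subgroup.normalizer (Y : Set G)) := by
  have hpp : p.Prime := Fact.out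
  by_contra hcon
  obtain ⟨A₁, hA₁N, hA₁e, hA₁lt⟩ := (Cfsg.Agent.Helper23.not_pRankLE_subgroup_iff p 1 _).1 hcon
  rw [pow_one] at hA₁lt
  obtain ⟨A, hAA₁, hAe, hA2⟩ := exists_sq_le hA₁e hA₁lt
  have hAN : A ≤ H ⊓ Subgroup.normalizer (Y : Set G) := hAA₁.trans hA₁N
  have hAp : IsPGroup p ↥A := isPGroup_of_isElementaryAbelian hAe
  -- a prime divisor `q` of `|Y|` and an `A`-invariant Sylow `q`-subgroup `X` of `Y`
  have hYcard : Nat.card ↥Y ≠ 1 := fun h => hY1 (Subgroup.card_eq_one.1 h)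
  obtain ⟨q, hqp, hqY⟩ := Nat.exists_prime_and_dvd hYcard
  have : Fact q.Prime := ⟨hqp⟩
  have hq : q ∈ Cfsg.sigma M := hYσ q hqp hqY
  have hcop : (Nat.card ↥A).Coprime (Nat.card ↥Y) := by
    rw [hA2]
    apply Nat.Coprime.pow_left
    rw [Nat.Prime.coprime_iff_not_dvd hpp]
    exact fun h => hpσ (hYσ p hpp h)
  have hAsolv : Group.IsSolvable ↥A := by
    have := hAp.isNilpotent
    infer_instance
  obtain ⟨P, hP⟩ := Cfsg.Agent.Helper1.exists_invariant_sylow A Y (hAN.trans inf_le_right) hcop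
    (Or.inl hAsolv) q
  have hXq : IsPGroup q ↥((P : Subgroup ↥Y).map Y.subtype) := P.isPGroup'.map _
  have hXY : (P : Subgroup ↥Y).map Y.subtype ≤ Y := Subgroup.map_subtype_le _
  have hX1 : (P : Subgroup ↥Y).map Y.subtype ≠ ⊥ := by
    intro h
    have h1 : Nat.card ↥((P : Subgroup ↥Y).map Y.subtype) = 1 := by rw [h, Subgroup.card_bot]
    rw [Subgroup.card_map_of_injective Y.subtype_injective] at h1
    have h2 : q ∣ Nat.card ↥(P : Subgroup ↥Y) := by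
      rw [P.card_eq_multiplicity]
      exact dvd_pow_self q (ne_of_gt (hqp.factorization_pos_of_dvd Nat.card_pos.ne' hqY))
    rw [h1] at h2
    exact hqp.one_lt.ne' (Nat.dvd_one.1 h2)
  -- conjugate `X` into `M`
  obtain ⟨Q, hQM, -, hQtop, -⟩ := exists_sylow_of_mem_sigma hq
  obtain ⟨a, -, ha⟩ := Cfsg.Agent.Helper84.exists_conj_le_of_relIndex ⊤ Q
    ((P : Subgroup ↥Y).map Y.subtype) le_top hQtop.2.1 hQtop.2.2 le_top hXq
  have hXM : cj a ((P : Subgroup ↥Y).map Y.subtype) ≤ M := by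
    intro x hx
    have h1 := ha _ (mem_cj.1 hx)
    have e : a * (a⁻¹ * x * a) * a⁻¹ = x := by group
    rw [e] at h1
    exact hQM.1 h1
  have hHM : cj a H ≠ M := by
    intro h
    apply hconj a⁻¹
    rw [← h, cj_inv_cj]
  refine core_a hG hU hM h17 h1417 hpM hpσ hideal (isCoatom_cj hH a) hHM hq (isPGroup_cj hXq)
    (cj_ne_bot hX1) hXM (cj_mono (hXY.trans hYH)) (cj_mono (hAN.trans inf_le_left)) ?_
    (isElementaryAbelian_cj hAe a) (by rw [card_cj, hA2])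
  rw [normalizer_cj]
  exact cj_mono hP

/-! ### 12.18(b) -/

open scoped commutatorElement

omit [Finite G] in
/-- the commutator subgroup of `T` lies in `T` -/
theorem commutator_self_le (T : Subgroup G) : ⁅T, T⁆ ≤ T := by
  rw [Subgroup.commutator_le]
  intro a ha b hb
  rw [commutatorElement_def]
  exact T.mul_mem (T.mul_mem (T.mul_mem ha hb) (T.inv_mem ha)) (T.inv_mem hb)

omit [Finite G] in
/-- if `L = N₀ T` with `N₀` normalized by `L` then `L' ≤ N₀ T'` -/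
theorem commutator_le_sup_of_sup_eq {N₀ T L : Subgroup G}
    (hN : L ≤ Subgroup.normalizer (N₀ : Set G)) (hsup : N₀ ⊔ T = L) :
    ⁅L, L⁆ ≤ N₀ ⊔ ⁅T, T⁆ := by
  have hT : T ≤ L := hsup ▸ le_sup_right
  have hTN : T ≤ Subgroup.normalizer (N₀ : Set G) := hT.trans hN
  have hdecomp : ∀ a ∈ L, ∃ n ∈ N₀, ∃ t ∈ T, a = n * t := by
    intro a ha
    have h1 : a ∈ ((N₀ ⊔ T : Subgroup G) : Set G) := by rw [hsup]; exact ha
    rw [Subgroup.coe_mul_of_right_le_normalizer_left N₀ T hTN] at h1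
    obtain ⟨n, hn, t, ht, rfl⟩ := h1
    exact ⟨n, hn, t, ht, rfl⟩
  have hconj : ∀ t ∈ T, ∀ n ∈ N₀, t * n * t⁻¹ ∈ N₀ := fun t ht n hn =>
    (Subgroup.mem_normalizer_iff.1 (hTN ht) n).1 hn
  rw [Subgroup.commutator_le]
  intro a ha b hb
  obtain ⟨n₁, hn₁, t₁, ht₁, rfl⟩ := hdecomp a ha
  obtain ⟨n₂, hn₂, t₂, ht₂, rfl⟩ := hdecomp b hb
  have e : ⁅n₁ * t₁, n₂ * t₂⁆ = n₁ * (t₁ * n₂ * t₁⁻¹) *
      ((t₁ * t₂ * t₁⁻¹) * n₁⁻¹ * (t₁ * t₂ * t₁⁻¹)⁻¹) *
      (⁅t₁, t₂⁆ * n₂⁻¹ * ⁅t₁, t₂⁆⁻¹) * ⁅t₁, t₂⁆ := by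
    simp only [commutatorElement_def]; group
  rw [e]
  have hc : ⁅t₁, t₂⁆ ∈ T := by
    rw [commutatorElement_def]
    exact T.mul_mem (T.mul_mem (T.mul_mem ht₁ ht₂) (T.inv_mem ht₁)) (T.inv_mem ht₂)
  refine Subgroup.mul_mem _ (Subgroup.mem_sup_left ?_)
    (Subgroup.mem_sup_right (Subgroup.commutator_mem_commutator ht₁ ht₂))
  exact N₀.mul_mem (N₀.mul_mem (N₀.mul_mem hn₁ (hconj t₁ ht₁ n₂ hn₂))
    (hconj _ (T.mul_mem (T.mul_mem ht₁ ht₂) (T.inv_mem ht₁)) _ (N₀.inv_mem hn₁)))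
    (hconj _ hc _ (N₀.inv_mem hn₂))

/-- if `L = N₀ T`, `N₀` normalized by `L`, `p ∤ |N₀|` and `p ∣ |L'|`, then `p ∣ |T'|` -/
theorem dvd_card_commutator_of_sup_eq {p : ℕ} (hp : p.Prime) {N₀ T L : Subgroup G}
    (hN : L ≤ Subgroup.normalizer (N₀ : Set G)) (hsup : N₀ ⊔ T = L)
    (hpN : ¬ p ∣ Nat.card ↥N₀) (h : p ∣ Nat.card ↥⁅L, L⁆) : p ∣ Nat.card ↥⁅T, T⁆ := by
  have hT : T ≤ L := hsup ▸ le_sup_right
  have h1 := commutator_le_sup_of_sup_eq hN hsup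
  have h2 : p ∣ Nat.card ↥(N₀ ⊔ ⁅T, T⁆) := h.trans (Subgroup.card_dvd_of_le h1)
  have hTT : ⁅T, T⁆ ≤ Subgroup.normalizer (N₀ : Set G) :=
    (commutator_self_le T).trans (hT.trans hN)
  have h3 := Cfsg.Agent.Helper31.card_sup_mul_card_inf' ⁅T, T⁆ N₀ hTT
  rw [sup_comm] at h3
  have h4 : p ∣ Nat.card ↥⁅T, T⁆ * Nat.card ↥N₀ := by
    rw [← h3]
    exact h2.mul_right _
  rcases (Nat.Prime.dvd_mul hp).1 h4 with h5 | h5
  · exact h5
  · exact absurd h5 hpN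

/-- Frattini argument, relative form: `Y ≤ N ≤ N_G(Y)`, `X` a Sylow `q`-subgroup of `Y`; then
`N = Y N_N(X)` -/
theorem frattini_sup_eq {q : ℕ} [Fact q.Prime] {Y N X : Subgroup G} (hYN : Y ≤ N)
    (hNY : N ≤ Subgroup.normalizer (Y : Set G)) (hX : IsSylowIn q X Y) :
    Y ⊔ (N ⊓ Subgroup.normalizer (X : Set G)) = N := by
  apply le_antisymm (sup_le hYN inf_le_left)
  intro n hn
  have h1 : IsSylowIn q (cj n X) Y := by
    have := hX.cj n
    rwa [cj_eq_of_mem_normalizer (hNY hn)] at this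
  obtain ⟨y, hyY, hy⟩ := hX.exists_cj_eq h1
  rw [← cj_mul] at hy
  have h2 : y * n ∈ N ⊓ Subgroup.normalizer (X : Set G) :=
    ⟨N.mul_mem (hYN hyY) hn, mem_normalizer_of_cj_eq hy⟩
  have e : n = y⁻¹ * (y * n) := by group
  rw [e]
  exact Subgroup.mul_mem _ (Subgroup.mem_sup_left (Y.inv_mem hyY)) (Subgroup.mem_sup_right h2)

/-- the core of 12.18(b): for a nontrivial `q`-subgroup `X` of `M`, `q ∈ σ(M)`, the prime `p`
does not divide `|N_G(X)'|` -/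
theorem core_b (hG : Cfsg.IsMinSimpleOddOrder G) {M : Subgroup G}
    (h17 : Hyp1217 M) {p : ℕ} [Fact p.Prime]
    (hpM : p ∣ Nat.card ↥M) (hideal : ¬ Cfsg.IsIdealPrime p G)
    (hpM' : ¬ p ∣ Nat.card ↥⁅M, M⁆)
    {q : ℕ} [Fact q.Prime] (hq : q ∈ Cfsg.sigma M) {X : Subgroup G} (hXq : IsPGroup q ↥X)
    (hX1 : X ≠ ⊥) (hXM : X ≤ M) :
    ¬ p ∣ Nat.card ↥⁅Subgroup.normalizer (X : Set G), Subgroup.normalizer (X : Set G)⁆ := by
  have hpp : p.Prime := Fact.out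
  have : IsSimpleGroup G := hG.2.1
  intro hdvd
  by_cases huniq : ∀ L : Subgroup G, IsCoatom L → Subgroup.normalizer (X : Set G) ≤ L → L = M
  · have hNtop : Subgroup.normalizer (X : Set G) ≠ ⊤ :=
      Cfsg.Agent.Helper31.bgt_normalizer_ne_top_of_simple hX1 (isPGroup_ne_top hG hXq)
    obtain ⟨L, hL, hNL⟩ := (eq_top_or_exists_le_coatom _).resolve_left hNtop
    have hLM := huniq L hL hNL
    have hNM : Subgroup.normalizer (X : Set G) ≤ M := hLM ▸ hNL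
    exact hpM' (hdvd.trans (Subgroup.card_dvd_of_le (Subgroup.commutator_mono hNM hNM)))
  · push Not at huniq
    obtain ⟨Ms, hMs, hNMs, hMsM⟩ := huniq
    have hXMs : X ≤ Ms := Subgroup.le_normalizer.trans hNMs
    obtain ⟨S, hXS, hS⟩ := exists_isSylowIn_ge (le_inf hXM hXMs) hXq
    obtain ⟨hd, he⟩ := h17 q X S Ms hq hXq hX1 hXM hMs hMsM hNMs hS hXS
    have hpβ : p ∉ Cfsg.beta Ms := fun h => hideal h.2
    have hMs' : p ∣ Nat.card ↥⁅Ms, Ms⁆ :=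
      hdvd.trans (Subgroup.card_dvd_of_le (Subgroup.commutator_mono hNMs hNMs))
    have hT' : p ∣ Nat.card ↥⁅M ⊓ Ms, M ⊓ Ms⁆ := by
      by_cases hqσ : q ∈ Cfsg.sigma Ms
      · exact dvd_card_commutator_of_sup_eq hpp (Cfsg.Agent.Helper31.le_normalizer_piCoreOf _ Ms)
          (hd hqσ) (not_dvd_card_piCoreOf hpp hpβ Ms) hMs'
      · obtain ⟨hsup, he2⟩ := he hqσ
        have hpσMs : p ∉ Cfsg.sigma Ms := fun h => hpβ (he2 p hpp hpM h)
        exact dvd_card_commutator_of_sup_eq hpp (le_normalizer_sigmaCore Ms) hsup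
          (not_dvd_card_piCoreOf hpp hpσMs Ms) hMs'
    exact hpM' (hT'.trans (Subgroup.card_dvd_of_le
      (Subgroup.commutator_mono inf_le_left inf_le_left)))

omit [Finite G] in
/-- conjugation commutes with commutator subgroups -/
theorem cj_commutator (a : G) (A B : Subgroup G) : cj a ⁅A, B⁆ = ⁅cj a A, cj a B⁆ :=
  Subgroup.map_commutator A B _

/-- **B-G Lemma 12.18(b)** (second half of 12.18): if moreover `p ∤ |M'|` (e.g. `p ∈ τ₁(M)`) then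
`p ∤ |N_H(Y)'|`. -/
theorem lemma_12_18b (hG : Cfsg.IsMinSimpleOddOrder G) {M : Subgroup G}
    (h17 : Hyp1217 M) {p : ℕ} [Fact p.Prime]
    (hpM : p ∣ Nat.card ↥M) (hpσ : p ∉ Cfsg.sigma M) (hideal : ¬ Cfsg.IsIdealPrime p G)
    (hpM' : ¬ p ∣ Nat.card ↥⁅M, M⁆)
    {H : Subgroup G} {Y : Subgroup G} (hY1 : Y ≠ ⊥)
    (hYσ : ∀ r : ℕ, r.Prime → r ∣ Nat.card ↥Y → r ∈ Cfsg.sigma M) (hYH : Y ≤ H) :
    ¬ p ∣ Nat.card ↥⁅H ⊓ Subgroup.normalizer (Y : Set G), H ⊓ Subgroup.normalizer (Y : Set G)⁆ := by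
  have hpp : p.Prime := Fact.out
  intro hdvd
  have hYcard : Nat.card ↥Y ≠ 1 := fun h => hY1 (Subgroup.card_eq_one.1 h)
  obtain ⟨q, hqp, hqY⟩ := Nat.exists_prime_and_dvd hYcard
  have : Fact q.Prime := ⟨hqp⟩
  have hq : q ∈ Cfsg.sigma M := hYσ q hqp hqY
  obtain ⟨X, -, hX⟩ := exists_isSylowIn_ge (p := q) (bot_le : (⊥ : Subgroup G) ≤ Y) IsPGroup.of_bot
  have hX1 : X ≠ ⊥ := by
    intro h
    apply hX.2.2
    rw [h, Subgroup.relIndex_bot_left]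
    exact hqY
  have hpY : ¬ p ∣ Nat.card ↥Y := fun h => hpσ (hYσ p hpp h)
  have hYN : Y ≤ H ⊓ Subgroup.normalizer (Y : Set G) := le_inf hYH Subgroup.le_normalizer
  have hfr := frattini_sup_eq hYN inf_le_right hX
  have h1 := dvd_card_commutator_of_sup_eq hpp inf_le_right hfr hpY hdvd
  have h2 : p ∣ Nat.card ↥⁅Subgroup.normalizer (X : Set G), Subgroup.normalizer (X : Set G)⁆ :=
    h1.trans (Subgroup.card_dvd_of_le (Subgroup.commutator_mono inf_le_right inf_le_right))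
  -- conjugate `X` into `M`
  obtain ⟨Q, hQM, -, hQtop, -⟩ := exists_sylow_of_mem_sigma hq
  obtain ⟨a, -, ha⟩ := Cfsg.Agent.Helper84.exists_conj_le_of_relIndex ⊤ Q X le_top hQtop.2.1
    hQtop.2.2 le_top hX.2.1
  have hXM : cj a X ≤ M := by
    intro x hx
    have h1 := ha _ (mem_cj.1 hx)
    have e : a * (a⁻¹ * x * a) * a⁻¹ = x := by group
    rw [e] at h1
    exact hQM.1 h1
  refine core_b hG h17 hpM hideal hpM' hq (isPGroup_cj hX.2.1) (cj_ne_bot hX1) hXM ?_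
  rw [normalizer_cj, ← cj_commutator, card_cj]
  exact h2

end Cfsg.Agent.Helper64.BG1218
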