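import Mathlib
import Cfsg.Prelude.Def_Transfer
import Cfsg.Agent.Helper78.PNilpotent
import Cfsg.Agent.Helper2.PComplement
import Cfsg.Agent.Helper54.PConstrained

/-!
# Basic API for `Cfsg.HasNormalPComplement`

Characterisation by a normal `p'`-subgroup of `p`-power index, and closure under surjective images,
isomorphisms, subgroups of subgroups, and extensions by a normal `p'`-subgroup.
-/

namespace Cfsg.Agent.Helper64

open Subgroup

section

variable {G : Type*} [Group G] {p : ℕ}

theorem hasNormalPComplement_iff_exists [Finite G] [hp : Fact p.Prime] :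
    Cfsg.HasNormalPComplement p G ↔
      ∃ N : Subgroup G, N.Normal ∧ (Nat.card N).Coprime p ∧ ∃ k : ℕ, N.index = p ^ k := by
  constructor
  · rintro ⟨P, N, hNn, hN⟩
    refine ⟨N, hNn, ?_, ?_⟩
    · rw [← hN.index_eq_card, Nat.coprime_comm, Nat.Prime.coprime_iff_not_dvd hp.out]
      exact P.not_dvd_index
    · rw [hN.symm.index_eq_card]
      exact IsPGroup.iff_card.mp P.2
  · rintro ⟨N, hNn, hNc, k, hk⟩
    obtain ⟨P⟩ : Nonempty (Sylow p G) := inferInstance
    refine ⟨P, N, hNn, ?_⟩
    have hG : Nat.card G = Nat.card N * p ^ k := by rw [← hk, Subgroup.card_mul_index]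
    have hPcard : Nat.card (P : Subgroup G) = p ^ k := by
      rw [P.card_eq_multiplicity, hG,
        Nat.factorization_mul (Nat.card_pos.ne') (pow_ne_zero _ hp.out.ne_zero)]
      simp only [Finsupp.coe_add, Pi.add_apply]
      rw [Nat.factorization_eq_zero_of_not_dvd
        ((Nat.Prime.coprime_iff_not_dvd hp.out).mp hNc.symm), hp.out.factorization_pow]
      simp
    apply Subgroup.isComplement'_of_coprime
    · rw [hPcard, hG]
    · rw [hPcard]; exact Nat.Coprime.pow_right _ hNc

theorem hasNormalPComplement_of_isPGroup [Finite G] [Fact p.Prime] (h : IsPGroup p G) :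
    Cfsg.HasNormalPComplement p G := by
  rw [hasNormalPComplement_iff_exists]
  refine ⟨⊥, inferInstance, by simp, ?_⟩
  rw [Subgroup.index_bot]
  exact IsPGroup.iff_card.mp h

theorem hasNormalPComplement_of_surjective [Finite G] [hp : Fact p.Prime] {H : Type*} [Group H]
    (f : G →* H) (hf : Function.Surjective f) (h : Cfsg.HasNormalPComplement p G) :
    Cfsg.HasNormalPComplement p H := by
  have : Finite H := Finite.of_surjective f hf
  rw [hasNormalPComplement_iff_exists] at h ⊢
  obtain ⟨N, hNn, hNc, k, hk⟩ := h
  refine ⟨N.map f, hNn.map f hf, ?_, ?_⟩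
  · exact Nat.Coprime.coprime_dvd_left (Subgroup.card_map_dvd N f) hNc
  · have := Subgroup.index_map_dvd N hf
    rw [hk] at this
    exact ((Nat.dvd_prime_pow hp.out).mp this).imp fun _ h => h.2

theorem hasNormalPComplement_of_mulEquiv [Finite G] [Fact p.Prime] {H : Type*} [Group H]
    (e : G ≃* H) (h : Cfsg.HasNormalPComplement p G) : Cfsg.HasNormalPComplement p H :=
  hasNormalPComplement_of_surjective e.toMonoidHom e.surjective h

/-- extension by a normal `p'`-subgroup -/
theorem hasNormalPComplement_of_quotient [Finite G] [hp : Fact p.Prime] (K : Subgroup G) [K.Normal]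
    (hK : (Nat.card K).Coprime p) (h : Cfsg.HasNormalPComplement p (G ⧸ K)) :
    Cfsg.HasNormalPComplement p G := by
  rw [hasNormalPComplement_iff_exists] at h ⊢
  obtain ⟨N, hNn, hNc, k, hk⟩ := h
  refine ⟨N.comap (QuotientGroup.mk' K), hNn.comap _, ?_, k, ?_⟩
  · exact Cfsg.Agent.Helper54.card_comap_coprime (QuotientGroup.mk' K)
      (by rw [QuotientGroup.ker_mk']; exact hK) N hNc
  · rw [Subgroup.index_comap_of_surjective N (QuotientGroup.mk'_surjective K), hk]

end

section sub

universe u

variable {G : Type u} [Group G] [Finite G] {p : ℕ} [Fact p.Prime]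

theorem hasNormalPComplement_mono {K L : Subgroup G} (hKL : K ≤ L)
    (h : Cfsg.HasNormalPComplement p L) : Cfsg.HasNormalPComplement p K := by
  have h1 := Cfsg.Agent.Helper78.hasNormalPComplement_subgroup h (K.subgroupOf L)
  exact hasNormalPComplement_of_mulEquiv (Subgroup.subgroupOfEquivOfLe hKL) h1

theorem hasNormalPComplement_of_top (h : Cfsg.HasNormalPComplement p (⊤ : Subgroup G)) :
    Cfsg.HasNormalPComplement p G :=
  hasNormalPComplement_of_mulEquiv Subgroup.topEquiv h

theorem hasNormalPComplement_map {H : Type u} [Group H] [Finite H] (f : G →* H) (K : Subgroup G)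
    (h : Cfsg.HasNormalPComplement p K) : Cfsg.HasNormalPComplement p (K.map f) :=
  hasNormalPComplement_of_surjective (f.subgroupMap K) (f.subgroupMap_surjective K) h

omit [Finite G] in
theorem hasNormalPComplement_of_map_injective {H : Type u} [Group H] [Finite H] (f : G →* H)
    (hf : Function.Injective f) (K : Subgroup G) (h : Cfsg.HasNormalPComplement p (K.map f)) :
    Cfsg.HasNormalPComplement p K :=
  hasNormalPComplement_of_mulEquiv (K.equivMapOfInjective f hf).symm h

end sub

end Cfsg.Agent.Helper64
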