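import Mathlib

set_option autoImplicit false

namespace Cfsg.Agent.Helper64

/-- `|T : R ∩ T| = |RT : R|` for `T` normal. -/
lemma relIndex_eq_relIndex_sup_of_normal {G : Type*} [Group G] [Finite G] (R T : Subgroup G) [T.Normal] :
    R.relIndex T = R.relIndex (R ⊔ T) := by
  have e1 : Nat.card (R ⊓ T : Subgroup G) * (R ⊓ T).relIndex T = Nat.card T := by
    have := Subgroup.relIndex_mul_relIndex (H := ⊥) (K := R ⊓ T) (L := T) bot_le inf_le_right
    simpa using this
  have e2 : Nat.card (R ⊓ T : Subgroup G) * (R ⊓ T).relIndex R = Nat.card R := by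
    have := Subgroup.relIndex_mul_relIndex (H := ⊥) (K := R ⊓ T) (L := R) bot_le inf_le_left
    simpa using this
  have e3 : Nat.card T * T.relIndex (R ⊔ T) = Nat.card (R ⊔ T : Subgroup G) := by
    have := Subgroup.relIndex_mul_relIndex (H := ⊥) (K := T) (L := R ⊔ T) bot_le le_sup_right
    simpa using this
  have e4 : Nat.card R * R.relIndex (R ⊔ T) = Nat.card (R ⊔ T : Subgroup G) := by
    have := Subgroup.relIndex_mul_relIndex (H := ⊥) (K := R) (L := R ⊔ T) bot_le le_sup_left
    simpa using this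
  rw [Subgroup.inf_relIndex_left] at e2
  rw [Subgroup.relIndex_sup_right] at e3
  rw [Subgroup.inf_relIndex_right] at e1
  have hi : T.relIndex R ≠ 0 := (Subgroup.FiniteIndex.index_ne_zero (H := T.subgroupOf R))
  have ha : Nat.card (R ⊓ T : Subgroup G) ≠ 0 := Nat.card_pos.ne'
  have : Nat.card (R ⊓ T : Subgroup G) * R.relIndex T * T.relIndex R
      = Nat.card (R ⊓ T : Subgroup G) * R.relIndex (R ⊔ T) * T.relIndex R := by
    rw [e1, e3, ← e4, ← e2]; ring
  have := Nat.eq_of_mul_eq_mul_right (Nat.pos_of_ne_zero hi) this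
  exact Nat.eq_of_mul_eq_mul_left (Nat.pos_of_ne_zero ha) this

/-- The intersection of a Sylow subgroup with a normal subgroup is a Sylow subgroup of it. -/
lemma exists_sylow_subgroupOf_normal {G : Type*} [Group G] [Finite G] {r : ℕ} [Fact r.Prime]
    (R : Sylow r G) (T : Subgroup G) [T.Normal] :
    ∃ Q : Sylow r T, (Q : Subgroup T) = (R : Subgroup G).subgroupOf T := by
  have hp : IsPGroup r ((R : Subgroup G).subgroupOf T) := R.2.comap_subtype
  have hidx : ¬ r ∣ ((R : Subgroup G).subgroupOf T).index := by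
    change ¬ r ∣ (R : Subgroup G).relIndex T
    rw [relIndex_eq_relIndex_sup_of_normal]
    intro h
    have h2 : (R : Subgroup G).relIndex ((R : Subgroup G) ⊔ T) ∣ (R : Subgroup G).index :=
      Subgroup.relIndex_dvd_index_of_le le_sup_left
    exact R.not_dvd_index (dvd_trans h h2)
  exact ⟨hp.toSylow hidx, rfl⟩

/-- Frattini argument for `R ⊓ T` with `R` Sylow in `G` and `T` normal. -/
lemma normalizer_inf_sup_eq_top {G : Type*} [Group G] [Finite G] {r : ℕ} [Fact r.Prime]
    (R : Sylow r G) (T : Subgroup G) [T.Normal] :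
    Subgroup.normalizer (((R : Subgroup G) ⊓ T : Subgroup G) : Set G) ⊔ T = ⊤ := by
  obtain ⟨Q, hQ⟩ := exists_sylow_subgroupOf_normal R T
  have := Sylow.normalizer_sup_eq_top Q
  rwa [hQ, Subgroup.subgroupOf_map_subtype] at this

/-- A finite simple `p`-group is commutative. -/
lemma isMulCommutative_of_isSimpleGroup_of_isPGroup {T : Type*} [Group T] [Finite T] {p : ℕ}
    [Fact p.Prime] (hs : IsSimpleGroup T) (hp : IsPGroup p T) : IsMulCommutative T := by
  have : Nontrivial T := hs.toNontrivial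
  have hc : Nontrivial (Subgroup.center T) := hp.center_nontrivial
  have hcen : Subgroup.center T = ⊤ := by
    rcases (inferInstance : (Subgroup.center T).Normal).eq_bot_or_eq_top with h | h
    · exfalso
      rw [Subgroup.nontrivial_iff_ne_bot] at hc
      exact hc h
    · exact h
  rw [isMulCommutative_iff]
  intro a b
  have : a ∈ Subgroup.center T := by rw [hcen]; trivial
  exact ((Subgroup.mem_center_iff.mp this) b).symm

/-- In an almost simple setting: a normal subgroup of `G` meeting the simple normal subgroup `T`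
nontrivially contains `T`. -/
lemma le_of_normal_of_inf_ne_bot {G : Type*} [Group G] (T : Subgroup G) [T.Normal]
    (hT : IsSimpleGroup T) (X : Subgroup G) [X.Normal] (h : X ⊓ T ≠ ⊥) : T ≤ X := by
  have hn : (X.subgroupOf T).Normal := inferInstance
  rcases hn.eq_bot_or_eq_top with h1 | h1
  · exfalso
    apply h
    rw [Subgroup.subgroupOf_eq_bot] at h1
    exact disjoint_iff.mp h1
  · rw [Subgroup.subgroupOf_eq_top] at h1
    exact h1

/-- In the almost simple setting, a `p`-subgroup meeting `T` nontrivially is not normal. -/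
lemma not_normal_of_isPGroup_of_inf_ne_bot {G : Type*} [Group G] [Finite G] (T : Subgroup G) [T.Normal]
    (hT : IsSimpleGroup T) (hna : ¬ IsMulCommutative T) {p : ℕ} [Fact p.Prime]
    (X : Subgroup G) (hX : IsPGroup p X) (h : X ⊓ T ≠ ⊥) : ¬ X.Normal := by
  intro hn
  have hle : T ≤ X := le_of_normal_of_inf_ne_bot T hT X h
  exact hna (isMulCommutative_of_isSimpleGroup_of_isPGroup hT (hX.to_le hle))

/-- Every proper subgroup of a finite group lies in a maximal subgroup. -/
lemma exists_coatom_ge {G : Type*} [Group G] [Finite G] (H : Subgroup G) (h : H ≠ ⊤) :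
    ∃ M : Subgroup G, IsCoatom M ∧ H ≤ M := by
  rcases IsCoatomic.eq_top_or_exists_le_coatom H with h1 | h1
  · exact absurd h1 h
  · exact h1

/-- Conjugates of coatoms are coatoms. -/
lemma isCoatom_map_conj {G : Type*} [Group G] (M : Subgroup G) (hM : IsCoatom M) (g : G) :
    IsCoatom (M.map (MulAut.conj g).toMonoidHom) := by
  have := (OrderIso.isCoatom_iff (MulEquiv.mapSubgroup (MulAut.conj g)) M).mpr hM
  exact this

/-- A `p`-subgroup is contained in a conjugate of any subgroup of index prime to `p`. -/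
lemma exists_le_map_conj_of_not_dvd_index {G : Type*} [Group G] [Finite G] {r : ℕ} [Fact r.Prime]
    (R : Subgroup G) (hR : IsPGroup r R) (M : Subgroup G) (hM : ¬ r ∣ M.index) :
    ∃ g : G, R ≤ M.map (MulAut.conj g).toMonoidHom := by
  have hcard : ¬ r ∣ Nat.card (G ⧸ M) := by rwa [← Subgroup.index_eq_card]
  obtain ⟨q, hq⟩ := hR.nonempty_fixed_point_of_prime_not_dvd_card (G ⧸ M) hcard
  obtain ⟨g, rfl⟩ := QuotientGroup.mk_surjective q
  refine ⟨g, fun x hx => ?_⟩
  rw [MulAction.mem_fixedPoints] at hq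
  have h1 := hq ⟨x⁻¹, R.inv_mem hx⟩
  have h2 : ((x⁻¹ * g : G) : G ⧸ M) = (g : G ⧸ M) := h1
  rw [QuotientGroup.eq] at h2
  refine ⟨g⁻¹ * x * g, ?_, ?_⟩
  · have : (x⁻¹ * g)⁻¹ * g = g⁻¹ * x * g := by simp [mul_assoc]
    rwa [this] at h2
  · simp [mul_assoc]


lemma mem_map_conj {G : Type*} [Group G] (M : Subgroup G) (g x : G) :
    x ∈ M.map (MulAut.conj g).toMonoidHom ↔ g⁻¹ * x * g ∈ M := by
  constructor
  · rintro ⟨y, hy, rfl⟩
    simpa [mul_assoc] using hy
  · intro h
    exact ⟨g⁻¹ * x * g, h, by simp [mul_assoc]⟩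

lemma map_conj_eq_self_of_mem {G : Type*} [Group G] (M : Subgroup G) (g : G) (hg : g ∈ M) :
    M.map (MulAut.conj g).toMonoidHom = M := by
  ext x
  rw [mem_map_conj]
  constructor
  · intro h
    have := M.mul_mem (M.mul_mem hg h) (M.inv_mem hg)
    simpa [mul_assoc] using this
  · intro h
    exact M.mul_mem (M.mul_mem (M.inv_mem hg) h) hg

/-- If two Sylow subgroups `R` and `g⁻¹ R g` lie in `M ≥ N_G(R)`, then `g ∈ M`. -/
lemma mem_of_sylow_conj_le {G : Type*} [Group G] [Finite G] {r : ℕ} [Fact r.Prime]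
    (R : Sylow r G) (M : Subgroup G) (hNM : Subgroup.normalizer ((R : Subgroup G) : Set G) ≤ M)
    (g : G) (hg : ∀ x ∈ (R : Subgroup G), g⁻¹ * x * g ∈ M) : g ∈ M := by
  have hRM : (R : Subgroup G) ≤ M := Subgroup.le_normalizer.trans hNM
  have h2 : ((g⁻¹ • R : Sylow r G) : Subgroup G) ≤ M := by
    intro y hy
    rw [Sylow.coe_subgroup_smul, Subgroup.mem_pointwise_smul_iff_inv_smul_mem] at hy
    have := hg _ hy
    simpa [MulAut.smul_def, mul_assoc] using this
  obtain ⟨m, hm⟩ := MulAction.exists_smul_eq M ((g⁻¹ • R).subtype h2) (R.subtype hRM)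
  simp_rw [Sylow.smul_subtype, Subgroup.smul_def, smul_smul] at hm
  have hmem : (m : G) * g⁻¹ ∈ Subgroup.normalizer ((R : Subgroup G) : Set G) :=
    Sylow.smul_eq_iff_mem_normalizer.mp (Sylow.subtype_injective hm)
  have h3 : (m : G) * g⁻¹ ∈ M := hNM hmem
  have h4 : g⁻¹ ∈ M := by
    have := M.mul_mem (M.inv_mem m.2) h3
    simpa using this
  simpa using M.inv_mem h4

end Cfsg.Agent.Helper64
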