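import Mathlib
import Cfsg.Agent.Helper96.StC.Generic
import Cfsg.Agent.Helper96.StC.Roots
import Cfsg.Agent.Helper97.StCGenComm

/-!
# The Bruhat decomposition `D = U N U` in an abstract group with the Steinberg relations of
type `C`

Piece (B) of helper96's plan for S2092 (board #7280): port of helper75's
`Cfsg/Agent/Helper75/StNBruhat.lean` (type `A`) to type `C`.
-/

set_option autoImplicit false
set_option linter.unusedSectionVars false
set_option linter.unusedVariables false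

namespace Cfsg.Agent.Helper64.StCB

open Cfsg.Agent.Helper96.StN Cfsg.Agent.Helper96.StC

universe u v w

/-- two pairs with the same root are equal or "barred" -/
theorem rootVec_eq_cases {ι : Type w} [DecidableEq ι] {p q r s : ι ⊕ ι} (hpq : p ≠ q)
    (h : rootVec p q = rootVec r s) : (p = r ∧ q = s) ∨ (p = bar s ∧ q = bar r) := by
  rcases p with a | a <;> rcases q with b | b <;> rcases r with c | c <;> rcases s with d | d <;>
  · have h1 := congrFun h a
    have h2 := congrFun h b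
    have h3 := congrFun h c
    have h4 := congrFun h d
    simp only [rootVec, epsV, Pi.sub_apply, Pi.neg_apply, Pi.single_apply] at h1 h2 h3 h4
    simp only [bar_inl, bar_inr, Sum.inl.injEq, Sum.inr.injEq, reduceCtorEq, and_self, or_false,
      false_or, false_and, and_false]
    simp only [ne_eq, Sum.inl.injEq, Sum.inr.injEq, reduceCtorEq, not_false_eq_true] at hpq
    grind

section rank

variable {m : ℕ}

theorem exists_rk {r : ℕ} (hr : r < 2 * m) : ∃ k : Fin m ⊕ Fin m, rk k = r := by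
  by_cases h : r < m
  · exact ⟨Sum.inl ⟨r, h⟩, rfl⟩
  · refine ⟨Sum.inr ⟨2 * m - 1 - r, by omega⟩, ?_⟩
    simp only [rk]
    omega

theorem rk_eq_iff {p q : Fin m ⊕ Fin m} : rk p = rk q ↔ p = q := rk_injective.eq_iff

theorem eq_eq_rk (y z : Fin m ⊕ Fin m) : (y = z) = (rk y = rk z) := propext rk_eq_iff.symm

/-- the rank of the image under a simple reflection -/
theorem rk_reflPerm {k k' : Fin m ⊕ Fin m} (hk : rk k' = rk k + 1) (x : Fin m ⊕ Fin m) :
    rk (reflPerm k k' x) = if rk x = rk k then rk k + 1 else if rk x = rk k + 1 then rk k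
      else if rk x = 2 * m - 1 - rk k then 2 * m - 2 - rk k
      else if rk x = 2 * m - 2 - rk k then 2 * m - 1 - rk k else rk x := by
  have hkl := rk_lt k'
  have hxl := rk_lt x
  unfold reflPerm
  by_cases hl : k' = bar k
  · rw [if_pos hl]
    simp only [Equiv.swap_apply_def]
    split_ifs <;> (try simp only [eq_eq_rk, rk_bar] at *) <;> omega
  · rw [if_neg hl]
    simp only [Equiv.Perm.mul_apply, Equiv.swap_apply_def]
    split_ifs <;> (try simp only [eq_eq_rk, rk_bar] at *) <;> omega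

theorem reflPerm_left {k k' : Fin m ⊕ Fin m} (hk : rk k' = rk k + 1) : reflPerm k k' k = k' := by
  apply rk_injective
  rw [rk_reflPerm hk, if_pos rfl, hk]

theorem reflPerm_right {k k' : Fin m ⊕ Fin m} (hk : rk k' = rk k + 1) :
    reflPerm k k' k' = k := by
  apply rk_injective
  rw [rk_reflPerm hk, if_neg (by omega), if_pos hk]

theorem reflPerm_inv_left {k k' : Fin m ⊕ Fin m} (hk : rk k' = rk k + 1) :
    (reflPerm k k')⁻¹ k = k' := by
  rw [Equiv.Perm.inv_eq_iff_eq, reflPerm_right hk]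

theorem reflPerm_inv_right {k k' : Fin m ⊕ Fin m} (hk : rk k' = rk k + 1) :
    (reflPerm k k')⁻¹ k' = k := by
  rw [Equiv.Perm.inv_eq_iff_eq, reflPerm_left hk]

/-- a simple reflection permutes the positive pairs other than the simple root itself -/
theorem swap_adj_lt {k k' i j : Fin m ⊕ Fin m} (hk : rk k' = rk k + 1) (hij : rk i < rk j)
    (hne : ¬ (i = k ∧ j = k')) (hne' : ¬ (i = bar k' ∧ j = bar k)) :
    rk (reflPerm k k' i) < rk (reflPerm k k' j) ∧
      ¬ (reflPerm k k' i = k ∧ reflPerm k k' j = k') ∧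
      ¬ (reflPerm k k' i = bar k' ∧ reflPerm k k' j = bar k) := by
  have hi := rk_reflPerm hk i
  have hj := rk_reflPerm hk j
  have h1 := rk_lt k'
  have h2 := rk_lt i
  have h3 := rk_lt j
  simp only [eq_eq_rk, rk_bar] at hne hne' ⊢
  rw [hi, hj]
  split_ifs <;> omega

end rank

variable {K : Type u} [Field K] {D : Type v} [Group D] {m : ℕ}
  {X : Fin m ⊕ Fin m → Fin m ⊕ Fin m → K → D}

/-- conjugation by `g` maps `closure S` into itself if it does so on the generators -/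
theorem conj_mem_closure {S : Set D} (g : D)
    (h : ∀ s ∈ S, g * s * g⁻¹ ∈ Subgroup.closure S) :
    ∀ x ∈ Subgroup.closure S, g * x * g⁻¹ ∈ Subgroup.closure S := by
  intro x hx
  induction hx using Subgroup.closure_induction with
  | mem s hs => exact h s hs
  | one => simp
  | mul a b _ _ ha hb =>
    have e : g * (a * b) * g⁻¹ = (g * a * g⁻¹) * (g * b * g⁻¹) := by group
    rw [e]; exact mul_mem ha hb
  | inv a _ ha =>
    have e : g * a⁻¹ * g⁻¹ = (g * a * g⁻¹)⁻¹ := by group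
    rw [e]; exact inv_mem ha

/-- the subgroup generated by the positive root elements other than those of the root of
`(k,k')` -/
def Ualpha (X : Fin m ⊕ Fin m → Fin m ⊕ Fin m → K → D) (k k' : Fin m ⊕ Fin m) : Subgroup D :=
  Subgroup.closure {g | ∃ i j, rk i < rk j ∧ ¬ (i = k ∧ j = k') ∧ ¬ (i = bar k' ∧ j = bar k) ∧
    ∃ t, g = X i j t}

theorem Ualpha_le (X : Fin m ⊕ Fin m → Fin m ⊕ Fin m → K → D) (k k' : Fin m ⊕ Fin m) :
    Ualpha X k k' ≤ UposC X := by
  apply Subgroup.closure_mono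
  rintro g ⟨i, j, hij, -, -, t, rfl⟩
  exact ⟨i, j, hij, t, rfl⟩

theorem X_mem_UposC (X : Fin m ⊕ Fin m → Fin m ⊕ Fin m → K → D) {i j : Fin m ⊕ Fin m}
    (hij : rk i < rk j) (t : K) : X i j t ∈ UposC X :=
  Subgroup.subset_closure ⟨i, j, hij, t, rfl⟩

theorem X_mem_Ualpha (X : Fin m ⊕ Fin m → Fin m ⊕ Fin m → K → D) {k k' i j : Fin m ⊕ Fin m}
    (hij : rk i < rk j) (hne : ¬ (i = k ∧ j = k')) (hne' : ¬ (i = bar k' ∧ j = bar k)) (t : K) :
    X i j t ∈ Ualpha X k k' :=
  Subgroup.subset_closure ⟨i, j, hij, hne, hne', t, rfl⟩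

theorem W_mem_Nsub (X : Fin m ⊕ Fin m → Fin m ⊕ Fin m → K → D) {i j : Fin m ⊕ Fin m}
    (hij : i ≠ j) {t : K} (ht : t ≠ 0) : W X i j t ∈ Nsub X :=
  Subgroup.subset_closure ⟨i, j, hij, t, ht, rfl⟩

theorem ne_of_rk_lt {i j : Fin m ⊕ Fin m} (h : rk i < rk j) : i ≠ j := by
  rintro rfl
  exact lt_irrefl _ h

theorem ne_of_rk_succ {k k' : Fin m ⊕ Fin m} (hk : rk k' = rk k + 1) : k ≠ k' := by
  rintro rfl
  omega

/-- (L2) `w_α` normalizes `U_α` -/
theorem W_conj_Ualpha (hM : MonoData X reflPerm cw) {k k' : Fin m ⊕ Fin m}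
    (hk : rk k' = rk k + 1) {t : K} (ht : t ≠ 0) :
    ∀ x ∈ Ualpha X k k', W X k k' t * x * (W X k k' t)⁻¹ ∈ Ualpha X k k' := by
  have hkk' : k ≠ k' := ne_of_rk_succ hk
  apply conj_mem_closure
  rintro s ⟨i, j, hij, hne, hne', r, rfl⟩
  rw [(hM.mono k k' hkk' t ht).2 i j (ne_of_rk_lt hij) r]
  obtain ⟨h1, h2, h3⟩ := swap_adj_lt hk hij hne hne'
  exact X_mem_Ualpha X h1 h2 h3 _

/-- conjugating a generator of `U_α` by `x_α(a)` stays in `U_α` -/
theorem Xalpha_conj_gen (hX : SpRel X) {k k' : Fin m ⊕ Fin m} (hk : rk k' = rk k + 1)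
    {i j : Fin m ⊕ Fin m} (hij : rk i < rk j) (hne : ¬ (i = k ∧ j = k'))
    (hne' : ¬ (i = bar k' ∧ j = bar k)) (a s : K) :
    X k k' a * X i j s * (X k k' a)⁻¹ ∈ Ualpha X k k' := by
  have hkk' : k ≠ k' := ne_of_rk_succ hk
  have hij' : i ≠ j := ne_of_rk_lt hij
  have e0 : ((rk k : ℕ) : ℤ) - (rk k' : ℤ) = -1 := by omega
  have h1 : rootVec i j ≠ rootVec k k' := by
    intro h
    rcases rootVec_eq_cases hij' h with ⟨h1, h2⟩ | ⟨h1, h2⟩
    · exact hne ⟨h1, h2⟩
    · exact hne' ⟨h1, h2⟩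
  have h2 : rootVec i j ≠ -rootVec k k' := by
    intro h
    have := congrArg Lf h
    rw [Lf_neg, Lf_rootVec_eq, Lf_rootVec_eq] at this
    omega
  have hc := Cfsg.Agent.Helper97.StC.gen_comm hX hkk' hij' h1 h2 a s
  have hle : Subgroup.closure {g | ∃ i' j', i' ≠ j' ∧
        (∃ c d : ℕ, 1 ≤ c ∧ 1 ≤ d ∧ rootVec i' j' = c • rootVec k k' + d • rootVec i j) ∧
        ∃ t, g = X i' j' t} ≤ Ualpha X k k' := by
    rw [Subgroup.closure_le]
    rintro g ⟨i', j', hij'', ⟨c, d, hc, hd, hroot⟩, t, rfl⟩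
    have hL : Lf (rootVec i' j') = c * Lf (rootVec k k') + d * Lf (rootVec i j) := by
      rw [hroot, Lf_add, Lf_nsmul, Lf_nsmul]
    rw [Lf_rootVec_eq, Lf_rootVec_eq, Lf_rootVec_eq, e0] at hL
    have hδ : ((rk i : ℕ) : ℤ) - (rk j : ℤ) ≤ -1 := by omega
    have hd' : (1 : ℤ) ≤ (d : ℤ) := by exact_mod_cast hd
    have hc' : (1 : ℤ) ≤ (c : ℤ) := by exact_mod_cast hc
    have hprod : (d : ℤ) * (2 * (((rk i : ℕ) : ℤ) - (rk j : ℤ))) ≤ -2 := by nlinarith
    have hk1 := rk_lt k'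
    apply X_mem_Ualpha
    · omega
    · rintro ⟨rfl, rfl⟩
      omega
    · rintro ⟨rfl, rfl⟩
      rw [rk_bar, rk_bar] at hL
      omega
  have e : X k k' a * X i j s * (X k k' a)⁻¹ =
      (X k k' a * X i j s * (X k k' a)⁻¹ * (X i j s)⁻¹) * X i j s := by group
  rw [e]
  exact mul_mem (hle hc) (X_mem_Ualpha X hij hne hne' _)

/-- (L1) `U = U_α X_α` -/
theorem Upos_decomp (hX : SpRel X) {k k' : Fin m ⊕ Fin m} (hk : rk k' = rk k + 1) :
    ∀ u ∈ UposC X, ∃ u₁ ∈ Ualpha X k k', ∃ a : K, u = u₁ * X k k' a := by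
  have hkk' : k ≠ k' := ne_of_rk_succ hk
  have step : ∀ (x : D) (i j : Fin m ⊕ Fin m), rk i < rk j → ∀ s : K,
      (∃ u₁ ∈ Ualpha X k k', ∃ a : K, x = u₁ * X k k' a) →
      ∃ u₁ ∈ Ualpha X k k', ∃ a : K, x * X i j s = u₁ * X k k' a := by
    rintro x i j hij s ⟨u₁, hu₁, a, rfl⟩
    by_cases hne : i = k ∧ j = k'
    · obtain ⟨rfl, rfl⟩ := hne
      refine ⟨u₁, hu₁, a + s, ?_⟩
      rw [hX.add i j hkk', mul_assoc]
    · by_cases hne' : i = bar k' ∧ j = bar k
      · obtain ⟨rfl, rfl⟩ := hne'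
        have hl : k' ≠ bar k := by
          intro e
          apply hne
          rw [e, bar_bar]
          exact ⟨rfl, rfl⟩
        refine ⟨u₁, hu₁, a + -(eps K k k' * s), ?_⟩
        rw [hX.add k k' hkk', sym' hX hkk' hl s, mul_assoc]
      · refine ⟨u₁ * (X k k' a * X i j s * (X k k' a)⁻¹),
          mul_mem hu₁ (Xalpha_conj_gen hX hk hij hne hne' a s), a, ?_⟩
        group
  intro u hu
  induction hu using Subgroup.closure_induction_right with
  | one => exact ⟨1, one_mem _, 0, by rw [Cfsg.Agent.Helper96.StC.X_zero hX hkk', one_mul]⟩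
  | mul_right x hx y hy ih =>
    obtain ⟨i, j, hij, s, rfl⟩ := hy
    exact step x i j hij s ih
  | mul_inv_cancel x hx y hy ih =>
    obtain ⟨i, j, hij, s, rfl⟩ := hy
    rw [Cfsg.Agent.Helper96.StC.X_neg hX (ne_of_rk_lt hij)]
    exact step x i j hij (-s) ih

/-- (L5) -/
theorem X_neg_root_eq (hX : SpRel X) {k k' : Fin m ⊕ Fin m} (hkk' : k ≠ k') {s : K}
    (hs : s ≠ 0) : X k' k s = X k k' s⁻¹ * W X k k' (-s⁻¹) * X k k' s⁻¹ := by
  unfold W
  have e1 : -(-s⁻¹)⁻¹ = s := by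
    rw [inv_neg, neg_neg, inv_inv]
  rw [e1, ← Cfsg.Agent.Helper96.StC.X_neg hX hkk']
  group

/-- the main step: `w_α U N U ⊆ U N U` for a simple root `α = (k, k')` -/
theorem main_step (hX : SpRel X) (hM : MonoData X reflPerm cw)
    {k k' : Fin m ⊕ Fin m} (hk : rk k' = rk k + 1) {t : K} (ht : t ≠ 0) (x : D)
    (hx : ∃ u ∈ UposC X, ∃ n ∈ Nsub X, ∃ u' ∈ UposC X, x = u * n * u') :
    ∃ u ∈ UposC X, ∃ n ∈ Nsub X, ∃ u' ∈ UposC X, W X k k' t * x = u * n * u' := by
  have hkk' : k ≠ k' := ne_of_rk_succ hk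
  have hklt : rk k < rk k' := by omega
  obtain ⟨u, hu, n, hn, u', hu', rfl⟩ := hx
  obtain ⟨u₁, hu₁, a, rfl⟩ := Upos_decomp hX hk u hu
  obtain ⟨π, p, hπ⟩ := hM.Nsub_isMono hn
  set w := W X k k' t with hw
  have hwN : w ∈ Nsub X := W_mem_Nsub X hkk' ht
  have hwmono : IsMono X w (reflPerm k k') (cw k k' t) := hM.mono k k' hkk' t ht
  have hu₂ : w * u₁ * w⁻¹ ∈ UposC X := Ualpha_le X k k' (W_conj_Ualpha hM hk ht u₁ hu₁)
  -- conjugating `x_α(b)` by a monomial element in good position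
  have key : ∀ (m' : D) (π' : Equiv.Perm (Fin m ⊕ Fin m)) (p' : Fin m ⊕ Fin m → K),
      IsMono X m' π' p' → rk (π'⁻¹ k) < rk (π'⁻¹ k') → ∀ b : K,
      m'⁻¹ * X k k' b * m' ∈ UposC X := by
    intro m' π' p' h' hlt b
    have h2 := h'.inv.2 k k' hkk' b
    rw [inv_inv] at h2
    rw [h2]
    exact X_mem_UposC X hlt _
  have hne : rk (π⁻¹ k) ≠ rk (π⁻¹ k') := fun e => hkk' (π⁻¹.injective (rk_injective e))
  rcases lt_or_gt_of_ne hne with hlt | hgt
  · -- case A
    refine ⟨w * u₁ * w⁻¹, hu₂, w * n, mul_mem hwN hn, (n⁻¹ * X k k' a * n) * u',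
      mul_mem (key n π p hπ hlt a) hu', ?_⟩
    group
  · -- case B
    have hm' : IsMono X (w * n) (reflPerm k k' * π) _ := hwmono.mul hπ
    have hlt' : rk ((reflPerm k k' * π)⁻¹ k) < rk ((reflPerm k k' * π)⁻¹ k') := by
      have e1 : (reflPerm k k' * π)⁻¹ k = π⁻¹ k' := by
        rw [mul_inv_rev, Equiv.Perm.mul_apply, reflPerm_inv_left hk]
      have e2 : (reflPerm k k' * π)⁻¹ k' = π⁻¹ k := by
        rw [mul_inv_rev, Equiv.Perm.mul_apply, reflPerm_inv_right hk]
      rw [e1, e2]; exact hgt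
    -- `w x_α(a) w⁻¹ = x_{-α}(a')`
    have hconj := hwmono.2 k k' hkk' a
    rw [reflPerm_left hk, reflPerm_right hk] at hconj
    set a' := cw k k' t k * (cw k k' t k')⁻¹ * a with ha'
    by_cases ha0 : a' = 0
    · rw [ha0, Cfsg.Agent.Helper96.StC.X_zero hX hkk'.symm] at hconj
      refine ⟨w * u₁ * w⁻¹, hu₂, w * n, mul_mem hwN hn, u', hu', ?_⟩
      have e : w * (u₁ * X k k' a * n * u') =
          (w * u₁ * w⁻¹) * (w * X k k' a * w⁻¹) * (w * n) * u' := by
        group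
      rw [e, hconj, mul_one]
    · have h5 := X_neg_root_eq hX hkk' ha0
      have hw'N : W X k k' (-a'⁻¹) ∈ Nsub X :=
        W_mem_Nsub X hkk' (neg_ne_zero.mpr (inv_ne_zero ha0))
      refine ⟨(w * u₁ * w⁻¹) * X k k' a'⁻¹, mul_mem hu₂ (X_mem_UposC X hklt _),
        W X k k' (-a'⁻¹) * (w * n), mul_mem hw'N (mul_mem hwN hn),
        ((w * n)⁻¹ * X k k' a'⁻¹ * (w * n)) * u',
        mul_mem (key (w * n) _ _ hm' hlt' a'⁻¹) hu', ?_⟩
      have e : w * (u₁ * X k k' a * n * u') =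
          (w * u₁ * w⁻¹) * (w * X k k' a * w⁻¹) * (w * n) * u' := by
        group
      rw [e, hconj, h5]
      group

/-- the generating set: positive root elements and the simple reflections -/
def genSet (X : Fin m ⊕ Fin m → Fin m ⊕ Fin m → K → D) : Set D :=
  {g | (∃ i j, rk i < rk j ∧ ∃ t, g = X i j t) ∨
    (∃ k k' : Fin m ⊕ Fin m, rk k' = rk k + 1 ∧ ∃ t : K, t ≠ 0 ∧ g = W X k k' t)}

/-- a root subgroup lies in the closure of `genSet` if its image under a simple reflection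
does -/
theorem X_mem_of_refl (hM : MonoData X reflPerm cw) {k k' : Fin m ⊕ Fin m}
    (hk : rk k' = rk k + 1) {a b : Fin m ⊕ Fin m} (hab : a ≠ b)
    (h : ∀ u, X (reflPerm k k' a) (reflPerm k k' b) u ∈ Subgroup.closure (genSet X)) (u : K) :
    X a b u ∈ Subgroup.closure (genSet X) := by
  have hkk' : k ≠ k' := ne_of_rk_succ hk
  have hw : W X k k' 1 ∈ Subgroup.closure (genSet X) :=
    Subgroup.subset_closure (Or.inr ⟨k, k', hk, 1, one_ne_zero, rfl⟩)
  have hm := hM.mono k k' hkk' 1 one_ne_zero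
  have h2 := hm.2 a b hab u
  have e : X a b u = (W X k k' 1)⁻¹ * (W X k k' 1 * X a b u * (W X k k' 1)⁻¹) * W X k k' 1 := by
    group
  rw [e, h2]
  exact mul_mem (mul_mem (inv_mem hw) (h _)) hw

/-- the induction step for a pair in good position -/
theorem good_step (hM : MonoData X reflPerm cw) (d : ℕ)
    (hP : ∀ i j : Fin m ⊕ Fin m, i ≠ j → rk i ≤ rk j + d → ∀ u,
      X i j u ∈ Subgroup.closure (genSet X))
    {i j : Fin m ⊕ Fin m} (hij : i ≠ j) (hd : rk i = rk j + d + 1)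
    (hgood : rk i + rk j + 2 ≠ 2 * m) (u : K) : X i j u ∈ Subgroup.closure (genSet X) := by
  have hil := rk_lt i
  obtain ⟨k, hk⟩ := exists_rk (m := m) (r := rk j + 1) (by omega)
  apply X_mem_of_refl hM hk hij
  apply hP _ _ (fun e => hij ((reflPerm j k).injective e))
  rw [rk_reflPerm hk i, rk_reflPerm hk j]
  split_ifs <;> omega

theorem X_all_mem (hX : SpRel X) (hM : MonoData X reflPerm cw) :
    ∀ (d : ℕ) (i j : Fin m ⊕ Fin m), i ≠ j → rk i ≤ rk j + d → ∀ u,
      X i j u ∈ Subgroup.closure (genSet X) := by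
  intro d
  induction d with
  | zero =>
    intro i j hij hd u
    have hne : rk i ≠ rk j := fun e => hij (rk_injective e)
    exact Subgroup.subset_closure (Or.inl ⟨i, j, by omega, u, rfl⟩)
  | succ d ih =>
    intro i j hij hd u
    by_cases hd' : rk i ≤ rk j + d
    · exact ih i j hij hd' u
    · have hd2 : rk i = rk j + d + 1 := by omega
      by_cases hgood : rk i + rk j + 2 ≠ 2 * m
      · exact good_step hM d ih hij hd2 hgood u
      · rw [ne_eq, not_not] at hgood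
        have hil := rk_lt i
        have hjl := rk_lt j
        have hbi := rk_bar i
        have hbj := rk_bar j
        have hji : j ≠ bar i := by
          intro e
          rw [e] at hd2 hgood
          omega
        rw [hX.sym i j hij hji u]
        have hne : bar j ≠ bar i := fun e => hij (bar_injective e).symm
        exact good_step hM d ih hne (by omega) (by omega) _

theorem closure_genSet (hX : SpRel X) (hM : MonoData X reflPerm cw)
    (hgen : Subgroup.closure {g | ∃ p q, p ≠ q ∧ ∃ t, g = X p q t} = ⊤) :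
    Subgroup.closure (genSet X) = ⊤ := by
  rw [eq_top_iff, ← hgen, Subgroup.closure_le]
  rintro g ⟨p, q, hpq, t, rfl⟩
  have hp := rk_lt p
  exact X_all_mem hX hM (2 * m) p q hpq (by omega) t

/-- **Bruhat decomposition** `D = U N U` (type `C`) -/
theorem bruhat (hX : SpRel X) (hM : MonoData X reflPerm cw)
    (hgen : Subgroup.closure {g | ∃ p q, p ≠ q ∧ ∃ t, g = X p q t} = ⊤) (x : D) :
    ∃ u ∈ UposC X, ∃ n ∈ Nsub X, ∃ u' ∈ UposC X, x = u * n * u' := by
  have hx : x ∈ Subgroup.closure (genSet X) := by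
    rw [closure_genSet hX hM hgen]; trivial
  have stepX : ∀ (i j : Fin m ⊕ Fin m), rk i < rk j → ∀ (t : K) (y : D),
      (∃ u ∈ UposC X, ∃ n ∈ Nsub X, ∃ u' ∈ UposC X, y = u * n * u') →
      ∃ u ∈ UposC X, ∃ n ∈ Nsub X, ∃ u' ∈ UposC X, X i j t * y = u * n * u' := by
    rintro i j hij t y ⟨u, hu, n, hn, u', hu', rfl⟩
    exact ⟨X i j t * u, mul_mem (X_mem_UposC X hij t) hu, n, hn, u', hu', by group⟩
  induction hx using Subgroup.closure_induction_left with
  | one => exact ⟨1, one_mem _, 1, one_mem _, 1, one_mem _, by simp⟩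
  | mul_left g hg y hy ih =>
    rcases hg with ⟨i, j, hij, t, rfl⟩ | ⟨k, k', hk, t, ht, rfl⟩
    · exact stepX i j hij t y ih
    · exact main_step hX hM hk ht y ih
  | inv_mul_cancel g hg y hy ih =>
    rcases hg with ⟨i, j, hij, t, rfl⟩ | ⟨k, k', hk, t, ht, rfl⟩
    · rw [Cfsg.Agent.Helper96.StC.X_neg hX (ne_of_rk_lt hij)]
      exact stepX i j hij (-t) y ih
    · have hkk' : k ≠ k' := ne_of_rk_succ hk
      rw [Cfsg.Agent.Helper96.StC.W_inv hX hkk']
      exact main_step hX hM hk (neg_ne_zero.mpr ht) y ih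

end Cfsg.Agent.Helper64.StCB
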