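import Mathlib

/-!
# Cubes span a finite field (helper64, for S2287)

An additive subgroup of a finite field `K` with `|K| ≠ 4` which contains `1` and is stable under
multiplication by cubes of units is everything.  (The multipliers of the subgroup form a subfield
`T` containing all cubes, so `|K| - 1 ≤ 3 (|T| - 1)`, while `|K| = |T| ^ d`; `d ≥ 2` forces
`|T| = 2`, `|K| = 4`.)  This is the `SL₃` analogue of `addSubgroup_eq_top_of_sq` of helper9's
`Sp4P/P_SQ.lean`.  For `|K| = 4` we add the hypothesis that the subgroup contains some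
`z ≠ 0, 1`.
-/

set_option autoImplicit false

namespace Cfsg.Agent.Helper64.SL3Cube

open Finset

universe u

variable {K : Type u} [Field K]

theorem stab_pow_mem (A : AddSubgroup K) {a : K} (ha : ∀ t ∈ A, a * t ∈ A) (n : ℕ) :
    ∀ t ∈ A, a ^ n * t ∈ A := by
  induction n with
  | zero => intro t ht; rwa [pow_zero, one_mul]
  | succ n ih => intro t ht; rw [pow_succ, mul_assoc]; exact ih _ (ha _ ht)

/-- The subfield of multipliers of an additive subgroup `A` of a finite field. -/
def stab [Fintype K] (A : AddSubgroup K) : Subfield K where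
  carrier := {x | ∀ t ∈ A, x * t ∈ A}
  mul_mem' := fun {a b} ha hb t ht => by rw [mul_assoc]; exact ha _ (hb _ ht)
  one_mem' := fun t ht => by rwa [one_mul]
  add_mem' := fun {a b} ha hb t ht => by rw [add_mul]; exact A.add_mem (ha _ ht) (hb _ ht)
  zero_mem' := fun t _ => by rw [zero_mul]; exact A.zero_mem
  neg_mem' := fun {a} ha t ht => by rw [neg_mul]; exact A.neg_mem (ha _ ht)
  inv_mem' := fun a ha => by
    by_cases h0 : a = 0
    · subst h0; rw [inv_zero]; intro t _; rw [zero_mul]; exact A.zero_mem
    · have hq : 2 ≤ Fintype.card K := Fintype.one_lt_card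
      have h1 : a ^ (Fintype.card K - 1) = 1 := FiniteField.pow_card_sub_one_eq_one a h0
      have h2 : a⁻¹ = a ^ (Fintype.card K - 2) := by
        apply inv_eq_of_mul_eq_one_right
        rw [← pow_succ']
        have : Fintype.card K - 2 + 1 = Fintype.card K - 1 := by omega
        rw [this, h1]
      show ∀ t ∈ A, a⁻¹ * t ∈ A
      rw [h2]
      exact stab_pow_mem A ha _

theorem mem_stab [Fintype K] (A : AddSubgroup K) (x : K) : x ∈ stab A ↔ ∀ t ∈ A, x * t ∈ A :=
  Iff.rfl

/-- the fibres of the cube map on units have at most three elements -/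
theorem card_cube_fibre_le [Fintype K] [DecidableEq K] (b : K) :
    #((univ : Finset Kˣ).filter (fun u : Kˣ => (u : K) ^ 3 = b)) ≤ 3 := by
  classical
  have hinj : Function.Injective (fun u : Kˣ => (u : K)) := Units.val_injective
  calc #((univ : Finset Kˣ).filter (fun u : Kˣ => (u : K) ^ 3 = b))
      = #(((univ : Finset Kˣ).filter (fun u : Kˣ => (u : K) ^ 3 = b)).image
          (fun u : Kˣ => (u : K))) :=
        (Finset.card_image_of_injective _ hinj).symm
    _ ≤ #(Polynomial.nthRoots 3 b).toFinset := by
        apply Finset.card_le_card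
        intro x hx
        rw [Finset.mem_image] at hx
        obtain ⟨u, hu, rfl⟩ := hx
        rw [Finset.mem_filter] at hu
        rw [Multiset.mem_toFinset, Polynomial.mem_nthRoots (by norm_num)]
        exact hu.2
    _ ≤ Multiset.card (Polynomial.nthRoots 3 b) := Multiset.toFinset_card_le _
    _ ≤ 3 := Polynomial.card_nthRoots 3 b

theorem addSubgroup_eq_top_of_cube [Fintype K] (hq : Fintype.card K ≠ 4) (A : AddSubgroup K)
    (h1 : (1 : K) ∈ A)
    (hcube : ∀ (s : Kˣ) (t : K), t ∈ A → (s : K) ^ 3 * t ∈ A) : A = ⊤ := by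
  classical
  set T := stab A with hT
  -- numbers
  have hcardq : Fintype.card K = Fintype.card T ^ Module.finrank T K := Module.card_eq_pow_finrank
  have hr2 : 2 ≤ Fintype.card T := Fintype.one_lt_card
  -- the counting inequality
  have hcount : Fintype.card K - 1 ≤ 3 * (Fintype.card T - 1) := by
    have hmaps : ∀ u ∈ (univ : Finset Kˣ), (fun u : Kˣ => (u : K) ^ 3) u ∈
        ({x ∈ (univ : Finset K) | x ∈ T}).erase 0 := by
      intro u _
      rw [Finset.mem_erase, Finset.mem_filter]
      refine ⟨pow_ne_zero 3 u.ne_zero, Finset.mem_univ _, ?_⟩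
      intro t ht
      exact hcube u t ht
    have h := Finset.card_le_mul_card_image_of_maps_to hmaps 3
      (fun b _ => card_cube_fibre_le b)
    rw [Finset.card_univ, Fintype.card_units] at h
    have h0 : (0 : K) ∈ ({x ∈ (univ : Finset K) | x ∈ T}) := by
      rw [Finset.mem_filter]; exact ⟨Finset.mem_univ _, T.zero_mem⟩
    rw [Finset.card_erase_of_mem h0] at h
    have hcT : #({x ∈ (univ : Finset K) | x ∈ T}) = Fintype.card T := by
      rw [Fintype.card_subtype]
    rw [hcT] at h
    exact h
  -- conclude card T = card K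
  have hcard : Fintype.card T = Fintype.card K := by
    have hq2 : 2 ≤ Fintype.card K := Fintype.one_lt_card
    generalize Module.finrank T K = d at hcardq
    generalize Fintype.card T = r at *
    generalize Fintype.card K = q at *
    rcases d with _ | _ | d
    · rw [pow_zero] at hcardq; omega
    · rw [pow_one] at hcardq; exact hcardq.symm
    · exfalso
      have h2 : r ^ 2 ≤ r ^ (d + 1 + 1) := Nat.pow_le_pow_right (by omega) (by omega)
      rw [← hcardq] at h2
      have hc' : q + 2 ≤ 3 * r := by omega
      have hr : r = 2 := by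
        by_contra hne
        have h3 : 3 ≤ r := by omega
        have h33 : 3 * r ≤ r * r := Nat.mul_le_mul_right r h3
        rw [pow_two] at h2
        omega
      subst hr
      have h4 : 4 ≤ q := by simpa using h2
      omega
  -- hence T = everything
  have hsurj : Function.Surjective (fun x : T => (x : K)) := by
    have hbij : Function.Bijective (fun x : T => (x : K)) :=
      (Fintype.bijective_iff_injective_and_card _).2 ⟨Subtype.val_injective, hcard⟩
    exact hbij.2
  rw [eq_top_iff]
  intro x _
  obtain ⟨⟨y, hy⟩, rfl⟩ := hsurj x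
  have := hy 1 h1
  rwa [mul_one] at this

/-- The case `|K| = 4`: an additive subgroup containing `1` and some `z ≠ 0, 1` is everything. -/
theorem addSubgroup_eq_top_of_card_four [Fintype K] (hq : Fintype.card K = 4) (A : AddSubgroup K)
    (h1 : (1 : K) ∈ A) (z : K) (hz : z ∈ A) (hz0 : z ≠ 0) (hz1 : z ≠ 1) : A = ⊤ := by
  classical
  rw [← AddSubgroup.card_eq_iff_eq_top]
  have hdvd : Nat.card A ∣ Nat.card K := AddSubgroup.card_addSubgroup_dvd_card A
  rw [Nat.card_eq_fintype_card (α := K), hq] at hdvd ⊢
  have h3 : 3 ≤ Nat.card A := by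
    rw [Nat.card_eq_fintype_card]
    have : #({(⟨0, A.zero_mem⟩ : A), ⟨1, h1⟩, ⟨z, hz⟩} : Finset A) = 3 := by
      rw [Finset.card_insert_of_notMem, Finset.card_insert_of_notMem, Finset.card_singleton]
      · simp only [Finset.mem_singleton, Subtype.mk.injEq]; exact fun h => hz1 h.symm
      · simp only [Finset.mem_insert, Finset.mem_singleton, Subtype.mk.injEq, not_or]
        exact ⟨zero_ne_one, fun h => hz0 h.symm⟩
    rw [← this]
    exact Finset.card_le_univ _
  have hle : Nat.card A ≤ 4 := Nat.le_of_dvd (by norm_num) hdvd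
  interval_cases h : Nat.card A
  · omega
  · rfl

/-- Uniform version: `1 ∈ A`, `A` stable under multiplication by cubes of units, and if
`|K| = 4` also some `z ≠ 0, 1` in `A`. -/
theorem addSubgroup_eq_top_of_cube' [Fintype K] (A : AddSubgroup K) (h1 : (1 : K) ∈ A)
    (hcube : ∀ (s : Kˣ) (t : K), t ∈ A → (s : K) ^ 3 * t ∈ A)
    (h4 : Fintype.card K = 4 → ∃ z ∈ A, z ≠ 0 ∧ z ≠ 1) : A = ⊤ := by
  by_cases hq : Fintype.card K = 4
  · obtain ⟨z, hz, hz0, hz1⟩ := h4 hq
    exact addSubgroup_eq_top_of_card_four hq A h1 z hz hz0 hz1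
  · exact addSubgroup_eq_top_of_cube hq A h1 hcube

end Cfsg.Agent.Helper64.SL3Cube
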