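import Mathlib
import Cfsg.Agent.Helper64.SL3Cube

/-!
# Extension lemmas of cube type (helper64, for S2287)

Analogues for `SL₃` of helper9's `comm_ext` / `r5_ext` (Sp4P, tori acting by squares): here the
torus elements fixing one root group act on the other one by cubes.

* `comm_ext_cube`: two additive families `x, x' : K → D`; `τ s` centralizes `x` and acts on `x'`
  by `s³`; `σ s` acts on `x` by `s` and on `x'` by `s⁻¹`; `x 1` commutes with `x' 1`
  (and with `x' z` for some `z ≠ 0, 1` if `|K| = 4`).  Then `x t` commutes with `x' u` always.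
* `bilin_ext_cube`: `x, y, w` additive, `w` commutes with `x` and `y`; `τ s` centralizes `x`,
  acts on `y` and `w` by `s³`; `σ s` acts on `x`, `y` by `s` and on `w` by `s²`;
  `x 1 * y 1 * (x 1)⁻¹ * (y 1)⁻¹ = w 1` (and the same at `(1, z)` if `|K| = 4`).  Then
  `x t * y u * (x t)⁻¹ * (y u)⁻¹ = w (t * u)` always.
-/

set_option autoImplicit false
set_option linter.unusedSimpArgs false

namespace Cfsg.Agent.Helper64.SL3Ext

open Cfsg.Agent.Helper64.SL3Cube

universe u v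

variable {K : Type u} [Field K] {D : Type v} [Group D]

theorem map_zero_of_add (x : K → D) (hx : ∀ t u, x (t + u) = x t * x u) : x 0 = 1 := by
  have := hx 0 0
  rw [add_zero] at this
  exact (mul_eq_left.1 this.symm)

theorem map_neg_of_add (x : K → D) (hx : ∀ t u, x (t + u) = x t * x u) (t : K) :
    x (-t) = (x t)⁻¹ := by
  have := hx t (-t)
  rw [add_neg_cancel, map_zero_of_add x hx] at this
  exact (inv_eq_of_mul_eq_one_right this.symm).symm

/-- conjugating a `Commute` statement -/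
theorem commute_conj (g a b : D) (h : Commute a b) : Commute (g * a * g⁻¹) (g * b * g⁻¹) := by
  have h' : a * b = b * a := h
  show g * a * g⁻¹ * (g * b * g⁻¹) = g * b * g⁻¹ * (g * a * g⁻¹)
  calc g * a * g⁻¹ * (g * b * g⁻¹) = g * (a * b) * g⁻¹ := by
        simp only [mul_assoc, inv_mul_cancel_left]
    _ = g * (b * a) * g⁻¹ := by rw [h']
    _ = g * b * g⁻¹ * (g * a * g⁻¹) := by
        simp only [mul_assoc, inv_mul_cancel_left]

theorem comm_ext_cube' [Fintype K]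
    (x x' : K → D) (hx : ∀ t u, x (t + u) = x t * x u)
    (hx' : ∀ t u, x' (t + u) = x' t * x' u) (τ σ : Kˣ → D)
    (hτ : ∀ (s : Kˣ) (t : K), τ s * x t * (τ s)⁻¹ = x t)
    (hτ' : ∀ (s : Kˣ) (u : K), τ s * x' u * (τ s)⁻¹ = x' ((s : K) ^ 3 * u))
    (hσ : ∀ (s : Kˣ) (t : K), σ s * x t * (σ s)⁻¹ = x ((s : K) * t))
    (hσ' : ∀ (s : Kˣ) (u : K), σ s * x' u * (σ s)⁻¹ = x' ((s : K)⁻¹ * u))
    (h1 : Commute (x 1) (x' 1))
    (h4 : Fintype.card K = 4 → ∃ z : K, z ≠ 0 ∧ z ≠ 1 ∧ Commute (x 1) (x' z)) :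
    ∀ t u, Commute (x t) (x' u) := by
  have hx0 := map_zero_of_add x hx
  have hx'0 := map_zero_of_add x' hx'
  have hx'neg := map_neg_of_add x' hx'
  -- step 1: `x 1` commutes with every `x' u`
  let A : AddSubgroup K :=
    { carrier := {u | Commute (x 1) (x' u)}
      zero_mem' := by
        show Commute (x 1) (x' 0)
        rw [hx'0]; exact Commute.one_right _
      add_mem' := by
        intro a b ha hb
        show Commute (x 1) (x' (a + b))
        rw [hx']; exact Commute.mul_right ha hb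
      neg_mem' := by
        intro a ha
        show Commute (x 1) (x' (-a))
        rw [hx'neg]; exact Commute.inv_right ha }
  have hA : A = ⊤ := by
    refine addSubgroup_eq_top_of_cube' A h1 ?_ ?_
    · intro s t ht
      have ht' : Commute (x 1) (x' t) := ht
      show Commute (x 1) (x' ((s : K) ^ 3 * t))
      have := commute_conj (τ s) _ _ ht'
      rwa [hτ, hτ'] at this
    · intro hq
      obtain ⟨z, hz0, hz1, hz⟩ := h4 hq
      exact ⟨z, hz, hz0, hz1⟩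
  have step1 : ∀ u, Commute (x 1) (x' u) := by
    intro u
    have : u ∈ A := by rw [hA]; trivial
    exact this
  -- step 2
  intro t u
  by_cases ht : t = 0
  · rw [ht, hx0]; exact Commute.one_left _
  · have := commute_conj (σ (Units.mk0 t ht)) _ _ (step1 (t * u))
    rw [hσ, hσ', Units.val_mk0, mul_one, inv_mul_cancel_left₀ ht] at this
    exact this

theorem comm_ext_cube [Fintype K] (hq : Fintype.card K ≠ 4)
    (x x' : K → D) (hx : ∀ t u, x (t + u) = x t * x u)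
    (hx' : ∀ t u, x' (t + u) = x' t * x' u) (τ σ : Kˣ → D)
    (hτ : ∀ (s : Kˣ) (t : K), τ s * x t * (τ s)⁻¹ = x t)
    (hτ' : ∀ (s : Kˣ) (u : K), τ s * x' u * (τ s)⁻¹ = x' ((s : K) ^ 3 * u))
    (hσ : ∀ (s : Kˣ) (t : K), σ s * x t * (σ s)⁻¹ = x ((s : K) * t))
    (hσ' : ∀ (s : Kˣ) (u : K), σ s * x' u * (σ s)⁻¹ = x' ((s : K)⁻¹ * u))
    (h1 : Commute (x 1) (x' 1)) : ∀ t u, Commute (x t) (x' u) :=
  comm_ext_cube' x x' hx hx' τ σ hτ hτ' hσ hσ' h1 (fun h => absurd h hq)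

/-- conjugating a commutator relation -/
theorem conj_comm_eq (g a b c : D) (h : a * b * a⁻¹ * b⁻¹ = c) :
    (g * a * g⁻¹) * (g * b * g⁻¹) * (g * a * g⁻¹)⁻¹ * (g * b * g⁻¹)⁻¹ = g * c * g⁻¹ := by
  rw [← h]
  simp only [mul_assoc, mul_inv_rev, inv_inv, inv_mul_cancel_left]

theorem bilin_ext_cube' [Fintype K]
    (x y w : K → D) (hx : ∀ t u, x (t + u) = x t * x u)
    (hy : ∀ t u, y (t + u) = y t * y u) (hw : ∀ t u, w (t + u) = w t * w u)
    (hyw : ∀ t u, Commute (y t) (w u))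
    (τ σ : Kˣ → D)
    (hτx : ∀ (s : Kˣ) (t : K), τ s * x t * (τ s)⁻¹ = x t)
    (hτy : ∀ (s : Kˣ) (t : K), τ s * y t * (τ s)⁻¹ = y ((s : K) ^ 3 * t))
    (hτw : ∀ (s : Kˣ) (t : K), τ s * w t * (τ s)⁻¹ = w ((s : K) ^ 3 * t))
    (hσx : ∀ (s : Kˣ) (t : K), σ s * x t * (σ s)⁻¹ = x ((s : K) * t))
    (hσy : ∀ (s : Kˣ) (t : K), σ s * y t * (σ s)⁻¹ = y ((s : K) * t))
    (hσw : ∀ (s : Kˣ) (t : K), σ s * w t * (σ s)⁻¹ = w ((s : K) ^ 2 * t))
    (h1 : x 1 * y 1 * (x 1)⁻¹ * (y 1)⁻¹ = w 1)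
    (h4 : Fintype.card K = 4 → ∃ z : K, z ≠ 0 ∧ z ≠ 1 ∧ x 1 * y z * (x 1)⁻¹ * (y z)⁻¹ = w z) :
    ∀ t u, x t * y u * (x t)⁻¹ * (y u)⁻¹ = w (t * u) := by
  have hx0 := map_zero_of_add x hx
  have hy0 := map_zero_of_add y hy
  have hw0 := map_zero_of_add w hw
  have hyneg := map_neg_of_add y hy
  have hwneg := map_neg_of_add w hw
  -- step 1
  let A : AddSubgroup K :=
    { carrier := {u | x 1 * y u * (x 1)⁻¹ * (y u)⁻¹ = w u}
      zero_mem' := by
        show x 1 * y 0 * (x 1)⁻¹ * (y 0)⁻¹ = w 0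
        rw [hy0, hw0]; simp
      add_mem' := by
        intro a b ha hb
        have ha' : x 1 * y a * (x 1)⁻¹ * (y a)⁻¹ = w a := ha
        have hb' : x 1 * y b * (x 1)⁻¹ * (y b)⁻¹ = w b := hb
        show x 1 * y (a + b) * (x 1)⁻¹ * (y (a + b))⁻¹ = w (a + b)
        rw [hy, hw]
        have hc : y a * w b = w b * y a := hyw a b
        calc x 1 * (y a * y b) * (x 1)⁻¹ * (y a * y b)⁻¹
            = (x 1 * y a * (x 1)⁻¹ * (y a)⁻¹) *
              (y a * (x 1 * y b * (x 1)⁻¹ * (y b)⁻¹) * (y a)⁻¹) := by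
              simp only [mul_assoc, mul_inv_rev, inv_mul_cancel_left]
          _ = w a * (y a * w b * (y a)⁻¹) := by rw [ha', hb']
          _ = w a * w b := by rw [hc, mul_assoc, mul_inv_cancel, mul_one]
      neg_mem' := by
        intro a ha
        have ha' : x 1 * y a * (x 1)⁻¹ * (y a)⁻¹ = w a := ha
        show x 1 * y (-a) * (x 1)⁻¹ * (y (-a))⁻¹ = w (-a)
        rw [hyneg, hwneg, inv_inv]
        have hc : y a * w a = w a * y a := hyw a a
        have hc' : (y a)⁻¹ * (w a)⁻¹ * y a = (w a)⁻¹ := by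
          have : (w a)⁻¹ * y a = y a * (w a)⁻¹ := by
            calc (w a)⁻¹ * y a = (w a)⁻¹ * (y a * w a) * (w a)⁻¹ := by
                  simp only [mul_assoc, mul_inv_cancel, mul_one]
              _ = (w a)⁻¹ * (w a * y a) * (w a)⁻¹ := by rw [hc]
              _ = y a * (w a)⁻¹ := by simp only [mul_assoc, inv_mul_cancel_left]
          rw [mul_assoc, this, inv_mul_cancel_left]
        calc x 1 * (y a)⁻¹ * (x 1)⁻¹ * y a
            = (y a)⁻¹ * (x 1 * y a * (x 1)⁻¹ * (y a)⁻¹)⁻¹ * y a := by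
              simp only [mul_assoc, mul_inv_rev, inv_inv, mul_inv_cancel_left, inv_mul_cancel_left]
          _ = (y a)⁻¹ * (w a)⁻¹ * y a := by rw [ha']
          _ = (w a)⁻¹ := hc' }
  have hA : A = ⊤ := by
    refine addSubgroup_eq_top_of_cube' A h1 ?_ ?_
    · intro s t ht
      have ht' : x 1 * y t * (x 1)⁻¹ * (y t)⁻¹ = w t := ht
      show x 1 * y ((s : K) ^ 3 * t) * (x 1)⁻¹ * (y ((s : K) ^ 3 * t))⁻¹ = w ((s : K) ^ 3 * t)
      have := conj_comm_eq (τ s) _ _ _ ht'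
      rwa [hτx, hτy, hτw] at this
    · intro hq
      obtain ⟨z, hz0, hz1, hz⟩ := h4 hq
      exact ⟨z, hz, hz0, hz1⟩
  have step1 : ∀ u, x 1 * y u * (x 1)⁻¹ * (y u)⁻¹ = w u := by
    intro u
    have : u ∈ A := by rw [hA]; trivial
    exact this
  intro t u
  by_cases ht : t = 0
  · rw [ht, hx0, zero_mul, hw0]; simp
  · have := conj_comm_eq (σ (Units.mk0 t ht)) _ _ _ (step1 (t⁻¹ * u))
    rw [hσx, hσy, hσw, Units.val_mk0, mul_one, mul_inv_cancel_left₀ ht] at this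
    rw [this]
    congr 1
    field_simp

theorem bilin_ext_cube [Fintype K] (hq : Fintype.card K ≠ 4)
    (x y w : K → D) (hx : ∀ t u, x (t + u) = x t * x u)
    (hy : ∀ t u, y (t + u) = y t * y u) (hw : ∀ t u, w (t + u) = w t * w u)
    (hyw : ∀ t u, Commute (y t) (w u))
    (τ σ : Kˣ → D)
    (hτx : ∀ (s : Kˣ) (t : K), τ s * x t * (τ s)⁻¹ = x t)
    (hτy : ∀ (s : Kˣ) (t : K), τ s * y t * (τ s)⁻¹ = y ((s : K) ^ 3 * t))
    (hτw : ∀ (s : Kˣ) (t : K), τ s * w t * (τ s)⁻¹ = w ((s : K) ^ 3 * t))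
    (hσx : ∀ (s : Kˣ) (t : K), σ s * x t * (σ s)⁻¹ = x ((s : K) * t))
    (hσy : ∀ (s : Kˣ) (t : K), σ s * y t * (σ s)⁻¹ = y ((s : K) * t))
    (hσw : ∀ (s : Kˣ) (t : K), σ s * w t * (σ s)⁻¹ = w ((s : K) ^ 2 * t))
    (h1 : x 1 * y 1 * (x 1)⁻¹ * (y 1)⁻¹ = w 1) :
    ∀ t u, x t * y u * (x t)⁻¹ * (y u)⁻¹ = w (t * u) :=
  bilin_ext_cube' x y w hx hy hw hyw τ σ hτx hτy hτw hσx hσy hσw h1 (fun h => absurd h hq)

end Cfsg.Agent.Helper64.SL3Ext
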