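import Mathlib
import Cfsg.Prelude.Def_OddOrderLocal
import Cfsg.Agent.Helper64.BG1218
import Cfsg.Agent.Helper23.BG13C

/-!
# Bender-Glauberman Lemma 12.17, the unlisted parts (d), (d2), (d3), (e2) (helper64)

Setting of S1424: `t ∈ σ(M)`, `T ≠ 1` a `t`-subgroup of `M`, `L ≠ M` maximal over `N_G(T)`.
* (d1) if `t ∈ σ(L)` then `L = L_β (M ∩ L)`, and symmetrically `M = M_β (M ∩ L)`;
* (d3) then `α(M) = β(M)` and `M_β ≠ 1`;
* (d2) then `τ₁(L) ⊆ τ₁(M) ∪ α(M)`;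
* (e2) if `t ∉ σ(L)` then `π(M) ∩ σ(L) ⊆ β(L)`.
Inputs are statement shaped (`H1416`, `H1417`, `NilpHallSigma` of helper23, and the Props below).
Paper proofs: board posts #2877 (helper48), #2999 (helper70).
-/

set_option autoImplicit false
set_option linter.unusedVariables false
set_option linter.unusedSectionVars false
set_option linter.style.haveILetI false

namespace Cfsg.Agent.Helper64.BG1217D

open Cfsg Cfsg.Agent.Helper29 Cfsg.Agent.Helper29.BG10 Cfsg.Agent.Helper29.BG11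
  Cfsg.Agent.Helper1.BG12 Cfsg.Agent.Helper23.BG13 Cfsg.Agent.Helper64.BG1218
open scoped commutatorElement

variable {G : Type*} [Group G] [Finite G]

/-- S1414, first conjunct: `M_β` is a Hall `β(M)`-subgroup of `M` -/
def BetaHall (G : Type*) [Group G] : Prop :=
  ∀ M : Subgroup G, IsCoatom M →
    Cfsg.IsPiHallOf (Cfsg.beta M) (Cfsg.piCoreOf (Cfsg.beta M) M) M

/-- a subgroup of `L` whose index in `L` is divisible by no prime is `L` -/
theorem eq_of_forall_not_dvd_relIndex {A L : Subgroup G} (hAL : A ≤ L)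
    (h : ∀ p : ℕ, p.Prime → ¬ p ∣ A.relIndex L) : A = L := by
  apply le_antisymm hAL
  rw [← Subgroup.relIndex_eq_one]
  by_contra hne
  obtain ⟨p, hp, hd⟩ := Nat.exists_prime_and_dvd hne
  exact h p hp hd

/-- if `A ≤ L` contains a Sylow `p`-subgroup of `L` then `p ∤ |L : A|` -/
theorem not_dvd_relIndex_of_isSylowIn_le {p : ℕ} {A L P : Subgroup G} (hP : IsSylowIn p P L)
    (hPA : P ≤ A) : ¬ p ∣ A.relIndex L :=
  fun h => hP.2.2 (h.trans (Subgroup.relIndex_dvd_of_le_left L hPA))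

/-- if `L = N K` with `N` normalized by `L` and `p ∤ |N|` then `K` contains a Sylow `p`-subgroup
of `L` -/
theorem exists_isSylowIn_le_of_sup_eq {p : ℕ} [Fact p.Prime] {N K L : Subgroup G}
    (hN : L ≤ Subgroup.normalizer (N : Set G)) (hsup : N ⊔ K = L) (hpN : ¬ p ∣ Nat.card ↥N) :
    ∃ P : Subgroup G, IsSylowIn p P L ∧ P ≤ K := by
  have hpp : p.Prime := Fact.out
  have hK : K ≤ L := hsup ▸ le_sup_right
  obtain ⟨P, -, hP⟩ := exists_isSylowIn_ge (p := p) (bot_le : (⊥ : Subgroup G) ≤ K) IsPGroup.of_bot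
  refine ⟨P, ⟨hP.1.trans hK, hP.2.1, ?_⟩, hP.1⟩
  rw [← Subgroup.relIndex_mul_relIndex P K L hP.1 hK]
  intro hd
  rcases (Nat.Prime.dvd_mul hpp).1 hd with h | h
  · exact hP.2.2 h
  · exact hpN (h.trans (relIndex_dvd_card_of_sup_eq hN hsup))

/-- **B-G 12.17(d1)**: in the setting of S1424, if `t ∈ σ(L)` then `L = L_β (M ∩ L)`. -/
theorem lemma_12_17_d1 (hG : Cfsg.IsMinSimpleOddOrder G) (hU : UniquenessThm G)
    (h1416 : H1416 G) (hW : NilpHallSigma G) (hβ : BetaHall G)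
    {M L : Subgroup G} (hM : IsCoatom M) (hL : IsCoatom L) (hne : L ≠ M)
    {t : ℕ} [Fact t.Prime] (ht : t ∈ Cfsg.sigma M) {T : Subgroup G} (hTt : IsPGroup t T)
    (hT1 : T ≠ ⊥) (hTM : T ≤ M) (hNT : Subgroup.normalizer (T : Set G) ≤ L)
    (htL : t ∈ Cfsg.sigma L) :
    Cfsg.piCoreOf (Cfsg.beta L) L ⊔ (M ⊓ L) = L := by
  have htp : t.Prime := Fact.out
  have hTL : T ≤ L := Subgroup.le_normalizer.trans hNT
  obtain ⟨S, hTS, hS⟩ := exists_isSylowIn_ge (le_inf hTM hTL) hTt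
  obtain ⟨hnc, hNS, hSidx⟩ :=
    lemma_12_17 hG hU hM ht (h1416 M hM t) hTt hT1 hTM hne hNT hS hTS
  have hSL : IsSylowIn t S L := ⟨hS.1.trans inf_le_right, hS.2.1, hSidx⟩
  have hβL := hβ L hL
  have hAL : Cfsg.piCoreOf (Cfsg.beta L) L ⊔ (M ⊓ L) ≤ L := sup_le hβL.1 inf_le_right
  apply eq_of_forall_not_dvd_relIndex hAL
  intro p hpp
  haveI : Fact p.Prime := ⟨hpp⟩
  by_cases hpβ : p ∈ Cfsg.beta L
  · intro hd
    exact hβL.2.2 p hpp hpβ (hd.trans (Subgroup.relIndex_dvd_of_le_left L le_sup_left))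
  · -- `M` contains a Sylow `p`-subgroup of `L`
    have key : ∃ P : Subgroup G, IsSylowIn p P L ∧ P ≤ M := by
      by_cases hpt : p = t
      · subst hpt
        exact ⟨S, hSL, hS.1.trans inf_le_left⟩
      by_cases hpσ : p ∈ Cfsg.sigma L
      · exact lemma_12_17_d hG hU h1416 hW hM hL hne ht hTt hT1 hTM hNT htL hpσ hpβ hpt
      · -- Frattini: `L = L_σ N_L(S)`
        have hSσ : IsSylowIn t S (Cfsg.sigmaCore L) := (isSylowIn_sigmaCore_iff hG hU hL htL).2 hSL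
        have hfr := frattini_sup_eq (sigmaCore_le L) (le_normalizer_sigmaCore L) hSσ
        obtain ⟨P, hPL, hPK⟩ := exists_isSylowIn_le_of_sup_eq (p := p) (le_normalizer_sigmaCore L)
          hfr (not_dvd_card_piCoreOf hpp hpσ L)
        exact ⟨P, hPL, (hPK.trans inf_le_right).trans hNS⟩
    obtain ⟨P, hPL, hPM⟩ := key
    exact not_dvd_relIndex_of_isSylowIn_le hPL ((le_inf hPM hPL.1).trans le_sup_right)

/-- **B-G 12.17(d)**, the mirror image: in the setting of S1424, if `t ∈ σ(L)` then also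
`M = M_β (M ∩ L)`. -/
theorem lemma_12_17_d1_mirror (hG : Cfsg.IsMinSimpleOddOrder G) (hU : UniquenessThm G)
    (h1416 : H1416 G) (hW : NilpHallSigma G) (hβ : BetaHall G)
    {M L : Subgroup G} (hM : IsCoatom M) (hL : IsCoatom L) (hne : L ≠ M)
    {t : ℕ} [Fact t.Prime] (ht : t ∈ Cfsg.sigma M) {T : Subgroup G} (hTt : IsPGroup t T)
    (hT1 : T ≠ ⊥) (hTM : T ≤ M) (hNT : Subgroup.normalizer (T : Set G) ≤ L)
    (htL : t ∈ Cfsg.sigma L) :
    Cfsg.piCoreOf (Cfsg.beta M) M ⊔ (M ⊓ L) = M := by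
  have hTL : T ≤ L := Subgroup.le_normalizer.trans hNT
  obtain ⟨S, hTS, hS⟩ := exists_isSylowIn_ge (le_inf hTM hTL) hTt
  obtain ⟨hnc, hNS, hSidx⟩ :=
    lemma_12_17 hG hU hM ht (h1416 M hM t) hTt hT1 hTM hne hNT hS hTS
  have hS1 : S ≠ ⊥ := fun h => hT1 (le_bot_iff.1 (h ▸ hTS))
  have := lemma_12_17_d1 hG hU h1416 hW hβ hL hM (Ne.symm hne) htL hS.2.1 hS1
    (hS.1.trans inf_le_right) hNS ht
  rwa [inf_comm] at this

/-- **B-G 12.17(d3)**: in the setting of S1424, if `t ∈ σ(L)` then `α(M) = β(M)` and `M_β ≠ 1`. -/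
theorem lemma_12_17_d3 (hG : Cfsg.IsMinSimpleOddOrder G) (hU : UniquenessThm G)
    (h1416 : H1416 G) (hW : NilpHallSigma G) (hβ : BetaHall G)
    {M L : Subgroup G} (hM : IsCoatom M) (hL : IsCoatom L) (hne : L ≠ M)
    {t : ℕ} [Fact t.Prime] (ht : t ∈ Cfsg.sigma M) {T : Subgroup G} (hTt : IsPGroup t T)
    (hT1 : T ≠ ⊥) (hTM : T ≤ M) (hNT : Subgroup.normalizer (T : Set G) ≤ L)
    (htL : t ∈ Cfsg.sigma L) :
    (∀ s ∈ Cfsg.alpha M, s ∈ Cfsg.beta M) ∧ Cfsg.piCoreOf (Cfsg.beta M) M ≠ ⊥ := by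
  have hmir := lemma_12_17_d1_mirror hG hU h1416 hW hβ hM hL hne ht hTt hT1 hTM hNT htL
  have hML : ¬ M ≤ L := by
    intro h
    rcases hM.le_iff.1 h with h1 | h1
    · exact hL.1 h1
    · exact hne h1
  constructor
  · intro s hsα
    by_contra hsβ
    have hsp : s.Prime := hsα.1
    haveI : Fact s.Prime := ⟨hsp⟩
    obtain ⟨P, hPM, hPK⟩ := exists_isSylowIn_le_of_sup_eq (p := s)
      (Cfsg.Agent.Helper31.le_normalizer_piCoreOf _ M) hmir (not_dvd_card_piCoreOf hsp hsβ M)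
    have hrk : ¬ Cfsg.PRankLE s 2 ↥P := fun h => hsα.2 (pRankLE_of_isSylowIn hPM h)
    obtain ⟨M', -, huniq⟩ := uniq_of_uniquenessThm hG hU P hPM.2.1 hrk
    have h1 := huniq M ⟨hM, hPM.1⟩
    have h2 := huniq L ⟨hL, hPK.trans inf_le_right⟩
    exact hne (h2.trans h1.symm)
  · intro hbot
    rw [hbot, bot_sup_eq] at hmir
    exact hML (inf_eq_left.1 hmir)

/-- **B-G 12.17(d2)**: in the setting of S1424, if `t ∈ σ(L)` then `τ₁(L) ⊆ τ₁(M) ∪ α(M)`. -/
theorem lemma_12_17_d2 (hG : Cfsg.IsMinSimpleOddOrder G) (hU : UniquenessThm G)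
    (h1416 : H1416 G) (h1417 : H1417 G) (hW : NilpHallSigma G) (hβ : BetaHall G)
    {M L : Subgroup G} (hM : IsCoatom M) (hL : IsCoatom L) (hne : L ≠ M)
    {t : ℕ} [Fact t.Prime] (ht : t ∈ Cfsg.sigma M) {T : Subgroup G} (hTt : IsPGroup t T)
    (hT1 : T ≠ ⊥) (hTM : T ≤ M) (hNT : Subgroup.normalizer (T : Set G) ≤ L)
    (htL : t ∈ Cfsg.sigma L) :
    ∀ s ∈ Cfsg.tau1 L, s ∈ Cfsg.tau1 M ∨ s ∈ Cfsg.alpha M := by
  intro s hs
  obtain ⟨hsp, hsσL, hsL, hsL', hsr1⟩ := hs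
  haveI : Fact s.Prime := ⟨hsp⟩
  by_cases hsα : s ∈ Cfsg.alpha M
  · exact Or.inr hsα
  left
  have hr2 : Cfsg.PRankLE s 2 ↥M := by
    by_contra h
    exact hsα ⟨hsp, h⟩
  have hTL : T ≤ L := Subgroup.le_normalizer.trans hNT
  obtain ⟨S, hTS, hS⟩ := exists_isSylowIn_ge (le_inf hTM hTL) hTt
  obtain ⟨hnc, hNS, hSidx⟩ :=
    lemma_12_17 hG hU hM ht (h1416 M hM t) hTt hT1 hTM hne hNT hS hTS
  have hnc' : ∀ g : G, BG10.cj g M ≠ L := fun g h => hnc g h.symm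
  have hd1 := lemma_12_17_d1 hG hU h1416 hW hβ hM hL hne ht hTt hT1 hTM hNT htL
  have hmir := lemma_12_17_d1_mirror hG hU h1416 hW hβ hM hL hne ht hTt hT1 hTM hNT htL
  have hsβL : s ∉ Cfsg.beta L := fun h => h.1.2 (pRankLE_one_le_two hsr1)
  have hsβM : s ∉ Cfsg.beta M := fun h => hsα h.1
  -- `s ∣ |M|`
  obtain ⟨Ss, hSsL, hSsK⟩ := exists_isSylowIn_le_of_sup_eq (p := s)
    (Cfsg.Agent.Helper31.le_normalizer_piCoreOf _ L) hd1 (not_dvd_card_piCoreOf hsp hsβL L)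
  have hsSs : s ∣ Nat.card ↥Ss := by
    have h1 : Nat.card ↥Ss * Ss.relIndex L = Nat.card ↥L := by
      rw [← Subgroup.relIndex_bot_left, ← Subgroup.relIndex_bot_left,
        Subgroup.relIndex_mul_relIndex _ _ _ bot_le hSsL.1]
    rw [← h1] at hsL
    rcases (Nat.Prime.dvd_mul hsp).1 hsL with h | h
    · exact h
    · exact absurd h hSsL.2.2
  have hsM : s ∣ Nat.card ↥M :=
    hsSs.trans (Subgroup.card_dvd_of_le (hSsK.trans inf_le_left))
  -- `s ∤ |M'|`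
  have hsM' : ¬ s ∣ Nat.card ↥⁅M, M⁆ := by
    intro h
    have h1 := dvd_card_commutator_of_sup_eq hsp (Cfsg.Agent.Helper31.le_normalizer_piCoreOf _ M)
      hmir (not_dvd_card_piCoreOf hsp hsβM M) h
    exact hsL' (h1.trans (Subgroup.card_dvd_of_le
      (Subgroup.commutator_mono inf_le_right inf_le_right)))
  -- `s ∉ σ(M)`
  have hsσM : s ∉ Cfsg.sigma M := by
    intro hsσ
    obtain ⟨P, hPM, hNP, -, hP1⟩ := exists_sylow_of_mem_sigma hsσ
    have hPM' : P ≤ ⁅M, M⁆ := le_commutator_of_mem_sigma hG hU hM hsσ hPM.2.1 hPM.1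
    apply hsM'
    have hsP : s ∣ Nat.card ↥P := by
      obtain ⟨k, hk⟩ := IsPGroup.iff_card.1 hPM.2.1
      rw [hk]
      apply dvd_pow_self
      rintro rfl
      rw [pow_zero] at hk
      exact hP1 (Subgroup.card_eq_one.1 hk)
    exact hsP.trans (Subgroup.card_dvd_of_le hPM')
  -- rank at most one
  have hr1 : Cfsg.PRankLE s 1 ↥M := by
    by_contra hr1
    obtain ⟨A, hAM, hAe, hAc⟩ := exists_elementaryAbelian_sq hr2 hr1
    have hnil := (h1417 M hM s ⟨hsp, hsσM, hr2, hr1⟩ A hAM hAe hAc).1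
    exact ((sigma_disjoint hG hU hM hL hnc').2.2 hnil).1 t ht htL
  exact ⟨hsp, hsσM, hsM, hsM', hr1⟩

/-! ### (e2) -/

/-- the part of S1418 used for (e2): `C_G(A) ≤ E` -/
def H1418 (G : Type*) [Group G] : Prop :=
  ∀ (M : Subgroup G), IsCoatom M → ∀ E : Subgroup G, Cfsg.IsComplIn E (Cfsg.sigmaCore M) M →
    ∀ (p : ℕ) [Fact p.Prime], p ∈ Cfsg.tau2 M → ∀ A : Subgroup G, A ≤ E →
      Cfsg.IsElementaryAbelian p A → Nat.card A = p ^ 2 → Subgroup.centralizer (A : Set G) ≤ E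

/-- S1414, last conjunct: the primes dividing `|M : O_{p'}(M)|` are at most `p`, for `p ∉ β(M)` -/
def H1414idx (G : Type*) [Group G] : Prop :=
  ∀ M : Subgroup G, IsCoatom M → ∀ p : ℕ, p.Prime → p ∣ Nat.card M → p ∉ Cfsg.beta M →
    ∀ q : ℕ, q.Prime → q ∣ (Cfsg.pPrimeCore p ↥M).index → q ≤ p

omit [Finite G] in
/-- the image in `G` of a normal subgroup of `M` is normalized by `M` -/
theorem le_normalizer_map_subtype {M : Subgroup G} (N : Subgroup ↥M) [hN : N.Normal] :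
    M ≤ Subgroup.normalizer ((N.map M.subtype : Subgroup G) : Set G) := by
  intro x hx
  rw [Subgroup.mem_normalizer_iff]
  intro y
  constructor
  · rintro ⟨y', hy', rfl⟩
    exact ⟨⟨x, hx⟩ * y' * ⟨x, hx⟩⁻¹, hN.conj_mem y' hy' ⟨x, hx⟩, by simp⟩
  · rintro ⟨z, hz, hzeq⟩
    refine ⟨⟨x, hx⟩⁻¹ * z * ⟨x, hx⟩, ?_, ?_⟩
    · have := hN.conj_mem z hz ⟨x, hx⟩⁻¹
      simpa using this
    · simp only [map_mul, map_inv, Subgroup.subtype_apply]
      rw [Subgroup.subtype_apply] at hzeq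
      rw [hzeq]; group

omit [Finite G] in
/-- if `A` normalizes `X`, `X` normalizes `B ≥ A` and `X ∩ B = 1` then `X` centralizes `A` -/
theorem le_centralizer_of_inf_eq_bot {X A B : Subgroup G}
    (hAX : A ≤ Subgroup.normalizer (X : Set G)) (hXB : X ≤ Subgroup.normalizer (B : Set G))
    (hAB : A ≤ B) (hinf : X ⊓ B = ⊥) : X ≤ Subgroup.centralizer (A : Set G) := by
  intro x hx
  rw [Subgroup.mem_centralizer_iff]
  intro a ha
  have h1 : a * x⁻¹ * a⁻¹ ∈ X := (Subgroup.mem_normalizer_iff.1 (hAX ha) x⁻¹).1 (X.inv_mem hx)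
  have h2 : x * a * x⁻¹ ∈ B := (Subgroup.mem_normalizer_iff.1 (hXB hx) a).1 (hAB ha)
  have h3 : x * a * x⁻¹ * a⁻¹ ∈ X ⊓ B := by
    refine ⟨?_, B.mul_mem h2 (B.inv_mem (hAB ha))⟩
    have e : x * a * x⁻¹ * a⁻¹ = x * (a * x⁻¹ * a⁻¹) := by group
    rw [e]; exact X.mul_mem hx h1
  rw [hinf, Subgroup.mem_bot] at h3
  have e : x * a = (x * a * x⁻¹ * a⁻¹) * (a * x) := by group
  rw [e, h3, one_mul]

/-- an `r`-subgroup meets an `r'`-subgroup trivially -/
theorem inf_eq_bot_of_isPGroup_of_not_dvd {r : ℕ} [Fact r.Prime] {X B : Subgroup G}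
    (hX : IsPGroup r ↥X) (hB : ¬ r ∣ Nat.card ↥B) : X ⊓ B = ⊥ := by
  have h1 : IsPGroup r ↥(X ⊓ B) := hX.to_le inf_le_left
  obtain ⟨k, hk⟩ := IsPGroup.iff_card.1 h1
  rcases Nat.eq_zero_or_pos k with rfl | hpos
  · rw [pow_zero] at hk
    exact Subgroup.card_eq_one.1 hk
  · exfalso
    apply hB
    have : r ∣ Nat.card ↥(X ⊓ B) := by rw [hk]; exact dvd_pow_self r hpos.ne'
    exact this.trans (Subgroup.card_dvd_of_le inf_le_right)

/-- `O_{p'}(M)` as a subgroup of `G` -/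
theorem exists_pPrimeCoreOf (p : ℕ) [Fact p.Prime] (M : Subgroup G) :
    ∃ K : Subgroup G, K ≤ M ∧ M ≤ Subgroup.normalizer (K : Set G) ∧ ¬ p ∣ Nat.card ↥K ∧
      K.relIndex M = (Cfsg.pPrimeCore p ↥M).index := by
  have hpp : p.Prime := Fact.out
  refine ⟨(Cfsg.pPrimeCore p ↥M).map M.subtype, Subgroup.map_subtype_le _,
    le_normalizer_map_subtype _, ?_, ?_⟩
  · rw [Subgroup.card_map_of_injective M.subtype_injective]
    have := Cfsg.Agent.Lib.card_pPrimeCore_coprime (G := ↥M) p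
    exact fun h => hpp.one_lt.ne' (Nat.eq_one_of_dvd_coprimes this h (dvd_refl p))
  · rw [Subgroup.relIndex, Subgroup.subgroupOf,
      Subgroup.comap_map_eq_self_of_injective M.subtype_injective]

/-- a normal subgroup of `L` of index prime to `t` contains every `t`-subgroup of `L` -/
theorem le_of_not_dvd_relIndex {t : ℕ} [Fact t.Prime] {K L A : Subgroup G} (hKL : K ≤ L)
    (hLK : L ≤ Subgroup.normalizer (K : Set G)) (hidx : ¬ t ∣ K.relIndex L) (hAL : A ≤ L)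
    (hA : IsPGroup t ↥A) : A ≤ K := by
  have htp : t.Prime := Fact.out
  obtain ⟨P, -, hP⟩ := exists_isSylowIn_ge (p := t) (bot_le : (⊥ : Subgroup G) ≤ K) IsPGroup.of_bot
  have hPL : IsSylowIn t P L := by
    refine ⟨hP.1.trans hKL, hP.2.1, ?_⟩
    rw [← Subgroup.relIndex_mul_relIndex P K L hP.1 hKL]
    intro hd
    rcases (Nat.Prime.dvd_mul htp).1 hd with h | h
    · exact hP.2.2 h
    · exact hidx h
  obtain ⟨b, hbL, hb⟩ := exists_cj_le_of_isSylowIn hPL hAL hA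
  have h1 : BG10.cj b A ≤ K := hb.trans hP.1
  rw [cj_le_iff, cj_eq_of_mem_normalizer (hLK (L.inv_mem hbL))] at h1
  exact h1

/-- **B-G 12.17(e2)**: in the setting of S1424, if `t ∉ σ(L)` then `π(M) ∩ σ(L) ⊆ β(L)`. -/
theorem lemma_12_17_e2 (hG : Cfsg.IsMinSimpleOddOrder G) (hU : UniquenessThm G)
    (h1416 : H1416 G) (h1417 : H1417 G) (h1418 : H1418 G) (hidx : H1414idx G)
    {M L : Subgroup G} (hM : IsCoatom M) (hL : IsCoatom L) (hne : L ≠ M)
    {t : ℕ} [Fact t.Prime] (ht : t ∈ Cfsg.sigma M) {T : Subgroup G} (hTt : IsPGroup t T)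
    (hT1 : T ≠ ⊥) (hTM : T ≤ M) (hNT : Subgroup.normalizer (T : Set G) ≤ L)
    (htL : t ∉ Cfsg.sigma L) :
    ∀ r : ℕ, r.Prime → r ∣ Nat.card ↥M → r ∈ Cfsg.sigma L → r ∈ Cfsg.beta L := by
  intro r hrp hrM hrL
  by_contra hrβ
  haveI : Fact r.Prime := ⟨hrp⟩
  have htp : t.Prime := Fact.out
  have hTL : T ≤ L := Subgroup.le_normalizer.trans hNT
  obtain ⟨S, hTS, hS⟩ := exists_isSylowIn_ge (le_inf hTM hTL) hTt
  obtain ⟨hnc, hNS, hSidx⟩ :=
    lemma_12_17 hG hU hM ht (h1416 M hM t) hTt hT1 hTM hne hNT hS hTS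
  have hSL : IsSylowIn t S L := ⟨hS.1.trans inf_le_right, hS.2.1, hSidx⟩
  obtain ⟨hr2, hr1⟩ := (mem_sigma_or_rank_two hG hU hL T hTt hT1 hNT).resolve_left htL
  have htτ : t ∈ Cfsg.tau2 L := ⟨htp, htL, hr2, hr1⟩
  obtain ⟨A₀, hA₀L, hA₀e, hA₀c⟩ := exists_elementaryAbelian_sq hr2 hr1
  obtain ⟨a, haL, haS⟩ :=
    exists_cj_le_of_isSylowIn hSL hA₀L (isPGroup_of_isElementaryAbelian hA₀e)
  obtain ⟨A, hAdef⟩ : ∃ A : Subgroup G, A = BG10.cj a A₀ := ⟨_, rfl⟩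
  have hAe : Cfsg.IsElementaryAbelian t A := by
    rw [hAdef]; exact Cfsg.Agent.Helper64.BG1218.isElementaryAbelian_cj hA₀e a
  have hAc : Nat.card ↥A = t ^ 2 := by rw [hAdef, card_cj, hA₀c]
  have hAK : A ≤ M ⊓ L := by rw [hAdef]; exact haS.trans hS.1
  have hAt : IsPGroup t ↥A := isPGroup_of_isElementaryAbelian hAe
  have hcompl := lemma_12_17_e hG hU h1416 h1417 hM hL hne ht hTt hT1 hTM hNT htL
  have hCA : Subgroup.centralizer (A : Set G) ≤ M ⊓ L :=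
    h1418 L hL (M ⊓ L) hcompl t htτ A hAK hAe hAc
  have hnil : Group.IsNilpotent ↥(Cfsg.sigmaCore L) :=
    (h1417 L hL t htτ A (hAK.trans inf_le_right) hAe hAc).1
  have hncLM : ∀ g : G, BG10.cj g L ≠ M := by
    intro g hg
    apply hnc g⁻¹
    rw [← hg, cj_inv_cj]
  have hrσM : r ∉ Cfsg.sigma M := ((sigma_disjoint hG hU hL hM hncLM).2.2 hnil).1 r hrL
  have hrt : r ≠ t := by
    rintro rfl
    exact htL hrL
  -- a nontrivial `r`-subgroup centralizing `A` gives a contradiction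
  have key : ∀ X : Subgroup G, IsPGroup r ↥X → X ≠ ⊥ → X ≤ Subgroup.centralizer (A : Set G) →
      False := by
    intro X hXr hX1 hXC
    have hXK : X ≤ M ⊓ L := hXC.trans hCA
    have hXσ : X ≤ Cfsg.sigmaCore L :=
      le_sigmaCore_of_isPGroup hG hU hL hrL hXr (hXK.trans inf_le_right)
    apply hX1
    rw [eq_bot_iff, ← hcompl.2.2.1]
    exact le_inf hXK hXσ
  have htid : ¬ Cfsg.IsIdealPrime t G := (thm_10_5 hG hU L hL t hr2 hr1).1
  rcases lt_or_gt_of_ne hrt with hlt | hgt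
  · -- `r < t`: `A ≤ O_{r'}(L)` and `O_r(L_σ)` centralizes `A`
    obtain ⟨K, hKL, hLK, hrK, hKidx⟩ := exists_pPrimeCoreOf r L
    have htK : ¬ t ∣ K.relIndex L := by
      rw [hKidx]
      intro h
      exact absurd (hidx L hL r hrp hrL.2.1 hrβ t htp h) (not_le.2 hlt)
    have hAKK : A ≤ K := le_of_not_dvd_relIndex hKL hLK htK (hAK.trans inf_le_right) hAt
    obtain ⟨Q, hQL, -, -, hQ1⟩ := exists_sylow_of_mem_sigma hrL
    have hQσ : IsSylowIn r Q (Cfsg.sigmaCore L) := (isSylowIn_sigmaCore_iff hG hU hL hrL).2 hQL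
    have hLQ : L ≤ Subgroup.normalizer (Q : Set G) :=
      (le_normalizer_sigmaCore L).trans (IsSylowIn.normalizer_le_of_isNilpotent hQσ hnil)
    apply key Q hQL.2.1 hQ1
    exact le_centralizer_of_inf_eq_bot ((hAK.trans inf_le_right).trans hLQ) (hQL.1.trans hLK)
      hAKK (inf_eq_bot_of_isPGroup_of_not_dvd hQL.2.1 hrK)
  · -- `t < r`: an `A`-invariant Sylow `r`-subgroup of `O_{t'}(M)` is centralized by `A`
    obtain ⟨K, hKM, hMK, htK, hKidx⟩ := exists_pPrimeCoreOf t M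
    have htβM : t ∉ Cfsg.beta M := fun h => htid h.2
    have hrK : ¬ r ∣ K.relIndex M := by
      rw [hKidx]
      intro h
      exact absurd (hidx M hM t htp ht.2.1 htβM r hrp h) (not_le.2 hgt)
    have hrKc : r ∣ Nat.card ↥K := by
      have h1 : Nat.card ↥K * K.relIndex M = Nat.card ↥M := by
        rw [← Subgroup.relIndex_bot_left, ← Subgroup.relIndex_bot_left,
          Subgroup.relIndex_mul_relIndex _ _ _ bot_le hKM]
      rw [← h1] at hrM
      rcases (Nat.Prime.dvd_mul hrp).1 hrM with h | h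
      · exact h
      · exact absurd h hrK
    have hAM : A ≤ M := hAK.trans inf_le_left
    have hcop : (Nat.card ↥A).Coprime (Nat.card ↥K) := by
      rw [hAc]
      apply Nat.Coprime.pow_left
      rwa [Nat.Prime.coprime_iff_not_dvd htp]
    have hAsolv : Group.IsSolvable ↥A := by
      have := hAt.isNilpotent
      infer_instance
    obtain ⟨R, hR⟩ := Cfsg.Agent.Helper1.exists_invariant_sylow A K (hAM.trans hMK) hcop
      (Or.inl hAsolv) r
    have hR0r : IsPGroup r ↥((R : Subgroup ↥K).map K.subtype) := R.isPGroup'.map _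
    have hR0K : (R : Subgroup ↥K).map K.subtype ≤ K := Subgroup.map_subtype_le _
    have hR01 : (R : Subgroup ↥K).map K.subtype ≠ ⊥ := by
      intro h
      have h1 : Nat.card ↥((R : Subgroup ↥K).map K.subtype) = 1 := by rw [h, Subgroup.card_bot]
      rw [Subgroup.card_map_of_injective K.subtype_injective] at h1
      have h2 : r ∣ Nat.card ↥(R : Subgroup ↥K) := by
        rw [R.card_eq_multiplicity]
        exact dvd_pow_self r (ne_of_gt (hrp.factorization_pos_of_dvd Nat.card_pos.ne' hrKc))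
      rw [h1] at h2
      exact hrp.one_lt.ne' (Nat.dvd_one.1 h2)
    apply key _ hR0r hR01
    exact le_centralizer_of_inf_eq_bot hR ((hR0K.trans hKM).trans (le_normalizer_sigmaCore M))
      (le_sigmaCore_of_isPGroup hG hU hM ht hAt hAM)
      (inf_eq_bot_of_isPGroup_of_not_dvd hR0r (fun h => hrσM (primes_sigmaCore M r hrp h)))

/-! ### the hypotheses of `Helper64.BG1218` discharged -/

/-- `Hyp1217 M` from the statement-shaped parts of S1414, S1416, S1417, S1418 -/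
theorem hyp1217_of (hG : Cfsg.IsMinSimpleOddOrder G) (hU : UniquenessThm G)
    (h1416 : H1416 G) (h1417 : H1417 G) (h1418 : H1418 G) (hW : NilpHallSigma G)
    (hβ : BetaHall G) (hidx : H1414idx G) {M : Subgroup G} (hM : IsCoatom M) : Hyp1217 M := by
  intro q _ X S Ms hq hXq hX1 hXM hMs hMsM hNMs hS hXS
  constructor
  · intro hqσ
    exact lemma_12_17_d1 hG hU h1416 hW hβ hM hMs hMsM hq hXq hX1 hXM hNMs hqσ
  · intro hqσ
    refine ⟨?_, lemma_12_17_e2 hG hU h1416 h1417 h1418 hidx hM hMs hMsM hq hXq hX1 hXM hNMs hqσ⟩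
    have hc := lemma_12_17_e hG hU h1416 h1417 hM hMs hMsM hq hXq hX1 hXM hNMs hqσ
    apply le_antisymm (sup_le hc.2.1 hc.1)
    intro m hm
    obtain ⟨a, ha, b, hb, rfl⟩ := hc.2.2.2 m hm
    exact Subgroup.mul_mem _ (Subgroup.mem_sup_right ha) (Subgroup.mem_sup_left hb)

/-- `Hyp1417e M p` from helper23's `H1417` -/
theorem hyp1417e_of (h1417 : H1417 G) {M : Subgroup G} (hM : IsCoatom M) (p : ℕ) [Fact p.Prime] :
    Hyp1417e M p :=
  fun hτ A L hAM hAe hAc hL hLM hAL => (h1417 M hM p hτ A hAM hAe hAc).2.2.2 L hL hLM hAL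

/-- **B-G Lemma 12.18(a)** with statement-shaped hypotheses only. -/
theorem lemma_12_18a' (hG : Cfsg.IsMinSimpleOddOrder G) (hU : UniquenessThm G)
    (h1416 : H1416 G) (h1417 : H1417 G) (h1418 : H1418 G) (hW : NilpHallSigma G)
    (hβ : BetaHall G) (hidx : H1414idx G) {M : Subgroup G} (hM : IsCoatom M)
    {p : ℕ} [Fact p.Prime] (hpM : p ∣ Nat.card ↥M) (hpσ : p ∉ Cfsg.sigma M)
    (hideal : ¬ Cfsg.IsIdealPrime p G)
    {H : Subgroup G} (hH : IsCoatom H) (hconj : ∀ g : G, BG10.cj g M ≠ H)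
    {Y : Subgroup G} (hY1 : Y ≠ ⊥)
    (hYσ : ∀ r : ℕ, r.Prime → r ∣ Nat.card ↥Y → r ∈ Cfsg.sigma M) (hYH : Y ≤ H) :
    Cfsg.PRankLE p 1 ↥(H ⊓ Subgroup.normalizer (Y : Set G)) :=
  lemma_12_18a hG hU hM (hyp1217_of hG hU h1416 h1417 h1418 hW hβ hidx hM)
    (hyp1417e_of h1417 hM p) hpM hpσ hideal hH hconj hY1 hYσ hYH

/-- **B-G Lemma 12.18(b)** with statement-shaped hypotheses only. -/
theorem lemma_12_18b' (hG : Cfsg.IsMinSimpleOddOrder G) (hU : UniquenessThm G)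
    (h1416 : H1416 G) (h1417 : H1417 G) (h1418 : H1418 G) (hW : NilpHallSigma G)
    (hβ : BetaHall G) (hidx : H1414idx G) {M : Subgroup G} (hM : IsCoatom M)
    {p : ℕ} [Fact p.Prime] (hpM : p ∣ Nat.card ↥M) (hpσ : p ∉ Cfsg.sigma M)
    (hideal : ¬ Cfsg.IsIdealPrime p G) (hpM' : ¬ p ∣ Nat.card ↥⁅M, M⁆)
    {H : Subgroup G} {Y : Subgroup G} (hY1 : Y ≠ ⊥)
    (hYσ : ∀ r : ℕ, r.Prime → r ∣ Nat.card ↥Y → r ∈ Cfsg.sigma M) (hYH : Y ≤ H) :
    ¬ p ∣ Nat.card ↥⁅H ⊓ Subgroup.normalizer (Y : Set G),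
      H ⊓ Subgroup.normalizer (Y : Set G)⁆ :=
  lemma_12_18b hG (hyp1217_of hG hU h1416 h1417 h1418 hW hβ hidx hM) hpM hpσ hideal hpM' hY1
    hYσ hYH

end Cfsg.Agent.Helper64.BG1217D
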