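import Mathlib
import Cfsg.Prelude.Def_OddOrderLocal
import Cfsg.Agent.Helper64.BG1217D
import Cfsg.Agent.Helper29.CoprimeCount
import Cfsg.Agent.S0027

/-!
# Two coprime-action lemmas for B-G Theorem 13.4 (helper64; W3 and W4 of board post #3275)

* `exists_invariant_sylow_ge`: an `A`-invariant `p`-subgroup of `K` lies in an `A`-invariant Sylow
  `p`-subgroup of `K` (coprime action, `A` or `K` solvable);
* `exists_invariant_pgroup_commutator`: if `[K, R] ≠ 1` under coprime action then some `R`-invariant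
  `q`-subgroup `Q₀ ≠ 1` of `K` satisfies `[Q₀, R] = Q₀`.
-/

set_option autoImplicit false
set_option linter.unusedVariables false
set_option linter.unusedSectionVars false
set_option linter.style.haveILetI false

namespace Cfsg.Agent.Helper64.BG13W

open Cfsg Cfsg.Agent.Helper29 Cfsg.Agent.Helper29.BG10 Cfsg.Agent.Helper29.BG11
open scoped commutatorElement

variable {G : Type*} [Group G] [Finite G]

/-- **W3**: an `A`-invariant `p`-subgroup of `K` lies in an `A`-invariant Sylow `p`-subgroup. -/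
theorem exists_invariant_sylow_ge (A K P : Subgroup G)
    (hAK : A ≤ Subgroup.normalizer (K : Set G)) (hcop : (Nat.card ↥A).Coprime (Nat.card ↥K))
    (hsolv : Group.IsSolvable ↥A ∨ Group.IsSolvable ↥K) (p : ℕ) [Fact p.Prime]
    (hP : IsPGroup p ↥P) (hPK : P ≤ K) (hAP : A ≤ Subgroup.normalizer (P : Set G)) :
    ∃ S : Subgroup G, BG10.IsSylowIn p S K ∧ P ≤ S ∧ A ≤ Subgroup.normalizer (S : Set G) := by
  classical
  obtain ⟨Q, hPQ, hmax⟩ := Finite.exists_le_maximal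
    (p := fun Q : Subgroup G => P ≤ Q ∧ Q ≤ K ∧ IsPGroup p ↥Q ∧
      A ≤ Subgroup.normalizer (Q : Set G))
    (a := P) ⟨le_rfl, hPK, hP, hAP⟩
  obtain ⟨-, hQK, hQ, hAQ⟩ := hmax.prop
  refine ⟨Q, ?_, hPQ, hAQ⟩
  obtain ⟨M, hMdef⟩ : ∃ M : Subgroup G, M = K ⊓ Subgroup.normalizer (Q : Set G) := ⟨_, rfl⟩
  have hQM : Q ≤ M := by rw [hMdef]; exact le_inf hQK Subgroup.le_normalizer
  have hMK : M ≤ K := by rw [hMdef]; exact inf_le_left
  have hMN : M ≤ Subgroup.normalizer (Q : Set G) := by rw [hMdef]; exact inf_le_right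
  have hAM : A ≤ Subgroup.normalizer (M : Set G) := by
    rw [hMdef]
    exact le_trans (le_inf hAK (hAQ.trans Subgroup.le_normalizer))
      (Cfsg.Agent.Helper29.normalizer_inf_normalizer_le _ _)
  have hcopM : (Nat.card ↥A).Coprime (Nat.card ↥M) :=
    Nat.Coprime.coprime_dvd_right (Subgroup.card_dvd_of_le hMK) hcop
  have hsolvM : Group.IsSolvable ↥A ∨ Group.IsSolvable ↥M := by
    rcases hsolv with h | h
    · exact Or.inl h
    · exact Or.inr (solvable_of_solvable_injective (Subgroup.inclusion_injective hMK))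
  obtain ⟨S, hS⟩ := Cfsg.Agent.Helper1.exists_invariant_sylow A M hAM hcopM hsolvM p
  have hS'M : (S : Subgroup ↥M).map M.subtype ≤ M := Subgroup.map_subtype_le _
  haveI : (Q.subgroupOf M).Normal :=
    (Subgroup.normal_subgroupOf_iff_le_normalizer hQM).mpr hMN
  have hQS : Q.subgroupOf M ≤ S :=
    IsPGroup.le_sylow_of_normal (N := Q.subgroupOf M) hQ.comap_subtype S
  have hQS' : Q ≤ (S : Subgroup ↥M).map M.subtype := by
    intro x hx
    exact ⟨⟨x, hQM hx⟩, hQS (Subgroup.mem_subgroupOf.mpr hx), rfl⟩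
  have hS'Q : (S : Subgroup ↥M).map M.subtype ≤ Q :=
    hmax.le_of_ge ⟨hPQ.trans hQS', hS'M.trans hMK, S.2.map _, hS⟩ hQS'
  -- a Sylow subgroup of `K` containing `Q`
  obtain ⟨Y, hQY, hY⟩ := exists_isSylowIn_ge hQK hQ
  by_cases hQeq : Q = Y
  · rw [hQeq]; exact hY
  exfalso
  have hlt : Q < Y := lt_of_le_of_ne hQY hQeq
  obtain ⟨x, hxY, hxN, hxQ⟩ := Cfsg.Agent.Helper29.exists_normalizing p Y Q hY.2.1 hlt
  have hxM : x ∈ M := by rw [hMdef]; exact ⟨hY.1 hxY, hxN⟩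
  obtain ⟨Z, hZdef⟩ : ∃ Z : Subgroup G, Z = Q ⊔ Subgroup.zpowers x := ⟨_, rfl⟩
  have hZY : Z ≤ Y := by
    rw [hZdef]; exact sup_le hQY (by rw [Subgroup.zpowers_le]; exact hxY)
  have hZM : Z ≤ M := by
    rw [hZdef]; exact sup_le hQM (by rw [Subgroup.zpowers_le]; exact hxM)
  have hZq : IsPGroup p ↥Z := hY.2.1.to_le hZY
  have h1 : IsPGroup p ↥(Z.subgroupOf M) := hZq.comap_subtype
  have h2 : (S : Subgroup ↥M) ≤ Z.subgroupOf M := by
    intro y hy
    rw [Subgroup.mem_subgroupOf, hZdef]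
    exact (le_sup_left : Q ≤ Q ⊔ Subgroup.zpowers x) (hS'Q ⟨y, hy, rfl⟩)
  have h3 := S.is_maximal' h1 h2
  have hxZ : (⟨x, hxM⟩ : ↥M) ∈ Z.subgroupOf M := by
    rw [Subgroup.mem_subgroupOf, hZdef]
    exact (le_sup_right : Subgroup.zpowers x ≤ Q ⊔ Subgroup.zpowers x) (Subgroup.mem_zpowers x)
  rw [h3] at hxZ
  exact hxQ (hS'Q ⟨⟨x, hxM⟩, hxZ, rfl⟩)

/-- **W4**: under coprime action, if `[K, R] ≠ 1` then some nontrivial `R`-invariant `q`-subgroup
`Q₀` of `K` satisfies `[Q₀, R] = Q₀`. -/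
theorem exists_invariant_pgroup_commutator (R K : Subgroup G)
    (hRK : R ≤ Subgroup.normalizer (K : Set G)) (hcop : (Nat.card ↥R).Coprime (Nat.card ↥K))
    (hsolv : Group.IsSolvable ↥R ∨ Group.IsSolvable ↥K) (hne : ⁅K, R⁆ ≠ ⊥) :
    ∃ (q : ℕ) (Q0 : Subgroup G), q.Prime ∧ Q0 ≤ K ∧ IsPGroup q ↥Q0 ∧ Q0 ≠ ⊥ ∧
      R ≤ Subgroup.normalizer (Q0 : Set G) ∧ ⁅Q0, R⁆ = Q0 := by
  -- some `R`-invariant Sylow subgroup of `K` is not centralized by `R`
  have hex : ∃ (q : ℕ) (_ : Fact q.Prime) (Q : Subgroup G), BG10.IsSylowIn q Q K ∧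
      R ≤ Subgroup.normalizer (Q : Set G) ∧ ¬ Q ≤ Subgroup.centralizer (R : Set G) := by
    by_contra hcon
    push Not at hcon
    apply hne
    rw [Subgroup.commutator_eq_bot_iff_le_centralizer]
    have hCK : K ⊓ Subgroup.centralizer (R : Set G) = K := by
      apply Cfsg.Agent.Helper64.BG1217D.eq_of_forall_not_dvd_relIndex inf_le_left
      intro q hq
      haveI : Fact q.Prime := ⟨hq⟩
      obtain ⟨Q, hQ⟩ := Cfsg.Agent.Helper1.exists_invariant_sylow R K hRK hcop hsolv q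
      have hQK : BG10.IsSylowIn q ((Q : Subgroup ↥K).map K.subtype) K := isSylowIn_map_sylow Q
      exact Cfsg.Agent.Helper64.BG1217D.not_dvd_relIndex_of_isSylowIn_le hQK
        (le_inf hQK.1 (hcon q ⟨hq⟩ _ hQK hQ))
    exact inf_eq_left.1 hCK
  obtain ⟨q, hqF, Q, hQK, hRQ, hQC⟩ := hex
  have hqp : q.Prime := hqF.out
  have hQ0Q : ⁅Q, R⁆ ≤ Q := Subgroup.le_normalizer_iff_commutator_le_left.1 hRQ
  refine ⟨q, ⁅Q, R⁆, hqp, hQ0Q.trans hQK.1, hQK.2.1.to_le hQ0Q, ?_,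
    Cfsg.Agent.Helper23.BG13.le_normalizer_commutator hRQ Subgroup.le_normalizer, ?_⟩
  · intro h
    exact hQC (Subgroup.commutator_eq_bot_iff_le_centralizer.1 h)
  · have hcopQ : (Nat.card ↥R).Coprime (Nat.card ↥Q) :=
      Nat.Coprime.coprime_dvd_right (Subgroup.card_dvd_of_le hQK.1) hcop
    have hQsolv : Group.IsSolvable ↥Q := by
      have := hQK.2.1.isNilpotent
      infer_instance
    exact Cfsg.Agent.S0027.result R Q hRQ hcopQ (Or.inr hQsolv)

end Cfsg.Agent.Helper64.BG13W
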