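import Mathlib
import Cfsg.Prelude.Def_Transfer
import Cfsg.Prelude.Def_PLocal
import Cfsg.Agent.Lib.Cores
import Cfsg.Agent.Lib.ZJ
import Cfsg.Agent.Helper64.PNilp
import Cfsg.Agent.Helper64.QuadAction
import Cfsg.Agent.Helper1.CoprimeSylow
import Cfsg.Agent.Helper11.PSolvable
import Cfsg.Agent.Helper78.PNilpotent

/-!
# The Glauberman–Thompson normal `p`-complement theorem, for a general "ZJ-type" functor

`GTFunctor p W` collects what is needed of a functor `W` on `p`-subgroups (`W S ≤ S`, nontrivial,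
compatible with homomorphisms injective on `S`, and normal in every `p`-stable group `K` with
`C_K(O_p(K)) ≤ O_p(K)` when `S` is Sylow).  For such a functor and `p` odd:
`N_G(W(P))` has a normal `p`-complement ⟹ `G` has one  (`hasNormalPComplement_of_gtFunctor`).
-/

namespace Cfsg.Agent.Helper64

open Subgroup
open scoped commutatorElement

universe u

/-- data for a Glauberman-type functor -/
structure GTFunctor (p : ℕ) (W : ∀ (K : Type u) [Group K], Subgroup K → Subgroup K) : Prop where
  le : ∀ (K : Type u) [Group K] (S : Subgroup K), W K S ≤ S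
  ne_bot : ∀ (K : Type u) [Group K] [Finite K] (S : Subgroup K), IsPGroup p S → S ≠ ⊥ → W K S ≠ ⊥
  map : ∀ (K K' : Type u) [Group K] [Group K'] [Finite K] [Finite K'] (f : K →* K')
      (S : Subgroup K), Function.Injective (f.comp S.subtype) → W K' (S.map f) = (W K S).map f
  normal : ∀ (K : Type u) [Group K] [Finite K],
      centralizer (Cfsg.pCore p K : Set K) ≤ Cfsg.pCore p K →
      (∀ (V : Subgroup K) [V.Normal], IsPGroup p V → Cfsg.IsPStableOn p V) →
      ∀ S : Sylow p K, (W K (S : Subgroup K)).Normal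

section basic

variable {p : ℕ} {W : ∀ (K : Type u) [Group K], Subgroup K → Subgroup K}

theorem map_conj_eq_of_mem_normalizer {G : Type*} [Group G] {S : Subgroup G} {g : G}
    (hg : g ∈ normalizer (S : Set G)) : S.map (MulAut.conj g).toMonoidHom = S := by
  ext x
  rw [Subgroup.mem_map]
  constructor
  · rintro ⟨s, hs, rfl⟩
    exact (mem_normalizer_iff.mp hg s).mp hs
  · intro hx
    refine ⟨g⁻¹ * x * g, ?_, ?_⟩
    · rw [mem_normalizer_iff] at hg
      rw [hg]
      simpa [mul_assoc] using hx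
    · simp [mul_assoc]

theorem mem_normalizer_of_map_conj_eq {G : Type*} [Group G] {S : Subgroup G} {g : G}
    (h : S.map (MulAut.conj g).toMonoidHom = S) : g ∈ normalizer (S : Set G) := by
  rw [mem_normalizer_iff]
  intro x
  constructor
  · intro hx
    rw [← h]
    exact ⟨x, hx, rfl⟩
  · intro hx
    rw [← h] at hx
    obtain ⟨s, hs, hsx⟩ := hx
    have : s = x := by
      have := (MulAut.conj g).injective hsx
      exact this
    rwa [← this]

theorem GTFunctor.normalizer_le (hW : GTFunctor p W) (G : Type u) [Group G] [Finite G]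
    (S : Subgroup G) : normalizer (S : Set G) ≤ normalizer (W G S : Set G) := by
  intro g hg
  apply mem_normalizer_of_map_conj_eq
  have hinj : Function.Injective ((MulAut.conj g).toMonoidHom.comp S.subtype) :=
    (MulAut.conj g).injective.comp S.subtype_injective
  rw [← hW.map G G (MulAut.conj g).toMonoidHom S hinj, map_conj_eq_of_mem_normalizer hg]

theorem GTFunctor.isPGroup (hW : GTFunctor p W) (G : Type u) [Group G] {S : Subgroup G}
    (hS : IsPGroup p S) : IsPGroup p (W G S) := hS.to_le (hW.le G S)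

variable [hp : Fact p.Prime]

/-- the hypothesis does not depend on the Sylow subgroup -/
theorem GTFunctor.hyp_all (hW : GTFunctor p W) (G : Type u) [Group G] [Finite G] (P P' : Sylow p G)
    (h : Cfsg.HasNormalPComplement p (normalizer (W G (P : Subgroup G) : Set G))) :
    Cfsg.HasNormalPComplement p (normalizer (W G (P' : Subgroup G) : Set G)) := by
  obtain ⟨g, hg⟩ := MulAction.exists_smul_eq G P P'
  have h1 : (P' : Subgroup G) = (P : Subgroup G).map (MulAut.conj g).toMonoidHom := by
    rw [← hg, Sylow.coe_subgroup_smul]; rfl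
  have hinj : Function.Injective ((MulAut.conj g).toMonoidHom.comp (P : Subgroup G).subtype) :=
    (MulAut.conj g).injective.comp (P : Subgroup G).subtype_injective
  rw [h1, hW.map G G (MulAut.conj g).toMonoidHom (P : Subgroup G) hinj,
    ← Subgroup.map_equiv_normalizer_eq]
  exact hasNormalPComplement_map _ _ h

/-- transfer of (non-)`p`-nilpotency of a normalizer from a subgroup to the ambient group -/
theorem hasNormalPComplement_normalizer_of_subtype {G : Type u} [Group G] [Finite G] (N : Subgroup G)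
    (A' : Subgroup N)
    (h : Cfsg.HasNormalPComplement p (normalizer ((A'.map N.subtype : Subgroup G) : Set G))) :
    Cfsg.HasNormalPComplement p (normalizer (A' : Set N)) := by
  have h1 : (normalizer (A' : Set N)).map N.subtype ≤
      normalizer ((A'.map N.subtype : Subgroup G) : Set G) := Subgroup.le_normalizer_map N.subtype
  exact hasNormalPComplement_of_map_injective N.subtype N.subtype_injective _
    (hasNormalPComplement_mono h1 h)

end basic


section main

variable {p : ℕ} [hp : Fact p.Prime] {W : ∀ (K : Type u) [Group K], Subgroup K → Subgroup K}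

/-- the induction hypothesis: the theorem holds for groups of smaller order -/
def GTIH (p : ℕ) (W : ∀ (K : Type u) [Group K], Subgroup K → Subgroup K) (n : ℕ) : Prop :=
  ∀ (G' : Type u) [Group G'] [Finite G'], Nat.card G' < n →
    (∀ P' : Sylow p G', Cfsg.HasNormalPComplement p (normalizer (W G' (P' : Subgroup G') : Set G'))) →
    Cfsg.HasNormalPComplement p G'

theorem card_subgroup_lt_of_ne_top {G : Type*} [Group G] [Finite G] {N : Subgroup G} (h : N ≠ ⊤) :
    Nat.card N < Nat.card G := by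
  have := Cfsg.Agent.Lib.ZJ.card_lt_of_lt (lt_top_iff_ne_top.mpr h)
  rwa [Subgroup.card_top] at this

/-- hypothesis passes to subgroups containing a Sylow subgroup -/
theorem GTFunctor.hyp_subgroup (hW : GTFunctor p W) (G : Type u) [Group G] [Finite G]
    (P : Sylow p G) (h : Cfsg.HasNormalPComplement p (normalizer (W G (P : Subgroup G) : Set G)))
    (X : Subgroup G) (hPX : (P : Subgroup G) ≤ X) (P' : Sylow p X) :
    Cfsg.HasNormalPComplement p (normalizer (W X (P' : Subgroup X) : Set X)) := by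
  apply hW.hyp_all X (P.subtype hPX) P'
  apply hasNormalPComplement_normalizer_of_subtype
  have hinj : Function.Injective (X.subtype.comp ((P.subtype hPX : Sylow p X) : Subgroup X).subtype) :=
    X.subtype_injective.comp (Subgroup.subtype_injective _)
  rw [← hW.map X G X.subtype _ hinj, Sylow.coe_subtype, Subgroup.map_subgroupOf_eq_of_le hPX]
  exact h

/-- **Step B**: a nontrivial `p`-subgroup whose normalizer is proper and not `p`-nilpotent can be
replaced by one with a larger `p`-part of the normalizer. -/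
theorem GTFunctor.stepB (hW : GTFunctor p W) (G : Type u) [Group G] [Finite G]
    (ih : GTIH p W (Nat.card G))
    (hyp : ∀ P : Sylow p G, Cfsg.HasNormalPComplement p (normalizer (W G (P : Subgroup G) : Set G)))
    (Q : Subgroup G) (hQ : IsPGroup p Q) (hQ1 : Q ≠ ⊥)
    (hQn : ¬ Cfsg.HasNormalPComplement p (normalizer (Q : Set G)))
    (hne : normalizer (Q : Set G) ≠ ⊤) :
    ∃ Q' : Subgroup G, IsPGroup p Q' ∧ Q' ≠ ⊥ ∧
      ¬ Cfsg.HasNormalPComplement p (normalizer (Q' : Set G)) ∧
      (Nat.card (normalizer (Q : Set G))).factorization p <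
        (Nat.card (normalizer (Q' : Set G))).factorization p := by
  set N := normalizer (Q : Set G) with hN
  have hcard : Nat.card N < Nat.card G := card_subgroup_lt_of_ne_top hne
  have hex : ∃ R' : Sylow p N,
      ¬ Cfsg.HasNormalPComplement p (normalizer (W N (R' : Subgroup N) : Set N)) := by
    by_contra hcon
    push Not at hcon
    exact hQn (ih N hcard hcon)
  obtain ⟨R', hR'⟩ := hex
  set R : Subgroup G := (R' : Subgroup N).map N.subtype with hR
  have hRp : IsPGroup p R := R'.2.map N.subtype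
  have hinj : Function.Injective (N.subtype.comp (R' : Subgroup N).subtype) :=
    N.subtype_injective.comp (Subgroup.subtype_injective _)
  have hWR : W G R = (W N (R' : Subgroup N)).map N.subtype := hW.map N G N.subtype _ hinj
  have hQR : Q ≤ R := by
    have hQn' : (Q.subgroupOf N).Normal := by rw [hN]; exact Subgroup.normal_in_normalizer
    have h1 : Q.subgroupOf N ≤ R' :=
      Cfsg.Agent.Lib.normal_pGroup_le_sylow hQn' (hQ.comap_subtype) R'
    have h2 := Subgroup.map_mono (f := N.subtype) h1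
    rwa [Subgroup.map_subgroupOf_eq_of_le (by rw [hN]; exact le_normalizer)] at h2
  have hR1 : R ≠ ⊥ := fun h => hQ1 (le_bot_iff.mp (h ▸ hQR))
  have hnot : ¬ Cfsg.HasNormalPComplement p (normalizer (W G R : Set G)) := by
    intro h
    rw [hWR] at h
    exact hR' (hasNormalPComplement_normalizer_of_subtype N _ h)
  refine ⟨W G R, hW.isPGroup G hRp, hW.ne_bot G R hRp hR1, hnot, ?_⟩
  -- the `p`-part grows
  have hcardR : Nat.card R = p ^ (Nat.card N).factorization p := by
    rw [hR, Subgroup.card_map_of_injective N.subtype_injective, R'.card_eq_multiplicity]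
  obtain ⟨S, hRS⟩ := hRp.exists_le_sylow
  have hRS' : R ≠ S := by
    intro h
    apply hnot
    rw [h]
    exact hyp S
  have hlt : R < S := lt_of_le_of_ne hRS hRS'
  obtain ⟨x, hxS, hxR, hxN⟩ := Cfsg.Agent.Helper78.exists_mem_normalizer_not_mem (S : Subgroup G) S.2 R hlt
  set R₁ := R ⊔ zpowers x with hR₁
  have hR₁S : R₁ ≤ S := sup_le hRS (by rw [Subgroup.zpowers_le]; exact hxS)
  have hR₁p : IsPGroup p R₁ := S.2.to_le hR₁S
  have hRR₁ : R < R₁ := by
    refine lt_of_le_of_ne le_sup_left fun h => hxR ?_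
    rw [h]
    exact Subgroup.mem_sup_right (Subgroup.mem_zpowers x)
  have hR₁N : R₁ ≤ normalizer (W G R : Set G) := by
    refine le_trans ?_ (hW.normalizer_le G R)
    exact sup_le le_normalizer (by rw [Subgroup.zpowers_le]; exact hxN)
  obtain ⟨j, hj⟩ := IsPGroup.iff_card.mp hR₁p
  have hcardlt := Cfsg.Agent.Lib.ZJ.card_lt_of_lt hRR₁
  rw [hcardR, hj] at hcardlt
  have hjlt : (Nat.card N).factorization p < j := (Nat.pow_lt_pow_iff_right hp.out.one_lt).mp hcardlt
  have hdvd : p ^ j ∣ Nat.card (normalizer (W G R : Set G)) := by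
    rw [← hj]
    exact Subgroup.card_dvd_of_le hR₁N
  have hjle : j ≤ (Nat.card (normalizer (W G R : Set G))).factorization p :=
    (hp.out.pow_dvd_iff_le_factorization Nat.card_pos.ne').mp hdvd
  exact lt_of_lt_of_le hjlt hjle


/-- the `p`-part of the order of a subgroup is at most that of the group -/
theorem factorization_card_le {G : Type*} [Group G] [Finite G] (N : Subgroup G) (q : ℕ) :
    (Nat.card N).factorization q ≤ (Nat.card G).factorization q :=
  (Nat.factorization_le_iff_dvd Nat.card_pos.ne' Nat.card_pos.ne').mpr (Subgroup.card_subgroup_dvd_card N) q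

/-- **Lemma A'**: a nontrivial `p`-subgroup normalized by a Sylow `p`-subgroup is normal, or its
normalizer is `p`-nilpotent. -/
theorem GTFunctor.normalizer_eq_top_of_sylow_le (hW : GTFunctor p W) (G : Type u) [Group G] [Finite G]
    (ih : GTIH p W (Nat.card G))
    (hyp : ∀ P : Sylow p G, Cfsg.HasNormalPComplement p (normalizer (W G (P : Subgroup G) : Set G)))
    (K : Subgroup G) (hK : IsPGroup p K) (hK1 : K ≠ ⊥)
    (hKn : ¬ Cfsg.HasNormalPComplement p (normalizer (K : Set G)))
    (P : Sylow p G) (hPK : (P : Subgroup G) ≤ normalizer (K : Set G)) :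
    normalizer (K : Set G) = ⊤ := by
  by_contra hne
  obtain ⟨Q', -, -, -, hlt⟩ := hW.stepB G ih hyp K hK hK1 hKn hne
  have h1 : (Nat.card G).factorization p ≤ (Nat.card (normalizer (K : Set G))).factorization p := by
    have hd : p ^ (Nat.card G).factorization p ∣ Nat.card (normalizer (K : Set G)) := by
      rw [← P.card_eq_multiplicity]
      exact Subgroup.card_dvd_of_le hPK
    exact (hp.out.pow_dvd_iff_le_factorization Nat.card_pos.ne').mp hd
  have h2 := factorization_card_le (normalizer (Q' : Set G)) p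
  omega

/-- **Lemma A**: in a counterexample of minimal order, `O_p(G) ≠ 1`. -/
theorem GTFunctor.pCore_ne_bot (hW : GTFunctor p W) (G : Type u) [Group G] [Finite G]
    (ih : GTIH p W (Nat.card G))
    (hyp : ∀ P : Sylow p G, Cfsg.HasNormalPComplement p (normalizer (W G (P : Subgroup G) : Set G)))
    (hG : ¬ Cfsg.HasNormalPComplement p G) : Cfsg.pCore p G ≠ ⊥ := by
  set 𝓗 : Set (Subgroup G) := {Q | IsPGroup p Q ∧ Q ≠ ⊥ ∧
    ¬ Cfsg.HasNormalPComplement p (normalizer (Q : Set G))} with h𝓗
  have hne : 𝓗.Nonempty := by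
    by_contra hemp
    apply hG
    rw [Cfsg.Agent.Helper78.hasNormalPComplement_iff_normalizers]
    intro Q hQ hQ1
    by_contra hQn
    exact hemp ⟨Q, hQ, hQ1, hQn⟩
  obtain ⟨Q₀, ⟨hQ₀p, hQ₀1, hQ₀n⟩, hmax⟩ := Set.exists_max_image 𝓗
    (fun Q => (Nat.card (normalizer (Q : Set G))).factorization p) (Set.toFinite _) hne
  have htop : normalizer (Q₀ : Set G) = ⊤ := by
    by_contra hnt
    obtain ⟨Q', hQ'p, hQ'1, hQ'n, hlt⟩ := hW.stepB G ih hyp Q₀ hQ₀p hQ₀1 hQ₀n hnt
    have := hmax Q' ⟨hQ'p, hQ'1, hQ'n⟩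
    omega
  have hQ₀normal : Q₀.Normal := Subgroup.normalizer_eq_top_iff.mp htop
  intro hbot
  apply hQ₀1
  rw [← le_bot_iff, ← hbot]
  exact Cfsg.Agent.Lib.le_pCore hQ₀normal hQ₀p

/-- **Step D**: in a counterexample of minimal order, `G / O_p(G)` is `p`-nilpotent. -/
theorem GTFunctor.quotient_pCore (hW : GTFunctor p W) (G : Type u) [Group G] [Finite G]
    (ih : GTIH p W (Nat.card G))
    (hyp : ∀ P : Sylow p G, Cfsg.HasNormalPComplement p (normalizer (W G (P : Subgroup G) : Set G)))
    (hG : ¬ Cfsg.HasNormalPComplement p G) (H : Subgroup G) [hHn : H.Normal]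
    (hH : H = Cfsg.pCore p G) : Cfsg.HasNormalPComplement p (G ⧸ H) := by
  have hH1 : H ≠ ⊥ := hH ▸ hW.pCore_ne_bot G ih hyp hG
  have hHp : IsPGroup p H := hH ▸ Cfsg.Agent.Lib.isPGroup_pCore p
  obtain ⟨P⟩ : Nonempty (Sylow p G) := inferInstance
  have hHP : H ≤ P := hH ▸ Cfsg.Agent.Lib.pCore_le_sylow P
  -- `H ≠ P`
  have hHneP : H ≠ P := by
    intro h
    apply hG
    have hPn : (P : Subgroup G).Normal := h ▸ hHn
    have h1 : normalizer ((P : Subgroup G) : Set G) = ⊤ := Subgroup.normalizer_eq_top_iff.mpr hPn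
    have h2 : normalizer (W G (P : Subgroup G) : Set G) = ⊤ := by
      rw [eq_top_iff, ← h1]; exact hW.normalizer_le G _
    have h3 := hyp P
    rw [h2] at h3
    exact hasNormalPComplement_of_top h3
  set π := QuotientGroup.mk' H with hπ
  have hπs : Function.Surjective π := QuotientGroup.mk'_surjective H
  have hker : π.ker = H := QuotientGroup.ker_mk' H
  have hcard : Nat.card (G ⧸ H) < Nat.card G := by
    rw [← Subgroup.index_eq_card, ← Subgroup.card_mul_index H]
    have h1 : 1 < Nat.card H := (Subgroup.one_lt_card_iff_ne_bot H).mpr hH1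
    have h2 : 0 < H.index := Nat.pos_of_ne_zero Subgroup.index_ne_zero_of_finite
    nlinarith
  apply ih (G ⧸ H) hcard
  intro P''
  apply hW.hyp_all (G ⧸ H) (P.mapSurjective hπs) P''
  rw [Sylow.coe_mapSurjective]
  set Pb : Subgroup (G ⧸ H) := (P : Subgroup G).map π with hPb
  have hPbp : IsPGroup p Pb := P.2.map π
  have hPb1 : Pb ≠ ⊥ := by
    intro h
    rw [hPb, Subgroup.map_eq_bot_iff, hker] at h
    exact hHneP (le_antisymm hHP h)
  set Zb := W (G ⧸ H) Pb with hZb
  have hZb1 : Zb ≠ ⊥ := hW.ne_bot (G ⧸ H) Pb hPbp hPb1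
  have hZbp : IsPGroup p Zb := hW.isPGroup (G ⧸ H) hPbp
  set K := Zb.comap π with hK
  have hKp : IsPGroup p K := hZbp.comap_of_ker_isPGroup π (hker.symm ▸ hHp)
  have hHK : H ≤ K := by
    rw [← hker]; exact Subgroup.ker_le_comap π Zb
  have hK1 : K ≠ ⊥ := fun h => hH1 (le_bot_iff.mp (h ▸ hHK))
  have hKmap : K.map π = Zb := Subgroup.map_comap_eq_self_of_surjective hπs Zb
  have hKnn : ¬ K.Normal := by
    intro hKn
    have h1 : K ≤ H := hH ▸ Cfsg.Agent.Lib.le_pCore hKn hKp
    apply hZb1
    rw [← hKmap, Subgroup.map_eq_bot_iff, hker]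
    exact h1
  have hPK : (P : Subgroup G) ≤ normalizer (K : Set G) := by
    intro x hx
    have h1 : π x ∈ normalizer (Zb : Set (G ⧸ H)) :=
      hW.normalizer_le (G ⧸ H) Pb (le_normalizer (Subgroup.mem_map_of_mem π hx))
    exact Subgroup.le_normalizer_comap π h1
  have hKnil : Cfsg.HasNormalPComplement p (normalizer (K : Set G)) := by
    by_contra hcon
    have := hW.normalizer_eq_top_of_sylow_le G ih hyp K hKp hK1 hcon P hPK
    exact hKnn (Subgroup.normalizer_eq_top_iff.mp this)
  have hnorm : normalizer (Zb : Set (G ⧸ H)) = (normalizer (K : Set G)).map π := by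
    rw [hK, ← Subgroup.comap_normalizer_eq_of_surjective Zb hπs,
      Subgroup.map_comap_eq_self_of_surjective hπs]
  rw [hnorm]
  exact hasNormalPComplement_map π _ hKnil

/-- **Step E**: in a counterexample of minimal order, `O_{p'}(G) = 1`. -/
theorem GTFunctor.pPrimeCore_eq_bot (hW : GTFunctor p W) (G : Type u) [Group G] [Finite G]
    (ih : GTIH p W (Nat.card G))
    (hyp : ∀ P : Sylow p G, Cfsg.HasNormalPComplement p (normalizer (W G (P : Subgroup G) : Set G)))
    (hG : ¬ Cfsg.HasNormalPComplement p G) : Cfsg.pPrimeCore p G = ⊥ := by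
  by_contra hK1
  have hKn : (Cfsg.pPrimeCore p G).Normal := by
    have := Cfsg.Agent.Lib.pPrimeCore_characteristic (G := G) p
    infer_instance
  set K := Cfsg.pPrimeCore p G with hK
  have hKc : (Nat.card K).Coprime p := Cfsg.Agent.Lib.card_pPrimeCore_coprime p
  apply hG
  apply hasNormalPComplement_of_quotient K hKc
  set π := QuotientGroup.mk' K with hπ
  have hπs : Function.Surjective π := QuotientGroup.mk'_surjective K
  have hker : π.ker = K := QuotientGroup.ker_mk' K
  have hcard : Nat.card (G ⧸ K) < Nat.card G := by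
    rw [← Subgroup.index_eq_card, ← Subgroup.card_mul_index K]
    have h1 : 1 < Nat.card K := (Subgroup.one_lt_card_iff_ne_bot K).mpr hK1
    have h2 : 0 < K.index := Nat.pos_of_ne_zero Subgroup.index_ne_zero_of_finite
    nlinarith
  apply ih (G ⧸ K) hcard
  intro P''
  obtain ⟨P⟩ : Nonempty (Sylow p G) := inferInstance
  apply hW.hyp_all (G ⧸ K) (P.mapSurjective hπs) P''
  rw [Sylow.coe_mapSurjective]
  have hdisj : (P : Subgroup G) ⊓ π.ker = ⊥ := by
    rw [hker]
    apply (Subgroup.disjoint_of_coprime_natCard _).eq_bot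
    obtain ⟨n, hn⟩ := IsPGroup.iff_card.1 P.2
    rw [hn]
    exact (Nat.Coprime.pow_right n hKc).symm
  have hinj : Function.Injective (π.comp (P : Subgroup G).subtype) := by
    rw [injective_iff_map_eq_one]
    intro x hx
    have h1 : (x : G) ∈ (P : Subgroup G) ⊓ π.ker := ⟨x.2, hx⟩
    rw [hdisj, Subgroup.mem_bot] at h1
    exact Subtype.ext h1
  rw [hW.map G (G ⧸ K) π (P : Subgroup G) hinj]
  set Z := W G (P : Subgroup G) with hZ
  have hZp : IsPGroup p Z := hW.isPGroup G P.2
  have hnorm : normalizer ((Z.map π : Subgroup (G ⧸ K)) : Set (G ⧸ K)) =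
      (normalizer (Z : Set G)).map π := by
    apply le_antisymm
    · intro xb hxb
      obtain ⟨x, rfl⟩ := hπs xb
      obtain ⟨g, hg, hgx⟩ :=
        Cfsg.Agent.Helper54.exists_mem_normalizer_map_eq π (by rw [hker]; exact hKc) Z hZp x hxb
      exact ⟨g, hg, hgx⟩
    · exact Subgroup.le_normalizer_map π
  rw [hnorm]
  exact hasNormalPComplement_map π _ (hyp P)


/-- **Step F**: if `O_{p'}(G) = 1` and `G / O_p(G)` is `p`-nilpotent then `C_G(O_p(G)) ≤ O_p(G)`. -/
theorem centralizer_le_of_quotient_hasNormalPComplement (G : Type u) [Group G] [Finite G]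
    (H : Subgroup G) [hHn : H.Normal] (hH : H = Cfsg.pCore p G) (hO : Cfsg.pPrimeCore p G = ⊥)
    (hq : Cfsg.HasNormalPComplement p (G ⧸ H)) : centralizer (H : Set G) ≤ H := by
  have hHp : IsPGroup p H := hH ▸ Cfsg.Agent.Lib.isPGroup_pCore p
  rw [hasNormalPComplement_iff_exists] at hq
  obtain ⟨Nb, hNbn, hNbc, k, hk⟩ := hq
  set π := QuotientGroup.mk' H with hπ
  have hπs : Function.Surjective π := QuotientGroup.mk'_surjective H
  have hker : π.ker = H := QuotientGroup.ker_mk' H
  set M := Nb.comap π with hM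
  have hMn : M.Normal := hNbn.comap π
  have hHM : H ≤ M := by rw [← hker]; exact Subgroup.ker_le_comap π Nb
  have hMi : M.index = p ^ k := by rw [hM, Subgroup.index_comap_of_surjective Nb hπs, hk]
  have hMp : (H.relIndex M).Coprime p := by
    rw [← hker, Subgroup.relIndex_ker, hM, Subgroup.map_comap_eq_self_of_surjective hπs]
    exact hNbc
  set C := centralizer (H : Set G) with hC
  have hCn : C.Normal := Subgroup.normal_centralizer
  have hEn : (C ⊓ H).Normal := inferInstance
  have hDn : (C ⊓ M).Normal := inferInstance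
  have hED : C ⊓ H ≤ C ⊓ M := inf_le_inf_left C hHM
  have hE : IsPGroup p (C ⊓ H : Subgroup G) := hHp.to_le inf_le_right
  have hcent : ∀ e ∈ C ⊓ H, ∀ d ∈ C ⊓ M, e * d = d * e := by
    intro e he d hd
    exact (mem_centralizer_iff.mp hd.1) e he.2
  have hco : ((C ⊓ H).relIndex (C ⊓ M)).Coprime p := by
    have h1 : C ⊓ H = H ⊓ (C ⊓ M) := by
      rw [inf_comm H, inf_assoc, inf_eq_right.mpr hHM]
    rw [h1, Subgroup.inf_relIndex_right]
    exact Nat.Coprime.coprime_dvd_left
      (Cfsg.Agent.Helper11.relIndex_dvd_relIndex_of_le_right (H := H) (inf_le_right : C ⊓ M ≤ M)) hMp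
  have hDp : IsPGroup p (C ⊓ M : Subgroup G) :=
    Cfsg.Agent.Helper11.isPGroup_of_central_of_coprime_relIndex hO (C ⊓ H) (C ⊓ M) hED hE hcent hco
  have hCp : IsPGroup p C := by
    rintro ⟨c, hc⟩
    have h1 : c ^ (p ^ k) ∈ C ⊓ M := ⟨Subgroup.pow_mem _ hc _, hMi ▸ M.pow_index_mem c⟩
    obtain ⟨j, hj⟩ := hDp ⟨_, h1⟩
    refine ⟨k + j, ?_⟩
    apply Subtype.ext
    have := congrArg Subtype.val hj
    simp only [Subgroup.coe_pow, Subgroup.coe_one] at this ⊢
    rw [pow_add, pow_mul]
    exact this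
  rw [hH]
  exact Cfsg.Agent.Lib.le_pCore hCn hCp

/-- **Step G**: in a minimal counterexample, a Sylow `p`-subgroup is a maximal subgroup. -/
theorem GTFunctor.eq_of_sylow_le (hW : GTFunctor p W) (G : Type u) [Group G] [Finite G]
    (ih : GTIH p W (Nat.card G))
    (hyp : ∀ P : Sylow p G, Cfsg.HasNormalPComplement p (normalizer (W G (P : Subgroup G) : Set G)))
    (H : Subgroup G) [hHn : H.Normal] (hH : H = Cfsg.pCore p G)
    (hc : centralizer (H : Set G) ≤ H) (P : Sylow p G) (X : Subgroup G)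
    (hPX : (P : Subgroup G) ≤ X) (hX : X ≠ ⊤) : X = P := by
  have hHp : IsPGroup p H := hH ▸ Cfsg.Agent.Lib.isPGroup_pCore p
  have hHP : H ≤ P := hH ▸ Cfsg.Agent.Lib.pCore_le_sylow P
  have hcard : Nat.card X < Nat.card G := card_subgroup_lt_of_ne_top hX
  have hXnil : Cfsg.HasNormalPComplement p X :=
    ih X hcard (fun P' => hW.hyp_subgroup G P (hyp P) X hPX P')
  rw [hasNormalPComplement_iff_exists] at hXnil
  obtain ⟨L, hLn, hLc, k, hk⟩ := hXnil
  have hLbot : L = ⊥ := by
    rw [eq_bot_iff]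
    intro l hl
    rw [Subgroup.mem_bot]
    have hdisj : Disjoint L (H.subgroupOf X) := by
      apply Subgroup.disjoint_of_coprime_natCard
      have hHX : IsPGroup p (H.subgroupOf X) := hHp.comap_subtype
      obtain ⟨n, hn⟩ := IsPGroup.iff_card.mp hHX
      rw [hn]
      exact Nat.Coprime.pow_right n hLc
    have hHXn : (H.subgroupOf X).Normal := inferInstance
    have hlc : (l : G) ∈ centralizer (H : Set G) := by
      rw [mem_centralizer_iff]
      intro h hh
      have hhX : h ∈ X := hPX (hHP hh)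
      have h1 : ⁅l, (⟨h, hhX⟩ : X)⁆ ∈ L := by
        have e1 : ⁅l, (⟨h, hhX⟩ : X)⁆ = l * ((⟨h, hhX⟩ : X) * l⁻¹ * (⟨h, hhX⟩ : X)⁻¹) := by
          rw [commutatorElement_def]; group
        rw [e1]
        exact L.mul_mem hl (hLn.conj_mem _ (L.inv_mem hl) _)
      have h2 : ⁅l, (⟨h, hhX⟩ : X)⁆ ∈ H.subgroupOf X := by
        rw [commutatorElement_def]
        have hmem : (⟨h, hhX⟩ : X) ∈ H.subgroupOf X := Subgroup.mem_subgroupOf.mpr hh
        exact (H.subgroupOf X).mul_mem (hHXn.conj_mem _ hmem l) ((H.subgroupOf X).inv_mem hmem)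
      have h3 : ⁅l, (⟨h, hhX⟩ : X)⁆ = 1 := by
        have := hdisj.le_bot ⟨h1, h2⟩
        rwa [Subgroup.mem_bot] at this
      rw [commutatorElement_eq_one_iff_mul_comm] at h3
      have := congrArg Subtype.val h3
      simpa using this.symm
    have hlH : l ∈ H.subgroupOf X := Subgroup.mem_subgroupOf.mpr (hc hlc)
    have := hdisj.le_bot ⟨hl, hlH⟩
    rwa [Subgroup.mem_bot] at this
  rw [hLbot, Subgroup.index_bot] at hk
  have hXp : IsPGroup p X := IsPGroup.of_card hk
  exact P.is_maximal' hXp hPX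

/-- **Step H**: if a Sylow `p`-subgroup is a maximal subgroup, a normal `p'`-subgroup of `p`-power
index is abelian. -/
theorem commute_of_sylow_maximal {Γ : Type u} [Group Γ] [Finite Γ] (Pb : Sylow p Γ)
    (Nb : Subgroup Γ) [hNbn : Nb.Normal] (hNc : (Nat.card Nb).Coprime p)
    (hmax : ∀ X : Subgroup Γ, (Pb : Subgroup Γ) ≤ X → X ≠ ⊤ → X = Pb) :
    ∀ x ∈ Nb, ∀ y ∈ Nb, x * y = y * x := by
  by_cases hNb1 : Nb = ⊥
  · intro x hx y hy
    rw [hNb1, Subgroup.mem_bot] at hx hy
    rw [hx, hy]
  have hdisj : Disjoint Nb (Pb : Subgroup Γ) := by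
    apply Subgroup.disjoint_of_coprime_natCard
    obtain ⟨n, hn⟩ := IsPGroup.iff_card.mp Pb.2
    rw [hn]
    exact Nat.Coprime.pow_right n hNc
  -- key: a normal subgroup `D ≤ Nb` with `D ⊔ Pb = ⊤` is all of `Nb`
  have hkey : ∀ D : Subgroup Γ, D.Normal → D ≤ Nb → D ⊔ (Pb : Subgroup Γ) = ⊤ → Nb ≤ D := by
    intro D hDn hDN htop n hn
    have hnm : n ∈ ((D ⊔ (Pb : Subgroup Γ) : Subgroup Γ) : Set Γ) := by
      rw [htop]; exact Subgroup.mem_top n
    rw [Subgroup.normal_mul] at hnm
    obtain ⟨d, hd, s, hs, hds⟩ := Set.mem_mul.mp hnm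
    have hsN : s ∈ Nb := by
      have : s = d⁻¹ * n := by rw [← hds]; group
      rw [this]
      exact Nb.mul_mem (Nb.inv_mem (hDN hd)) hn
    have hs1 : s = 1 := by
      have := hdisj.le_bot ⟨hsN, hs⟩
      rwa [Subgroup.mem_bot] at this
    rw [hs1, mul_one] at hds
    rw [← hds]; exact hd
  -- a prime divisor `q` of `|Nb|`
  have hcard1 : Nat.card Nb ≠ 1 := by
    intro h
    exact hNb1 ((Subgroup.card_eq_one).mp h)
  obtain ⟨q, hq, hqd⟩ := Nat.exists_prime_and_dvd hcard1
  have : Fact q.Prime := ⟨hq⟩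
  have hsolv : Group.IsSolvable (Pb : Subgroup Γ) := by
    have : Group.IsNilpotent (Pb : Subgroup Γ) := Pb.2.isNilpotent
    infer_instance
  have hAK : (Pb : Subgroup Γ) ≤ normalizer (Nb : Set Γ) := by
    rw [Subgroup.normalizer_eq_top_iff.mpr hNbn]; exact le_top
  have hcop : (Nat.card (Pb : Subgroup Γ)).Coprime (Nat.card Nb) := by
    obtain ⟨n, hn⟩ := IsPGroup.iff_card.mp Pb.2
    rw [hn]
    exact (Nat.Coprime.pow_right n hNc).symm
  obtain ⟨Q', hQ'⟩ := Cfsg.Agent.Helper1.exists_invariant_sylow (Pb : Subgroup Γ) Nb hAK hcop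
    (Or.inl hsolv) q
  set Q : Subgroup Γ := (Q' : Subgroup Nb).map Nb.subtype with hQ
  have hQN : Q ≤ Nb := Subgroup.map_subtype_le _
  have hQq : IsPGroup q Q := Q'.2.map Nb.subtype
  have hQ1 : Q ≠ ⊥ := by
    intro h
    have h1 : (Q' : Subgroup Nb) = ⊥ := by
      rw [hQ, Subgroup.map_eq_bot_iff_of_injective _ Nb.subtype_injective] at h
      exact h
    exact Q'.ne_bot_of_dvd_card hqd h1
  -- `Q ⊔ Pb = ⊤`
  have htop : Q ⊔ (Pb : Subgroup Γ) = ⊤ := by
    by_contra hne
    have h1 := hmax (Q ⊔ (Pb : Subgroup Γ)) le_sup_right hne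
    have hQP : Q ≤ Pb := by rw [← h1]; exact le_sup_left
    apply hQ1
    rw [eq_bot_iff]
    exact hdisj.le_bot.trans' (le_inf hQN hQP) |>.trans (le_of_eq rfl)
  have hQn : Q.Normal := by
    rw [← Subgroup.normalizer_eq_top_iff, eq_top_iff, ← htop]
    exact sup_le le_normalizer hQ'
  have hNQ : Nb = Q := le_antisymm (hkey Q hQn hQN htop) hQN
  have hNq : IsPGroup q Nb := hNQ ▸ hQq
  -- the derived subgroup
  have hDn : (⁅Nb, Nb⁆ : Subgroup Γ).Normal := inferInstance
  have hDN : ⁅Nb, Nb⁆ ≤ Nb := Subgroup.commutator_le_left Nb Nb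
  have hDlt : Nat.card (⁅Nb, Nb⁆ : Subgroup Γ) < Nat.card Nb :=
    Cfsg.Agent.Lib.ZJ.card_commutator_lt hNq hNb1
  have htop2 : ⁅Nb, Nb⁆ ⊔ (Pb : Subgroup Γ) ≠ ⊤ := by
    intro h
    have := Subgroup.card_le_of_le (hkey _ hDn hDN h)
    omega
  have h2 := hmax (⁅Nb, Nb⁆ ⊔ (Pb : Subgroup Γ)) le_sup_right htop2
  have hDP : ⁅Nb, Nb⁆ ≤ Pb := by rw [← h2]; exact le_sup_left
  have hDbot : ⁅Nb, Nb⁆ = ⊥ := by
    rw [eq_bot_iff]
    exact (le_inf hDN hDP).trans hdisj.le_bot
  intro x hx y hy
  have h3 : ⁅x, y⁆ ∈ (⁅Nb, Nb⁆ : Subgroup Γ) := Subgroup.commutator_mem_commutator hx hy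
  rw [hDbot, Subgroup.mem_bot, commutatorElement_eq_one_iff_mul_comm] at h3
  exact h3

/-- **The Glauberman–Thompson normal `p`-complement theorem** for a functor `W` of ZJ-type, `p` odd:
if `N_G(W(P))` has a normal `p`-complement then so does `G`. -/
theorem hasNormalPComplement_of_gtFunctor (hp2 : p ≠ 2) (hW : GTFunctor p W) :
    ∀ (G : Type u) [Group G] [Finite G] (P : Sylow p G),
      Cfsg.HasNormalPComplement p (normalizer (W G (P : Subgroup G) : Set G)) →
      Cfsg.HasNormalPComplement p G := by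
  suffices hmain : ∀ (n : ℕ), GTIH p W n by
    intro G _ _ P hP
    exact hmain (Nat.card G + 1) G (Nat.lt_succ_self _) (fun P' => hW.hyp_all G P P' hP)
  intro n
  induction n using Nat.strong_induction_on with
  | _ n ihn =>
  intro G _ _ hcard hyp
  have ih : GTIH p W (Nat.card G) := fun G' _ _ h => ihn (Nat.card G) hcard G' h
  by_contra hG
  have hHn : (Cfsg.pCore p G).Normal := by
    have := Cfsg.Agent.Lib.pCore_characteristic (G := G) p
    infer_instance
  set H := Cfsg.pCore p G with hH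
  have hHp : IsPGroup p H := Cfsg.Agent.Lib.isPGroup_pCore p
  have hq := hW.quotient_pCore G ih hyp hG H hH
  have hO := hW.pPrimeCore_eq_bot G ih hyp hG
  have hc := centralizer_le_of_quotient_hasNormalPComplement (p := p) G H hH hO hq
  obtain ⟨P⟩ : Nonempty (Sylow p G) := inferInstance
  have hHP : H ≤ P := Cfsg.Agent.Lib.pCore_le_sylow P
  have hmaxG := hW.eq_of_sylow_le G ih hyp H hH hc P
  -- the structure of `G / H`
  have hq' := hq
  rw [hasNormalPComplement_iff_exists] at hq'
  obtain ⟨Nb, hNbn, hNbc, k, hk⟩ := hq'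
  set π := QuotientGroup.mk' H with hπ
  have hπs : Function.Surjective π := QuotientGroup.mk'_surjective H
  have hker : π.ker = H := QuotientGroup.ker_mk' H
  have hmaxb : ∀ X : Subgroup (G ⧸ H), ((P.mapSurjective hπs : Sylow p (G ⧸ H)) : Subgroup (G ⧸ H)) ≤ X →
      X ≠ ⊤ → X = (P.mapSurjective hπs : Sylow p (G ⧸ H)) := by
    intro X hPX hX
    rw [Sylow.coe_mapSurjective] at hPX ⊢
    have h1 : (P : Subgroup G) ≤ X.comap π := by
      rw [← Subgroup.map_le_iff_le_comap]; exact hPX
    have h2 : X.comap π ≠ ⊤ := by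
      intro h
      apply hX
      rw [← Subgroup.map_comap_eq_self_of_surjective hπs X, h, Subgroup.map_top_of_surjective π hπs]
    have h3 := hmaxG (X.comap π) h1 h2
    rw [← Subgroup.map_comap_eq_self_of_surjective hπs X, h3]
  have hcomm := commute_of_sylow_maximal (P.mapSurjective hπs) Nb hNbc hmaxb
  set M := Nb.comap π with hM
  have hMn : M.Normal := hNbn.comap π
  have hMi : M.index = p ^ k := by rw [hM, Subgroup.index_comap_of_surjective Nb hπs, hk]
  have hMp : (H.relIndex M).Coprime p := by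
    rw [← hker, Subgroup.relIndex_ker, hM, Subgroup.map_comap_eq_self_of_surjective hπs]
    exact hNbc
  have hMH : ⁅M, M⁆ ≤ H := by
    rw [Subgroup.commutator_le]
    intro x hx y hy
    rw [← hker, MonoidHom.mem_ker, map_commutatorElement, commutatorElement_eq_one_iff_mul_comm]
    exact hcomm (π x) hx (π y) hy
  have hst := isPStableOn_of_series hp2 H M hHp hMH hMp hMi
  have hWn := hW.normal G hc hst P
  have h2 : normalizer (W G (P : Subgroup G) : Set G) = ⊤ := Subgroup.normalizer_eq_top_iff.mpr hWn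
  have h3 := hyp P
  rw [h2] at h3
  exact hG (hasNormalPComplement_of_top h3)

end main

end Cfsg.Agent.Helper64
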