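import Mathlib
import Cfsg.Agent.Helper13.FExtDefs
import Cfsg.Agent.Helper43.SpSSM
import Cfsg.Agent.Helper43.SpOrthA

/-!
# S5975 (helper13), piece (E3g) of board #7889: symplectic matrices of square `-1` are conjugate
in the symplectic group (finite field of odd characteristic)
-/

set_option autoImplicit false

namespace Cfsg.Agent.Helper64.FExtE3g

open Matrix Cfsg Cfsg.Geo Polynomial
open Cfsg.Agent.Helper13.FExt

variable {F : Type*} [Field F]

/-- a symplectic matrix of square `-1` has the same characteristic polynomial as its negative -/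
theorem charpoly_eq_charpoly_neg (d : ℕ) (A : Matrix (Fin d ⊕ Fin d) (Fin d ⊕ Fin d) F)
    (hA : A ∈ Matrix.symplecticGroup (Fin d) F) (hA2 : A * A = -1) :
    A.charpoly = (-A).charpoly := by
  rw [SymplecticGroup.mem_iff] at hA
  have hJ := Matrix.J_squared (Fin d) F
  -- `A = J Aᵀ J`
  have h1 : A * J (Fin d) F = -(J (Fin d) F * Aᵀ) := by
    have h : A * (A * J (Fin d) F * Aᵀ) = A * J (Fin d) F := by rw [hA]
    rw [← mul_assoc, ← mul_assoc, hA2] at h
    rw [← h]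
    simp
  have h2 : A = J (Fin d) F * Aᵀ * J (Fin d) F := by
    have h : A * J (Fin d) F * J (Fin d) F = -(J (Fin d) F * Aᵀ) * J (Fin d) F := by rw [h1]
    rw [mul_assoc, hJ, neg_mul] at h
    have h' : -A = -(J (Fin d) F * Aᵀ * J (Fin d) F) := by
      rw [← h]; simp
    exact neg_injective h'
  calc A.charpoly = (J (Fin d) F * Aᵀ * J (Fin d) F).charpoly := by rw [← h2]
    _ = (J (Fin d) F * (Aᵀ * J (Fin d) F)).charpoly := by rw [mul_assoc]
    _ = (Aᵀ * J (Fin d) F * J (Fin d) F).charpoly := Matrix.charpoly_mul_comm _ _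
    _ = ((-A)ᵀ).charpoly := by
        rw [mul_assoc, hJ]
        congr 1
        simp
    _ = (-A).charpoly := Matrix.charpoly_transpose _

/-- `charpoly A * charpoly (-A) = (X² + 1) ^ (2d)` when `A² = -1` -/
theorem charpoly_mul_charpoly_neg (d : ℕ) (A : Matrix (Fin d ⊕ Fin d) (Fin d ⊕ Fin d) F)
    (hA2 : A * A = -1) :
    A.charpoly * (-A).charpoly = ((X ^ 2 + 1 : F[X]) ^ d) * ((X ^ 2 + 1 : F[X]) ^ d) := by
  unfold Matrix.charpoly
  rw [← Matrix.det_mul]
  have h : charmatrix A * charmatrix (-A) =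
      Matrix.scalar (Fin d ⊕ Fin d) (X ^ 2 + 1 : F[X]) := by
    unfold charmatrix
    set S : Matrix (Fin d ⊕ Fin d) (Fin d ⊕ Fin d) F[X] :=
      Matrix.scalar (Fin d ⊕ Fin d) (X : F[X]) with hS
    set M : Matrix (Fin d ⊕ Fin d) (Fin d ⊕ Fin d) F[X] :=
      (C : F →+* F[X]).mapMatrix A with hM
    have hneg : (C : F →+* F[X]).mapMatrix (-A) = -M := by
      rw [hM, map_neg]
    have hcomm : S * M = M * S := by
      rw [hS]
      exact (Matrix.scalar_commute _ (fun r' => Commute.all _ r') M).eq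
    have hMM : M * M = -1 := by
      rw [hM, ← map_mul, hA2, map_neg, map_one]
    have hSS : S * S = Matrix.scalar (Fin d ⊕ Fin d) (X ^ 2 : F[X]) := by
      rw [hS, ← map_mul, pow_two]
    rw [hneg]
    calc (S - M) * (S - -M) = S * S - M * M + (S * M - M * S) := by noncomm_ring
      _ = Matrix.scalar (Fin d ⊕ Fin d) (X ^ 2 : F[X]) - -1 + 0 := by
          rw [hSS, hMM, hcomm, sub_self]
      _ = Matrix.scalar (Fin d ⊕ Fin d) (X ^ 2 + 1 : F[X]) := by
          rw [map_add, map_one]; simp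
  rw [h, Matrix.scalar_apply, Matrix.det_diagonal, Finset.prod_const, Finset.card_univ,
    Fintype.card_sum, Fintype.card_fin, pow_add]

/-- the characteristic polynomial of a symplectic matrix of square `-1` -/
theorem charpoly_of_sq_neg_one (h2 : (2 : F) ≠ 0) (d : ℕ)
    (A : Matrix (Fin d ⊕ Fin d) (Fin d ⊕ Fin d) F)
    (hA : A ∈ Matrix.symplecticGroup (Fin d) F) (hA2 : A * A = -1) :
    A.charpoly = (X ^ 2 + 1 : F[X]) ^ d := by
  have h1 := charpoly_mul_charpoly_neg d A hA2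
  rw [← charpoly_eq_charpoly_neg d A hA hA2] at h1
  rcases mul_self_eq_mul_self_iff.mp h1 with h | h
  · exact h
  · exfalso
    have hp : A.charpoly.Monic := Matrix.charpoly_monic A
    have hq : ((X ^ 2 + 1 : F[X]) ^ d).Monic := by
      apply Monic.pow
      exact monic_X_pow_add_C 1 (by norm_num)
    have h3 := congrArg leadingCoeff h
    rw [leadingCoeff_neg, hp.leadingCoeff, hq.leadingCoeff] at h3
    apply h2
    linear_combination h3

/-- (E3g) the isometries of square `-1` are conjugate -/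
theorem conj_of_sq_neg_one [Fintype F] (h2 : (2 : F) ≠ 0) (d : ℕ) (x y : GL (Fin d ⊕ Fin d) F)
    (hx : x ∈ spGL d F) (hy : y ∈ spGL d F)
    (hx2 : ((x ^ 2 : GL (Fin d ⊕ Fin d) F) : Matrix (Fin d ⊕ Fin d) (Fin d ⊕ Fin d) F) = -1)
    (hy2 : ((y ^ 2 : GL (Fin d ⊕ Fin d) F) : Matrix (Fin d ⊕ Fin d) (Fin d ⊕ Fin d) F) = -1) :
    ∃ g ∈ spGL d F, g⁻¹ * x * g = y := by
  have hx' := (Cfsg.Agent.Helper43.SpOrth.mem_spGL_iff_mem_symp x).mp hx
  have hy' := (Cfsg.Agent.Helper43.SpOrth.mem_spGL_iff_mem_symp y).mp hy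
  rw [Units.val_pow_eq_pow_val, pow_two] at hx2 hy2
  have h4 : ((4 : ℕ) : F) ≠ 0 := by
    have e : ((4 : ℕ) : F) = 2 * 2 := by norm_num
    rw [e]
    exact mul_ne_zero h2 h2
  have hx4 : (x : Matrix (Fin d ⊕ Fin d) (Fin d ⊕ Fin d) F) ^ 4 = 1 := by
    have e : (x : Matrix (Fin d ⊕ Fin d) (Fin d ⊕ Fin d) F) ^ 4 =
        ((x : Matrix (Fin d ⊕ Fin d) (Fin d ⊕ Fin d) F) *
          (x : Matrix (Fin d ⊕ Fin d) (Fin d ⊕ Fin d) F)) *
        ((x : Matrix (Fin d ⊕ Fin d) (Fin d ⊕ Fin d) F) *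
          (x : Matrix (Fin d ⊕ Fin d) (Fin d ⊕ Fin d) F)) := by
      noncomm_ring
    rw [e, hx2]
    simp
  have hy4 : (y : Matrix (Fin d ⊕ Fin d) (Fin d ⊕ Fin d) F) ^ 4 = 1 := by
    have e : (y : Matrix (Fin d ⊕ Fin d) (Fin d ⊕ Fin d) F) ^ 4 =
        ((y : Matrix (Fin d ⊕ Fin d) (Fin d ⊕ Fin d) F) *
          (y : Matrix (Fin d ⊕ Fin d) (Fin d ⊕ Fin d) F)) *
        ((y : Matrix (Fin d ⊕ Fin d) (Fin d ⊕ Fin d) F) *
          (y : Matrix (Fin d ⊕ Fin d) (Fin d ⊕ Fin d) F)) := by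
      noncomm_ring
    rw [e, hy2]
    simp
  have hc : (y : Matrix (Fin d ⊕ Fin d) (Fin d ⊕ Fin d) F).charpoly =
      (x : Matrix (Fin d ⊕ Fin d) (Fin d ⊕ Fin d) F).charpoly := by
    rw [charpoly_of_sq_neg_one h2 d _ hy' hy2, charpoly_of_sq_neg_one h2 d _ hx' hx2]
  obtain ⟨Cm, hCm, hC⟩ := Cfsg.Agent.Helper43.SpSS.exists_symp_conj_of_charpoly hy' hx' 4 4 h4 h4
    hy4 hx4 hc
  refine ⟨Cfsg.Agent.Helper43.SpOrth.sympToGL ⟨Cm, hCm⟩,
    Cfsg.Agent.Helper43.SpOrth.sympToGL_mem _, ?_⟩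
  have h : x * Cfsg.Agent.Helper43.SpOrth.sympToGL ⟨Cm, hCm⟩ =
      Cfsg.Agent.Helper43.SpOrth.sympToGL ⟨Cm, hCm⟩ * y := by
    apply Units.ext
    rw [Units.val_mul, Units.val_mul, Cfsg.Agent.Helper43.SpOrth.sympToGL_coe]
    exact hC.symm
  rw [mul_assoc, h, ← mul_assoc, inv_mul_cancel, one_mul]

end Cfsg.Agent.Helper64.FExtE3g
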