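import Mathlib
import Cfsg.Agent.Helper13.FExtDefs
import Cfsg.Agent.Helper13.Symp
import Cfsg.Agent.Helper13.SpMax1

/-!
# S5975 (helper13), piece (E5) of board #7889: an element of square `-1` in `N(K) ∩ Sp_4(F)`

`K` a field subalgebra of degree 2 of the `4 × 4` matrices, self-adjoint for the symplectic form
with `f(av, v) = 0`.  Take any `w ≠ 0`, `w' ∉ K w`; `Φ (a, b) = a w + b w'` is an `F`-linear
bijection `K × K → V`, and `y (a w + b w') := b w - a w'` is `K`-linear, of square `-1`, and an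
isometry.  The general part (`Φ`, transport of maps of `K × K`) is reused for (E4).
-/

set_option autoImplicit false
set_option linter.unusedVariables false
set_option linter.unusedSectionVars false

namespace Cfsg.Agent.Helper64.FExtE5

open Matrix Cfsg Cfsg.Geo
open Cfsg.Agent.Helper13 Cfsg.Agent.Helper13.FExt

section general

variable {F : Type*} [Field F] {ι : Type} [Fintype ι] [DecidableEq ι] {k : ℕ}
  {K : Subalgebra F (Matrix ι ι F)}

theorem exists_inv (hK : IsFieldSubalgebra k K) {x : Matrix ι ι F} (hx : x ∈ K)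
    (h0 : x ≠ 0) : ∃ y ∈ K, x * y = 1 ∧ y * x = 1 := by
  obtain ⟨y, hy, hxy⟩ := hK.inv x hx h0
  exact ⟨y, hy, hxy, by rw [← hK.comm x hx y hy]; exact hxy⟩

theorem eq_zero_of_mulVec_eq_zero (hK : IsFieldSubalgebra k K) {x : Matrix ι ι F}
    (hx : x ∈ K) {w : ι → F} (hw : w ≠ 0) (h : x *ᵥ w = 0) : x = 0 := by
  by_contra h0
  obtain ⟨y, -, -, hyx⟩ := exists_inv hK hx h0
  apply hw
  have : (y * x) *ᵥ w = w := by rw [hyx, one_mulVec]
  rw [← this, ← mulVec_mulVec, h, mulVec_zero]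

/-- evaluation at a vector -/
def evW (K : Subalgebra F (Matrix ι ι F)) (w : ι → F) : ↥K →ₗ[F] (ι → F) where
  toFun a := a.1 *ᵥ w
  map_add' a b := by
    show (a.1 + b.1) *ᵥ w = _
    rw [add_mulVec]
  map_smul' c a := by
    show (c • a.1) *ᵥ w = _
    rw [smul_mulVec]
    rfl

@[simp] theorem evW_apply (w : ι → F) (a : ↥K) : evW K w a = a.1 *ᵥ w := rfl

/-- `(a, b) ↦ a w + b w'` -/
def ev2 (K : Subalgebra F (Matrix ι ι F)) (w w' : ι → F) : (↥K × ↥K) →ₗ[F] (ι → F) :=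
  (evW K w).coprod (evW K w')

theorem ev2_apply (w w' : ι → F) (p : ↥K × ↥K) :
    ev2 K w w' p = p.1.1 *ᵥ w + p.2.1 *ᵥ w' := by
  unfold ev2
  rw [LinearMap.coprod_apply]
  rfl

theorem ev2_injective (hK : IsFieldSubalgebra k K) {w w' : ι → F} (hw : w ≠ 0)
    (hw' : ∀ a ∈ K, a *ᵥ w ≠ w') : Function.Injective (ev2 K w w') := by
  rw [injective_iff_map_eq_zero]
  rintro ⟨a, b⟩ h
  rw [ev2_apply] at h
  have hb : b = 0 := by
    by_contra hb0
    have hb0' : b.1 ≠ 0 := fun e => hb0 (Subtype.ext e)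
    obtain ⟨c, hc, -, hcb⟩ := exists_inv hK b.2 hb0'
    apply hw' (-(c * a.1)) (K.neg_mem (K.mul_mem hc a.2))
    have h1 := congrArg (fun v => c *ᵥ v) h
    simp only at h1
    rw [mulVec_add, mulVec_mulVec, mulVec_mulVec, hcb, one_mulVec, mulVec_zero] at h1
    rw [neg_mulVec]
    exact (eq_neg_of_add_eq_zero_right h1).symm
  subst hb
  have ha : a = 0 := by
    apply Subtype.ext
    apply eq_zero_of_mulVec_eq_zero hK a.2 hw
    simpa using h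
  rw [ha]
  rfl

/-- some vector lies outside `K w` -/
theorem exists_not_mem (hK : IsFieldSubalgebra k K) (hk : k < Fintype.card ι) (w : ι → F) :
    ∃ w' : ι → F, ∀ a ∈ K, a *ᵥ w ≠ w' := by
  by_contra hcon
  push Not at hcon
  have hsurj : Function.Surjective (evW K w) := by
    intro w'
    obtain ⟨a, ha, h⟩ := hcon w'
    exact ⟨⟨a, ha⟩, h⟩
  have h1 := LinearMap.finrank_range_le (evW K w)
  rw [LinearMap.range_eq_top.mpr hsurj, finrank_top, Module.finrank_fintype_fun_eq_card,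
    hK.finrank_eq] at h1
  omega

theorem finite_K (hK : IsFieldSubalgebra k K) (hk : 0 < k) : Module.Finite F ↥K := by
  apply Module.finite_of_finrank_pos
  rw [hK.finrank_eq]
  exact hk

/-- the linear equivalence `K × K ≃ V`, `(a, b) ↦ a w + b w'` -/
noncomputable def Phi (hK : IsFieldSubalgebra k K) (hk0 : 0 < k) (hk : 2 * k = Fintype.card ι)
    {w w' : ι → F} (hw : w ≠ 0) (hw' : ∀ a ∈ K, a *ᵥ w ≠ w') : (↥K × ↥K) ≃ₗ[F] (ι → F) :=
  haveI := finite_K hK hk0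
  LinearMap.linearEquivOfInjective (ev2 K w w') (ev2_injective hK hw hw') (by
    rw [Module.finrank_prod, hK.finrank_eq, Module.finrank_fintype_fun_eq_card]
    omega)

theorem Phi_apply (hK : IsFieldSubalgebra k K) (hk0 : 0 < k) (hk : 2 * k = Fintype.card ι)
    {w w' : ι → F} (hw : w ≠ 0) (hw' : ∀ a ∈ K, a *ᵥ w ≠ w') (p : ↥K × ↥K) :
    Phi hK hk0 hk hw hw' p = p.1.1 *ᵥ w + p.2.1 *ᵥ w' := by
  unfold Phi
  rw [LinearMap.linearEquivOfInjective_apply, ev2_apply]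

/-- transport of an endomorphism of `K × K` to a matrix -/
noncomputable def tr (Φ : (↥K × ↥K) ≃ₗ[F] (ι → F)) (σ : (↥K × ↥K) →ₗ[F] (↥K × ↥K)) :
    Matrix ι ι F :=
  LinearMap.toMatrix' (Φ.toLinearMap ∘ₗ σ ∘ₗ Φ.symm.toLinearMap)

theorem tr_mulVec (Φ : (↥K × ↥K) ≃ₗ[F] (ι → F)) (σ : (↥K × ↥K) →ₗ[F] (↥K × ↥K))
    (p : ↥K × ↥K) : tr Φ σ *ᵥ Φ p = Φ (σ p) := by
  unfold tr
  rw [← Matrix.toLin'_apply, Matrix.toLin'_toMatrix']
  simp

theorem matrix_ext_of_Phi (Φ : (↥K × ↥K) ≃ₗ[F] (ι → F)) {A B : Matrix ι ι F}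
    (h : ∀ p, A *ᵥ Φ p = B *ᵥ Φ p) : A = B := by
  apply Matrix.toLin'.injective
  apply LinearMap.ext
  intro v
  obtain ⟨p, rfl⟩ := Φ.surjective v
  rw [Matrix.toLin'_apply, Matrix.toLin'_apply, h]

theorem tr_mul_tr (Φ : (↥K × ↥K) ≃ₗ[F] (ι → F)) (σ τ : (↥K × ↥K) →ₗ[F] (↥K × ↥K)) :
    tr Φ σ * tr Φ τ = tr Φ (σ ∘ₗ τ) := by
  apply matrix_ext_of_Phi Φ
  intro p
  rw [← mulVec_mulVec, tr_mulVec, tr_mulVec, tr_mulVec]
  rfl

theorem tr_neg_id (Φ : (↥K × ↥K) ≃ₗ[F] (ι → F)) : tr Φ (-LinearMap.id) = -1 := by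
  apply matrix_ext_of_Phi Φ
  intro p
  rw [tr_mulVec, neg_mulVec, one_mulVec]
  simp

theorem tr_id (Φ : (↥K × ↥K) ≃ₗ[F] (ι → F)) : tr Φ LinearMap.id = 1 := by
  apply matrix_ext_of_Phi Φ
  intro p
  rw [tr_mulVec, one_mulVec]
  simp

/-- left multiplication by an element of `K` on `K × K` -/
def lmul (K : Subalgebra F (Matrix ι ι F)) (c : ↥K) : (↥K × ↥K) →ₗ[F] (↥K × ↥K) :=
  (LinearMap.mulLeft F c).prodMap (LinearMap.mulLeft F c)

theorem lmul_apply (c : ↥K) (p : ↥K × ↥K) : lmul K c p = (c * p.1, c * p.2) := rfl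

/-- an element of `K` acts on `V` as left multiplication on `K × K` -/
theorem mulVec_Phi (hK : IsFieldSubalgebra k K) (hk0 : 0 < k) (hk : 2 * k = Fintype.card ι)
    {w w' : ι → F} (hw : w ≠ 0) (hw' : ∀ a ∈ K, a *ᵥ w ≠ w') (c : ↥K) (p : ↥K × ↥K) :
    c.1 *ᵥ Phi hK hk0 hk hw hw' p = Phi hK hk0 hk hw hw' (lmul K c p) := by
  rw [Phi_apply, Phi_apply, lmul_apply, mulVec_add, mulVec_mulVec, mulVec_mulVec]
  rfl

theorem eq_tr_lmul (hK : IsFieldSubalgebra k K) (hk0 : 0 < k) (hk : 2 * k = Fintype.card ι)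
    {w w' : ι → F} (hw : w ≠ 0) (hw' : ∀ a ∈ K, a *ᵥ w ≠ w') (c : ↥K) :
    c.1 = tr (Phi hK hk0 hk hw hw') (lmul K c) := by
  apply matrix_ext_of_Phi (Phi hK hk0 hk hw hw')
  intro p
  rw [tr_mulVec, mulVec_Phi]

end general

section symp

variable {F : Type*} [Field F] {m : ℕ} {k : ℕ}
  {K : Subalgebra F (Matrix (Fin m ⊕ Fin m) (Fin m ⊕ Fin m) F)}

/-- `K w` is totally isotropic -/
theorem symp_Kw_Kw (hKf : IsSelfAdjointFor (sympForm m F) K)
    (hKalt : ∀ a ∈ K, ∀ v : Fin m ⊕ Fin m → F, sympForm m F (a *ᵥ v) v = 0) (a c : ↥K)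
    (w : Fin m ⊕ Fin m → F) : sympForm m F (a.1 *ᵥ w) (c.1 *ᵥ w) = 0 := by
  rw [← hKf c.1 c.2, mulVec_mulVec]
  exact hKalt (c.1 * a.1) (K.mul_mem c.2 a.2) w

theorem symp_cross (hKf : IsSelfAdjointFor (sympForm m F) K) (a d : ↥K)
    (w w' : Fin m ⊕ Fin m → F) :
    sympForm m F (a.1 *ᵥ w) (d.1 *ᵥ w') = sympForm m F ((d.1 * a.1) *ᵥ w) w' := by
  rw [← hKf d.1 d.2, mulVec_mulVec]

/-- the form in the coordinates `K × K` -/
theorem symp_ev2 (hKf : IsSelfAdjointFor (sympForm m F) K)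
    (hKalt : ∀ a ∈ K, ∀ v : Fin m ⊕ Fin m → F, sympForm m F (a *ᵥ v) v = 0)
    (a b c d : ↥K) (w w' : Fin m ⊕ Fin m → F) :
    sympForm m F (a.1 *ᵥ w + b.1 *ᵥ w') (c.1 *ᵥ w + d.1 *ᵥ w') =
      sympForm m F ((d.1 * a.1) *ᵥ w) w' - sympForm m F ((b.1 * c.1) *ᵥ w) w' := by
  rw [sympForm_add_left, sympForm_add_right, sympForm_add_right, symp_Kw_Kw hKf hKalt,
    symp_Kw_Kw hKf hKalt, symp_cross hKf a d, sympForm_swap (b.1 *ᵥ w') (c.1 *ᵥ w),
    symp_cross hKf c b]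
  ring

end symp

section E5

variable {F : Type*} [Field F]

/-- (E5) an element of square `-1` in the normalizer (`d = 2`, `k = 2`, `q` odd) -/
theorem exists_sq_neg_one_mem_normalizer [Fintype F] (h2 : (2 : F) ≠ 0)
    (K : Subalgebra F (Matrix (Fin 2 ⊕ Fin 2) (Fin 2 ⊕ Fin 2) F)) (hK : IsFieldSubalgebra 2 K)
    (hKf : IsSelfAdjointFor (sympForm 2 F) K)
    (hKalt : ∀ a ∈ K, ∀ v : Fin 2 ⊕ Fin 2 → F, sympForm 2 F (a *ᵥ v) v = 0) :
    ∃ y ∈ spGL 2 F, y ∈ subalgebraNormalizer K ∧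
      ((y ^ 2 : GL (Fin 2 ⊕ Fin 2) F) : Matrix (Fin 2 ⊕ Fin 2) (Fin 2 ⊕ Fin 2) F) = -1 := by
  classical
  have hcard : 2 * 2 = Fintype.card (Fin 2 ⊕ Fin 2) := by simp
  have hw : (Pi.single (Sum.inl 0) 1 : Fin 2 ⊕ Fin 2 → F) ≠ 0 := by
    intro h
    have := congrFun h (Sum.inl 0)
    simp at this
  obtain ⟨w', hw'⟩ := exists_not_mem hK (by simp) (Pi.single (Sum.inl 0) 1 : Fin 2 ⊕ Fin 2 → F)
  set w : Fin 2 ⊕ Fin 2 → F := Pi.single (Sum.inl 0) 1 with hwdef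
  set Φ := Phi hK (by norm_num) hcard hw hw' with hΦdef
  have hΦ : ∀ p, Φ p = p.1.1 *ᵥ w + p.2.1 *ᵥ w' := fun p => Phi_apply hK _ hcard hw hw' p
  set σ : (↥K × ↥K) →ₗ[F] (↥K × ↥K) :=
    (LinearMap.snd F ↥K ↥K).prod (-(LinearMap.fst F ↥K ↥K)) with hσ
  have hσp : ∀ p : ↥K × ↥K, σ p = (p.2, -p.1) := fun p => rfl
  set yM := tr Φ σ with hyM
  have hyy : yM * yM = -1 := by
    have e : σ ∘ₗ σ = -LinearMap.id := by
      apply LinearMap.ext
      intro p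
      rw [LinearMap.comp_apply, hσp, hσp]
      apply Prod.ext <;> simp
    rw [hyM, tr_mul_tr, e, tr_neg_id Φ]
  -- `yM` commutes with `K`
  have hcomm : ∀ c ∈ K, yM * c = c * yM := by
    intro c hc
    have e := eq_tr_lmul hK (by norm_num) hcard hw hw' ⟨c, hc⟩
    simp only at e
    have e' : σ ∘ₗ lmul K ⟨c, hc⟩ = lmul K ⟨c, hc⟩ ∘ₗ σ := by
      apply LinearMap.ext
      intro p
      rw [LinearMap.comp_apply, LinearMap.comp_apply, hσp, hσp, lmul_apply, lmul_apply]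
      apply Prod.ext
      · rfl
      · apply Subtype.ext
        show -(c * p.1.1) = c * -p.1.1
        rw [mul_neg]
    rw [e, ← hΦdef, hyM, tr_mul_tr, tr_mul_tr, e']
  let y : GL (Fin 2 ⊕ Fin 2) F :=
    ⟨yM, -yM, by rw [mul_neg, hyy, neg_neg], by rw [neg_mul, hyy, neg_neg]⟩
  have hyc : (y : Matrix (Fin 2 ⊕ Fin 2) (Fin 2 ⊕ Fin 2) F) = yM := rfl
  have hyi : ((y⁻¹ : GL (Fin 2 ⊕ Fin 2) F) : Matrix (Fin 2 ⊕ Fin 2) (Fin 2 ⊕ Fin 2) F) = -yM :=
    rfl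
  refine ⟨y, ?_, ?_, ?_⟩
  · rw [mem_spGL_iff]
    intro u v
    rw [hyc]
    obtain ⟨⟨a, b⟩, rfl⟩ := Φ.surjective u
    obtain ⟨⟨c, d⟩, rfl⟩ := Φ.surjective v
    rw [hyM, tr_mulVec, tr_mulVec, hσp, hσp, hΦ, hΦ, hΦ, hΦ]
    simp only
    rw [symp_ev2 hKf hKalt, symp_ev2 hKf hKalt]
    have e1 : ((-c : ↥K) : Matrix (Fin 2 ⊕ Fin 2) (Fin 2 ⊕ Fin 2) F) = -c.1 := rfl
    have e2 : ((-a : ↥K) : Matrix (Fin 2 ⊕ Fin 2) (Fin 2 ⊕ Fin 2) F) = -a.1 := rfl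
    rw [e1, e2, neg_mul, neg_mul, neg_mulVec, neg_mulVec, sympForm_neg_left, sympForm_neg_left,
      hK.comm c.1 c.2 b.1 b.2, hK.comm a.1 a.2 d.1 d.2]
    ring
  · intro c
    rw [hyc, hyi]
    constructor
    · intro hc
      rw [hcomm c hc, mul_assoc, mul_neg, hyy, neg_neg, mul_one]
      exact hc
    · intro hc
      have h1 : -yM * yM = 1 := by rw [neg_mul, hyy, neg_neg]
      have e : c = -yM * (yM * c * -yM) * yM := by
        calc c = (-yM * yM) * c * (-yM * yM) := by rw [h1, one_mul, mul_one]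
          _ = -yM * (yM * c * -yM) * yM := by noncomm_ring
      have e2 : -yM * (yM * c * -yM) * yM = yM * c * -yM := by
        calc -yM * (yM * c * -yM) * yM = -(yM * (yM * c * -yM)) * yM := by rw [neg_mul]
          _ = -((yM * c * -yM) * yM) * yM := by rw [hcomm _ hc]
          _ = (yM * c * -yM) * (-(yM * yM)) := by noncomm_ring
          _ = yM * c * -yM := by rw [hyy, neg_neg, mul_one]
      rw [e, e2]
      exact hc
  · rw [Units.val_pow_eq_pow_val, pow_two, hyc, hyy]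

end E5

end Cfsg.Agent.Helper64.FExtE5
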