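import Cfsg.Agent.Helper17.J2Defs

set_option autoImplicit false

/-! Piece (C) for S3313 (helper17): when does `z` lie in `⟨u v⟩` for an involution `u ∈ Q`
and an involution `v ∈ (K ⊔ Q) ∖ Q`. -/

namespace Cfsg.Agent.Helper64.J2P

open Cfsg.Agent.Helper17.J2

variable {G : Type*} [Group G] [Finite G] {z : G} {Q K : Subgroup G}

theorem mem_zpowers_of_sq_eq_one {g x : G} (hg : g ^ 2 = 1) (hx : x ∈ Subgroup.zpowers g) :
    x = 1 ∨ x = g := by
  obtain ⟨k, rfl⟩ := Subgroup.mem_zpowers_iff.mp hx
  have h2 : g ^ (2 : ℤ) = 1 := by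
    have : g ^ ((2 : ℕ) : ℤ) = 1 := by rw [zpow_natCast]; exact hg
    simpa using this
  have hk : g ^ k = g ^ (k % 2) := by
    conv_lhs => rw [← Int.emod_add_mul_ediv k 2]
    rw [zpow_add, zpow_mul, h2, one_zpow, mul_one]
  rcases Int.emod_two_eq_zero_or_one k with h | h
  · left; rw [hk, h, zpow_zero]
  · right; rw [hk, h, zpow_one]

theorem conj_mem_of_mem_sup (c : Ctx z Q K) {x : G} (hx : x ∈ K ⊔ Q) {q : G} (hq : q ∈ Q) :
    x * q * x⁻¹ ∈ Q := by
  have hK : K ≤ Subgroup.normalizer (Q : Set G) := by
    intro k hk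
    rw [Subgroup.mem_normalizer_iff]
    intro h
    constructor
    · intro hh; exact c.hQn k hk h hh
    · intro hh
      have := c.hQn k⁻¹ (K.inv_mem hk) _ hh
      simpa [mul_assoc] using this
  have hQ : Q ≤ Subgroup.normalizer (Q : Set G) := Subgroup.le_normalizer
  have hx' : x ∈ Subgroup.normalizer (Q : Set G) := (sup_le hK hQ) hx
  exact (Subgroup.mem_normalizer_iff.mp hx' q).mp hq

theorem zpowers_criterion (c : Ctx z Q K) (hC : ∀ u ∈ Q, orderOf u = 2 → u ≠ z → ∀ u' ∈ Q, orderOf u' = 2 → u * u' = u' * u → u' = z ∨ u' = u ∨ u' = u * z) (u v : G) (hu : u ∈ Q) (hu2 : orderOf u = 2) (hv : v ∈ K ⊔ Q) (hvQ : v ∉ Q) (hv2 : orderOf v = 2) : z ∈ Subgroup.zpowers (u * v) ↔ (u ≠ z ∧ u * v ≠ v * u) := by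
  have hvv : v ^ 2 = 1 := by rw [← hv2]; exact pow_orderOf_eq_one v
  have huu : u ^ 2 = 1 := by rw [← hu2]; exact pow_orderOf_eq_one u
  have hzz : z ^ 2 = 1 := by rw [← c.hz]; exact pow_orderOf_eq_one z
  have hz1 : z ≠ 1 := by
    intro h
    have := c.hz
    rw [h, orderOf_one] at this
    omega
  have hv1 : v ≠ 1 := by
    intro h; exact hvQ (h ▸ Q.one_mem)
  have hvinv : v⁻¹ = v := by
    have : v * v = 1 := by rw [← pow_two]; exact hvv
    exact inv_eq_of_mul_eq_one_left this
  have huinv : u⁻¹ = u := by
    have : u * u = 1 := by rw [← pow_two]; exact huu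
    exact inv_eq_of_mul_eq_one_left this
  have hvz : v * z = z * v := c.hzc v hv
  constructor
  · intro hz
    constructor
    · intro huz
      subst huz
      -- (u v)^2 = 1
      have h2 : (u * v) ^ 2 = 1 := by
        rw [pow_two]
        calc u * v * (u * v) = u * (v * u) * v := by group
          _ = u * (u * v) * v := by rw [hvz]
          _ = (u * u) * (v * v) := by group
          _ = 1 := by rw [← pow_two, ← pow_two, huu, hvv, one_mul]
      rcases mem_zpowers_of_sq_eq_one h2 hz with h | h
      · exact hz1 h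
      · have : v = 1 := by
          have h' : u * 1 = u * v := by rw [mul_one]; exact h
          exact (mul_left_cancel h').symm
        exact hv1 this
    · intro hcomm
      have h2 : (u * v) ^ 2 = 1 := by
        rw [pow_two]
        calc u * v * (u * v) = u * (v * u) * v := by group
          _ = u * (u * v) * v := by rw [hcomm]
          _ = (u * u) * (v * v) := by group
          _ = 1 := by rw [← pow_two, ← pow_two, huu, hvv, one_mul]
      rcases mem_zpowers_of_sq_eq_one h2 hz with h | h
      · exact hz1 h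
      · apply hvQ
        have : v = u⁻¹ * z := by rw [h]; group
        rw [this]
        exact Q.mul_mem (Q.inv_mem hu) c.hzQ
  · rintro ⟨huz, hcomm⟩
    obtain ⟨u', hu'def⟩ : ∃ u', u' = v * u * v⁻¹ := ⟨_, rfl⟩
    have hu'Q : u' ∈ Q := by rw [hu'def]; exact conj_mem_of_mem_sup c hv hu
    have hu'2 : orderOf u' = 2 := by
      rw [hu'def]
      have : orderOf (v * u * v⁻¹) = orderOf u := by
        have := orderOf_injective (MulAut.conj v).toMonoidHom (MulAut.conj v).injective u
        simpa using this
      rw [this, hu2]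
    have hu'u' : u' ^ 2 = 1 := by rw [← hu'2]; exact pow_orderOf_eq_one u'
    have hw : (u * v) ^ 2 = u * u' := by
      rw [pow_two, hu'def, hvinv]; group
    have hne : u' ≠ u := by
      intro h
      apply hcomm
      rw [hu'def] at h
      have : v * u = u * v := by
        calc v * u = (v * u * v⁻¹) * v := by group
          _ = u * v := by rw [h]
      exact this.symm
    have hnz : u' ≠ z := by
      intro h
      apply huz
      rw [hu'def] at h
      calc u = v⁻¹ * (v * u * v⁻¹) * v := by group
        _ = v⁻¹ * z * v := by rw [h]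
        _ = v⁻¹ * (z * v) := by group
        _ = v⁻¹ * (v * z) := by rw [hvz]
        _ = z := by group
    by_cases huz' : u' = u * z
    · -- (u v)^2 = z
      have : (u * v) ^ 2 = z := by
        rw [hw, huz', ← mul_assoc, ← pow_two, huu, one_mul]
      rw [← this]
      exact Subgroup.pow_mem _ (Subgroup.mem_zpowers _) 2
    · have hnc : u * u' ≠ u' * u := by
        intro h
        rcases hC u hu hu2 huz u' hu'Q hu'2 h with h1 | h1 | h1
        · exact hnz h1
        · exact hne h1
        · exact huz' h1
      have hcz : u * u' = z * (u' * u) := by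
        rcases c.comm u hu u' hu'Q with h | h
        · exact absurd h hnc
        · exact h
      have h4 : (u * v) ^ 4 = z := by
        have : (u * v) ^ 4 = ((u * v) ^ 2) ^ 2 := by rw [← pow_mul]
        rw [this, hw, pow_two]
        calc u * u' * (u * u') = z * (u' * u) * (u * u') := by rw [hcz]
          _ = z * (u' * (u * u) * u') := by group
          _ = z * (u' * (u ^ 2) * u') := by rw [pow_two]
          _ = z * (u' * u') := by rw [huu, mul_one]
          _ = z * u' ^ 2 := by rw [pow_two]
          _ = z := by rw [hu'u', mul_one]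
      rw [← h4]
      exact Subgroup.pow_mem _ (Subgroup.mem_zpowers _) 4

end Cfsg.Agent.Helper64.J2P
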