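import Cfsg.Agent.Helper17.J2Defs

set_option autoImplicit false

/-! Piece (P1f) for S3313 (helper17): the set `D = {b ∈ C_Q(u) : b² = 1}` has size divisible
by 4, being a union of cosets of the four-group `{1, u, z, uz}`. -/

namespace Cfsg.Agent.Helper64.J2P

open Cfsg.Agent.Helper17.J2

variable {G : Type*} [Group G] [Finite G] {z : G} {Q K : Subgroup G}

/-- The four-group `{1, u, z, u z}` for commuting involutions `u`, `z`. -/
def fourGroup (u z : G) (huu : u * u = 1) (hzz : z * z = 1) (hzu : z * u = u * z) :
    Subgroup G where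
  carrier := {x | x = 1 ∨ x = u ∨ x = z ∨ x = u * z}
  one_mem' := Or.inl rfl
  mul_mem' := by
    have h1 : u * (u * z) = z := by rw [← mul_assoc, huu, one_mul]
    have h2 : z * (u * z) = u := by rw [← mul_assoc, hzu, mul_assoc, hzz, mul_one]
    have h3 : u * z * u = z := by rw [mul_assoc, hzu, ← mul_assoc, huu, one_mul]
    have h4 : u * z * z = u := by rw [mul_assoc, hzz, mul_one]
    have h5 : u * z * (u * z) = 1 := by rw [mul_assoc, h2, huu]
    rintro a b (rfl | rfl | rfl | rfl) (rfl | rfl | rfl | rfl) <;>
      simp [huu, hzz, hzu, h1, h2, h3, h4, h5]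
  inv_mem' := by
    have h5 : u * z * (u * z) = 1 := by
      rw [mul_assoc, ← mul_assoc z u z, hzu, mul_assoc, hzz, mul_one, huu]
    rintro a (rfl | rfl | rfl | rfl)
    · simp
    · right; left; exact inv_eq_of_mul_eq_one_left huu
    · right; right; left; exact inv_eq_of_mul_eq_one_left hzz
    · right; right; right; exact inv_eq_of_mul_eq_one_left h5

theorem card_fourGroup (u z : G) (huu : u * u = 1) (hzz : z * z = 1) (hzu : z * u = u * z)
    (hu1 : u ≠ 1) (hz1 : z ≠ 1) (huz : u ≠ z) :
    Nat.card (fourGroup u z huu hzz hzu) = 4 := by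
  have hset : ((fourGroup u z huu hzz hzu : Subgroup G) : Set G) = {1, u, z, u * z} := by
    ext x
    simp [fourGroup]
  have huz1 : u * z ≠ 1 := by
    intro h
    apply huz
    have : u = z⁻¹ := eq_inv_of_mul_eq_one_left h
    rw [this]; exact inv_eq_of_mul_eq_one_left hzz
  have huzu : u * z ≠ u := by
    intro h
    apply hz1
    have : u * z = u * 1 := by rw [mul_one]; exact h
    exact mul_left_cancel this
  have huzz : u * z ≠ z := by
    intro h
    apply hu1
    have : u * z = 1 * z := by rw [one_mul]; exact h
    exact mul_right_cancel this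
  have : Nat.card (fourGroup u z huu hzz hzu) = Set.ncard ({1, u, z, u * z} : Set G) := by
    rw [← hset]; exact (Nat.card_coe_set_eq _)
  rw [this]
  rw [Set.ncard_insert_of_notMem, Set.ncard_insert_of_notMem, Set.ncard_pair]
  · intro h; exact huzz h.symm
  · simp only [Set.mem_insert_iff, Set.mem_singleton_iff, not_or]
    exact ⟨huz, fun h => huzu h.symm⟩
  · simp only [Set.mem_insert_iff, Set.mem_singleton_iff, not_or]
    exact ⟨fun h => hu1 h.symm, fun h => hz1 h.symm, fun h => huz1 h.symm⟩

/-- A set stable under right multiplication by a subgroup has size divisible by the order of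
the subgroup. -/
theorem card_dvd_of_right_stable (H : Subgroup G) (D : Set G)
    (hD : ∀ b ∈ D, ∀ h ∈ H, b * h ∈ D) : Nat.card H ∣ Nat.card D := by
  classical
  obtain ⟨t, ht⟩ : ∃ t : Set (G ⧸ H), t = (QuotientGroup.mk : G → G ⧸ H) '' D := ⟨_, rfl⟩
  have hpre : (QuotientGroup.mk : G → G ⧸ H) ⁻¹' t = D := by
    ext x
    constructor
    · intro hx
      rw [ht] at hx
      obtain ⟨b, hb, hbx⟩ := hx
      have : b⁻¹ * x ∈ H := QuotientGroup.eq.mp hbx
      have := hD b hb _ this
      simpa using this
    · intro hx
      rw [ht]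
      exact ⟨x, hx, rfl⟩
  have e := QuotientGroup.preimageMkEquivSubgroupProdSet H t
  rw [hpre] at e
  rw [Nat.card_congr e, Nat.card_prod]
  exact dvd_mul_right _ _

theorem four_dvd_D (c : Ctx z Q K) (u : G) (hu : u ∈ Q) (hu2 : orderOf u = 2) (huz : u ≠ z) : 4 ∣ Nat.card {b : G // b ∈ Q ∧ u * b = b * u ∧ b ^ 2 = 1} := by
  have huu : u * u = 1 := by rw [← pow_two, ← hu2]; exact pow_orderOf_eq_one u
  have hzz : z * z = 1 := by rw [← pow_two, ← c.hz]; exact pow_orderOf_eq_one z
  have hzu : z * u = u * z := (c.hzc u (Subgroup.mem_sup_right hu)).symm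
  have hz1 : z ≠ 1 := by
    intro h
    have := c.hz
    rw [h, orderOf_one] at this
    omega
  have hu1 : u ≠ 1 := by
    intro h
    rw [h, orderOf_one] at hu2
    omega
  have hcard := card_fourGroup u z huu hzz hzu hu1 hz1 huz
  have hzcomm : ∀ b ∈ Q, b * z = z * b := fun b hb => c.hzc b (Subgroup.mem_sup_right hb)
  have hdvd := card_dvd_of_right_stable (fourGroup u z huu hzz hzu)
    {b : G | b ∈ Q ∧ u * b = b * u ∧ b ^ 2 = 1} (by
      rintro b ⟨hbQ, hbu, hb2⟩ h hh
      have hbb : b * b = 1 := by rw [← pow_two]; exact hb2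
      have hbz := hzcomm b hbQ
      rcases hh with rfl | rfl | rfl | rfl
      · simpa using ⟨hbQ, hbu, hb2⟩
      · refine ⟨Q.mul_mem hbQ hu, ?_, ?_⟩
        · rw [← mul_assoc, hbu]
        · rw [pow_two]
          calc b * h * (b * h) = b * (h * b) * h := by group
            _ = b * (b * h) * h := by rw [hbu]
            _ = (b * b) * (h * h) := by group
            _ = 1 := by rw [hbb, huu, one_mul]
      · refine ⟨Q.mul_mem hbQ c.hzQ, ?_, ?_⟩
        · calc u * (b * h) = (u * b) * h := by group
            _ = (b * u) * h := by rw [hbu]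
            _ = b * (u * h) := by group
            _ = b * (h * u) := by rw [hzu]
            _ = b * h * u := by group
        · rw [pow_two]
          calc b * h * (b * h) = b * (h * b) * h := by group
            _ = b * (b * h) * h := by rw [hbz]
            _ = (b * b) * (h * h) := by group
            _ = 1 := by rw [hbb, hzz, one_mul]
      · refine ⟨Q.mul_mem hbQ (Q.mul_mem hu c.hzQ), ?_, ?_⟩
        · calc u * (b * (u * z)) = (u * b) * (u * z) := by group
            _ = (b * u) * (u * z) := by rw [hbu]
            _ = b * (u * (u * z)) := by group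
            _ = b * ((u * z) * u) := by
                congr 1
                rw [mul_assoc, hzu]
            _ = b * (u * z) * u := by group
        · rw [pow_two]
          calc b * (u * z) * (b * (u * z)) = b * u * (z * b) * (u * z) := by group
            _ = b * u * (b * z) * (u * z) := by rw [hbz]
            _ = b * (u * b) * (z * u) * z := by group
            _ = b * (b * u) * (u * z) * z := by rw [hbu, hzu]
            _ = (b * b) * (u * u) * (z * z) := by group
            _ = 1 := by rw [hbb, huu, hzz, one_mul, one_mul])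
  rw [hcard] at hdvd
  exact hdvd

end Cfsg.Agent.Helper64.J2P
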