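import Cfsg.Agent.Helper64.GT
import Cfsg.Agent.Lib.ZJ8

/-!
# `Z(J(S))` (abelian version of the Thompson subgroup) is a `GTFunctor`
-/

namespace Cfsg.Agent.Helper64

universe u

theorem gtFunctor_centerThompsonA {p : ℕ} [Fact p.Prime] (hp2 : p ≠ 2) :
    GTFunctor.{u} p (fun K _ S => Cfsg.centerThompsonAOf S) where
  le := fun _ _ S => Cfsg.Agent.Lib.ZJ.centerThompsonAOf_le S
  ne_bot := fun _ _ _ _ hS hS1 => Cfsg.Agent.Lib.ZJ.centerThompsonAOf_ne_bot hS hS1
  map := fun _ _ _ _ _ _ f S hinj => Cfsg.Agent.Lib.ZJ.centerThompsonAOf_map f S hinj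
  normal := fun _ _ _ hc hst S => Cfsg.Agent.Lib.ZJ.zj_normal hp2 hc hst S

/-- **Glauberman–Thompson** (abelian version of `J`): for odd `p`, if `N_G(Z(J(P)))` has a normal
`p`-complement, so does `G`. -/
theorem hasNormalPComplement_of_normalizer_zj {G : Type u} [Group G] [Finite G] {p : ℕ}
    [Fact p.Prime] (hp2 : p ≠ 2) (P : Sylow p G)
    (hN : Cfsg.HasNormalPComplement p
      (Subgroup.normalizer (Cfsg.centerThompsonAOf (P : Subgroup G) : Set G))) :
    Cfsg.HasNormalPComplement p G :=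
  hasNormalPComplement_of_gtFunctor hp2 (gtFunctor_centerThompsonA hp2) G P hN

end Cfsg.Agent.Helper64
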