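import Mathlib
import Cfsg.Agent.Helper54.QuadAvg
import Cfsg.Agent.Helper48.CoprimeGen
import Cfsg.Agent.Helper64.QuadAction

/-!
# A quadratic element whose centralizer in a `p'`-group kills its commutator space (helper64)

Ring form of a "transvection lemma".  Let `E` be a ring with `p = 0` (`p` an odd prime), `x ∈ Eˣ` with
`(x - 1)^2 = 0`, and `Q ≤ Eˣ` a finite `p'`-subgroup normalized by `x`.  If every `z ∈ C_Q(x)` satisfies
`(z - 1)(x - 1) = 0` (that is: `z` acts trivially on the commutator space `[V, x]`), then `x`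
centralizes `Q`.

The proof takes a minimal `x`-invariant `q`-subgroup `S` of `Q` not centralized by `x`; then `S = [S, x]`,
`Z = S'` is central in `S` and centralized by `x`; with the averaging idempotent `e` of `Z` the group
`e S + (1 - e)` is abelian, so trivial by `Helper54.Quad.eq_one_of_abelian`; finally `(1 - e)(x - 1) = 0`
by hypothesis and `x` centralizes `S`.
-/

set_option autoImplicit false

namespace Cfsg.Agent.Helper64

open Subgroup
open scoped commutatorElement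

section idem

variable {E : Type*} [Ring E]

/-- left multiplication by an element of `Z` fixes the sum of `Z` -/
theorem unit_mul_sum (Z : Subgroup Eˣ) [Fintype Z] (z₀ : Eˣ) (hz₀ : z₀ ∈ Z) :
    (z₀ : E) * ∑ z : Z, (((z : Eˣ) : E)) = ∑ z : Z, (((z : Eˣ) : E)) := by
  rw [Finset.mul_sum]
  refine Fintype.sum_equiv (Equiv.mulLeft (⟨z₀, hz₀⟩ : Z)) _ _ ?_
  intro z
  simp

/-- right multiplication by an element of `Z` fixes the sum of `Z` -/
theorem sum_mul_unit (Z : Subgroup Eˣ) [Fintype Z] (z₀ : Eˣ) (hz₀ : z₀ ∈ Z) :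
    (∑ z : Z, (((z : Eˣ) : E))) * (z₀ : E) = ∑ z : Z, (((z : Eˣ) : E)) := by
  rw [Finset.sum_mul]
  refine Fintype.sum_equiv (Equiv.mulRight (⟨z₀, hz₀⟩ : Z)) _ _ ?_
  intro z
  simp

/-- if every element of `Z` fixes `a` on the left, the sum of `Z` multiplies `a` by `|Z|` -/
theorem sum_mul_of_fixed (Z : Subgroup Eˣ) [Fintype Z] (a : E)
    (ha : ∀ z ∈ Z, ((z : Eˣ) : E) * a = a) :
    (∑ z : Z, (((z : Eˣ) : E))) * a = (Fintype.card Z : E) * a := by
  rw [Finset.sum_mul]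
  have : ∀ z ∈ (Finset.univ : Finset Z), (((z : Eˣ) : E)) * a = a := fun z _ => ha z z.2
  rw [Finset.sum_congr rfl this, Finset.sum_const, Finset.card_univ, nsmul_eq_mul]

/-- an element commuting with every element of `Z` commutes with the sum of `Z` -/
theorem commute_sum (Z : Subgroup Eˣ) [Fintype Z] (g : E)
    (hg : ∀ z ∈ Z, g * ((z : Eˣ) : E) = ((z : Eˣ) : E) * g) :
    g * ∑ z : Z, (((z : Eˣ) : E)) = (∑ z : Z, (((z : Eˣ) : E))) * g := by
  rw [Finset.mul_sum, Finset.sum_mul]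
  exact Finset.sum_congr rfl fun z _ => hg z z.2

/-- the basic identity for the units `e a + (1 - e)` -/
theorem theta_mul (e a b : E) (hee : e * e = e) (ha : a * e = e * a) :
    (e * a + (1 - e)) * (e * b + (1 - e)) = e * (a * b) + (1 - e) := by
  have h1 : e * a * e = e * a := by rw [mul_assoc, ha, ← mul_assoc, hee]
  have key : (e * a + (1 - e)) * (e * b + (1 - e)) = e * (a * b) + (1 - e) +
      ((e * a * e - e * a) * b - (e * a * e - e * a) - (e * e - e) * b + (e * e - e)) := by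
    noncomm_ring
  rw [key, h1, hee]
  simp

end idem

section key

variable {E : Type*} [Ring E]

/-- the minimal case of the transvection lemma -/
theorem transv_key {p : ℕ} [hp : Fact p.Prime] (hp2 : p ≠ 2) (hchar : (p : E) = 0) (x : Eˣ)
    (hx : ((x : E) - 1) ^ 2 = 0) {q : ℕ} [hq : Fact q.Prime] (S : Subgroup Eˣ) [Finite S]
    (hSq : IsPGroup q S) (hcop : (Nat.card S).Coprime p) (hnorm : ∀ u ∈ S, x * u * x⁻¹ ∈ S)
    (hmin : ∀ T : Subgroup Eˣ, T < S → (∀ u ∈ T, x * u * x⁻¹ ∈ T) → ∀ u ∈ T, x * u = u * x)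
    (hfix : ∀ z ∈ S, z * x = x * z → ((z : E) - 1) * ((x : E) - 1) = 0) :
    ∀ u ∈ S, x * u = u * x := by
  by_contra hne
  -- Step 1: `S = [S, x]`
  obtain ⟨gens, hgens⟩ : ∃ gens : Set Eˣ, gens = {w | ∃ u ∈ S, w = u⁻¹ * (x * u * x⁻¹)} := ⟨_, rfl⟩
  have hgensS : gens ⊆ S := by
    rw [hgens]
    rintro w ⟨u, hu, rfl⟩
    exact S.mul_mem (S.inv_mem hu) (hnorm u hu)
  have hDS : closure gens ≤ S := (closure_le S).mpr hgensS
  have hDinv : ∀ u ∈ closure gens, x * u * x⁻¹ ∈ closure gens := by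
    intro u hu
    have h1 : (closure gens).map (MulAut.conj x).toMonoidHom ≤ closure gens := by
      rw [MonoidHom.map_closure, closure_le]
      rintro _ ⟨w, hw, rfl⟩
      rw [hgens] at hw
      obtain ⟨u, hu, rfl⟩ := hw
      apply Subgroup.subset_closure
      rw [hgens]
      refine ⟨x * u * x⁻¹, hnorm u hu, ?_⟩
      show x * (u⁻¹ * (x * u * x⁻¹)) * x⁻¹ = _
      group
    have h2 := h1 (mem_map_of_mem _ hu)
    exact h2
  have hD : S ≤ closure gens := by
    by_contra hlt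
    have hlt' : closure gens < S := lt_of_le_of_ne hDS (fun h => hlt h.ge)
    have hcD := hmin _ hlt' hDinv
    apply hne
    exact Cfsg.Agent.Helper54.Quad.centralizes_of_centralizes_comm hchar x hx S hcop hnorm
      (fun u hu => hcD _ (Subgroup.subset_closure (by rw [hgens]; exact ⟨u, hu, rfl⟩)))
  -- Step 2: the derived subgroup
  have hSne : S ≠ ⊥ := by
    rintro rfl
    apply hne
    intro u hu
    rw [mem_bot] at hu
    subst hu
    simp
  have hZS : ⁅S, S⁆ ≤ S := by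
    rw [commutator_le]
    intro a ha b hb
    exact S.mul_mem (S.mul_mem (S.mul_mem ha hb) (S.inv_mem ha)) (S.inv_mem hb)
  have hZne : ⁅S, S⁆ ≠ S := by
    haveI : Group.IsNilpotent S := hSq.isNilpotent
    exact commutator_ne_self_of_isNilpotent S S le_rfl hSne
  have hZlt : ⁅S, S⁆ < S := lt_of_le_of_ne hZS hZne
  have hconjS : S.map (MulAut.conj x).toMonoidHom ≤ S := by
    rintro _ ⟨w, hw, rfl⟩
    exact hnorm w hw
  have hZinv : ∀ u ∈ ⁅S, S⁆, x * u * x⁻¹ ∈ ⁅S, S⁆ := by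
    intro u hu
    have h1 : (⁅S, S⁆).map (MulAut.conj x).toMonoidHom ≤ ⁅S, S⁆ := by
      rw [map_commutator]
      exact commutator_mono hconjS hconjS
    exact h1 (mem_map_of_mem _ hu)
  have hZx : ∀ u ∈ ⁅S, S⁆, x * u = u * x := hmin _ hZlt hZinv
  -- Step 3: `S'` is central in `S`
  have hZc : ∀ s ∈ S, ∀ z ∈ ⁅S, S⁆, z * s = s * z := by
    have h0 : ⁅zpowers x, ⁅S, S⁆⁆ = ⊥ := by
      rw [commutator_eq_bot_iff_le_centralizer, zpowers_le, mem_centralizer_iff]
      intro u hu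
      exact (hZx u hu).symm
    have h1 : ⁅⁅zpowers x, ⁅S, S⁆⁆, S⁆ = ⊥ := by
      rw [h0]; exact commutator_bot_left _
    have h0' : ⁅⁅S, S⁆, zpowers x⁆ = ⊥ := by
      rw [commutator_comm]; exact h0
    have h2 : ⁅⁅⁅S, S⁆, S⁆, zpowers x⁆ = ⊥ := by
      rw [eq_bot_iff, ← h0']
      exact commutator_mono (commutator_mono hZS le_rfl |>.trans (le_of_eq rfl) |>.trans
        (by
          rw [commutator_le]
          intro a ha b hb
          have : ⁅a, b⁆ ∈ ⁅S, S⁆ := commutator_mem_commutator ha hb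
          exact this)) le_rfl
    have h3 : ⁅⁅S, zpowers x⁆, ⁅S, S⁆⁆ = ⊥ := commutator_commutator_eq_bot_of_rotate h1 h2
    have h4 : S ≤ ⁅S, zpowers x⁆ := by
      refine hD.trans ((closure_le _).mpr ?_)
      rw [hgens]
      rintro w ⟨u, hu, rfl⟩
      have h5 : ⁅u⁻¹, x⁆ ∈ ⁅S, zpowers x⁆ :=
        commutator_mem_commutator (S.inv_mem hu) (mem_zpowers x)
      have h6 : ⁅u⁻¹, x⁆ = u⁻¹ * (x * u * x⁻¹) := by
        rw [commutatorElement_def]; group
      rw [SetLike.mem_coe, ← h6]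
      exact h5
    have h5 : ⁅S, ⁅S, S⁆⁆ = ⊥ := by
      rw [eq_bot_iff, ← h3]
      exact commutator_mono h4 le_rfl
    rw [commutator_eq_bot_iff_le_centralizer] at h5
    intro s hs z hz
    exact (mem_centralizer_iff.mp (h5 hs)) z hz
  -- Step 4: the averaging idempotent of `Z = S'`
  obtain ⟨Z, hZdef⟩ : ∃ Z : Subgroup Eˣ, Z = ⁅S, S⁆ := ⟨_, rfl⟩
  rw [← hZdef] at hZS hZlt hZx hZc
  haveI : Finite Z := Finite.of_injective _ (inclusion_injective hZS)
  haveI : Fintype Z := Fintype.ofFinite Z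
  have hcopZ : (Nat.card Z).Coprime p := Nat.Coprime.coprime_dvd_left (card_dvd_of_le hZS) hcop
  obtain ⟨m, -, hm⟩ := Nat.exists_mul_mod_eq_one_of_coprime hcopZ hp.out.one_lt
  have hmE : (Fintype.card Z : E) * (m : E) = 1 := by
    have h := Nat.div_add_mod (Nat.card Z * m) p
    rw [hm, Nat.card_eq_fintype_card] at h
    have h2 := congrArg (Nat.cast : ℕ → E) h
    push_cast at h2
    rw [hchar, zero_mul, zero_add] at h2
    exact h2.symm
  obtain ⟨σ, hσ⟩ : ∃ σ : E, σ = ∑ z : Z, (((z : Eˣ) : E)) := ⟨_, rfl⟩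
  have hσz : ∀ z ∈ Z, ((z : Eˣ) : E) * σ = σ := by
    intro z hz; rw [hσ]; exact unit_mul_sum Z z hz
  have hσσ : σ * σ = (Fintype.card Z : E) * σ := by
    have := sum_mul_of_fixed Z σ hσz
    rw [← hσ] at this
    exact this
  obtain ⟨e, he⟩ : ∃ e : E, e = (m : E) * σ := ⟨_, rfl⟩
  have hmc : ∀ a : E, (m : E) * a = a * (m : E) := fun a => (Nat.cast_commute m a).eq
  have hee : e * e = e := by
    rw [he]
    calc (m : E) * σ * ((m : E) * σ) = (m : E) * ((m : E) * (σ * σ)) := by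
          rw [mul_assoc, ← mul_assoc σ, ← hmc σ, mul_assoc]
      _ = (m : E) * (((Fintype.card Z : E) * (m : E)) * σ) := by
          rw [hσσ, ← mul_assoc (m : E) (Fintype.card Z : E), hmc (Fintype.card Z : E)]
      _ = (m : E) * σ := by rw [hmE, one_mul]
  have hes : ∀ s ∈ S, ((s : Eˣ) : E) * e = e * ((s : Eˣ) : E) := by
    intro s hs
    rw [he, ← mul_assoc, ← hmc, mul_assoc, mul_assoc]
    congr 1
    rw [hσ]
    apply commute_sum
    intro z hz
    have := hZc s hs z hz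
    have h2 := congrArg Units.val this
    rw [Units.val_mul, Units.val_mul] at h2
    exact h2.symm
  have hex : ((x : Eˣ) : E) * e = e * ((x : Eˣ) : E) := by
    rw [he, ← mul_assoc, ← hmc, mul_assoc, mul_assoc]
    congr 1
    rw [hσ]
    apply commute_sum
    intro z hz
    have h2 := congrArg Units.val (hZx z hz)
    rw [Units.val_mul, Units.val_mul] at h2
    exact h2
  have hez : ∀ z ∈ Z, e * ((z : Eˣ) : E) = e := by
    intro z hz
    rw [he, mul_assoc, hσ, sum_mul_unit Z z hz]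
  -- Step 5: the abelian group `e S + (1 - e)`
  let θ₀ : S →* E :=
    { toFun := fun s => e * (((s : S) : Eˣ) : E) + (1 - e)
      map_one' := by simp
      map_mul' := fun s t => by
        show e * (((s * t : S) : Eˣ) : E) + (1 - e) = _
        rw [theta_mul e _ _ hee (hes s s.2)]
        simp }
  obtain ⟨θ, hθ⟩ : ∃ θ : S →* Eˣ, θ = θ₀.toHomUnits := ⟨_, rfl⟩
  have hθval : ∀ s : S, ((θ s : Eˣ) : E) = e * (((s : S) : Eˣ) : E) + (1 - e) := by
    intro s; rw [hθ]; rfl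
  have hxinv : ((x : Eˣ) : E) * ((x⁻¹ : Eˣ) : E) = 1 := by
    rw [← Units.val_mul, mul_inv_cancel, Units.val_one]
  have hθconj : ∀ (s : S) (hs' : x * (s : Eˣ) * x⁻¹ ∈ S),
      x * θ s * x⁻¹ = θ ⟨x * (s : Eˣ) * x⁻¹, hs'⟩ := by
    intro s hs'
    apply Units.ext
    rw [Units.val_mul, Units.val_mul, hθval, hθval]
    show (x : E) * (e * (((s : S) : Eˣ) : E) + (1 - e)) * ((x⁻¹ : Eˣ) : E)
      = e * ((x * (s : Eˣ) * x⁻¹ : Eˣ) : E) + (1 - e)
    rw [Units.val_mul, Units.val_mul]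
    have h1 : (x : E) * (e * (((s : S) : Eˣ) : E) + (1 - e)) * ((x⁻¹ : Eˣ) : E)
        = ((x : E) * e) * (((s : S) : Eˣ) : E) * ((x⁻¹ : Eˣ) : E)
          + ((x : E) * ((x⁻¹ : Eˣ) : E) - ((x : E) * e) * ((x⁻¹ : Eˣ) : E)) := by
      noncomm_ring
    rw [h1, hex, hxinv]
    have h2 : e * (x : E) * ((x⁻¹ : Eˣ) : E) = e := by rw [mul_assoc, hxinv, mul_one]
    rw [h2]
    noncomm_ring
  have hfinR : Finite θ.range := Finite.of_surjective θ.rangeRestrict θ.rangeRestrict_surjective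
  have hcopR : (Nat.card θ.range).Coprime p :=
    Nat.Coprime.coprime_dvd_left (Subgroup.card_range_dvd θ) hcop
  have hnormR : ∀ u ∈ θ.range, x * u * x⁻¹ ∈ θ.range := by
    rintro _ ⟨s, rfl⟩
    exact ⟨⟨x * (s : Eˣ) * x⁻¹, hnorm s s.2⟩, (hθconj s (hnorm s s.2)).symm⟩
  have habR : ∀ u ∈ θ.range, ∀ v ∈ θ.range, u * v = v * u := by
    rintro _ ⟨s, rfl⟩ _ ⟨t, rfl⟩
    rw [← map_mul, ← map_mul]
    apply Units.ext
    rw [hθval, hθval]
    congr 1
    -- `s t = (t s) c` with `c ∈ Z`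
    have hc : ((t * s)⁻¹ * (s * t) : S).1 ∈ Z := by
      rw [hZdef]
      have h1 : ⁅((s : S) : Eˣ)⁻¹, ((t : S) : Eˣ)⁻¹⁆ ∈ ⁅S, S⁆ :=
        commutator_mem_commutator (S.inv_mem s.2) (S.inv_mem t.2)
      have h2 : ((t * s)⁻¹ * (s * t) : S).1 = ⁅((s : S) : Eˣ)⁻¹, ((t : S) : Eˣ)⁻¹⁆ := by
        rw [commutatorElement_def]
        simp only [Subgroup.coe_mul, Subgroup.coe_inv]
        group
      rw [h2]; exact h1
    have h3 : (((s * t : S) : Eˣ) : E) = (((t * s : S) : Eˣ) : E) *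
        ((((t * s)⁻¹ * (s * t) : S) : Eˣ) : E) := by
      rw [← Units.val_mul, ← Subgroup.coe_mul]
      congr 2
      group
    have h4 := hZc ((t * s : S) : Eˣ) (t * s).2 _ hc
    have h5 : ((((t * s)⁻¹ * (s * t) : S) : Eˣ) : E) * (((t * s : S) : Eˣ) : E)
        = (((t * s : S) : Eˣ) : E) * ((((t * s)⁻¹ * (s * t) : S) : Eˣ) : E) := by
      rw [← Units.val_mul, ← Units.val_mul, h4]
    rw [h3, ← h5, ← mul_assoc, hez _ hc]
  have hgenR : θ.range ≤ closure {w | ∃ u ∈ θ.range, w = u⁻¹ * (x * u * x⁻¹)} := by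
    obtain ⟨C, hC⟩ : ∃ C : Subgroup Eˣ,
        C = closure {w | ∃ u ∈ θ.range, w = u⁻¹ * (x * u * x⁻¹)} := ⟨_, rfl⟩
    rw [← hC]
    have h1 : S ≤ (C.comap θ).map S.subtype := by
      refine hD.trans ((closure_le _).mpr ?_)
      rw [hgens]
      rintro w ⟨u, hu, rfl⟩
      refine ⟨⟨u⁻¹ * (x * u * x⁻¹), S.mul_mem (S.inv_mem hu) (hnorm u hu)⟩, ?_, rfl⟩
      show θ _ ∈ C
      have h2 : (⟨u⁻¹ * (x * u * x⁻¹), S.mul_mem (S.inv_mem hu) (hnorm u hu)⟩ : S)
          = (⟨u, hu⟩ : S)⁻¹ * ⟨x * u * x⁻¹, hnorm u hu⟩ := rfl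
      rw [h2, map_mul, map_inv, ← hθconj ⟨u, hu⟩ (hnorm u hu), hC]
      exact Subgroup.subset_closure ⟨θ ⟨u, hu⟩, ⟨_, rfl⟩, rfl⟩
    rintro _ ⟨s, rfl⟩
    obtain ⟨s', hs', hss'⟩ := h1 s.2
    have : s' = s := Subtype.ext hss'
    rw [← this]
    exact hs'
  have hp3 : 3 ≤ p := by
    have := hp.out.two_le
    omega
  have hRone := Cfsg.Agent.Helper54.Quad.eq_one_of_abelian hp3 hchar x hx θ.range hcopR hnormR
    habR hgenR
  have hesS : ∀ s ∈ S, e * ((s : Eˣ) : E) = e := by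
    intro s hs
    have h1 := hRone (θ ⟨s, hs⟩) ⟨_, rfl⟩
    have h2 := congrArg Units.val h1
    rw [hθval, Units.val_one] at h2
    have h3 : e * ((s : Eˣ) : E) = (e * ((s : Eˣ) : E) + (1 - e)) - (1 - e) := by abel
    rw [h3, h2]
    abel
  -- Step 6: `e (x - 1) = x - 1`
  have hen : e * ((x : E) - 1) = (x : E) - 1 := by
    have h1 : ∀ z ∈ Z, ((z : Eˣ) : E) * ((x : E) - 1) = (x : E) - 1 := by
      intro z hz
      have h2 := hfix z (hZS hz) (hZx z hz).symm
      rw [sub_mul, one_mul, sub_eq_zero] at h2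
      exact h2
    have h2 := sum_mul_of_fixed Z ((x : E) - 1) h1
    rw [he, mul_assoc, hσ, h2, ← mul_assoc, hmc, hmE, one_mul]
  have hne' : ((x : E) - 1) * e = (x : E) - 1 := by
    rw [sub_mul, one_mul, hex, ← hen]
    noncomm_ring
  -- Step 7: `x` centralizes `S`
  apply hne
  intro s hs
  apply Units.ext
  rw [Units.val_mul, Units.val_mul]
  have h1 : ((x : E) - 1) * ((s : Eˣ) : E) = (x : E) - 1 := by
    rw [← hne', mul_assoc, hesS s hs]
  have h2 : ((s : Eˣ) : E) * ((x : E) - 1) = (x : E) - 1 := by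
    rw [← hen, ← mul_assoc, hes s hs, hesS s hs]
  have h3 : (x : E) * ((s : Eˣ) : E) = ((x : E) - 1) * ((s : Eˣ) : E) + ((s : Eˣ) : E) := by
    noncomm_ring
  have h4 : ((s : Eˣ) : E) * (x : E) = ((s : Eˣ) : E) * ((x : E) - 1) + ((s : Eˣ) : E) := by
    noncomm_ring
  rw [h3, h4, h1, h2]

/-- **Transvection lemma (ring form).** `E` a ring with `p = 0`, `p` odd; `x ∈ Eˣ` quadratic
(`(x - 1)^2 = 0`), `Q ≤ Eˣ` a finite `p'`-group normalized by `x`.  If every element `z` of `C_Q(x)`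
satisfies `(z - 1)(x - 1) = 0`, then `x` centralizes `Q`. -/
theorem units_commute_of_transvection {p : ℕ} [hp : Fact p.Prime] (hp2 : p ≠ 2) (hchar : (p : E) = 0)
    (x : Eˣ) (hx : ((x : E) - 1) ^ 2 = 0) (Q : Subgroup Eˣ) [Finite Q]
    (hcop : (Nat.card Q).Coprime p) (hnorm : ∀ u ∈ Q, x * u * x⁻¹ ∈ Q)
    (hfix : ∀ z ∈ Q, z * x = x * z → ((z : E) - 1) * ((x : E) - 1) = 0) :
    ∀ u ∈ Q, x * u = u * x := by
  have hxp : x ^ p = 1 := Cfsg.Agent.Helper54.Quad.pow_prime_eq_one hchar x hx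
  -- `q`-subgroups
  have claim : ∀ (n : ℕ) (q : ℕ) [Fact q.Prime] (S : Subgroup Eˣ), S ≤ Q → Nat.card S = n →
      IsPGroup q S → (∀ u ∈ S, x * u * x⁻¹ ∈ S) → ∀ u ∈ S, x * u = u * x := by
    intro n
    induction n using Nat.strong_induction_on with
    | _ n ih =>
    intro q _ S hSQ hcard hSq hnormS
    haveI : Finite S := Finite.of_injective _ (inclusion_injective hSQ)
    refine transv_key hp2 hchar x hx S hSq
      (Nat.Coprime.coprime_dvd_left (card_dvd_of_le hSQ) hcop) hnormS ?_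
      (fun z hz => hfix z (hSQ hz))
    intro T hTS hTinv
    refine ih (Nat.card T) ?_ q T (hTS.le.trans hSQ) rfl (hSq.to_le hTS.le) hTinv
    rw [← hcard]
    refine lt_of_le_of_ne (Subgroup.card_le_of_le hTS.le) fun heq => ?_
    exact hTS.ne (Subgroup.eq_of_le_of_card_ge hTS.le heq.ge)
  -- invariant Sylow subgroups
  have hxN : x ∈ normalizer (Q : Set Eˣ) := by
    rw [mem_normalizer_iff]
    intro h
    refine ⟨hnorm h, fun hh => ?_⟩
    have h1 := Cfsg.Agent.Helper54.Quad.conj_pow_mem Q x hnorm (p - 1) _ hh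
    have h2 : x ^ (p - 1) * (x * h * x⁻¹) * (x ^ (p - 1))⁻¹ = x ^ p * h * (x ^ p)⁻¹ := by
      have h3 : x ^ p = x ^ (p - 1) * x := by
        rw [← pow_succ, Nat.sub_add_cancel hp.out.one_le]
      rw [h3]; group
    rw [h2, hxp] at h1
    simpa using h1
  have hzN : zpowers x ≤ normalizer (Q : Set Eˣ) := (zpowers_le).mpr hxN
  have hzp : IsPGroup p (zpowers x) := by
    rintro ⟨g, hg⟩
    refine ⟨1, ?_⟩
    obtain ⟨k, rfl⟩ := mem_zpowers_iff.mp hg
    apply Subtype.ext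
    show (x ^ k) ^ p ^ 1 = 1
    rw [pow_one, ← zpow_natCast, ← zpow_mul, mul_comm, zpow_mul, zpow_natCast, hxp, one_zpow]
  have hpQ : ¬ p ∣ Nat.card Q := by
    intro h
    have := Nat.Coprime.eq_one_of_dvd hcop.symm h
    exact hp.out.one_lt.ne' this
  have hle : Q ≤ Q ⊓ centralizer {x} := by
    apply Cfsg.Agent.Helper48.le_of_forall_sylow_le inf_le_left
    intro q hq
    haveI : Fact q.Prime := hq
    obtain ⟨S, hS⟩ := Cfsg.Agent.Helper48.exists_invariant_sylow Q (zpowers x) hzN hzp hpQ q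
    refine ⟨S, ?_⟩
    have hSQ : (S : Subgroup Q).map Q.subtype ≤ Q := by
      rintro _ ⟨w, -, rfl⟩
      exact w.2
    have hSq : IsPGroup q ((S : Subgroup Q).map Q.subtype) := S.isPGroup'.map _
    have hSn : ∀ u ∈ (S : Subgroup Q).map Q.subtype, x * u * x⁻¹ ∈ (S : Subgroup Q).map Q.subtype := by
      rintro _ ⟨w, hw, rfl⟩
      exact ⟨⟨x * (w : Eˣ) * x⁻¹, hnorm w w.2⟩, hS x (mem_zpowers x) w hw (hnorm w w.2), rfl⟩
    have hcent := claim _ q _ hSQ rfl hSq hSn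
    intro u hu
    refine ⟨hSQ hu, ?_⟩
    show u ∈ centralizer {x}
    rw [mem_centralizer_singleton_iff]
    exact (hcent u hu).symm
  intro u hu
  have h1 : u ∈ centralizer {x} := (hle hu).2
  rw [mem_centralizer_singleton_iff] at h1
  exact h1.symm

end key

end Cfsg.Agent.Helper64
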