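import Mathlib
import Cfsg.Prelude.Def_PLocal
import Cfsg.Agent.Lib.Cores
import Cfsg.Agent.Helper54.SectionAct
import Cfsg.Agent.Helper62.PSolvDual
import Cfsg.Agent.Helper64.TransvRing

/-!
# Transvection-like elements of `p`-solvable groups (helper64)

* `pow_mul_of_comm`: the class-two power formula `(u β)^n = w^(n choose 2) u^n β^n`, `w = [β, u]`
  commuting with `u` and `β`.
* `eq_one_of_transvection_odd`: `H` finite `p`-solvable with `O_p(H) = 1` (`p` odd) acting faithfully on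
  an elementary abelian `p`-group `V`; a `p`-element `h` with `[V, h] ≤ ⟨c⟩`, `c` fixed by `h` and by
  every element of `C_H(h)`, is trivial.
-/

set_option autoImplicit false

namespace Cfsg.Agent.Helper64

open Subgroup Cfsg.Agent.Helper54.Quad

section classtwo

variable {G : Type*} [Group G]

theorem conj_pow_of_comm (u β w : G) (hw : w = β * u * β⁻¹ * u⁻¹) (hwβ : w * β = β * w) (n : ℕ) :
    β ^ n * u = w ^ n * u * β ^ n := by
  induction n with
  | zero => simp
  | succ n ih =>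
    have h1 : β * u = w * u * β := by rw [hw]; group
    have hwβn : β * w ^ n = w ^ n * β := by
      have : Commute w β := hwβ
      exact ((this.pow_left n).eq).symm
    calc β ^ (n + 1) * u = β * (β ^ n * u) := by rw [pow_succ']; group
      _ = β * (w ^ n * u * β ^ n) := by rw [ih]
      _ = (β * w ^ n) * u * β ^ n := by group
      _ = w ^ n * (β * u) * β ^ n := by rw [hwβn]; group
      _ = w ^ n * (w * u * β) * β ^ n := by rw [h1]
      _ = w ^ (n + 1) * u * β ^ (n + 1) := by rw [pow_succ, pow_succ']; group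

/-- class-two power formula -/
theorem pow_mul_of_comm (u β w : G) (hw : w = β * u * β⁻¹ * u⁻¹) (hwu : w * u = u * w)
    (hwβ : w * β = β * w) (n : ℕ) :
    (u * β) ^ n = w ^ (n.choose 2) * u ^ n * β ^ n := by
  induction n with
  | zero => simp
  | succ n ih =>
    have hc : (n + 1).choose 2 = n.choose 2 + n := by
      rw [Nat.choose_succ_succ' n 1, Nat.choose_one_right, add_comm]
    have hwun : u ^ n * w ^ n = w ^ n * u ^ n := by
      have : Commute w u := hwu
      exact ((this.pow_pow n n).eq).symm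
    calc (u * β) ^ (n + 1) = (u * β) ^ n * (u * β) := pow_succ _ _
      _ = w ^ (n.choose 2) * u ^ n * β ^ n * (u * β) := by rw [ih]
      _ = w ^ (n.choose 2) * u ^ n * (β ^ n * u) * β := by group
      _ = w ^ (n.choose 2) * u ^ n * (w ^ n * u * β ^ n) * β := by
          rw [conj_pow_of_comm u β w hw hwβ n]
      _ = w ^ (n.choose 2) * (u ^ n * w ^ n) * u * β ^ n * β := by group
      _ = w ^ (n.choose 2) * (w ^ n * u ^ n) * u * β ^ n * β := by rw [hwun]
      _ = w ^ ((n + 1).choose 2) * u ^ (n + 1) * β ^ (n + 1) := by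
          rw [hc, pow_add, pow_succ, pow_succ]; group

/-- for an odd prime `p`, if `u ^ p = 1` and `w ^ p = 1` then `(u β)^p = β^p` -/
theorem pow_prime_mul_of_comm {p : ℕ} (hp : p.Prime) (hp2 : p ≠ 2) (u β w : G)
    (hw : w = β * u * β⁻¹ * u⁻¹) (hwu : w * u = u * w) (hwβ : w * β = β * w)
    (hup : u ^ p = 1) (hwp : w ^ p = 1) : (u * β) ^ p = β ^ p := by
  rw [pow_mul_of_comm u β w hw hwu hwβ p, hup]
  have h2 : 2 < p := lt_of_le_of_ne hp.two_le (Ne.symm hp2)
  obtain ⟨k, hk⟩ := hp.dvd_choose_self (by norm_num : (2 : ℕ) ≠ 0) h2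
  rw [hk, pow_mul, hwp, one_pow, one_mul, one_mul]

end classtwo

section abstractOdd

open Cfsg Cfsg.Agent.Lib

theorem toEnd_sub_one_apply {V : Type*} [CommGroup V] (a : MulAut V) (w : V) :
    ((toEnd a : AddMonoid.End (Additive V)) - 1) (Additive.ofMul w) = Additive.ofMul (a w * w⁻¹) := by
  show toEnd a (Additive.ofMul w) - Additive.ofMul w = _
  rw [toEnd_apply, ← ofMul_div, div_eq_mul_inv]

/-- **Transvection lemma, group form (`p` odd).** -/
theorem eq_one_of_transvection_odd {H : Type*} [Group H] [Finite H] {p : ℕ} [hp : Fact p.Prime]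
    (hp2 : p ≠ 2) (hH : Cfsg.IsPSolvable p H) (hO : Cfsg.pCore p H = ⊥)
    {V : Type*} [CommGroup V] (hV : ∀ v : V, v ^ p = 1) (ψ : H →* MulAut V)
    (hψ : Function.Injective ψ) (h : H) (c : V) (hpel : ∃ k : ℕ, h ^ p ^ k = 1)
    (h1 : ∀ v : V, ∃ t : ℤ, ψ h v * v⁻¹ = c ^ t) (h2 : ψ h c = c)
    (h3 : ∀ l : H, l * h = h * l → ψ l c = c) : h = 1 := by
  have hchar : ((p : ℕ) : AddMonoid.End (Additive V)) = 0 := natCast_end_eq_zero hV
  obtain ⟨ρ, hρ⟩ : ∃ ρ : H →* (AddMonoid.End (Additive V))ˣ, ρ = toUnitsEnd.comp ψ := ⟨_, rfl⟩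
  have hρinj : Function.Injective ρ := by
    rw [hρ]; exact toUnitsEnd_injective.comp hψ
  have hρval : ∀ g : H, ((ρ g : (AddMonoid.End (Additive V))ˣ) : AddMonoid.End (Additive V))
      = toEnd (ψ g) := by
    intro g; rw [hρ]; exact toUnitsEnd_val _
  have hquad : ∀ q : V, ψ h (ψ h q * q⁻¹) = ψ h q * q⁻¹ := by
    intro q
    obtain ⟨t, ht⟩ := h1 q
    rw [ht, map_zpow, h2]
  have hx : (((ρ h : (AddMonoid.End (Additive V))ˣ) : AddMonoid.End (Additive V)) - 1) ^ 2 = 0 := by
    rw [hρval]; exact toEnd_sub_one_sq (ψ h) hquad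
  obtain ⟨L, hL⟩ : ∃ L : Subgroup H, L = pPrimeCore p H := ⟨_, rfl⟩
  haveI hLchar : L.Characteristic := by rw [hL]; exact pPrimeCore_characteristic p
  haveI hLn : L.Normal := Subgroup.normal_of_characteristic _
  have hLcop : (Nat.card L).Coprime p := by rw [hL]; exact card_pPrimeCore_coprime p
  haveI : Finite (L.map ρ) :=
    Finite.of_surjective (fun g : L => (⟨ρ g, Subgroup.mem_map_of_mem _ g.2⟩ : L.map ρ)) (by
      rintro ⟨_, ⟨g, hg, rfl⟩⟩
      exact ⟨⟨g, hg⟩, rfl⟩)
  have hcop : (Nat.card (L.map ρ)).Coprime p :=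
    Nat.Coprime.coprime_dvd_left (Subgroup.card_map_dvd _ _) hLcop
  have hnorm : ∀ u ∈ L.map ρ, ρ h * u * (ρ h)⁻¹ ∈ L.map ρ := by
    rintro _ ⟨l, hl, rfl⟩
    rw [← map_inv, ← map_mul, ← map_mul]
    exact Subgroup.mem_map_of_mem _ (hLn.conj_mem l hl h)
  have hfix : ∀ z ∈ L.map ρ, z * ρ h = ρ h * z →
      (((z : (AddMonoid.End (Additive V))ˣ) : AddMonoid.End (Additive V)) - 1) *
        (((ρ h : (AddMonoid.End (Additive V))ˣ) : AddMonoid.End (Additive V)) - 1) = 0 := by
    rintro _ ⟨l, hl, rfl⟩ hcomm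
    rw [← map_mul, ← map_mul] at hcomm
    have hlc : ψ l c = c := h3 l (hρinj hcomm)
    rw [hρval, hρval]
    refine DFunLike.ext _ _ fun m => ?_
    obtain ⟨q, rfl⟩ : ∃ q : V, Additive.ofMul q = m := ⟨Additive.toMul m, rfl⟩
    rw [AddMonoid.End.coe_mul, Function.comp_apply, toEnd_sub_one_apply]
    obtain ⟨t, ht⟩ := h1 q
    rw [ht, toEnd_sub_one_apply, map_zpow, hlc, mul_inv_cancel]
    rfl
  have hcent := units_commute_of_transvection hp2 hchar (ρ h) hx (L.map ρ) hcop hnorm hfix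
  have hhL : h ∈ Subgroup.centralizer (L : Set H) := by
    rw [Subgroup.mem_centralizer_iff]
    intro l hl
    have := hcent (ρ l) (Subgroup.mem_map_of_mem _ hl)
    rw [← map_mul, ← map_mul] at this
    exact (hρinj this).symm
  have hhL' : h ∈ L := by
    have := Cfsg.Agent.Helper62.centralizer_pPrimeCore_le_of_isPSolvable hH hO
    rw [← hL] at this
    exact this hhL
  obtain ⟨k, hk⟩ := hpel
  have ho1 : orderOf (⟨h, hhL'⟩ : L) ∣ Nat.card L := orderOf_dvd_natCard _
  have ho2 : orderOf (⟨h, hhL'⟩ : L) ∣ p ^ k := by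
    apply orderOf_dvd_of_pow_eq_one
    apply Subtype.ext
    simpa using hk
  have ho3 : orderOf (⟨h, hhL'⟩ : L) = 1 :=
    Nat.eq_one_of_dvd_coprimes (Nat.Coprime.pow_right k hLcop) ho1 ho2
  have := orderOf_eq_one_iff.mp ho3
  exact congrArg Subtype.val this

end abstractOdd

end Cfsg.Agent.Helper64
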