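import Mathlib
import Cfsg.Prelude.Def_PLocal
import Cfsg.Agent.Lib.Cores
import Cfsg.Agent.Helper54.SectionAct
import Cfsg.Agent.Helper62.PSolvDual
import Cfsg.Agent.Helper64.TransvGroup

/-!
# Transvections in characteristic two (helper64)

* ring identities for two square-zero elements `n, n'` of a ring with `2 = 0`;
* `exists_inverted_order_three`: `H` finite `2`-solvable with `O_2(H) = 1` acting faithfully on an
  elementary abelian `2`-group `V`; a nontrivial `2`-element `h` with `[V, h] ⊆ {1, c}`, `c` fixed by `h`,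
  inverts an element of order three of `H`.
-/

set_option autoImplicit false

namespace Cfsg.Agent.Helper64

open Subgroup Cfsg.Agent.Helper54.Quad

section ring2

variable {E : Type*} [Ring E]

/-- braid relation for `1 + n`, `1 + n'` in characteristic two -/
theorem braid_of_char_two (n n' : E) (h2 : (2 : E) = 0) (hn : n * n = 0)
    (hA : n * n' * n = n) (hA' : n' * n * n' = n') (hn' : n' * n' = 0) :
    (1 + n) * (1 + n') * (1 + n) = (1 + n') * (1 + n) * (1 + n') := by
  have e1 : (1 + n) * (1 + n') * (1 + n) = 1 + n' + n * n' + n' * n + n * n' * n + 2 * n + n * n := by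
    noncomm_ring
  have e2 : (1 + n') * (1 + n) * (1 + n') = 1 + n + n' * n + n * n' + n' * n * n' + 2 * n' + n' * n' := by
    noncomm_ring
  rw [e1, e2, hA, hA', hn, hn', h2]
  simp only [zero_mul, add_zero]
  abel

/-- in the degenerate case the squares of the two products agree -/
theorem sq_eq_of_char_two (n n' : E) (h2 : (2 : E) = 0) (hn : n * n = 0)
    (hB : n * n' * n = 0) (hB' : n' * n * n' = 0) (hn' : n' * n' = 0) :
    (1 + n) * (1 + n') * ((1 + n) * (1 + n')) = (1 + n') * (1 + n) * ((1 + n') * (1 + n)) := by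
  have e1 : (1 + n) * (1 + n') * ((1 + n) * (1 + n')) = 1 + n * n' + n' * n +
      (2 * n + 2 * n' + 2 * (n * n') + n * n + n * n * n' + n' * n' + n' * n * n' + n * n' * n
        + n * (n' * n') + n * n' * n * n') := by
    noncomm_ring
  have e2 : (1 + n') * (1 + n) * ((1 + n') * (1 + n)) = 1 + n * n' + n' * n +
      (2 * n + 2 * n' + 2 * (n' * n) + n' * n' + n' * n' * n + n * n + n * n' * n + n' * n * n'
        + n' * (n * n) + n' * n * n' * n) := by
    noncomm_ring
  rw [e1, e2, hB, hB', hn, hn', h2]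
  simp only [zero_mul, mul_zero, add_zero]

end ring2

section abstractEven

open Cfsg Cfsg.Agent.Lib

/-- **Transvections in `2`-solvable groups.** -/
theorem exists_inverted_order_three {H : Type*} [Group H] [Finite H]
    (hH : Cfsg.IsPSolvable 2 H) (hO : Cfsg.pCore 2 H = ⊥)
    {V : Type*} [CommGroup V] (hV : ∀ v : V, v ^ 2 = 1) (ψ : H →* MulAut V)
    (hψ : Function.Injective ψ) (h : H) (c : V) (hne : h ≠ 1) (hpel : ∃ k : ℕ, h ^ 2 ^ k = 1)
    (h1 : ∀ v : V, ψ h v * v⁻¹ = 1 ∨ ψ h v * v⁻¹ = c) (h2 : ψ h c = c) :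
    h * h = 1 ∧ ∃ y : H, y ≠ 1 ∧ y * y * y = 1 ∧ h * y * h = y⁻¹ := by
  have hchar : ((2 : ℕ) : AddMonoid.End (Additive V)) = 0 := natCast_end_eq_zero hV
  have h2E : (2 : AddMonoid.End (Additive V)) = 0 := by exact_mod_cast hchar
  obtain ⟨ρ, hρ⟩ : ∃ ρ : H →* (AddMonoid.End (Additive V))ˣ, ρ = toUnitsEnd.comp ψ := ⟨_, rfl⟩
  have hρinj : Function.Injective ρ := by
    rw [hρ]; exact toUnitsEnd_injective.comp hψ
  have hρval : ∀ g : H, ((ρ g : (AddMonoid.End (Additive V))ˣ) : AddMonoid.End (Additive V))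
      = toEnd (ψ g) := by
    intro g; rw [hρ]; exact toUnitsEnd_val _
  obtain ⟨n, hn⟩ : ∃ n : AddMonoid.End (Additive V),
      n = ((ρ h : (AddMonoid.End (Additive V))ˣ) : AddMonoid.End (Additive V)) - 1 := ⟨_, rfl⟩
  have hx : ((ρ h : (AddMonoid.End (Additive V))ˣ) : AddMonoid.End (Additive V)) = 1 + n := by
    rw [hn]; abel
  have hF1 : ∀ m : Additive V, n m = 0 ∨ n m = Additive.ofMul c := by
    intro m
    obtain ⟨q, rfl⟩ : ∃ q : V, Additive.ofMul q = m := ⟨Additive.toMul m, rfl⟩
    rw [hn, hρval, toEnd_sub_one_apply]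
    rcases h1 q with e | e
    · left; rw [e]; rfl
    · right; rw [e]
  have hF2 : n (Additive.ofMul c) = 0 := by
    rw [hn, hρval, toEnd_sub_one_apply, h2, mul_inv_cancel]; rfl
  have hnn : n * n = 0 := by
    refine DFunLike.ext _ _ fun m => ?_
    show n (n m) = 0
    rcases hF1 m with e | e
    · rw [e]; exact map_zero n
    · rw [e]; exact hF2
  have hxx : ρ h * ρ h = 1 := by
    apply Units.ext
    rw [Units.val_mul, hx, Units.val_one]
    have : (1 + n) * (1 + n) = 1 + 2 * n + n * n := by noncomm_ring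
    rw [this, hnn, h2E]; simp
  have hhh : h * h = 1 := hρinj (by rw [map_mul, hxx, map_one])
  refine ⟨hhh, ?_⟩
  have hinv : h⁻¹ = h := inv_eq_of_mul_eq_one_left hhh
  obtain ⟨L, hL⟩ : ∃ L : Subgroup H, L = pPrimeCore 2 H := ⟨_, rfl⟩
  haveI hLchar : L.Characteristic := by rw [hL]; exact pPrimeCore_characteristic 2
  haveI hLn : L.Normal := Subgroup.normal_of_characteristic _
  have hLcop : (Nat.card L).Coprime 2 := by rw [hL]; exact card_pPrimeCore_coprime 2
  have hcentL : Subgroup.centralizer (L : Set H) ≤ L := by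
    have := Cfsg.Agent.Helper62.centralizer_pPrimeCore_le_of_isPSolvable hH hO
    rw [← hL] at this
    exact this
  -- elements of `L` of `2`-power order are trivial
  have hLtriv : ∀ u ∈ L, ∀ k : ℕ, u ^ 2 ^ k = 1 → u = 1 := by
    intro u hu k hk
    have ho1 : orderOf (⟨u, hu⟩ : L) ∣ Nat.card L := orderOf_dvd_natCard _
    have ho2 : orderOf (⟨u, hu⟩ : L) ∣ 2 ^ k := by
      apply orderOf_dvd_of_pow_eq_one
      apply Subtype.ext
      simpa using hk
    have ho3 : orderOf (⟨u, hu⟩ : L) = 1 :=
      Nat.eq_one_of_dvd_coprimes (Nat.Coprime.pow_right k hLcop) ho1 ho2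
    exact congrArg Subtype.val (orderOf_eq_one_iff.mp ho3)
  have hhL : h ∉ L := by
    intro hmem
    obtain ⟨k, hk⟩ := hpel
    exact hne (hLtriv h hmem k hk)
  have hnc : h ∉ Subgroup.centralizer (L : Set H) := fun hc => hhL (hcentL hc)
  rw [Subgroup.mem_centralizer_iff] at hnc
  push Not at hnc
  obtain ⟨g, hgL, hgh⟩ := hnc
  obtain ⟨h', hh'⟩ : ∃ h' : H, h' = g * h * g⁻¹ := ⟨_, rfl⟩
  have hh'h' : h' * h' = 1 := by
    rw [hh']
    calc g * h * g⁻¹ * (g * h * g⁻¹) = g * (h * h) * g⁻¹ := by group
      _ = 1 := by rw [hhh]; group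
  have hinv' : h'⁻¹ = h' := inv_eq_of_mul_eq_one_left hh'h'
  obtain ⟨y, hy⟩ : ∃ y : H, y = h * h' := ⟨_, rfl⟩
  have hyL : y ∈ L := by
    have e : y = (h * g * h⁻¹) * g⁻¹ := by rw [hy, hh', hinv]; group
    rw [e]
    exact L.mul_mem (hLn.conj_mem g hgL h) (L.inv_mem hgL)
  have hy1 : y ≠ 1 := by
    intro e
    apply hgh
    have e1 : h' = h := by
      have : h' = h⁻¹ := by
        rw [hy] at e
        exact (inv_eq_of_mul_eq_one_right e).symm
      rw [this, hinv]
    rw [hh'] at e1
    calc g * h = (g * h * g⁻¹) * g := by group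
      _ = h * g := by rw [e1]
  have hyinv : y⁻¹ = h' * h := by rw [hy, mul_inv_rev, hinv, hinv']
  have hyconj : h * y * h = y⁻¹ := by
    rw [hyinv, hy]
    calc h * (h * h') * h = (h * h) * h' * h := by group
      _ = h' * h := by rw [hhh, one_mul]
  refine ⟨y, hy1, ?_, hyconj⟩
  -- ring elements for `h'`
  obtain ⟨n', hn'⟩ : ∃ n' : AddMonoid.End (Additive V),
      n' = ((ρ h' : (AddMonoid.End (Additive V))ˣ) : AddMonoid.End (Additive V)) - 1 := ⟨_, rfl⟩
  have hx' : ((ρ h' : (AddMonoid.End (Additive V))ˣ) : AddMonoid.End (Additive V)) = 1 + n' := by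
    rw [hn']; abel
  have hGG : ((ρ g : (AddMonoid.End (Additive V))ˣ) : AddMonoid.End (Additive V)) *
      ((ρ g⁻¹ : (AddMonoid.End (Additive V))ˣ) : AddMonoid.End (Additive V)) = 1 := by
    rw [← Units.val_mul, ← map_mul, mul_inv_cancel, map_one, Units.val_one]
  have hGG' : ((ρ g⁻¹ : (AddMonoid.End (Additive V))ˣ) : AddMonoid.End (Additive V)) *
      ((ρ g : (AddMonoid.End (Additive V))ˣ) : AddMonoid.End (Additive V)) = 1 := by
    rw [← Units.val_mul, ← map_mul, inv_mul_cancel, map_one, Units.val_one]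
  have hn'conj : n' = ((ρ g : (AddMonoid.End (Additive V))ˣ) : AddMonoid.End (Additive V)) * n *
      ((ρ g⁻¹ : (AddMonoid.End (Additive V))ˣ) : AddMonoid.End (Additive V)) := by
    rw [hn', hh', map_mul, map_mul, Units.val_mul, Units.val_mul, hx]
    have : ((ρ g : (AddMonoid.End (Additive V))ˣ) : AddMonoid.End (Additive V)) * (1 + n) *
        ((ρ g⁻¹ : (AddMonoid.End (Additive V))ˣ) : AddMonoid.End (Additive V)) - 1
        = ((ρ g : (AddMonoid.End (Additive V))ˣ) : AddMonoid.End (Additive V)) * n *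
          ((ρ g⁻¹ : (AddMonoid.End (Additive V))ˣ) : AddMonoid.End (Additive V))
          + (((ρ g : (AddMonoid.End (Additive V))ˣ) : AddMonoid.End (Additive V)) *
            ((ρ g⁻¹ : (AddMonoid.End (Additive V))ˣ) : AddMonoid.End (Additive V)) - 1) := by
      noncomm_ring
    rw [this, hGG]; simp
  obtain ⟨gc, hgc⟩ : ∃ gc : Additive V,
      gc = ((ρ g : (AddMonoid.End (Additive V))ˣ) : AddMonoid.End (Additive V)) (Additive.ofMul c) :=
    ⟨_, rfl⟩
  have hn'app : ∀ m : Additive V, n' m =
      ((ρ g : (AddMonoid.End (Additive V))ˣ) : AddMonoid.End (Additive V))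
        (n (((ρ g⁻¹ : (AddMonoid.End (Additive V))ˣ) : AddMonoid.End (Additive V)) m)) := by
    intro m; rw [hn'conj]; rfl
  have hF1' : ∀ m : Additive V, n' m = 0 ∨ n' m = gc := by
    intro m
    rw [hn'app]
    rcases hF1 (((ρ g⁻¹ : (AddMonoid.End (Additive V))ˣ) : AddMonoid.End (Additive V)) m) with e | e
    · left; rw [e]; exact map_zero _
    · right; rw [e, hgc]
  have hF2' : n' gc = 0 := by
    rw [hn'app, hgc]
    have : ((ρ g⁻¹ : (AddMonoid.End (Additive V))ˣ) : AddMonoid.End (Additive V))
        (((ρ g : (AddMonoid.End (Additive V))ˣ) : AddMonoid.End (Additive V)) (Additive.ofMul c))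
        = Additive.ofMul c := by
      have h3 := DFunLike.congr_fun hGG' (Additive.ofMul c)
      exact h3
    rw [this, hF2]
    exact map_zero _
  have hn'n' : n' * n' = 0 := by
    refine DFunLike.ext _ _ fun m => ?_
    show n' (n' m) = 0
    rcases hF1' m with e | e
    · rw [e]; exact map_zero n'
    · rw [e]; exact hF2'
  by_cases hPA : n gc = Additive.ofMul c ∧ n' (Additive.ofMul c) = gc
  · -- the braid case
    have hA : n * n' * n = n := by
      refine DFunLike.ext _ _ fun m => ?_
      show n (n' (n m)) = n m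
      rcases hF1 m with e | e
      · rw [e, map_zero, map_zero]
      · rw [e, hPA.2, hPA.1]
    have hA' : n' * n * n' = n' := by
      refine DFunLike.ext _ _ fun m => ?_
      show n' (n (n' m)) = n' m
      rcases hF1' m with e | e
      · rw [e, map_zero, map_zero]
      · rw [e, hPA.1, hPA.2]
    have hbraid := braid_of_char_two n n' h2E hnn hA hA' hn'n'
    have hb : h * h' * h = h' * h * h' := by
      apply hρinj
      simp only [map_mul]
      apply Units.ext
      simp only [Units.val_mul]
      rw [hx, hx']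
      exact hbraid
    rw [hy]
    calc h * h' * (h * h') * (h * h') = (h * h' * h) * (h' * h * h') := by group
      _ = (h' * h * h') * (h' * h * h') := by rw [hb]
      _ = h' * h * (h' * h') * h * h' := by group
      _ = h' * (h * h) * h' := by rw [hh'h']; group
      _ = 1 := by rw [hhh, mul_one, hh'h']
  · -- the degenerate case
    exfalso
    have hB : n * n' * n = 0 := by
      refine DFunLike.ext _ _ fun m => ?_
      show n (n' (n m)) = 0
      rcases hF1 m with e | e
      · rw [e, map_zero, map_zero]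
      · rw [e]
        rcases hF1' (Additive.ofMul c) with e' | e'
        · rw [e', map_zero]
        · rw [e']
          rcases hF1 gc with e'' | e''
          · exact e''
          · exact absurd ⟨e'', e'⟩ hPA
    have hB' : n' * n * n' = 0 := by
      refine DFunLike.ext _ _ fun m => ?_
      show n' (n (n' m)) = 0
      rcases hF1' m with e | e
      · rw [e, map_zero, map_zero]
      · rw [e]
        rcases hF1 gc with e' | e'
        · rw [e', map_zero]
        · rw [e']
          rcases hF1' (Additive.ofMul c) with e'' | e''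
          · exact e''
          · exact absurd ⟨e', e''⟩ hPA
    have hsq := sq_eq_of_char_two n n' h2E hnn hB hB' hn'n'
    have hs : h * h' * (h * h') = h' * h * (h' * h) := by
      apply hρinj
      simp only [map_mul]
      apply Units.ext
      simp only [Units.val_mul]
      rw [hx, hx']
      exact hsq
    have hy4 : y ^ 2 ^ 2 = 1 := by
      have e1 : y * y = y⁻¹ * y⁻¹ := by rw [hyinv, hy]; exact hs
      calc y ^ 2 ^ 2 = (y * y) * (y * y) := by
            rw [show (2 : ℕ) ^ 2 = 4 by norm_num]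
            simp only [pow_succ, pow_zero, one_mul, mul_assoc]
        _ = (y * y) * (y⁻¹ * y⁻¹) := by rw [← e1]
        _ = 1 := by group
    exact hy1 (hLtriv y hyL 2 hy4)

end abstractEven

end Cfsg.Agent.Helper64
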