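import Mathlib
import Cfsg.Prelude.Def_PLocal
import Cfsg.Prelude.Def_CaseTheorems
import Cfsg.Agent.Lib.Cores
import Cfsg.Agent.Helper11.PSolvable
import Cfsg.Agent.Helper62.PSolvDual
import Cfsg.Agent.Helper63.Frattini
import Cfsg.Agent.Helper70.FrattiniAction
import Cfsg.Agent.S4218
import Cfsg.Agent.Helper64.TransvGroup
import Cfsg.Agent.Helper64.TransvEven
import Cfsg.Agent.Helper62.S3Free

/-!
# Cyclic normal subgroups of Sylow subgroups of `p`-solvable groups (helper64)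

Setting `CNS`: `G` finite `p`-solvable with `O_{p'}(G) = 1`, `R = O_p(G)`, `b ∈ G` a `p`-element with
`b ∉ R`, `c = b ^ p ∈ R` and `[R, b] ⊆ ⟨c⟩`.  For odd `p` this is impossible
(`false_of_cns_odd`).
-/

set_option autoImplicit false

namespace Cfsg.Agent.Helper64

open Subgroup Cfsg Cfsg.Agent.Lib Cfsg.Agent.Helper70
open scoped commutatorElement

section frat

variable {G : Type*} [Group G] [Finite G] {p : ℕ} [hp : Fact p.Prime]

/-- the Frattini quotient of a finite `p`-group as a commutative group -/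
@[reducible] def frattiniCommGroup (R : Subgroup G) (hR : IsPGroup p R) :
    CommGroup (↥R ⧸ frattini ↥R) :=
  { (inferInstance : Group (↥R ⧸ frattini ↥R)) with
    mul_comm := frattiniQuot_comm hR }

/-- the Frattini subgroup of `R`, inside `G` -/
def fratIn (R : Subgroup G) : Subgroup G := (frattini ↥R).map R.subtype

instance fratIn_normal (R : Subgroup G) [R.Normal] : (fratIn R).Normal := by
  unfold fratIn; infer_instance

theorem fratIn_le (R : Subgroup G) : fratIn R ≤ R := by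
  rintro _ ⟨y, -, rfl⟩
  exact y.2

theorem mem_frattini_of_mem_fratIn (R : Subgroup G) (y : R) (hy : (y : G) ∈ fratIn R) :
    y ∈ frattini ↥R := by
  obtain ⟨y', hy', hyy'⟩ := hy
  have : y' = y := Subtype.ext hyy'
  rw [← this]; exact hy'

theorem comm_mem_fratIn (R : Subgroup G) (hR : IsPGroup p R) {r₁ r₂ : G} (h₁ : r₁ ∈ R) (h₂ : r₂ ∈ R) :
    (r₂ * r₁)⁻¹ * (r₁ * r₂) ∈ fratIn R := by
  have h1 : ⁅(⟨r₁, h₁⟩ : R)⁻¹, (⟨r₂, h₂⟩ : R)⁻¹⁆ ∈ commutator ↥R :=
    Subgroup.commutator_mem_commutator (Subgroup.mem_top _) (Subgroup.mem_top _)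
  have h2 := commutator_le_frattini hR h1
  refine ⟨_, h2, ?_⟩
  rw [commutatorElement_def]
  simp only [Subgroup.subtype_apply, Subgroup.coe_mul, Subgroup.coe_inv]
  group

theorem pow_mem_fratIn (R : Subgroup G) (hR : IsPGroup p R) {r : G} (h : r ∈ R) :
    r ^ p ∈ fratIn R := by
  have h1 := Cfsg.Agent.Helper63.pow_prime_mem_frattini hR (⟨r, h⟩ : R)
  exact ⟨_, h1, rfl⟩

end frat

section cns

variable {G : Type*} [Group G] [Finite G] {p : ℕ} [hp : Fact p.Prime]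

/-- the action of `G ⧸ R` on the Frattini quotient of `R` -/
def fratQuotAct (R : Subgroup G) [R.Normal] (hRp : IsPGroup p R) :
    G ⧸ R →* MulAut (↥R ⧸ frattini ↥R) :=
  QuotientGroup.lift R (frattiniAct R)
    (fun r hr => MonoidHom.mem_ker.mpr (frattiniAct_eq_one_of_mem R hRp r hr))

theorem fratQuotAct_mk (R : Subgroup G) [R.Normal] (hRp : IsPGroup p R) (g : G) :
    fratQuotAct R hRp (g : G ⧸ R) = frattiniAct R g := rfl

theorem fratQuotAct_injective (R : Subgroup G) [R.Normal] (hRp : IsPGroup p R)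
    (hC : centralizer (R : Set G) ≤ R) (hRle : pCore p G ≤ R) :
    Function.Injective (fratQuotAct R hRp) := by
  rw [injective_iff_map_eq_one]
  intro l hl
  obtain ⟨g, rfl⟩ := QuotientGroup.mk_surjective l
  rw [fratQuotAct_mk] at hl
  rw [QuotientGroup.eq_one_iff]
  have h1 : g ∈ (frattiniAct R).ker := MonoidHom.mem_ker.mpr hl
  exact hRle (Cfsg.Agent.S4218.ker_frattiniAct_le_pCore R hRp hC h1)

/-- in the setting `CNS` the element `c = b ^ p` is fixed modulo `Φ(R)` by everything commuting with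
`b` modulo `R` (`p` odd) -/
theorem conj_pow_mem_fratIn (hp2 : p ≠ 2) (R : Subgroup G) [hRn : R.Normal] (hRp : IsPGroup p R)
    (b : G) (hcomm : ∀ r ∈ R, ∃ t : ℤ, b * r * b⁻¹ * r⁻¹ = (b ^ p) ^ t)
    (z : G) (hz : z * b * z⁻¹ * b⁻¹ ∈ R) : (z * b ^ p * z⁻¹)⁻¹ * b ^ p ∈ fratIn R := by
  obtain ⟨r, hr⟩ : ∃ r : G, r = z * b * z⁻¹ * b⁻¹ := ⟨_, rfl⟩
  rw [← hr] at hz
  have hzb : z * b * z⁻¹ = r * b := by rw [hr]; group
  have hzc : z * b ^ p * z⁻¹ = (r * b) ^ p := by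
    rw [← hzb, conj_pow]
  obtain ⟨t, ht⟩ := hcomm r hz
  have hwR : b * r * b⁻¹ * r⁻¹ ∈ R :=
    R.mul_mem (hRn.conj_mem r hz b) (R.inv_mem hz)
  -- the power formula in `G ⧸ Φ(R)`
  have key : (QuotientGroup.mk' (fratIn R) r * QuotientGroup.mk' (fratIn R) b) ^ p
      = (QuotientGroup.mk' (fratIn R) b) ^ p := by
    refine pow_prime_mul_of_comm hp.out hp2 _ _
      (QuotientGroup.mk' (fratIn R) (b * r * b⁻¹ * r⁻¹)) ?_ ?_ ?_ ?_ ?_
    · simp only [map_mul, map_inv]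
    · rw [← map_mul, ← map_mul]
      show ((b * r * b⁻¹ * r⁻¹ * r : G) : G ⧸ fratIn R) = ((r * (b * r * b⁻¹ * r⁻¹) : G) : G ⧸ fratIn R)
      rw [QuotientGroup.eq]
      exact comm_mem_fratIn R hRp hz hwR
    · rw [ht, map_zpow, map_pow]
      exact (((Commute.refl (QuotientGroup.mk' (fratIn R) b)).pow_left p).zpow_left t).eq
    · rw [← map_pow]
      show ((r ^ p : G) : G ⧸ fratIn R) = 1
      rw [QuotientGroup.eq_one_iff]
      exact pow_mem_fratIn R hRp hz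
    · rw [← map_pow]
      show (((b * r * b⁻¹ * r⁻¹) ^ p : G) : G ⧸ fratIn R) = 1
      rw [QuotientGroup.eq_one_iff]
      exact pow_mem_fratIn R hRp hwR
  rw [← map_mul, ← map_pow, ← map_pow] at key
  have key2 : (((r * b) ^ p : G) : G ⧸ fratIn R) = ((b ^ p : G) : G ⧸ fratIn R) := key
  rw [QuotientGroup.eq] at key2
  rw [hzc]
  exact key2

/-- **The odd case**: the setting `CNS` is contradictory for odd `p`. -/
theorem false_of_cns_odd_aux (hp2 : p ≠ 2) (R : Subgroup G) [hRn : R.Normal] (hRp : IsPGroup p R)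
    (hC : centralizer (R : Set G) ≤ R) (hRle : pCore p G ≤ R)
    (hHsol : IsPSolvable p (G ⧸ R)) (hHO : pCore p (G ⧸ R) = ⊥)
    (b : G) (hbel : ∃ k : ℕ, b ^ p ^ k = 1) (hbR : b ∉ R) (hc : b ^ p ∈ R)
    (hcomm : ∀ r ∈ R, ∃ t : ℤ, b * r * b⁻¹ * r⁻¹ = (b ^ p) ^ t) : False := by
  have hV : ∀ v : ↥R ⧸ frattini ↥R, v ^ p = 1 := by
    intro v
    induction v using QuotientGroup.induction_on with | _ r => ?_
    rw [← QuotientGroup.mk_pow, QuotientGroup.eq_one_iff]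
    exact Cfsg.Agent.Helper63.pow_prime_mem_frattini hRp r
  have key := @eq_one_of_transvection_odd (G ⧸ R) _ _ p hp hp2 hHsol hHO (↥R ⧸ frattini ↥R)
    (frattiniCommGroup R hRp) hV (fratQuotAct R hRp) (fratQuotAct_injective R hRp hC hRle)
    (b : G ⧸ R) ((⟨b ^ p, hc⟩ : R) : ↥R ⧸ frattini ↥R) ?_ ?_ ?_ ?_
  · exact hbR ((QuotientGroup.eq_one_iff b).mp key)
  · obtain ⟨k, hk⟩ := hbel
    exact ⟨k, by rw [← QuotientGroup.mk_pow, hk]; rfl⟩
  · intro v
    induction v using QuotientGroup.induction_on with | _ r => ?_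
    obtain ⟨t, ht⟩ := hcomm r r.2
    refine ⟨t, ?_⟩
    rw [fratQuotAct_mk, frattiniAct_mk, ← QuotientGroup.mk_inv, ← QuotientGroup.mk_mul,
      ← QuotientGroup.mk_zpow]
    congr 1
    apply Subtype.ext
    simp only [Subgroup.coe_mul, Subgroup.coe_inv, Subgroup.coe_zpow]
    exact ht
  · rw [fratQuotAct_mk, frattiniAct_mk]
    congr 1
    apply Subtype.ext
    show b * b ^ p * b⁻¹ = b ^ p
    rw [← pow_succ', pow_succ]
    group
  · intro l hl
    obtain ⟨z, rfl⟩ := QuotientGroup.mk_surjective l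
    have hz : z * b * z⁻¹ * b⁻¹ ∈ R := by
      rw [← QuotientGroup.eq_one_iff]
      have : ((z * b * z⁻¹ * b⁻¹ : G) : G ⧸ R) = (z : G ⧸ R) * (b : G ⧸ R) * (z : G ⧸ R)⁻¹ * (b : G ⧸ R)⁻¹ := by
        simp
      rw [this, hl]
      group
    have h1 := conj_pow_mem_fratIn hp2 R hRp b hcomm z hz
    rw [fratQuotAct_mk, frattiniAct_mk, QuotientGroup.eq]
    apply mem_frattini_of_mem_fratIn
    exact h1

/-- a cyclic normal subgroup `A` of a Sylow `p`-subgroup `P`, not contained in the normal `p`-subgroup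
`R`, contains an element `b` as in the setting `CNS`. -/
theorem exists_cns_elt (P : Sylow p G) (R : Subgroup G) [hRn : R.Normal] (hRP : R ≤ (P : Subgroup G))
    (A : Subgroup G) (hAP : A ≤ (P : Subgroup G))
    (hAn : (P : Subgroup G) ≤ normalizer (A : Set G)) (hA : IsCyclic A) (hAR : ¬ A ≤ R) :
    ∃ b : G, (∃ k : ℕ, b ^ p ^ k = 1) ∧ b ∉ R ∧ b ^ p ∈ R ∧
      ∀ r ∈ R, ∃ t : ℤ, b * r * b⁻¹ * r⁻¹ = (b ^ p) ^ t := by
  obtain ⟨⟨a, haA⟩, ha⟩ := hA.exists_generator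
  have hAz : ∀ y ∈ A, ∃ j : ℤ, a ^ j = y := by
    intro y hy
    obtain ⟨j, hj⟩ := mem_zpowers_iff.mp (ha ⟨y, hy⟩)
    refine ⟨j, ?_⟩
    have := congrArg Subtype.val hj
    simpa using this
  have haR : a ∉ R := fun h => hAR (fun y hy => by
    obtain ⟨j, rfl⟩ := hAz y hy
    exact R.zpow_mem h j)
  obtain ⟨n, hn⟩ := P.isPGroup' ⟨a, hAP haA⟩
  have hn' : a ^ p ^ n = 1 := by
    have := congrArg Subtype.val hn
    simpa using this
  have hex : ∃ k, a ^ p ^ k ∈ R := ⟨n, by rw [hn']; exact R.one_mem⟩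
  classical
  obtain ⟨k, hkdef⟩ : ∃ k, k = Nat.find hex := ⟨_, rfl⟩
  have hk : a ^ p ^ k ∈ R := by rw [hkdef]; exact Nat.find_spec hex
  have hk0 : k ≠ 0 := by
    intro h0
    rw [h0, pow_zero, pow_one] at hk
    exact haR hk
  obtain ⟨k', hk'eq⟩ : ∃ k', k = k' + 1 := Nat.exists_eq_succ_of_ne_zero hk0
  have hk' : a ^ p ^ k' ∉ R := by
    apply Nat.find_min hex
    rw [← hkdef, hk'eq]
    exact Nat.lt_succ_self k'
  have hbp : (a ^ p ^ k') ^ p ∈ R := by
    rw [← pow_mul, ← pow_succ, ← hk'eq]; exact hk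
  refine ⟨a ^ p ^ k', ⟨n, ?_⟩, hk', hbp, ?_⟩
  · rw [← pow_mul, mul_comm, pow_mul, hn', one_pow]
  · intro r hr
    have hrP : r ∈ (P : Subgroup G) := hRP hr
    have h1 : r * a * r⁻¹ ∈ A := (mem_normalizer_iff.mp (hAn hrP) a).mp haA
    obtain ⟨j, hj⟩ := hAz _ h1
    obtain ⟨b, hb⟩ : ∃ b, b = a ^ p ^ k' := ⟨_, rfl⟩
    rw [← hb] at hk' hbp ⊢
    have h2 : r * b * r⁻¹ = b ^ j := by
      calc r * b * r⁻¹ = (r * a * r⁻¹) ^ p ^ k' := by rw [hb, conj_pow]
        _ = (a ^ j) ^ p ^ k' := by rw [hj]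
        _ = b ^ j := by
            rw [hb, ← zpow_natCast, ← zpow_natCast, ← zpow_mul, ← zpow_mul, mul_comm]
    have h3 : b * r * b⁻¹ * r⁻¹ = b ^ (1 - j) := by
      calc b * r * b⁻¹ * r⁻¹ = b * (r * b * r⁻¹)⁻¹ := by group
        _ = b * (b ^ j)⁻¹ := by rw [h2]
        _ = b ^ (1 - j) := by rw [zpow_sub, zpow_one]
    have h4 : b ^ (1 - j) ∈ R := by
      rw [← h3]
      exact R.mul_mem (hRn.conj_mem r hr b) (R.inv_mem hr)
    have h5 : (p : ℤ) ∣ 1 - j := by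
      by_contra hnd
      have hpi : Prime (p : ℤ) := Nat.prime_iff_prime_int.mp hp.out
      obtain ⟨u, v, huv⟩ := (Prime.coprime_iff_not_dvd hpi).mpr hnd
      apply hk'
      have hbe : b = (b ^ p) ^ u * (b ^ (1 - j)) ^ v := by
        rw [← zpow_natCast b p, ← zpow_mul, ← zpow_mul, ← zpow_add, mul_comm (p : ℤ) u,
          mul_comm (1 - j) v, huv, zpow_one]
      rw [hbe]
      exact R.mul_mem (R.zpow_mem hbp u) (R.zpow_mem h4 v)
    obtain ⟨t, ht⟩ := h5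
    refine ⟨t, ?_⟩
    rw [h3, ht, zpow_mul, zpow_natCast]

/-- **Cyclic normal subgroups of a Sylow subgroup, `p` odd, `O_{p'}(G) = 1`.** -/
theorem cyclic_le_pCore_of_odd (hp2 : p ≠ 2) (hG : IsPSolvable p G) (hO : pPrimeCore p G = ⊥)
    (P : Sylow p G) (A : Subgroup G) (hAP : A ≤ (P : Subgroup G))
    (hAn : (P : Subgroup G) ≤ normalizer (A : Set G)) (hA : IsCyclic A) : A ≤ pCore p G := by
  by_contra hAR
  obtain ⟨b, hbel, hbR, hc, hcomm⟩ :=
    exists_cns_elt P (pCore p G) (pCore_le_sylow P) A hAP hAn hA hAR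
  exact false_of_cns_odd_aux hp2 (pCore p G) (isPGroup_pCore p)
    (Cfsg.Agent.Helper11.centralizer_pCore_le_of_isPSolvable hG hO) le_rfl
    (Cfsg.Agent.Helper11.isPSolvable_quotient _ hG)
    (Cfsg.Agent.Helper62.pCore_quotient_pCore_eq_bot p) b hbel hbR hc hcomm

/-- **The even case**: in the setting `CNS` with `p = 2`, the symmetric group of degree three is
involved in `G ⧸ R`. -/
theorem involves_S3_of_cns_two {G : Type*} [Group G] [Finite G]
    (R : Subgroup G) [hRn : R.Normal] (hRp : IsPGroup 2 R)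
    (hC : centralizer (R : Set G) ≤ R) (hRle : pCore 2 G ≤ R)
    (hHsol : IsPSolvable 2 (G ⧸ R)) (hHO : pCore 2 (G ⧸ R) = ⊥)
    (b : G) (hbel : ∃ k : ℕ, b ^ 2 ^ k = 1) (hbR : b ∉ R) (hc : b ^ 2 ∈ R)
    (hcomm : ∀ r ∈ R, ∃ t : ℤ, b * r * b⁻¹ * r⁻¹ = (b ^ 2) ^ t) :
    Cfsg.Involves (Equiv.Perm (Fin 3)) (G ⧸ R) := by
  have hV : ∀ v : ↥R ⧸ frattini ↥R, v ^ 2 = 1 := by
    intro v
    induction v using QuotientGroup.induction_on with | _ r => ?_
    rw [← QuotientGroup.mk_pow, QuotientGroup.eq_one_iff]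
    exact Cfsg.Agent.Helper63.pow_prime_mem_frattini hRp r
  have key := @exists_inverted_order_three (G ⧸ R) _ _ hHsol hHO (↥R ⧸ frattini ↥R)
    (frattiniCommGroup R hRp) hV (fratQuotAct R hRp) (fratQuotAct_injective R hRp hC hRle)
    (b : G ⧸ R) ((⟨b ^ 2, hc⟩ : R) : ↥R ⧸ frattini ↥R) ?_ ?_ ?_ ?_
  · obtain ⟨haa, y, hy1, hy3, hyinv⟩ := key
    exact Cfsg.Agent.Helper62.involves_S3_of_inverted (b : G ⧸ R) y haa hy3 hy1 hyinv
  · intro h
    exact hbR ((QuotientGroup.eq_one_iff b).mp h)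
  · obtain ⟨k, hk⟩ := hbel
    exact ⟨k, by rw [← QuotientGroup.mk_pow, hk]; rfl⟩
  · intro v
    induction v using QuotientGroup.induction_on with | _ r => ?_
    obtain ⟨t, ht⟩ := hcomm r r.2
    have h1 : fratQuotAct R hRp (b : G ⧸ R) ((r : ↥R) : ↥R ⧸ frattini ↥R) *
        ((r : ↥R) : ↥R ⧸ frattini ↥R)⁻¹ = (((⟨b ^ 2, hc⟩ : R) : ↥R ⧸ frattini ↥R)) ^ t := by
      rw [fratQuotAct_mk, frattiniAct_mk, ← QuotientGroup.mk_inv, ← QuotientGroup.mk_mul,
        ← QuotientGroup.mk_zpow]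
      congr 1
      apply Subtype.ext
      simp only [Subgroup.coe_mul, Subgroup.coe_inv, Subgroup.coe_zpow]
      exact ht
    rw [h1]
    have hc2 : (((⟨b ^ 2, hc⟩ : R) : ↥R ⧸ frattini ↥R)) ^ (2 : ℤ) = 1 := by
      have := hV ((⟨b ^ 2, hc⟩ : R) : ↥R ⧸ frattini ↥R)
      rw [← zpow_natCast] at this
      exact this
    rcases Int.even_or_odd' t with ⟨k, hk | hk⟩
    · left
      rw [hk, zpow_mul, hc2, one_zpow]
    · right
      rw [hk, zpow_add, zpow_mul, hc2, one_zpow, one_mul, zpow_one]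
  · rw [fratQuotAct_mk, frattiniAct_mk]
    congr 1
    apply Subtype.ext
    show b * b ^ 2 * b⁻¹ = b ^ 2
    group

end cns

end Cfsg.Agent.Helper64
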