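import Cfsg.Agent.Helper95.Hig.Basic

set_option autoImplicit false

namespace Cfsg.Agent.Helper64.Hig

open Cfsg.Agent.Helper95.Hig

universe v

variable {G : Type v} [Group G]

/-- the commutators of elements of `Q` -/
def LMA_S (Q : Subgroup G) : Set G := {c | ∃ y ∈ Q, ∃ z ∈ Q, c = cm y z}

/-- the derived group of `Q` -/
def LMA_L (Q : Subgroup G) : Subgroup G := Subgroup.closure (LMA_S Q)

theorem LMA_cm_mem (Q : Subgroup G) {y z : G} (hy : y ∈ Q) (hz : z ∈ Q) : cm y z ∈ LMA_L Q :=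
  Subgroup.subset_closure ⟨y, hy, z, hz, rfl⟩

theorem LMA_cm_conj (g y z : G) : g * cm y z * g⁻¹ = cm (g * y * g⁻¹) (g * z * g⁻¹) := by
  simp only [cm_def]; group

theorem LMA_cm_inv (y z : G) : (cm y z)⁻¹ = cm z y := by
  simp only [cm_def]; group

theorem LMA_L_le (Q : Subgroup G) [Q.Normal] : LMA_L Q ≤ Q := by
  rw [LMA_L, Subgroup.closure_le]
  rintro _ ⟨y, hy, z, hz, rfl⟩
  rw [cm_def]
  exact Q.mul_mem (Q.mul_mem (Q.mul_mem hy hz) (Q.inv_mem hy)) (Q.inv_mem hz)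

instance LMA_L_normal (Q : Subgroup G) [hn : Q.Normal] : (LMA_L Q).Normal := by
  constructor
  intro l hl g
  have h1 : (LMA_L Q).map (MulAut.conj g).toMonoidHom ≤ LMA_L Q := by
    rw [LMA_L, MonoidHom.map_closure, Subgroup.closure_le]
    rintro _ ⟨_, ⟨y, hy, z, hz, rfl⟩, rfl⟩
    change MulAut.conj g (cm y z) ∈ _
    rw [MulAut.conj_apply, LMA_cm_conj]
    exact LMA_cm_mem Q (hn.conj_mem y hy g) (hn.conj_mem z hz g)
  have : MulAut.conj g l ∈ (LMA_L Q).map (MulAut.conj g).toMonoidHom := ⟨l, hl, rfl⟩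
  have := h1 this
  rwa [MulAut.conj_apply] at this

theorem LMA_central (Q : Subgroup G)
    (hcl : ∀ a ∈ Q, ∀ b ∈ Q, ∀ c ∈ Q, cm (cm a b) c = 1) :
    ∀ l ∈ LMA_L Q, ∀ c ∈ Q, l * c = c * l := by
  intro l hl c hc
  have h1 : LMA_L Q ≤ Subgroup.centralizer {c} := by
    rw [LMA_L, Subgroup.closure_le]
    rintro _ ⟨y, hy, z, hz, rfl⟩
    rw [SetLike.mem_coe, Subgroup.mem_centralizer_iff]
    intro d hd
    rw [Set.mem_singleton_iff] at hd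
    subst hd
    have := hcl y hy z hz d hc
    rw [cm_def] at this
    -- (cm y z) * d * (cm y z)⁻¹ * d⁻¹ = 1
    have h2 : cm y z * d = d * cm y z := by
      have h3 := congrArg (fun w => w * d * cm y z) this
      simp only [one_mul] at h3
      rw [← h3]; group
    exact h2.symm
  have := h1 hl
  rw [Subgroup.mem_centralizer_iff] at this
  exact (this c rfl).symm

/-- conjugation on `L` -/
noncomputable def LMA_conjL (Q : Subgroup G) [Q.Normal] (g : G) : ↥(LMA_L Q) →* ↥(LMA_L Q) :=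
  (MulAut.conjNormal g : MulAut ↥(LMA_L Q)).toMonoidHom

theorem LMA_conjL_apply (Q : Subgroup G) [Q.Normal] (g : G) (l : ↥(LMA_L Q)) :
    ((LMA_conjL Q g l : ↥(LMA_L Q)) : G) = g * l * g⁻¹ := by
  simp [LMA_conjL]

/-- `T` serves `g` -/
def LMA_Serves (Q : Subgroup G) (g : G) (T : ↥(LMA_L Q) →* ↥(LMA_L Q)) : Prop :=
  ∀ y ∈ Q, ∀ z ∈ Q, ∀ h : cm y z ∈ LMA_L Q, cm (g * y * g⁻¹) z = (T ⟨cm y z, h⟩ : G)

theorem LMA_ext (Q : Subgroup G) (φ ψ : ↥(LMA_L Q) →* ↥(LMA_L Q))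
    (h : ∀ y ∈ Q, ∀ z ∈ Q, ∀ hm : cm y z ∈ LMA_L Q, φ ⟨cm y z, hm⟩ = ψ ⟨cm y z, hm⟩) : φ = ψ := by
  ext ⟨l, hl⟩
  have : ∀ (x : G) (hx : x ∈ LMA_L Q), φ ⟨x, hx⟩ = ψ ⟨x, hx⟩ := by
    intro x hx
    unfold LMA_L at hx
    induction hx using Subgroup.closure_induction with
    | mem x hx =>
      obtain ⟨y, hy, z, hz, rfl⟩ := hx
      exact h y hy z hz _
    | one => exact (map_one φ).trans (map_one ψ).symm
    | mul x y hx hy ihx ihy =>
      have e : (⟨x * y, Subgroup.mul_mem _ hx hy⟩ : ↥(LMA_L Q)) = ⟨x, hx⟩ * ⟨y, hy⟩ := rfl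
      rw [e, map_mul, map_mul, ihx, ihy]
    | inv x hx ih =>
      have e : (⟨x⁻¹, Subgroup.inv_mem _ hx⟩ : ↥(LMA_L Q)) = (⟨x, hx⟩ : ↥(LMA_L Q))⁻¹ := rfl
      rw [e, map_inv, map_inv, ih]
  rw [this l hl]

theorem LMA_unique (Q : Subgroup G) (g : G) (T T' : ↥(LMA_L Q) →* ↥(LMA_L Q))
    (h : LMA_Serves Q g T) (h' : LMA_Serves Q g T') : T = T' := by
  apply LMA_ext
  intro y hy z hz hm
  apply Subtype.ext
  rw [← h y hy z hz hm, ← h' y hy z hz hm]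

theorem LMA_serves_Q (Q : Subgroup G) [Q.Normal]
    (hcl : ∀ a ∈ Q, ∀ b ∈ Q, ∀ c ∈ Q, cm (cm a b) c = 1) (q : G) (hq : q ∈ Q) :
    LMA_Serves Q q (MonoidHom.id _) := by
  intro y hy z hz hm
  change cm (q * y * q⁻¹) z = cm y z
  -- q y q⁻¹ = (cm q y) * y
  have h1 : q * y * q⁻¹ = cm q y * y := by rw [cm_def]; group
  have hl := LMA_central Q hcl (cm q y) (LMA_cm_mem Q hq hy)
  have hyz : y * z * y⁻¹ ∈ Q := Q.mul_mem (Q.mul_mem hy hz) (Q.inv_mem hy)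
  rw [h1, cm_def, cm_def]
  have := hl (y * z * y⁻¹) hyz
  calc cm q y * y * z * (cm q y * y)⁻¹ * z⁻¹
      = (cm q y * (y * z * y⁻¹)) * (cm q y)⁻¹ * z⁻¹ := by group
    _ = ((y * z * y⁻¹) * cm q y) * (cm q y)⁻¹ * z⁻¹ := by rw [this]
    _ = y * z * y⁻¹ * z⁻¹ := by group

theorem LMA_serves_mul (Q : Subgroup G) [hn : Q.Normal] (g h : G) (T T' : ↥(LMA_L Q) →* ↥(LMA_L Q))
    (hg : LMA_Serves Q g T) (hh : LMA_Serves Q h T') : LMA_Serves Q (g * h) (T.comp T') := by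
  intro y hy z hz hm
  have hy' : h * y * h⁻¹ ∈ Q := hn.conj_mem y hy h
  have e1 : g * h * y * (g * h)⁻¹ = g * (h * y * h⁻¹) * g⁻¹ := by group
  rw [e1, hg (h * y * h⁻¹) hy' z hz (LMA_cm_mem Q hy' hz)]
  have e2 : (⟨cm (h * y * h⁻¹) z, LMA_cm_mem Q hy' hz⟩ : ↥(LMA_L Q)) = T' ⟨cm y z, hm⟩ :=
    Subtype.ext (hh y hy z hz hm)
  rw [e2]; rfl

theorem LMA_serves_three (Q : Subgroup G) [hn : Q.Normal]
    (htwi : ∀ σ : G, orderOf σ = 3 → ∀ y ∈ Q, ∀ z ∈ Q, cm (σ * y * σ⁻¹) z = σ⁻¹ * cm y z * σ)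
    (σ : G) (hσ : orderOf σ = 3) : LMA_Serves Q σ (LMA_conjL Q σ⁻¹) := by
  intro y hy z hz hm
  rw [htwi σ hσ y hy z hz, LMA_conjL_apply, inv_inv]

theorem LMA_serves_conj (Q : Subgroup G) [hn : Q.Normal] (g h : G) (T : ↥(LMA_L Q) →* ↥(LMA_L Q))
    (hg : LMA_Serves Q g T) :
    LMA_Serves Q (h * g * h⁻¹) ((LMA_conjL Q h).comp (T.comp (LMA_conjL Q h⁻¹))) := by
  intro y hy z hz hm
  have hy' : h⁻¹ * y * h ∈ Q := by simpa using hn.conj_mem y hy h⁻¹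
  have hz' : h⁻¹ * z * h ∈ Q := by simpa using hn.conj_mem z hz h⁻¹
  have e1 : cm (h * g * h⁻¹ * y * (h * g * h⁻¹)⁻¹) z
      = h * cm (g * (h⁻¹ * y * h) * g⁻¹) (h⁻¹ * z * h) * h⁻¹ := by
    simp only [cm_def]; group
  rw [e1, hg _ hy' _ hz' (LMA_cm_mem Q hy' hz')]
  have e2 : (⟨cm (h⁻¹ * y * h) (h⁻¹ * z * h), LMA_cm_mem Q hy' hz'⟩ : ↥(LMA_L Q))
      = LMA_conjL Q h⁻¹ ⟨cm y z, hm⟩ := by
    apply Subtype.ext
    rw [LMA_conjL_apply, inv_inv]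
    simp only [cm_def]; group
  rw [e2]
  simp only [MonoidHom.comp_apply, LMA_conjL_apply]

theorem LMA_sq (Q : Subgroup G) [hn : Q.Normal] (g : G) (T : ↥(LMA_L Q) →* ↥(LMA_L Q))
    (hg : LMA_Serves Q g T) : LMA_conjL Q g = T.comp T := by
  apply LMA_ext
  intro y hy z hz hm
  apply Subtype.ext
  rw [LMA_conjL_apply]
  change g * cm y z * g⁻¹ = (T (T ⟨cm y z, hm⟩) : G)
  have hz' : g * z * g⁻¹ ∈ Q := hn.conj_mem z hz g
  rw [LMA_cm_conj, hg y hy _ hz' (LMA_cm_mem Q hy hz')]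
  congr 2
  -- ⟨cm y (g z g⁻¹)⟩ = T ⟨cm y z⟩
  have e1 : (⟨cm y (g * z * g⁻¹), LMA_cm_mem Q hy hz'⟩ : ↥(LMA_L Q))
      = (⟨cm (g * z * g⁻¹) y, LMA_cm_mem Q hz' hy⟩ : ↥(LMA_L Q))⁻¹ := by
    apply Subtype.ext
    change cm y (g * z * g⁻¹) = (cm (g * z * g⁻¹) y)⁻¹
    rw [LMA_cm_inv]
  have e2 : (⟨cm (g * z * g⁻¹) y, LMA_cm_mem Q hz' hy⟩ : ↥(LMA_L Q))
      = T ⟨cm z y, LMA_cm_mem Q hz hy⟩ := Subtype.ext (hg z hz y hy _)
  have e3 : (⟨cm z y, LMA_cm_mem Q hz hy⟩ : ↥(LMA_L Q)) = (⟨cm y z, hm⟩ : ↥(LMA_L Q))⁻¹ := by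
    apply Subtype.ext
    change cm z y = (cm y z)⁻¹
    rw [LMA_cm_inv]
  rw [e1, e2, e3, map_inv, inv_inv]

/-- a normal subgroup containing `Q` and an element outside `Q` is everything -/
theorem LMA_top (Q : Subgroup G) [Q.Normal] (hsimple : IsSimpleGroup (G ⧸ Q))
    (M : Subgroup G) [hM : M.Normal] (hQM : Q ≤ M) (t : G) (htM : t ∈ M) (htQ : t ∉ Q) : M = ⊤ := by
  have hnorm : (M.map (QuotientGroup.mk' Q)).Normal :=
    hM.map _ (QuotientGroup.mk'_surjective Q)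
  rcases hnorm.eq_bot_or_eq_top with h | h
  · exfalso
    have : QuotientGroup.mk' Q t ∈ M.map (QuotientGroup.mk' Q) := ⟨t, htM, rfl⟩
    rw [h, Subgroup.mem_bot] at this
    exact htQ ((QuotientGroup.eq_one_iff t).1 this)
  · rw [eq_top_iff]
    intro g _
    have : QuotientGroup.mk' Q g ∈ M.map (QuotientGroup.mk' Q) := by rw [h]; trivial
    obtain ⟨m, hm, hmg⟩ := this
    have h1 : m⁻¹ * g ∈ Q := by
      have := QuotientGroup.eq.1 hmg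
      exact this
    have : g = m * (m⁻¹ * g) := by group
    rw [this]
    exact M.mul_mem hm (hQM h1)

/-- (LMA) -/
theorem lma [Finite G] (Q : Subgroup G) [Q.Normal]
    (hcl : ∀ a ∈ Q, ∀ b ∈ Q, ∀ c ∈ Q, cm (cm a b) c = 1)
    (hfpf : ∀ g : G, orderOf g = 3 → ∀ y ∈ Q, g * y * g⁻¹ = y → y = 1)
    (htwi : ∀ σ : G, orderOf σ = 3 → ∀ y ∈ Q, ∀ z ∈ Q, cm (σ * y * σ⁻¹) z = σ⁻¹ * cm y z * σ)
    (hsimple : IsSimpleGroup (G ⧸ Q))
    (x : G) (hx : orderOf x = 3) (hxQ : x ∉ Q) (t : G) (htQ : t ∉ Q) (ht2 : t * t ∈ Q) :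
    ∀ a ∈ Q, ∀ b ∈ Q, a * b = b * a := by
  -- the subgroup `𝒩`
  have hpow : ∀ (g : G) (n : ℕ), (∃ T, LMA_Serves Q g T) → ∃ T, LMA_Serves Q (g ^ n) T := by
    intro g n hg
    induction n with
    | zero => exact ⟨_, by simpa using LMA_serves_Q Q hcl 1 Q.one_mem⟩
    | succ n ih =>
      obtain ⟨T, hT⟩ := ih
      obtain ⟨T', hT'⟩ := hg
      exact ⟨_, by rw [pow_succ]; exact LMA_serves_mul Q _ _ T T' hT hT'⟩
  let N : Subgroup G :=
    { carrier := {g | ∃ T, LMA_Serves Q g T}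
      mul_mem' := by
        rintro g h ⟨T, hT⟩ ⟨T', hT'⟩
        exact ⟨_, LMA_serves_mul Q g h T T' hT hT'⟩
      one_mem' := ⟨_, LMA_serves_Q Q hcl 1 Q.one_mem⟩
      inv_mem' := by
        intro g hg
        have h1 : g⁻¹ = g ^ (orderOf g - 1) := by
          apply inv_eq_of_mul_eq_one_left
          rw [← pow_succ, Nat.sub_add_cancel (orderOf_pos g), pow_orderOf_eq_one]
        show ∃ T, LMA_Serves Q g⁻¹ T
        rw [h1]
        exact hpow g _ hg }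
  have hNn : N.Normal := by
    constructor
    rintro g ⟨T, hT⟩ h
    exact ⟨_, LMA_serves_conj Q g h T hT⟩
  have hQN : Q ≤ N := fun q hq => ⟨_, LMA_serves_Q Q hcl q hq⟩
  have hxN : x ∈ N := ⟨_, LMA_serves_three Q htwi x hx⟩
  have hNtop : N = ⊤ := LMA_top Q hsimple N hQN x hxN hxQ
  -- `t` centralises `L`
  have htN : t ∈ N := by rw [hNtop]; trivial
  obtain ⟨T, hT⟩ := htN
  have h1 : LMA_Serves Q (t * t) (T.comp T) := LMA_serves_mul Q t t T T hT hT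
  have h2 : LMA_Serves Q (t * t) (MonoidHom.id _) := LMA_serves_Q Q hcl _ ht2
  have h3 : T.comp T = MonoidHom.id _ := LMA_unique Q _ _ _ h1 h2
  have h4 : LMA_conjL Q t = MonoidHom.id _ := by rw [LMA_sq Q t T hT, h3]
  have htC : t ∈ Subgroup.centralizer (LMA_L Q : Set G) := by
    rw [Subgroup.mem_centralizer_iff]
    intro l hl
    have := congrArg (fun φ : ↥(LMA_L Q) →* ↥(LMA_L Q) => ((φ ⟨l, hl⟩ : ↥(LMA_L Q)) : G)) h4
    simp only [LMA_conjL_apply, MonoidHom.id_apply] at this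
    -- t * l * t⁻¹ = l
    calc l * t = (t * l * t⁻¹) * t := by rw [this]
      _ = t * l := by group
  have hQC : Q ≤ Subgroup.centralizer (LMA_L Q : Set G) := by
    intro q hq
    rw [Subgroup.mem_centralizer_iff]
    intro l hl
    exact LMA_central Q hcl l hl q hq
  have hCtop : Subgroup.centralizer (LMA_L Q : Set G) = ⊤ :=
    LMA_top Q hsimple _ hQC t htC htQ
  have hxC : x ∈ Subgroup.centralizer (LMA_L Q : Set G) := by rw [hCtop]; trivial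
  intro a ha b hb
  have hl : cm a b ∈ LMA_L Q := LMA_cm_mem Q ha hb
  have h5 : x * cm a b * x⁻¹ = cm a b := by
    rw [Subgroup.mem_centralizer_iff] at hxC
    have := hxC _ hl
    rw [← this]; group
  have h6 := hfpf x hx _ (LMA_L_le Q hl) h5
  rw [cm_def] at h6
  have := congrArg (fun w => w * b * a) h6
  simp only [one_mul] at this
  rw [← this]; group

end Cfsg.Agent.Helper64.Hig
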