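import Mathlib
import Cfsg.Prelude.Def_OddOrderLocal
import Cfsg.Agent.Helper29.BenderA
import Cfsg.Agent.Helper29.BG11A
import Cfsg.Agent.Helper29.BG11C
import Cfsg.Agent.Helper31.CoprimeHyp
import Cfsg.Agent.Helper64.BG1217D
import Cfsg.Agent.Helper67.CyclicSub
import Cfsg.Agent.S1446

/-!
# Statement S1372 (helper64): `K ≠ 1`, `U ≠ 1` ⟹ `|K|` prime, `M_σ ≤ F(M)`, `F(M)` is TI

Paper proof: board post of helper64 (15:00Z).  Inputs, statement shaped: S1353 (`C_U(k) = 1`),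
S1429 (`M_σ` nilpotent, `C_{M_σ}(U) = 1`), S1430(1) (`C_{M_σ}(k) = C_{M_σ}(K)`), S1439 (`O_{σ'}(F(M))`
cyclic), S1403 (uniqueness), S1404, and the landed S1446.
-/

set_option autoImplicit false
set_option linter.unusedVariables false
set_option linter.unusedSectionVars false
set_option linter.style.haveILetI false

namespace Cfsg.Agent.Helper64.BG1372

open Cfsg Cfsg.Agent.Helper29 Cfsg.Agent.Helper29.BG10 Cfsg.Agent.Helper29.BG11
  Cfsg.Agent.Helper64.BG1218 Cfsg.Agent.Helper64.BG1217D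

variable {G : Type*} [Group G] [Finite G]

/-! ### `Ω₁(Z(S))` as a subgroup of `G` -/

/-- the elements of order dividing `r` in the centre of `S` -/
def omegaZ (r : ℕ) (S : Subgroup G) : Subgroup G where
  carrier := {v | v ∈ S ∧ (∀ s ∈ S, s * v = v * s) ∧ v ^ r = 1}
  one_mem' := ⟨S.one_mem, fun s _ => by simp, one_pow r⟩
  mul_mem' := by
    rintro a b ⟨haS, hac, har⟩ ⟨hbS, hbc, hbr⟩
    refine ⟨S.mul_mem haS hbS, fun s hs => ?_, ?_⟩
    · rw [← mul_assoc, hac s hs, mul_assoc, hbc s hs, ← mul_assoc]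
    · have hab : Commute a b := (hbc a haS)
      rw [hab.mul_pow, har, hbr, one_mul]
  inv_mem' := by
    rintro a ⟨haS, hac, har⟩
    refine ⟨S.inv_mem haS, fun s hs => ?_, by rw [inv_pow, har, inv_one]⟩
    have h := hac s hs
    calc s * a⁻¹ = a⁻¹ * (a * s) * a⁻¹ := by group
      _ = a⁻¹ * (s * a) * a⁻¹ := by rw [h]
      _ = a⁻¹ * s := by group

omit [Finite G] in
theorem mem_omegaZ {r : ℕ} {S : Subgroup G} {v : G} :
    v ∈ omegaZ r S ↔ v ∈ S ∧ (∀ s ∈ S, s * v = v * s) ∧ v ^ r = 1 := Iff.rfl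

omit [Finite G] in
theorem omegaZ_le (r : ℕ) (S : Subgroup G) : omegaZ r S ≤ S := fun _ h => h.1

omit [Finite G] in
theorem isElementaryAbelian_omegaZ (r : ℕ) (S : Subgroup G) :
    Cfsg.IsElementaryAbelian r (omegaZ r S) := by
  refine ⟨⟨⟨?_⟩⟩, fun a ha => ha.2.2⟩
  rintro ⟨a, ha⟩ ⟨b, hb⟩
  apply Subtype.ext
  exact hb.2.1 a ha.1

omit [Finite G] in
theorem normalizer_le_normalizer_omegaZ (r : ℕ) (S : Subgroup G) :
    Subgroup.normalizer (S : Set G) ≤ Subgroup.normalizer ((omegaZ r S : Subgroup G) : Set G) := by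
  intro n hn
  have key : ∀ m : G, m ∈ Subgroup.normalizer (S : Set G) → ∀ v ∈ omegaZ r S,
      m * v * m⁻¹ ∈ omegaZ r S := by
    intro m hm v hv
    refine ⟨(Subgroup.mem_normalizer_iff.1 hm v).1 hv.1, fun s hs => ?_, ?_⟩
    · have hs' : m⁻¹ * s * m⁻¹⁻¹ ∈ S :=
        (Subgroup.mem_normalizer_iff.1 (Subgroup.inv_mem _ hm) s).1 hs
      have h := hv.2.1 _ hs'
      calc s * (m * v * m⁻¹) = m * ((m⁻¹ * s * m⁻¹⁻¹) * v) * m⁻¹ := by group
        _ = m * (v * (m⁻¹ * s * m⁻¹⁻¹)) * m⁻¹ := by rw [h]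
        _ = m * v * m⁻¹ * s := by group
    · rw [conj_pow, hv.2.2]; group
  rw [Subgroup.mem_normalizer_iff]
  intro v
  constructor
  · exact key n hn v
  · intro h
    have := key n⁻¹ (Subgroup.inv_mem _ hn) _ h
    have e : n⁻¹ * (n * v * n⁻¹) * n⁻¹⁻¹ = v := by group
    rwa [e] at this

theorem omegaZ_ne_bot {r : ℕ} [hr : Fact r.Prime] {S : Subgroup G} (hS : IsPGroup r ↥S)
    (hS1 : S ≠ ⊥) : omegaZ r S ≠ ⊥ := by
  haveI : Nontrivial ↥S := (Subgroup.nontrivial_iff_ne_bot S).2 hS1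
  haveI : Nontrivial ↥(Subgroup.center ↥S) := hS.center_nontrivial
  obtain ⟨c, hc1⟩ := exists_ne (1 : ↥(Subgroup.center ↥S))
  -- an element of order `r` in the centre
  obtain ⟨k, hk⟩ := (hS.to_le (show (Subgroup.center ↥S).map S.subtype ≤ S from
    Subgroup.map_subtype_le _)) ⟨(c : ↥S), ⟨c.1, c.2, rfl⟩⟩
  have hcS : ((c : ↥S) : G) ^ r ^ k = 1 := by
    have := congrArg Subtype.val hk
    simpa using this
  have hc1' : ((c : ↥S) : G) ≠ 1 := by
    intro h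
    apply hc1
    apply Subtype.ext
    apply Subtype.ext
    simpa using h
  obtain ⟨j, hj⟩ := (Nat.dvd_prime_pow hr.out).1 (orderOf_dvd_of_pow_eq_one hcS)
  have hj0 : j ≠ 0 := by
    rintro rfl
    rw [pow_zero, orderOf_eq_one_iff] at hj
    exact hc1' hj.2
  obtain ⟨j', rfl⟩ := Nat.exists_eq_succ_of_ne_zero hj0
  intro hbot
  have hmem : ((c : ↥S) : G) ^ r ^ j' ∈ omegaZ r S := by
    refine ⟨S.pow_mem (c : ↥S).2 _, fun s hs => ?_, ?_⟩
    · have hcomm : (⟨s, hs⟩ : ↥S) * (c : ↥S) = (c : ↥S) * ⟨s, hs⟩ :=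
        (Subgroup.mem_center_iff.1 c.2 ⟨s, hs⟩)
      have hcomm' : s * ((c : ↥S) : G) = ((c : ↥S) : G) * s := congrArg Subtype.val hcomm
      exact (Commute.pow_right hcomm' _).eq
    · rw [← pow_mul, ← pow_succ, ← hj.2]
      exact pow_orderOf_eq_one _
  rw [hbot, Subgroup.mem_bot] at hmem
  have h1 := orderOf_dvd_of_pow_eq_one hmem
  rw [hj.2] at h1
  have h2 := Nat.le_of_dvd (pow_pos hr.out.pos _) h1
  have h3 : r ^ j' < r ^ j'.succ := Nat.pow_lt_pow_right hr.out.one_lt (Nat.lt_succ_self _)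
  exact absurd h2 (not_le.2 h3)

/-! ### the Frobenius-like action of `U K` on `M_σ` -/

/-- the data extracted from S1353, S1429, S1430 -/
structure Setup (M K U : Subgroup G) : Prop where
  hM : IsCoatom M
  hU1 : U ≠ ⊥
  hK1 : K ≠ ⊥
  hUK : U ⊓ K = ⊥
  hKU : K ≤ Subgroup.normalizer (U : Set G)
  hfrob : ∀ k ∈ K, k ≠ 1 → U ⊓ Subgroup.centralizer ({k} : Set G) = ⊥
  hUM : U ≤ M
  hKM : K ≤ M
  hcop : (Nat.card ↥(U ⊔ K)).Coprime (Nat.card ↥(Cfsg.sigmaCore M))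
  hnil : Group.IsNilpotent ↥(Cfsg.sigmaCore M)
  hCU : Cfsg.sigmaCore M ⊓ Subgroup.centralizer (U : Set G) = ⊥
  hpr : ∀ k ∈ K, k ≠ 1 → Cfsg.sigmaCore M ⊓ Subgroup.centralizer ({k} : Set G) =
    Cfsg.sigmaCore M ⊓ Subgroup.centralizer (K : Set G)

/-- S1446 applied to an `M`-invariant nilpotent subgroup `V ≠ 1` of `M_σ` -/
theorem Setup.apply1446 (hG : Cfsg.IsMinSimpleOddOrder G) {M K U : Subgroup G} (h : Setup M K U)
    {V : Subgroup G} (hV1 : V ≠ ⊥) (hVσ : V ≤ Cfsg.sigmaCore M)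
    (hVn : M ≤ Subgroup.normalizer (V : Set G)) (hVnil : Group.IsNilpotent ↥V) :
    (Nat.card ↥K).Prime ∧
      Nat.card ↥V = Nat.card ↥(V ⊓ Subgroup.centralizer (K : Set G)) ^ Nat.card ↥K := by
  have hUKM : U ⊔ K ≤ M := sup_le h.hUM h.hKM
  have hne : U ⊔ K ≠ ⊤ := fun ht => h.hM.1 (top_le_iff.1 (ht ▸ hUKM))
  have hsolv : Group.IsSolvable ↥(U ⊔ K) := hG.2.2.2 _ hne
  have hodd : Odd (Nat.card ↥(U ⊔ K)) := by
    have h1 : Nat.card ↥(U ⊔ K) ∣ Nat.card G := Subgroup.card_subgroup_dvd_card _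
    exact hG.1.of_dvd_nat h1
  have hcop : (Nat.card ↥(U ⊔ K)).Coprime (Nat.card ↥V) :=
    Nat.Coprime.coprime_dvd_right (Subgroup.card_dvd_of_le hVσ) h.hcop
  have hCK : V ⊓ Subgroup.centralizer (U : Set G) = ⊥ := by
    rw [eq_bot_iff, ← h.hCU]
    exact inf_le_inf_right _ hVσ
  have hpr : ∀ x ∈ K, x ≠ 1 → V ⊓ Subgroup.centralizer ({x} : Set G) =
      V ⊓ Subgroup.centralizer (K : Set G) := by
    intro x hx hx1
    have h1 := h.hpr x hx hx1
    apply le_antisymm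
    · intro v hv
      have : v ∈ Cfsg.sigmaCore M ⊓ Subgroup.centralizer (K : Set G) := by
        rw [← h1]; exact ⟨hVσ hv.1, hv.2⟩
      exact ⟨hv.1, this.2⟩
    · intro v hv
      have : v ∈ Cfsg.sigmaCore M ⊓ Subgroup.centralizer ({x} : Set G) := by
        rw [h1]; exact ⟨hVσ hv.1, hv.2⟩
      exact ⟨hv.1, this.2⟩
  obtain ⟨h1, h2, -⟩ := Cfsg.Agent.S1446.result U K V h.hU1 h.hK1 h.hUK h.hKU h.hfrob hsolv hodd hV1
    hVnil (h.hUM.trans hVn) (h.hKM.trans hVn) hcop hCK hpr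
  exact ⟨h1, h2⟩

/-- `|K|` is an odd prime, so at least `3` -/
theorem Setup.three_le (hG : Cfsg.IsMinSimpleOddOrder G) {M K U : Subgroup G} (h : Setup M K U)
    (hKp : (Nat.card ↥K).Prime) : 3 ≤ Nat.card ↥K := by
  have hodd : Odd (Nat.card ↥K) := hG.1.of_dvd_nat (Subgroup.card_subgroup_dvd_card _)
  have h2 := hKp.two_le
  rcases hodd with ⟨m, hm⟩
  omega

/-- for a prime `r` and an `r`-subgroup `S ≠ 1` of `M_σ` normalized by `M`, `Ω₁(Z(S))` has order at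
least `r ^ 3` -/
theorem Setup.sq_lt_card_omegaZ (hG : Cfsg.IsMinSimpleOddOrder G) {M K U : Subgroup G}
    (h : Setup M K U) {r : ℕ} [hr : Fact r.Prime] {S : Subgroup G} (hS : IsPGroup r ↥S)
    (hS1 : S ≠ ⊥) (hSσ : S ≤ Cfsg.sigmaCore M) (hSn : M ≤ Subgroup.normalizer (S : Set G)) :
    r ^ 2 < Nat.card ↥(omegaZ r S) := by
  have hV1 := omegaZ_ne_bot hS hS1
  have hVr : IsPGroup r ↥(omegaZ r S) := hS.to_le (omegaZ_le r S)
  obtain ⟨hKp, hcard⟩ := h.apply1446 hG hV1 ((omegaZ_le r S).trans hSσ)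
    (hSn.trans (normalizer_le_normalizer_omegaZ r S)) hVr.isNilpotent
  have h3 := h.three_le hG hKp
  have hCr : IsPGroup r ↥(omegaZ r S ⊓ Subgroup.centralizer (K : Set G)) := hVr.to_le inf_le_left
  obtain ⟨j, hj⟩ := IsPGroup.iff_card.1 hCr
  have hj0 : j ≠ 0 := by
    rintro rfl
    rw [pow_zero] at hj
    rw [hj, one_pow] at hcard
    exact hV1 (Subgroup.card_eq_one.1 hcard)
  rw [hcard, hj, ← pow_mul]
  apply Nat.pow_lt_pow_right hr.out.one_lt
  have : 1 ≤ j := Nat.one_le_iff_ne_zero.2 hj0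
  nlinarith

/-- **Case `r ∈ σ(M)`**: an element `z` of prime order of `M_σ` has `C_G(z) ≤ M` -/
theorem Setup.centralizer_le (hG : Cfsg.IsMinSimpleOddOrder G) (hU : UniquenessThm G)
    {M K U : Subgroup G} (h : Setup M K U) {r : ℕ} [hr : Fact r.Prime] {z : G}
    (hz : z ∈ Cfsg.sigmaCore M) (hzr : orderOf z = r) :
    Subgroup.centralizer ((Subgroup.zpowers z : Subgroup G) : Set G) ≤ M := by
  have hz1 : z ≠ 1 := by
    rintro rfl
    rw [orderOf_one] at hzr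
    exact hr.out.one_lt.ne hzr
  have hZ1 : Subgroup.zpowers z ≠ ⊥ := fun hb => hz1 (Subgroup.zpowers_eq_bot.1 hb)
  have hZr : IsPGroup r ↥(Subgroup.zpowers z) := by
    apply IsPGroup.of_card (n := 1)
    rw [Nat.card_zpowers, hzr, pow_one]
  have hZσ : Subgroup.zpowers z ≤ Cfsg.sigmaCore M := by
    rw [Subgroup.zpowers_le]; exact hz
  obtain ⟨S, hZS, hS⟩ := exists_isSylowIn_ge hZσ hZr
  have hzS : z ∈ S := hZS (Subgroup.mem_zpowers z)
  have hS1 : S ≠ ⊥ := fun hb => hz1 (by rw [hb, Subgroup.mem_bot] at hzS; exact hzS)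
  have hSn : M ≤ Subgroup.normalizer (S : Set G) :=
    (le_normalizer_sigmaCore M).trans (IsSylowIn.normalizer_le_of_isNilpotent hS h.hnil)
  have hlt := h.sq_lt_card_omegaZ hG hS.2.1 hS1 hS.1 hSn
  -- `R = C_S(z)` has rank at least three
  have hVR : omegaZ r S ≤ S ⊓ Subgroup.centralizer ({z} : Set G) := by
    intro v hv
    have hvc : v ∈ Subgroup.centralizer ({z} : Set G) := by
      rw [Subgroup.mem_centralizer_iff]
      intro y hy
      rw [Set.mem_singleton_iff] at hy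
      subst hy
      exact hv.2.1 y hzS
    exact ⟨hv.1, hvc⟩
  have hRr : IsPGroup r ↥(S ⊓ Subgroup.centralizer ({z} : Set G)) := hS.2.1.to_le inf_le_left
  have hrk : ¬ Cfsg.PRankLE r 2 ↥(S ⊓ Subgroup.centralizer ({z} : Set G)) := by
    rw [Cfsg.Agent.Helper23.not_pRankLE_subgroup_iff]
    exact ⟨omegaZ r S, hVR, isElementaryAbelian_omegaZ r S, hlt⟩
  obtain ⟨L, -, huniq⟩ := uniq_of_uniquenessThm hG hU _ hRr hrk
  have hRM : S ⊓ Subgroup.centralizer ({z} : Set G) ≤ M :=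
    inf_le_left.trans (hS.1.trans (sigmaCore_le M))
  have h1 := huniq M ⟨h.hM, hRM⟩
  have hCtop := centralizer_ne_top hG hZ1
  obtain ⟨N, hN, hCN⟩ := (eq_top_or_exists_le_coatom _).resolve_left hCtop
  have hRC : S ⊓ Subgroup.centralizer ({z} : Set G) ≤
      Subgroup.centralizer ((Subgroup.zpowers z : Subgroup G) : Set G) := by
    intro y hy
    rw [Subgroup.mem_centralizer_iff]
    rintro w ⟨n, rfl⟩
    have hc : Commute z y := (Subgroup.mem_centralizer_iff.1 hy.2 z (Set.mem_singleton z))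
    exact (hc.zpow_left n).eq
  have h2 := huniq N ⟨hN, hRC.trans hCN⟩
  rw [h1, ← h2]
  exact hCN

/-- **`F(M)` is a TI-subset** (given `O_{σ'}(F(M))` cyclic = S1439 and S1404) -/
theorem Setup.isTISubset_fittingOf (hG : Cfsg.IsMinSimpleOddOrder G) (hU : UniquenessThm G)
    {M K U : Subgroup G} (h : Setup M K U)
    (hYc : IsCyclic ↥(Cfsg.piCoreOf {q | q.Prime ∧ q ∉ Cfsg.sigma M} (Cfsg.fittingOf M)))
    (h1404 : ∀ (r : ℕ) [Fact r.Prime], r ∈ Cfsg.sigma M → ∀ X : Subgroup G, IsPGroup r ↥X →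
      X ≠ ⊥ → X ≤ M → ∀ g : G, X.map (MulAut.conj g).toMonoidHom ≤ M →
      ∃ m ∈ M, ∃ c ∈ Subgroup.centralizer (X : Set G), g = m * c) :
    Cfsg.IsTISubset (Cfsg.fittingOf M : Set G) := by
  have hM := h.hM
  have : IsSimpleGroup G := hG.2.1
  intro g hg x hx hgx
  by_contra hx1
  have hgM : g ∉ M := fun h' => hg (Bender.le_normalizer_fittingOf M h')
  have hFM : Cfsg.fittingOf M ≤ M := Bender.fittingOf_le M
  -- reduce to an element `z` of prime order `r`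
  have hord : orderOf x ≠ 1 := fun h' => hx1 (orderOf_eq_one_iff.1 h')
  obtain ⟨r, hr, hrd⟩ := Nat.exists_prime_and_dvd hord
  haveI : Fact r.Prime := ⟨hr⟩
  obtain ⟨k, hk⟩ := hrd
  have hk0 : k ≠ 0 := by
    rintro rfl
    rw [mul_zero] at hk
    exact (orderOf_pos x).ne' hk
  have hzord : orderOf (x ^ k) = r := by
    rw [orderOf_pow_of_dvd hk0 ⟨r, by rw [hk, mul_comm]⟩, hk,
      Nat.mul_div_cancel _ (Nat.pos_of_ne_zero hk0)]
  obtain ⟨z, hzdef⟩ : ∃ z : G, z = x ^ k := ⟨_, rfl⟩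
  rw [← hzdef] at hzord
  have hzF : z ∈ Cfsg.fittingOf M := by rw [hzdef]; exact Subgroup.pow_mem _ hx k
  have hgz : g * z * g⁻¹ ∈ Cfsg.fittingOf M := by
    rw [hzdef, ← conj_pow]; exact Subgroup.pow_mem _ hgx k
  have hz1 : z ≠ 1 := by
    intro h'
    rw [h', orderOf_one] at hzord
    exact hr.one_lt.ne hzord
  have hZ1 : Subgroup.zpowers z ≠ ⊥ := fun hb => hz1 (Subgroup.zpowers_eq_bot.1 hb)
  have hZr : IsPGroup r ↥(Subgroup.zpowers z) := by
    apply IsPGroup.of_card (n := 1)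
    rw [Nat.card_zpowers, hzord, pow_one]
  have hZM : Subgroup.zpowers z ≤ M := by
    rw [Subgroup.zpowers_le]; exact hFM hzF
  by_cases hrσ : r ∈ Cfsg.sigma M
  · -- `z ∈ M_σ`, `C_G(z) ≤ M`, S1404
    have hzσ : z ∈ Cfsg.sigmaCore M :=
      le_sigmaCore_of_isPGroup hG hU hM hrσ hZr hZM (Subgroup.mem_zpowers z)
    have hCM := h.centralizer_le hG hU hzσ hzord
    have hZg : (Subgroup.zpowers z).map (MulAut.conj g).toMonoidHom ≤ M := by
      rw [Subgroup.map_le_iff_le_comap, Subgroup.zpowers_le, Subgroup.mem_comap]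
      simp only [MulEquiv.coe_toMonoidHom, MulAut.conj_apply]
      exact hFM hgz
    obtain ⟨m, hm, c, hc, hgmc⟩ := h1404 r hrσ _ hZr hZ1 hZM g hZg
    apply hgM
    rw [hgmc]
    exact M.mul_mem hm (hCM hc)
  · -- `z` lies in the cyclic group `Y = O_{σ'}(F(M))`
    have key : ∀ w ∈ Cfsg.fittingOf M, orderOf w = r → Subgroup.zpowers w ≤
        Cfsg.piCoreOf {q | q.Prime ∧ q ∉ Cfsg.sigma M} (Cfsg.fittingOf M) := by
      intro w hw hwr
      have hWr : IsPGroup r ↥(Subgroup.zpowers w) := by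
        apply IsPGroup.of_card (n := 1)
        rw [Nat.card_zpowers, hwr, pow_one]
      have hWF : Subgroup.zpowers w ≤ Cfsg.fittingOf M := by
        rw [Subgroup.zpowers_le]; exact hw
      obtain ⟨T, hWT, hT⟩ := exists_isSylowIn_ge hWF hWr
      have hFT : Cfsg.fittingOf M ≤ Subgroup.normalizer (T : Set G) :=
        IsSylowIn.le_normalizer_of_isNilpotent hT (Bender.isNilpotent_fittingOf M)
      refine hWT.trans (Cfsg.Agent.Helper31.le_piCoreOf_of_normal hT.1 hFT ?_)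
      intro p hp hpT
      obtain ⟨j, hj⟩ := IsPGroup.iff_card.1 hT.2.1
      rw [hj] at hpT
      have hpr : p = r := (Nat.prime_dvd_prime_iff_eq hp hr).1 (hp.dvd_of_dvd_pow hpT)
      rw [hpr]
      exact ⟨hr, hrσ⟩
    haveI := hYc
    have heq : ∀ m : G, m * z * m⁻¹ ∈ Cfsg.fittingOf M →
        m ∈ Subgroup.normalizer ((Subgroup.zpowers z : Subgroup G) : Set G) := by
      intro m hm
      apply mem_normalizer_of_cj_eq
      have hmr : orderOf (m * z * m⁻¹) = r := by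
        have := orderOf_injective (MulAut.conj m).toMonoidHom (MulAut.conj m).injective z
        simp only [MulEquiv.coe_toMonoidHom, MulAut.conj_apply] at this
        rw [this, hzord]
      have h1 : BG10.cj m (Subgroup.zpowers z) = Subgroup.zpowers (m * z * m⁻¹) := by
        show (Subgroup.zpowers z).map (MulAut.conj m).toMonoidHom = _
        rw [MonoidHom.map_zpowers]
        simp only [MulEquiv.coe_toMonoidHom, MulAut.conj_apply]
      rw [h1]
      apply Cfsg.Agent.Helper67.eq_of_card_eq_of_le_cyclic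
        (Cfsg.piCoreOf {q | q.Prime ∧ q ∉ Cfsg.sigma M} (Cfsg.fittingOf M)) _ _
        (key _ hm hmr) (key _ hzF hzord)
      rw [Nat.card_zpowers, Nat.card_zpowers, hmr, hzord]
    have hMN : M ≤ Subgroup.normalizer ((Subgroup.zpowers z : Subgroup G) : Set G) := by
      intro m hm
      apply heq m
      exact (Subgroup.mem_normalizer_iff.1 (Bender.le_normalizer_fittingOf M hm) z).1 hzF
    have hNtop : Subgroup.normalizer ((Subgroup.zpowers z : Subgroup G) : Set G) ≠ ⊤ :=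
      Cfsg.Agent.Helper31.bgt_normalizer_ne_top_of_simple hZ1 (isPGroup_ne_top hG hZr)
    have hNM : Subgroup.normalizer ((Subgroup.zpowers z : Subgroup G) : Set G) = M :=
      (hM.le_iff.1 hMN).resolve_left hNtop
    apply hgM
    rw [← hNM]
    exact heq g hgz

/-! ### the setup from the frozen statements -/

omit [Finite G] in
theorem card_mul_relIndex {A L : Subgroup G} (hAL : A ≤ L) :
    Nat.card ↥A * A.relIndex L = Nat.card ↥L := by
  rw [← Subgroup.relIndex_bot_left, ← Subgroup.relIndex_bot_left,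
    Subgroup.relIndex_mul_relIndex _ _ _ bot_le hAL]

/-- the `Setup` from a standard factorisation with `K ≠ 1`, `U ≠ 1` and the (statement-shaped)
conclusions of S1353, S1430(1), S1429 -/
theorem setup_of (hG : Cfsg.IsMinSimpleOddOrder G) (hU : UniquenessThm G) {M K U : Subgroup G}
    (hM : IsCoatom M) (hKU : Cfsg.IsSigmaDecomposition M K U) (hK1 : K ≠ ⊥) (hU1 : U ≠ ⊥)
    (h1353 : ∀ k ∈ K, k ≠ 1 → U ⊓ Subgroup.centralizer ({k} : Set G) = ⊥)
    (h1430 : ∀ k ∈ K, k ≠ 1 → Cfsg.sigmaCore M ⊓ Subgroup.centralizer ({k} : Set G) =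
      Cfsg.sigmaCore M ⊓ Subgroup.centralizer (K : Set G))
    (h1429 : (¬ ∀ q : ℕ, q.Prime → q ∣ Nat.card ↥M → q ∉ Cfsg.sigma M → q ∈ Cfsg.kappa M) →
      ∀ (p : ℕ) [Fact p.Prime], p ∣ Nat.card ↥M → p ∉ Cfsg.sigma M ∪ Cfsg.kappa M →
      ∀ S : Sylow p ↥M,
        Cfsg.sigmaCore M ⊓ Subgroup.centralizer ((Subgroup.closure
          {x : G | x ∈ (S : Subgroup ↥M).map M.subtype ∧ x ^ p = 1} : Subgroup G) : Set G) = ⊥ ∧
        Group.IsNilpotent ↥(Cfsg.sigmaCore M)) :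
    Setup M K U := by
  have hKM : K ≤ M := hKU.hall.1
  have hUM : U ≤ M := hKU.compl.1
  have hσM : Cfsg.sigmaCore M ≤ M := sigmaCore_le M
  have hKσ : K ⊓ Cfsg.sigmaCore M = ⊥ := by
    apply inf_eq_bot_of_primes_disjoint (π₁ := Cfsg.kappa M) (π₂ := Cfsg.sigma M) hKU.hall.2.1
      (primes_sigmaCore M)
    intro p hp
    exact hp.2.2.1
  have hUKσ : U ⊓ (K ⊔ Cfsg.sigmaCore M) = ⊥ := hKU.compl.2.2.1
  have hUK : U ⊓ K = ⊥ := by
    rw [eq_bot_iff, ← hUKσ]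
    exact inf_le_inf_left _ le_sup_left
  -- `(U ⊔ K) ∩ M_σ = 1`
  have hinf : (U ⊔ K) ⊓ Cfsg.sigmaCore M = ⊥ := by
    rw [eq_bot_iff]
    intro y hy
    have h1 : y ∈ ((U ⊔ K : Subgroup G) : Set G) := hy.1
    rw [Subgroup.coe_mul_of_right_le_normalizer_left U K hKU.normal] at h1
    obtain ⟨u, hu, k, hk, hyuk⟩ := Set.mem_mul.1 h1
    have hu' : u ∈ U ⊓ (K ⊔ Cfsg.sigmaCore M) := by
      refine ⟨hu, ?_⟩
      have e : u = y * k⁻¹ := by rw [← hyuk]; group
      rw [e]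
      exact Subgroup.mul_mem _ (Subgroup.mem_sup_right hy.2)
        (Subgroup.mem_sup_left (K.inv_mem hk))
    rw [hUKσ, Subgroup.mem_bot] at hu'
    rw [hu', one_mul] at hyuk
    have : k ∈ K ⊓ Cfsg.sigmaCore M := ⟨hk, hyuk ▸ hy.2⟩
    rw [hKσ] at this
    rw [← hyuk]
    exact this
  have hsup : (U ⊔ K) ⊔ Cfsg.sigmaCore M = M := by
    apply le_antisymm (sup_le (sup_le hUM hKM) hσM)
    intro m hm
    obtain ⟨a, ha, b, hb, rfl⟩ := hKU.compl.2.2.2 m hm
    refine Subgroup.mul_mem _ (Subgroup.mem_sup_left (Subgroup.mem_sup_left ha)) ?_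
    have : K ⊔ Cfsg.sigmaCore M ≤ (U ⊔ K) ⊔ Cfsg.sigmaCore M :=
      sup_le_sup_right le_sup_right _
    exact this hb
  -- orders
  have e1 : Nat.card ↥(U ⊔ K) = Nat.card ↥K * Nat.card ↥U := by
    have h1 := Cfsg.Agent.Helper31.card_sup_mul_card_inf' K U hKU.normal
    rw [inf_comm, hUK, Subgroup.card_bot, mul_one, sup_comm] at h1
    exact h1
  have e2 : Nat.card ↥M = Nat.card ↥(U ⊔ K) * Nat.card ↥(Cfsg.sigmaCore M) := by
    have h1 := Cfsg.Agent.Helper31.card_sup_mul_card_inf' (U ⊔ K) (Cfsg.sigmaCore M)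
      ((sup_le hUM hKM).trans (le_normalizer_sigmaCore M))
    rw [hsup, hinf, Subgroup.card_bot, mul_one] at h1
    exact h1
  have hHall := (thm_10_2_sigma hG hU M hM).1
  have e3 : (Cfsg.sigmaCore M).relIndex M = Nat.card ↥(U ⊔ K) := by
    have h1 := card_mul_relIndex hσM
    rw [e2, mul_comm] at h1
    exact Nat.eq_of_mul_eq_mul_right Nat.card_pos h1
  have hcop : (Nat.card ↥(U ⊔ K)).Coprime (Nat.card ↥(Cfsg.sigmaCore M)) := by
    apply Nat.coprime_of_dvd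
    intro p hp h1 h2
    exact hHall.2.2 p hp (primes_sigmaCore M p hp h2) (e3 ▸ h1)
  -- a prime divisor of `|U|`
  have hUc : Nat.card ↥U ≠ 1 := fun h' => hU1 (Subgroup.card_eq_one.1 h')
  obtain ⟨p, hp, hpU⟩ := Nat.exists_prime_and_dvd hUc
  haveI : Fact p.Prime := ⟨hp⟩
  have hpUK : p ∣ Nat.card ↥(U ⊔ K) := by rw [e1]; exact hpU.mul_left _
  have hpσ : p ∉ Cfsg.sigma M := fun h' => hHall.2.2 p hp h' (e3 ▸ hpUK)
  have hpσc : ¬ p ∣ Nat.card ↥(Cfsg.sigmaCore M) := fun h' => hpσ (primes_sigmaCore M p hp h')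
  have hpM : p ∣ Nat.card ↥M := hpU.trans (Subgroup.card_dvd_of_le hUM)
  have hKrel : K.relIndex M = Nat.card ↥U * Nat.card ↥(Cfsg.sigmaCore M) := by
    have h1 := card_mul_relIndex hKM
    rw [e2, e1, mul_assoc] at h1
    exact Nat.eq_of_mul_eq_mul_left Nat.card_pos h1
  have hpκ : p ∉ Cfsg.kappa M := by
    intro h'
    apply hKU.hall.2.2 p hp h'
    rw [hKrel]
    exact hpU.mul_right _
  have hpK : ¬ p ∣ Nat.card ↥K := fun h' => hpκ (hKU.hall.2.1 p hp h')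
  have hP1 : ¬ ∀ q : ℕ, q.Prime → q ∣ Nat.card ↥M → q ∉ Cfsg.sigma M → q ∈ Cfsg.kappa M :=
    fun h' => hpκ (h' p hp hpM hpσ)
  -- a Sylow `p`-subgroup of `M` inside `U`
  obtain ⟨S', -, hS'⟩ := exists_isSylowIn_ge (p := p) (bot_le : (⊥ : Subgroup G) ≤ U)
    IsPGroup.of_bot
  have hUrel : U.relIndex M = Nat.card ↥K * Nat.card ↥(Cfsg.sigmaCore M) := by
    have h1 := card_mul_relIndex hUM
    rw [e2, e1, mul_comm (Nat.card ↥K), mul_assoc] at h1
    exact Nat.eq_of_mul_eq_mul_left Nat.card_pos h1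
  have hS'M : IsSylowIn p S' M := by
    refine ⟨hS'.1.trans hUM, hS'.2.1, ?_⟩
    rw [← Subgroup.relIndex_mul_relIndex S' U M hS'.1 hUM, hUrel]
    intro hd
    rcases (Nat.Prime.dvd_mul hp).1 hd with h' | h'
    · exact hS'.2.2 h'
    · rcases (Nat.Prime.dvd_mul hp).1 h' with h'' | h''
      · exact hpK h''
      · exact hpσc h''
  obtain ⟨S, hS⟩ := IsSylowIn.exists_sylow hS'M
  obtain ⟨hC, hnil⟩ := h1429 hP1 p hpM (by
    intro h'
    rcases h' with h' | h'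
    · exact hpσ h'
    · exact hpκ h') S
  have hclU : Subgroup.closure {x : G | x ∈ (S : Subgroup ↥M).map M.subtype ∧ x ^ p = 1} ≤ U := by
    rw [Subgroup.closure_le]
    intro x hx
    have : x ∈ S' := by rw [← hS]; exact hx.1
    exact hS'.1 this
  have hCU : Cfsg.sigmaCore M ⊓ Subgroup.centralizer (U : Set G) = ⊥ := by
    rw [eq_bot_iff, ← hC]
    exact inf_le_inf_left _ (Subgroup.centralizer_le hclU)
  exact ⟨hM, hU1, hK1, hUK, hKU.normal, h1353, hUM, hKM, hcop, hnil, hCU, h1430⟩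

/-- `|K|` is prime -/
theorem Setup.card_prime (hG : Cfsg.IsMinSimpleOddOrder G) (hU : UniquenessThm G)
    {M K U : Subgroup G} (h : Setup M K U) : (Nat.card ↥K).Prime :=
  (h.apply1446 hG (sigmaCore_ne_bot hG hU h.hM) le_rfl (le_normalizer_sigmaCore M) h.hnil).1

/-- `M_σ ≤ F(M)` -/
theorem Setup.sigmaCore_le_fittingOf {M K U : Subgroup G} (h : Setup M K U) :
    Cfsg.sigmaCore M ≤ Cfsg.fittingOf M :=
  Bender.le_fittingOf (sigmaCore_le M) (le_normalizer_sigmaCore M) h.hnil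

end Cfsg.Agent.Helper64.BG1372
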