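import Mathlib
import Cfsg.Prelude.Def_OddOrderLocal
import Cfsg.Agent.Helper29.BenderA
import Cfsg.Agent.Helper29.BG11A
import Cfsg.Agent.Helper67.NilHallKey
import Cfsg.Agent.Helper31.CoprimeHyp

/-!
# Assembly lemma for statement S1357, second route (helper64; paper proof: helper35, board #3101/#3318)

If `M_F ≠ M_σ` then `F(M)` is a TI-subset, from the statement-shaped conclusions of S1437 (a normal
Sylow `q`-subgroup `Q` of `M_σ` with `q = |K*| ∈ β(M)`, `U = 1`), S1439 (`F(M) = F(M_σ) × Y`, `Y` a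
`τ₂(M)`-group), S1426 (`M_σ ∩ M^g` is a `β(M)'`-group), S1431 (`M` is the only maximal subgroup over
`Q`) and S1404.
-/

set_option autoImplicit false
set_option linter.unusedVariables false
set_option linter.unusedSectionVars false
set_option linter.style.haveILetI false

namespace Cfsg.Agent.Helper64.BG157B

open Cfsg Cfsg.Agent.Helper29 Cfsg.Agent.Helper29.BG10 Cfsg.Agent.Helper29.BG11

variable {G : Type*} [Group G] [Finite G]

/-- `K` is a complement of `M_σ` in `M` when `U = 1` -/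
theorem isComplIn_of_sigmaDecomposition_bot {M K : Subgroup G}
    (hKU : Cfsg.IsSigmaDecomposition M K ⊥) : Cfsg.IsComplIn K (Cfsg.sigmaCore M) M := by
  have hKM : K ≤ M := hKU.hall.1
  have hσM : Cfsg.sigmaCore M ≤ M := sigmaCore_le M
  refine ⟨hKM, hσM, ?_, ?_⟩
  · apply inf_eq_bot_of_primes_disjoint (π₁ := Cfsg.kappa M) (π₂ := Cfsg.sigma M) hKU.hall.2.1
      (primes_sigmaCore M)
    intro p hp
    exact hp.2.2.1
  · intro m hm
    obtain ⟨a, ha, b, hb, hab⟩ := hKU.compl.2.2.2 m hm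
    rw [Subgroup.mem_bot] at ha
    subst ha
    rw [one_mul] at hab
    have h1 : b ∈ ((K ⊔ Cfsg.sigmaCore M : Subgroup G) : Set G) := hb
    rw [Subgroup.coe_mul_of_left_le_normalizer_right K (Cfsg.sigmaCore M)
      (hKM.trans (le_normalizer_sigmaCore M))] at h1
    obtain ⟨k, hk, s, hs, rfl⟩ := h1
    exact ⟨k, hk, s, hs, hab⟩

/-- if `M = K M_σ` with `|K|` prime then `F(M) ≤ M_σ` (given the conclusions of S1439) -/
theorem fittingOf_le_sigmaCore {M K : Subgroup G}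
    (hcompl : Cfsg.IsComplIn K (Cfsg.sigmaCore M) M) (hKp : (Nat.card ↥K).Prime)
    (h1439a : ∀ p : ℕ, p.Prime →
      p ∣ Nat.card ↥(Cfsg.piCoreOf {q | q.Prime ∧ q ∉ Cfsg.sigma M} (Cfsg.fittingOf M)) →
      p ∈ Cfsg.tau2 M)
    (h1439b : Cfsg.fittingOf M = Cfsg.fittingOf (Cfsg.sigmaCore M) ⊔
      Cfsg.piCoreOf {q | q.Prime ∧ q ∉ Cfsg.sigma M} (Cfsg.fittingOf M)) :
    Cfsg.fittingOf M ≤ Cfsg.sigmaCore M := by
  have hKM : K ≤ M := hcompl.1
  have hcard : Nat.card ↥M = Nat.card ↥K * Nat.card ↥(Cfsg.sigmaCore M) := by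
    have h1 := Cfsg.Agent.Helper31.card_sup_mul_card_inf' K (Cfsg.sigmaCore M)
      (hKM.trans (le_normalizer_sigmaCore M))
    have h2 : K ⊔ Cfsg.sigmaCore M = M := by
      apply le_antisymm (sup_le hcompl.1 hcompl.2.1)
      intro m hm
      obtain ⟨a, ha, b, hb, rfl⟩ := hcompl.2.2.2 m hm
      exact Subgroup.mul_mem _ (Subgroup.mem_sup_left ha) (Subgroup.mem_sup_right hb)
    rw [h2, hcompl.2.2.1, Subgroup.card_bot, mul_one] at h1
    exact h1
  have hY : Cfsg.piCoreOf {q | q.Prime ∧ q ∉ Cfsg.sigma M} (Cfsg.fittingOf M) = ⊥ := by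
    by_contra hne
    have hc : Nat.card ↥(Cfsg.piCoreOf {q | q.Prime ∧ q ∉ Cfsg.sigma M} (Cfsg.fittingOf M)) ≠ 1 :=
      fun h => hne (Subgroup.card_eq_one.1 h)
    obtain ⟨r, hr, hrd⟩ := Nat.exists_prime_and_dvd hc
    obtain ⟨-, hrσ, -, hr1⟩ := h1439a r hr hrd
    haveI : Fact r.Prime := ⟨hr⟩
    obtain ⟨A, hAM, hAe, hAlt⟩ := (Cfsg.Agent.Helper23.not_pRankLE_subgroup_iff r 1 M).1 hr1
    rw [pow_one] at hAlt
    obtain ⟨k, hk⟩ := IsPGroup.iff_card.1 (isPGroup_of_isElementaryAbelian hAe)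
    have hk2 : 2 ≤ k := by
      by_contra h
      push Not at h
      have : r ^ k ≤ r ^ 1 := Nat.pow_le_pow_right hr.pos (by omega)
      rw [pow_one] at this
      omega
    have h2 : r ^ 2 ∣ Nat.card ↥M := by
      have h3 : r ^ 2 ∣ Nat.card ↥A := by rw [hk]; exact pow_dvd_pow r hk2
      exact h3.trans (Subgroup.card_dvd_of_le hAM)
    have hrσc : ¬ r ∣ Nat.card ↥(Cfsg.sigmaCore M) := fun h => hrσ (primes_sigmaCore M r hr h)
    have hrM : r ∣ Nat.card ↥M := (dvd_pow_self r two_ne_zero).trans h2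
    rw [hcard] at hrM h2
    have hrK : r ∣ Nat.card ↥K := ((Nat.Prime.dvd_mul hr).1 hrM).resolve_right hrσc
    have hrK' : r = Nat.card ↥K := (Nat.prime_dvd_prime_iff_eq hr hKp).1 hrK
    rw [← hrK', pow_two] at h2
    exact hrσc (Nat.dvd_of_mul_dvd_mul_left hr.pos h2)
  rw [h1439b, hY, sup_bot_eq]
  exact Bender.fittingOf_le _

/-- **Assembly for S1357**, second route: `F(M)` is a TI-subset when `M_F ≠ M_σ`. -/
theorem isTISubset_fittingOf' (hG : Cfsg.IsMinSimpleOddOrder G) {M : Subgroup G} (hM : IsCoatom M)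
    (hFσ : Cfsg.fittingOf M ≤ Cfsg.sigmaCore M)
    {q : ℕ} [Fact q.Prime] (hq : q ∈ Cfsg.beta M)
    {Q : Subgroup G} (hQM : Q ≤ M) (hMQ : M ≤ Subgroup.normalizer (Q : Set G))
    (hQq : IsPGroup q ↥Q) (hQs : ¬ q ∣ Q.relIndex (Cfsg.sigmaCore M))
    (h1426 : ∀ g : G, g ∉ M → ∀ p : ℕ, p.Prime →
      p ∣ Nat.card ↥(Cfsg.sigmaCore M ⊓ M.map (MulAut.conj g).toMonoidHom) → p ∉ Cfsg.beta M)
    (h1431 : ∀ S : Sylow q ↥(Cfsg.sigmaCore M),
      Cfsg.InUniqueMaximal ((S : Subgroup ↥(Cfsg.sigmaCore M)).map (Cfsg.sigmaCore M).subtype))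
    (h1404 : ∀ (r : ℕ) [Fact r.Prime], r ∈ Cfsg.sigma M → ∀ X : Subgroup G, IsPGroup r ↥X →
      X ≠ ⊥ → X ≤ M → ∀ g : G, X.map (MulAut.conj g).toMonoidHom ≤ M →
      ∃ m ∈ M, ∃ c ∈ Subgroup.centralizer (X : Set G), g = m * c) :
    Cfsg.IsTISubset (Cfsg.fittingOf M : Set G) := by
  have hqp : q.Prime := Fact.out
  intro g hg x hx hgx
  by_contra hx1
  have hgM : g ∉ M := fun h => hg (Bender.le_normalizer_fittingOf M h)
  have hFM : Cfsg.fittingOf M ≤ M := Bender.fittingOf_le M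
  -- reduce to an element `z` of prime order `r`
  have hord : orderOf x ≠ 1 := fun h => hx1 (orderOf_eq_one_iff.1 h)
  obtain ⟨r, hr, hrd⟩ := Nat.exists_prime_and_dvd hord
  haveI : Fact r.Prime := ⟨hr⟩
  obtain ⟨k, hk⟩ := hrd
  have hk0 : k ≠ 0 := by
    rintro rfl
    rw [mul_zero] at hk
    exact (orderOf_pos x).ne' hk
  have hzord : orderOf (x ^ k) = r := by
    rw [orderOf_pow_of_dvd hk0 ⟨r, by rw [hk, mul_comm]⟩, hk, Nat.mul_div_cancel _ (Nat.pos_of_ne_zero hk0)]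
  obtain ⟨z, hzdef⟩ : ∃ z : G, z = x ^ k := ⟨_, rfl⟩
  rw [← hzdef] at hzord
  have hzF : z ∈ Cfsg.fittingOf M := by rw [hzdef]; exact Subgroup.pow_mem _ hx k
  have hgz : g * z * g⁻¹ ∈ Cfsg.fittingOf M := by
    rw [hzdef, ← conj_pow]; exact Subgroup.pow_mem _ hgx k
  have hz1 : z ≠ 1 := by
    intro h
    rw [h, orderOf_one] at hzord
    exact hr.one_lt.ne hzord
  have hzσ : z ∈ Cfsg.sigmaCore M := hFσ hzF
  -- `r ∉ β(M)`
  have hzconj : z ∈ M.map (MulAut.conj g⁻¹).toMonoidHom := by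
    refine ⟨g * z * g⁻¹, hFM hgz, ?_⟩
    simp only [MulEquiv.coe_toMonoidHom, MulAut.conj_apply]
    group
  have hgM' : g⁻¹ ∉ M := fun h => hgM (by simpa using M.inv_mem h)
  have hrdvd : r ∣ Nat.card ↥(Cfsg.sigmaCore M ⊓ M.map (MulAut.conj g⁻¹).toMonoidHom) := by
    rw [← hzord]
    exact Subgroup.orderOf_dvd_natCard _ ⟨hzσ, hzconj⟩
  have hrβ : r ∉ Cfsg.beta M := h1426 g⁻¹ hgM' r hr hrdvd
  have hrq : r ≠ q := fun h => hrβ (h ▸ hq)
  have hrσ : r ∈ Cfsg.sigma M := by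
    apply primes_sigmaCore M r hr
    rw [← hzord]
    exact Subgroup.orderOf_dvd_natCard _ hzσ
  -- `z` centralizes `Q`
  have hQF : Q ≤ Cfsg.fittingOf M := Bender.le_fittingOf hQM hMQ hQq.isNilpotent
  have hcomm : ∀ y ∈ Q, z * y = y * z := by
    intro y hy
    apply Cfsg.Agent.Helper67.NilHall.commute_of_mem_nilpotent (Bender.isNilpotent_fittingOf M) hzF
      (hQF hy)
    rw [hzord]
    obtain ⟨j, hj⟩ := hQq ⟨y, hy⟩
    have hj' : y ^ q ^ j = 1 := by
      have := congrArg Subtype.val hj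
      simpa using this
    have hdvd : orderOf y ∣ q ^ j := orderOf_dvd_of_pow_eq_one hj'
    exact Nat.Coprime.coprime_dvd_right hdvd
      (Nat.Coprime.pow_right j ((Nat.coprime_primes hr hqp).2 hrq))
  have hQC : Q ≤ Subgroup.centralizer ((Subgroup.zpowers z : Subgroup G) : Set G) := by
    intro y hy
    rw [Subgroup.mem_centralizer_iff]
    rintro h ⟨n, rfl⟩
    have hc : Commute z y := hcomm y hy
    exact (hc.zpow_left n).eq
  -- `C_G(z) ≤ M`
  have hZ1 : Subgroup.zpowers z ≠ ⊥ := by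
    intro h
    exact hz1 (Subgroup.zpowers_eq_bot.1 h)
  have hCtop := centralizer_ne_top hG hZ1
  obtain ⟨L, hL, hCL⟩ := (eq_top_or_exists_le_coatom _).resolve_left hCtop
  have hQ' : IsSylowIn q (Q ⊓ Cfsg.sigmaCore M) (Cfsg.sigmaCore M) := by
    refine ⟨inf_le_right, hQq.to_le inf_le_left, ?_⟩
    rw [Subgroup.inf_relIndex_right]
    exact hQs
  obtain ⟨S, hS⟩ := IsSylowIn.exists_sylow hQ'
  obtain ⟨M', -, huniq⟩ := h1431 S
  rw [hS] at huniq
  have h1 := huniq M ⟨hM, inf_le_left.trans hQM⟩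
  have h2 := huniq L ⟨hL, (inf_le_left.trans hQC).trans hCL⟩
  have hCM : Subgroup.centralizer ((Subgroup.zpowers z : Subgroup G) : Set G) ≤ M := by
    rw [h1, ← h2]; exact hCL
  -- S1404
  have hZr : IsPGroup r ↥(Subgroup.zpowers z) := by
    apply IsPGroup.of_card (n := 1)
    rw [Nat.card_zpowers, hzord, pow_one]
  have hZM : Subgroup.zpowers z ≤ M := by
    rw [Subgroup.zpowers_le]; exact hFM hzF
  have hZg : (Subgroup.zpowers z).map (MulAut.conj g).toMonoidHom ≤ M := by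
    rw [Subgroup.map_le_iff_le_comap, Subgroup.zpowers_le, Subgroup.mem_comap]
    simp only [MulEquiv.coe_toMonoidHom, MulAut.conj_apply]
    exact hFM hgz
  obtain ⟨m, hm, c, hc, hgmc⟩ := h1404 r hrσ _ hZr hZ1 hZM g hZg
  apply hgM
  rw [hgmc]
  exact M.mul_mem hm (hCM hc)

end Cfsg.Agent.Helper64.BG157B
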