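import Mathlib
import Cfsg.Prelude.Def_Transfer
import Cfsg.Prelude.Def_Solvable
import Cfsg.Agent.Lib.Cores
import Cfsg.Agent.Helper47.SGDefs

set_option autoImplicit false

/-!
# Gross's theorem (S3795): statements of the pieces, as `Prop`-valued definitions (helper64)

`σ` a fixed-point-free automorphism of order `2 ^ n`, `n ≥ 2`, of a finite solvable group `G` forces
Fitting height `≤ 2 n - 2`.  Plan: induction on `n` via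

* Claim A2: if `σ ^ (2 ^ (n+1)) = 1` then `τ = σ ^ (2 ^ n)` acts trivially on `G / F₂(G)`;
* the three level lemma (KL3): `x` with `x ^ (2 ^ (n+1)) = 1`, `τ = x ^ (2 ^ n)`, acting on a tower
  `W` (elementary abelian `r`-group), `Q` (a `q`-group faithful on `W`), `S` (an `s`-group normalizing
  `Q`), all primes odd, `q ≠ r`, `q ≠ s`, `C_W(x) = 1 = C_Q(x)`: then `[S, τ]` centralizes `Q`.

Conjugation is `g * v * g⁻¹`, `⁅a, b⁆ = a * b * a⁻¹ * b⁻¹`.  Pattern of `Helper47/SGDefs.lean`.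
-/

namespace Cfsg.Agent.Helper64.Gross

open Subgroup
open scoped commutatorElement

theorem fitting_normal (G : Type*) [Group G] : (Cfsg.fittingSubgroup G).Normal :=
  haveI := Cfsg.Agent.Lib.fittingSubgroup_characteristic (G := G)
  inferInstance

/-- the second Fitting subgroup `F₂(G)`: the preimage of `F(G / F(G))`. -/
def fitting2 (G : Type*) [Group G] : Subgroup G :=
  haveI := fitting_normal G
  (Cfsg.fittingSubgroup (G ⧸ Cfsg.fittingSubgroup G)).comap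
    (QuotientGroup.mk' (Cfsg.fittingSubgroup G))

/-- **The three level lemma.** -/
def KL3Stmt.{uΓ, uW} : Prop :=
  ∀ (Γ : Type uΓ) [Group Γ] [Finite Γ] (W : Type uW) [CommGroup W] [Finite W] (q s r n : ℕ)
    (φ : Γ →* MulAut W) (Q S : Subgroup Γ) (x : Γ),
    q.Prime → s.Prime → r.Prime → q ≠ 2 → s ≠ 2 → r ≠ 2 → q ≠ r → q ≠ s → (∀ w : W, w ^ r = 1) →
    IsPGroup q Q → IsPGroup s S → S ≤ normalizer (Q : Set Γ) → x ∈ normalizer (Q : Set Γ) →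
    x ∈ normalizer (S : Set Γ) → x ^ (2 ^ (n + 1)) = 1 →
    (∀ a ∈ Q, φ a = 1 → a = 1) → (∀ a ∈ Q, x * a = a * x → a = 1) →
    (∀ w : W, φ x w = w → w = 1) →
    ∀ a ∈ S, ∀ g ∈ Q, ⁅a, x ^ (2 ^ n)⁆ * g = g * ⁅a, x ^ (2 ^ n)⁆

/-- A minimal counterexample to the three level lemma (for fixed `Γ, W, φ, x`). -/
structure MinCfg {Γ W : Type*} [Group Γ] [CommGroup W] (φ : Γ →* MulAut W) (Q S : Subgroup Γ)
    (x : Γ) (q s r n : ℕ) : Prop where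
  hq : q.Prime
  hs : s.Prime
  hr : r.Prime
  hq2 : q ≠ 2
  hs2 : s ≠ 2
  hr2 : r ≠ 2
  hqr : q ≠ r
  hqs : q ≠ s
  hexp : ∀ w : W, w ^ r = 1
  hQ : IsPGroup q Q
  hS : IsPGroup s S
  hSQ : S ≤ normalizer (Q : Set Γ)
  hxQ : x ∈ normalizer (Q : Set Γ)
  hxS : x ∈ normalizer (S : Set Γ)
  hx : x ^ (2 ^ (n + 1)) = 1
  hfaith : ∀ a ∈ Q, φ a = 1 → a = 1
  hQfix : ∀ a ∈ Q, x * a = a * x → a = 1
  hWfix : ∀ w : W, φ x w = w → w = 1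
  hSmin : ∀ S' : Subgroup Γ, S' < S → x ∈ normalizer (S' : Set Γ) →
    ∀ a ∈ S', ∀ g ∈ Q, ⁅a, x ^ (2 ^ n)⁆ * g = g * ⁅a, x ^ (2 ^ n)⁆
  hQmin : ∀ Q' : Subgroup Γ, Q' < Q → S ≤ normalizer (Q' : Set Γ) →
    x ∈ normalizer (Q' : Set Γ) →
    ∀ a ∈ S, ∀ g ∈ Q', ⁅a, x ^ (2 ^ n)⁆ * g = g * ⁅a, x ^ (2 ^ n)⁆
  hbad : ∃ a ∈ S, ∃ g ∈ Q, ⁅a, x ^ (2 ^ n)⁆ * g ≠ g * ⁅a, x ^ (2 ^ n)⁆

/-- **No minimal counterexample.** -/
def KL3MinStmt.{uΓ, uW} : Prop :=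
  ∀ (Γ : Type uΓ) [Group Γ] [Finite Γ] (W : Type uW) [CommGroup W] [Finite W] (q s r n : ℕ)
    (φ : Γ →* MulAut W) (Q S : Subgroup Γ) (x : Γ), MinCfg φ Q S x q s r n → False

/-- **Claim A2, linear form**: `G ≤ H ≤ N(G)` inside `MulAut W`, `W` an irreducible `H`-module of
odd prime exponent `r`, `G` solvable of odd order, `x ∈ H` with `C_G(x) = 1 = C_W(x)`: then
`[x ^ (2 ^ n), G] ≤ F(G)`. -/
def ClaimA2LinStmt.{uW} : Prop :=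
  ∀ (W : Type uW) [CommGroup W] [Finite W] (r n : ℕ) (H G : Subgroup (MulAut W)) (x : MulAut W),
    r.Prime → r ≠ 2 → (∀ w : W, w ^ r = 1) →
    G ≤ H → H ≤ normalizer (G : Set (MulAut W)) → Group.IsSolvable ↥G →
    ¬ 2 ∣ Nat.card G → x ∈ H → x ^ (2 ^ (n + 1)) = 1 →
    (∀ a ∈ G, x * a = a * x → a = 1) → (∀ w : W, x w = w → w = 1) →
    (∀ W₀ : Subgroup W, (∀ h ∈ H, ∀ w ∈ W₀, h w ∈ W₀) → W₀ = ⊥ ∨ W₀ = ⊤) →
    ∀ a ∈ G, ⁅x ^ (2 ^ n), a⁆ ∈ (Cfsg.fittingSubgroup ↥G).map G.subtype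

/-- **Claim A2, ambient form.** -/
def ClaimA2AmbStmt.{u} : Prop :=
  ∀ (H : Type u) [Group H] [Finite H] (G : Subgroup H) [G.Normal] (x : H) (n : ℕ),
    Group.IsSolvable H → ¬ 2 ∣ Nat.card G → x ^ (2 ^ (n + 1)) = 1 →
    (∀ g ∈ G, x * g = g * x → g = 1) →
    ∀ g ∈ G, ⁅x ^ (2 ^ n), g⁆ ∈ (fitting2 ↥G).map G.subtype

/-- **Claim A2, type-level form.** -/
def ClaimA2Stmt.{u} : Prop :=
  ∀ (G : Type u) [Group G] [Finite G] (n : ℕ) (σ : MulAut G),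
    Group.IsSolvable G → σ ^ (2 ^ (n + 1)) = 1 →
    (∀ g : G, σ g = g → g = 1) →
    ∀ g : G, (σ ^ (2 ^ n)) g * g⁻¹ ∈ fitting2 G

/-- **The chain**, for `σ ^ (2 ^ n) = 1`, `n ≥ 2`. -/
def GrossChainStmt.{u} : Prop :=
  ∀ (n : ℕ), 2 ≤ n → ∀ (G : Type u) [Group G] [Finite G], Group.IsSolvable G → ∀ σ : MulAut G,
    σ ^ (2 ^ n) = 1 → (∀ g : G, σ g = g → g = 1) →
    ∃ F : Fin ((2 * n - 2) + 1) → Subgroup G, F 0 = ⊥ ∧ F (Fin.last (2 * n - 2)) = ⊤ ∧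
      Monotone F ∧ (∀ i, (F i).Normal) ∧
      ∀ i : Fin (2 * n - 2), ∃ k : ℕ, (F i.succ).lowerCentralSeries k ≤ F i.castSucc

end Cfsg.Agent.Helper64.Gross
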