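import Mathlib
import Cfsg.Agent.Helper64.GrossDefs

set_option autoImplicit false

/-!
# Gross's theorem (S3795): statements of the middle pieces (analysis of a minimal counterexample
to the three level lemma), helper64

Notation of `MinCfg φ Q S x q s r n`: `τ = x ^ (2 ^ n)` (an involution), `D = ⁅Q, Q⁆`,
`A = ⁅S, S⁆`, `P = ⁅Q, zpowers τ⁆`, `Z = ⁅P, P⁆`.
-/

namespace Cfsg.Agent.Helper64.Gross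

open Subgroup
open scoped commutatorElement

/-- (AC) an `x`-invariant abelian `q`-subgroup acting faithfully on `W` is centralized by
`x ^ (2 ^ n)`. -/
def AbelianCentStmt.{uΓ, uW} : Prop :=
  ∀ (Γ : Type uΓ) [Group Γ] [Finite Γ] (W : Type uW) [CommGroup W] [Finite W] (q r n : ℕ)
    (φ : Γ →* MulAut W) (U : Subgroup Γ) (x : Γ),
    q.Prime → r.Prime → q ≠ 2 → r ≠ 2 → q ≠ r → (∀ w : W, w ^ r = 1) →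
    IsPGroup q U → (∀ a ∈ U, ∀ b ∈ U, a * b = b * a) → x ∈ normalizer (U : Set Γ) →
    x ^ (2 ^ (n + 1)) = 1 → (∀ a ∈ U, φ a = 1 → a = 1) → (∀ w : W, φ x w = w → w = 1) →
    ∀ a ∈ U, x ^ (2 ^ n) * a = a * x ^ (2 ^ n)

/-- (AB) an `s`-group `S = [S, τ]` acting on a `q`-group `Q` with `C_Q(x) = 1`, abelian modulo
`C_S(Q)`, centralizes `Q`. -/
def AbelianTowerStmt.{uΓ} : Prop :=
  ∀ (Γ : Type uΓ) [Group Γ] [Finite Γ] (q s n : ℕ) (Q S : Subgroup Γ) (x : Γ),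
    q.Prime → s.Prime → q ≠ 2 → s ≠ 2 → q ≠ s →
    IsPGroup q Q → IsPGroup s S → S ≤ normalizer (Q : Set Γ) → x ∈ normalizer (Q : Set Γ) →
    x ∈ normalizer (S : Set Γ) → x ^ (2 ^ (n + 1)) = 1 →
    (∀ a ∈ Q, x * a = a * x → a = 1) →
    (∀ a ∈ S, ∀ b ∈ S, ⁅a, b⁆ ∈ centralizer (Q : Set Γ)) →
    ⁅S, zpowers (x ^ (2 ^ n))⁆ = S → S ≤ centralizer (Q : Set Γ)

/-- (HH) the Hall–Higman reduction of a minimal configuration. -/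
structure HHData {Γ : Type*} [Group Γ] (Q S : Subgroup Γ) (x : Γ) (q n : ℕ) : Prop where
  commS : ⁅S, zpowers (x ^ (2 ^ n))⁆ = S
  expQ : ∀ g ∈ Q, g ^ q = 1
  frat : (frattini ↥Q).map Q.subtype = ⁅Q, Q⁆
  Dcent : ∀ d ∈ ⁅Q, Q⁆, ∀ g ∈ Q, g * d = d * g
  SD : ∀ a ∈ S, ∀ d ∈ ⁅Q, Q⁆, a * d = d * a
  tauD : ∀ d ∈ ⁅Q, Q⁆, x ^ (2 ^ n) * d = d * x ^ (2 ^ n)
  irr : ∀ U : Subgroup Γ, ⁅Q, Q⁆ ≤ U → U ≤ Q → S ≤ normalizer (U : Set Γ) →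
    x ∈ normalizer (U : Set Γ) → U = ⁅Q, Q⁆ ∨ U = Q
  tauQ : ¬ ∀ g ∈ Q, x ^ (2 ^ n) * g = g * x ^ (2 ^ n)

/-- (AQ) the subgroup `A = ⁅S, S⁆`. -/
structure AData {Γ : Type*} [Group Γ] (Q S : Subgroup Γ) (x : Γ) (n : ℕ) : Prop where
  notCent : ¬ ⁅S, S⁆ ≤ centralizer (Q : Set Γ)
  commTau : ∀ a ∈ ⁅S, S⁆, ∀ g ∈ Q, ⁅a, x ^ (2 ^ n)⁆ * g = g * ⁅a, x ^ (2 ^ n)⁆
  fixD : ∀ v ∈ Q, (∀ a ∈ ⁅S, S⁆, ⁅a, v⁆ ∈ ⁅Q, Q⁆) → v ∈ ⁅Q, Q⁆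

/-- (PZ) the subgroups `P = ⁅Q, zpowers τ⁆` and `Z = ⁅P, P⁆`. -/
structure PZData {Γ : Type*} [Group Γ] (Q S : Subgroup Γ) (x : Γ) (n : ℕ) : Prop where
  PQ : ⁅Q, zpowers (x ^ (2 ^ n))⁆ ≤ Q
  xP : x ∈ normalizer ((⁅Q, zpowers (x ^ (2 ^ n))⁆ : Subgroup Γ) : Set Γ)
  AP : ⁅S, S⁆ ≤ normalizer ((⁅Q, zpowers (x ^ (2 ^ n))⁆ : Subgroup Γ) : Set Γ)
  Zne : ⁅⁅Q, zpowers (x ^ (2 ^ n))⁆, ⁅Q, zpowers (x ^ (2 ^ n))⁆⁆ ≠ ⊥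
  inv : ∀ a ∈ ⁅Q, zpowers (x ^ (2 ^ n))⁆, a * (x ^ (2 ^ n) * a * (x ^ (2 ^ n))⁻¹) ∈
    ⁅⁅Q, zpowers (x ^ (2 ^ n))⁆, ⁅Q, zpowers (x ^ (2 ^ n))⁆⁆
  PD : ∀ g ∈ ⁅Q, zpowers (x ^ (2 ^ n))⁆, g ∈ ⁅Q, Q⁆ →
    g ∈ ⁅⁅Q, zpowers (x ^ (2 ^ n))⁆, ⁅Q, zpowers (x ^ (2 ^ n))⁆⁆
  ordx : orderOf x = 2 ^ (n + 1)

end Cfsg.Agent.Helper64.Gross
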