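import Cfsg.Agent.Helper38.FP.Defs

/-!
# S2276 piece (PM) for helper38: a permutation mapping `D j` onto `E j`.
-/

set_option autoImplicit false

namespace Cfsg.Agent.Helper64.FP

open Equiv Cfsg.Agent.Helper38.FP

variable {α : Type} [Fintype α] [DecidableEq α]

/-- the colour of a point: the least `j < k` with `a ∈ F j`, or `k` if there is none. -/
noncomputable def pmCol (k : ℕ) (F : ℕ → Finset α) (a : α) : ℕ := by
  classical
  exact if h : ∃ j, j < k ∧ a ∈ F j then Nat.find h else k

theorem pmCol_le (k : ℕ) (F : ℕ → Finset α) (a : α) : pmCol k F a ≤ k := by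
  classical
  unfold pmCol
  split_ifs with h
  · exact (Nat.find_spec h).1.le
  · exact le_rfl

theorem pmCol_eq_iff (k : ℕ) (F : ℕ → Finset α)
    (hF : ∀ i < k, ∀ j < k, i ≠ j → Disjoint (F i) (F j)) (j : ℕ) (hj : j < k) (a : α) :
    pmCol k F a = j ↔ a ∈ F j := by
  classical
  unfold pmCol
  constructor
  · intro h
    split_ifs at h with h1
    · rw [← h]; exact (Nat.find_spec h1).2
    · omega
  · intro ha
    have h1 : ∃ j, j < k ∧ a ∈ F j := ⟨j, hj, ha⟩
    rw [dif_pos h1]
    by_contra hne
    have h2 := Nat.find_spec h1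
    exact Finset.disjoint_left.1 (hF _ h2.1 j hj hne) h2.2 ha

theorem pmCol_card (k : ℕ) (F : ℕ → Finset α)
    (hF : ∀ i < k, ∀ j < k, i ≠ j → Disjoint (F i) (F j)) (j : ℕ) (hj : j < k) :
    (Finset.univ.filter (fun a => pmCol k F a = j)).card = (F j).card := by
  congr 1
  ext a
  simp [pmCol_eq_iff k F hF j hj a]

theorem pmCol_card_top (k : ℕ) (F : ℕ → Finset α)
    (hF : ∀ i < k, ∀ j < k, i ≠ j → Disjoint (F i) (F j)) :
    (∑ j ∈ Finset.range k, (F j).card) + (Finset.univ.filter (fun a => pmCol k F a = k)).card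
      = Fintype.card α := by
  have h1 := Finset.card_eq_sum_card_fiberwise (s := (Finset.univ : Finset α))
    (t := Finset.range (k + 1)) (f := pmCol k F)
    (fun a _ => Finset.mem_coe.2 (Finset.mem_range.2 (Nat.lt_succ_of_le (pmCol_le k F a))))
  rw [Finset.sum_range_succ, Finset.card_univ] at h1
  rw [h1]
  congr 1
  refine Finset.sum_congr rfl (fun j hj => ?_)
  exact (pmCol_card k F hF j (Finset.mem_range.1 hj)).symm

/-- (PM) a permutation mapping `D j` onto `E j`. -/
theorem exists_perm_mapping (k : ℕ) (D E : ℕ → Finset α)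
    (hD : ∀ i < k, ∀ j < k, i ≠ j → Disjoint (D i) (D j))
    (hE : ∀ i < k, ∀ j < k, i ≠ j → Disjoint (E i) (E j))
    (hcard : ∀ j < k, (D j).card = (E j).card) :
    ∃ g : Perm α, ∀ j < k, ∀ a, g a ∈ E j ↔ a ∈ D j := by
  classical
  have hsum : (∑ j ∈ Finset.range k, (D j).card) = ∑ j ∈ Finset.range k, (E j).card :=
    Finset.sum_congr rfl (fun j hj => hcard j (Finset.mem_range.1 hj))
  have hc : ∀ c, Fintype.card {a // pmCol k D a = c} = Fintype.card {b // pmCol k E b = c} := by
    intro c
    rw [Fintype.card_subtype, Fintype.card_subtype]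
    rcases lt_trichotomy c k with hck | rfl | hck
    · rw [pmCol_card k D hD c hck, pmCol_card k E hE c hck, hcard c hck]
    · have h1 := pmCol_card_top c D hD
      have h2 := pmCol_card_top c E hE
      omega
    · have e1 : (Finset.univ.filter (fun a => pmCol k D a = c)) = ∅ := by
        ext a
        have := pmCol_le k D a
        simp only [Finset.mem_filter, Finset.mem_univ, true_and, Finset.notMem_empty, iff_false]
        omega
      have e2 : (Finset.univ.filter (fun a => pmCol k E a = c)) = ∅ := by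
        ext a
        have := pmCol_le k E a
        simp only [Finset.mem_filter, Finset.mem_univ, true_and, Finset.notMem_empty, iff_false]
        omega
      rw [e1, e2]
  let g : α ≃ α := Equiv.ofFiberEquiv (f := pmCol k D) (g := pmCol k E)
    (fun c => Fintype.equivOfCardEq (hc c))
  have hg : ∀ a, pmCol k E (g a) = pmCol k D a := fun a => Equiv.ofFiberEquiv_map _ a
  refine ⟨g, fun j hj a => ?_⟩
  rw [← pmCol_eq_iff k E hE j hj, hg, pmCol_eq_iff k D hD j hj]

end Cfsg.Agent.Helper64.FP
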