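import Cfsg.Agent.Helper38.FP.Defs

/-!
# S2276 piece (SY) for helper38: Sylow + sign trick.
-/

set_option autoImplicit false

namespace Cfsg.Agent.Helper64.FP

open Equiv Cfsg.Agent.Helper38.FP

variable {p : ℕ}

/-- a `p`-element generates a `p`-group -/
theorem isPGroup_zpowers_of_isPEl {G : Type*} [Group G] {x : G} (hx : IsPEl p x) :
    IsPGroup p (Subgroup.zpowers x) := by
  obtain ⟨k, hk⟩ := hx
  rintro ⟨y, hy⟩
  refine ⟨k, ?_⟩
  obtain ⟨n, rfl⟩ := Subgroup.mem_zpowers_iff.mp hy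
  apply Subtype.ext
  show (x ^ n) ^ p ^ k = 1
  rw [← zpow_natCast, ← zpow_mul, mul_comm, zpow_mul, zpow_natCast, ← hk, pow_orderOf_eq_one,
    one_zpow]

/-- every `p`-element is conjugate into a given Sylow subgroup -/
theorem exists_conj_mem_sylow {G : Type*} [Group G] [Finite G] [Fact p.Prime] (P : Sylow p G)
    {x : G} (hx : IsPEl p x) : ∃ y : G, y * x * y⁻¹ ∈ (P : Subgroup G) := by
  obtain ⟨Q, hQ⟩ := (isPGroup_zpowers_of_isPEl hx).exists_le_sylow
  obtain ⟨k, hk⟩ := MulAction.exists_smul_eq G Q P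
  refine ⟨k, ?_⟩
  have h1 : x ∈ (Q : Subgroup G) := hQ (Subgroup.mem_zpowers _)
  rw [← hk, Sylow.coe_subgroup_smul]
  have := Subgroup.smul_mem_pointwise_smul _ (MulAut.conj k) _ h1
  simpa [MulAut.smul_def] using this

theorem isPEl_of_mem_sylow {G : Type*} [Group G] [Fact p.Prime] (P : Sylow p G) {x : G}
    (hx : x ∈ (P : Subgroup G)) : IsPEl p x := by
  obtain ⟨k, hk⟩ := (IsPGroup.iff_orderOf.1 P.isPGroup') ⟨x, hx⟩
  exact ⟨k, by rw [← hk, Subgroup.orderOf_mk]⟩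

/-- a nontrivial element of odd prime power order does not square to one -/
theorem sq_ne_one_of_isPEl {G : Type*} [Group G] [hp : Fact p.Prime] (hp2 : p ≠ 2) {t : G}
    (ht : IsPEl p t) (ht1 : t ≠ 1) : t * t ≠ 1 := by
  intro h
  obtain ⟨k, hk⟩ := ht
  have h2 : orderOf t ∣ 2 := orderOf_dvd_of_pow_eq_one (by rw [pow_two, h])
  rcases Nat.eq_zero_or_pos k with rfl | hk0
  · rw [pow_zero, orderOf_eq_one_iff] at hk
    exact ht1 hk
  · have h3 : p ∣ 2 := dvd_trans (dvd_pow_self p hk0.ne') (hk ▸ h2)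
    exact hp2 ((Nat.prime_dvd_prime_iff_eq hp.out Nat.prime_two).1 h3)

theorem exists_conj_prod_aux {β : Type} [Fintype β] [DecidableEq β] [Fact p.Prime] (hp2 : p ≠ 2)
    (z : Perm β) (hz1 : z ≠ 1) (P : Sylow p (Perm β)) (hzP : z ∈ (P : Subgroup (Perm β)))
    (m : ℕ) : ∀ (v : ℕ → Perm β), (∀ j < m, IsPEl p (v j)) →
    ∃ y : ℕ → Perm β, z * prodDesc (fun j => y j * v j * (y j)⁻¹) m ∈ (P : Subgroup (Perm β)) ∧
      z * prodDesc (fun j => y j * v j * (y j)⁻¹) m ≠ 1 := by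
  induction m with
  | zero =>
    intro v _
    exact ⟨fun _ => 1, by simpa using hzP, by simpa using hz1⟩
  | succ m ih =>
    intro v hv
    obtain ⟨y', hy'P, hy'1⟩ := ih (fun j => v (j + 1)) (fun j hj => hv (j + 1) (by omega))
    obtain ⟨y0, hy0⟩ := exists_conj_mem_sylow P (hv 0 (by omega))
    by_cases h1 : z * prodDesc (fun j => y' j * v (j + 1) * (y' j)⁻¹) m * (y0 * v 0 * y0⁻¹) = 1
    · -- use the inverse of `t`, which is also a conjugate of `v 0`
      have htX : (y0 * v 0 * y0⁻¹)⁻¹ = z * prodDesc (fun j => y' j * v (j + 1) * (y' j)⁻¹) m :=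
        (eq_inv_of_mul_eq_one_left h1).symm
      have ht1 : y0 * v 0 * y0⁻¹ ≠ 1 := by
        intro h
        rw [h, inv_one] at htX
        exact hy'1 htX.symm
      obtain ⟨c, hc⟩ : ∃ c, c * (y0 * v 0 * y0⁻¹) * c⁻¹ = (y0 * v 0 * y0⁻¹)⁻¹ :=
        isConj_iff.1 ((Perm.isConj_iff_cycleType_eq).2 (Perm.cycleType_inv _).symm)
      have e : (c * y0) * v 0 * (c * y0)⁻¹ = (y0 * v 0 * y0⁻¹)⁻¹ := by
        rw [← hc]; group
      have key : z * prodDesc (fun j => (fun j => Nat.casesOn j (c * y0) y' : ℕ → Perm β) j * v j *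
          ((fun j => Nat.casesOn j (c * y0) y' : ℕ → Perm β) j)⁻¹) (m + 1) =
          z * prodDesc (fun j => y' j * v (j + 1) * (y' j)⁻¹) m * (y0 * v 0 * y0⁻¹)⁻¹ := by
        rw [prodDesc_succ', ← mul_assoc]
        show z * prodDesc (fun j => y' j * v (j + 1) * (y' j)⁻¹) m *
          ((c * y0) * v 0 * (c * y0)⁻¹) = _
        rw [e]
      refine ⟨fun j => Nat.casesOn j (c * y0) y', ?_, ?_⟩
      · rw [key]
        exact (P : Subgroup (Perm β)).mul_mem hy'P ((P : Subgroup (Perm β)).inv_mem hy0)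
      · rw [key, ← htX, ← mul_inv_rev]
        intro h
        rw [inv_eq_one] at h
        exact sq_ne_one_of_isPEl hp2 (isPEl_of_mem_sylow P hy0) ht1 h
    · have key : z * prodDesc (fun j => (fun j => Nat.casesOn j y0 y' : ℕ → Perm β) j * v j *
          ((fun j => Nat.casesOn j y0 y' : ℕ → Perm β) j)⁻¹) (m + 1) =
          z * prodDesc (fun j => y' j * v (j + 1) * (y' j)⁻¹) m * (y0 * v 0 * y0⁻¹) := by
        rw [prodDesc_succ', ← mul_assoc]
        rfl
      refine ⟨fun j => Nat.casesOn j y0 y', ?_, ?_⟩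
      · rw [key]
        exact (P : Subgroup (Perm β)).mul_mem hy'P hy0
      · rw [key]
        exact h1

/-- (SY) Sylow + sign trick. -/
theorem exists_conj_prod {β : Type} [Fintype β] [DecidableEq β] [Fact p.Prime] (hp2 : p ≠ 2)
    (z : Perm β) (hz1 : z ≠ 1) (hz : IsPEl p z) (v : ℕ → Perm β) (m : ℕ)
    (hv : ∀ j < m, IsPEl p (v j)) :
    ∃ y : ℕ → Perm β, IsPEl p (z * prodDesc (fun j => y j * v j * (y j)⁻¹) m) ∧
      z * prodDesc (fun j => y j * v j * (y j)⁻¹) m ≠ 1 := by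
  obtain ⟨P, hP⟩ := (isPGroup_zpowers_of_isPEl hz).exists_le_sylow
  obtain ⟨y, hy1, hy2⟩ := exists_conj_prod_aux hp2 z hz1 P (hP (Subgroup.mem_zpowers _)) m v hv
  exact ⟨y, isPEl_of_mem_sylow P hy1, hy2⟩

end Cfsg.Agent.Helper64.FP
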