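import Cfsg.Agent.Helper5.PsuE2.Defs
import Cfsg.Agent.Helper59.PsuM_ASM

/-!
helper64 for helper5 (S2089 block PE2, farm #15283): piece (CINF) `Cq_inf_ker`, verbatim from
`tools/helper5_psue2/Skel.lean.txt`.
-/

set_option autoImplicit false
set_option linter.unusedVariables false
set_option linter.unusedSectionVars false

namespace Cfsg.Agent.Helper64.PsuE2

open Matrix
open scoped commutatorElement
open Cfsg.Agent.Helper43.PsuM.Ev
open Cfsg.Agent.Helper96.StLift
open Cfsg.Agent.Helper5.PsuE2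

universe u

section group

variable {K : Type u} [Field K] {σ : K →+* K} {m : ℕ} {Γ : Type u} [Group Γ] [Finite Γ]
  (τ : Γ →* SUe m σ) (hτ : Function.Surjective τ)

/-- (CINF) `Cfsg.Agent.Helper59.PsuM.sup_inf_ker_eq_bot` (ASM) with `C = Csh τ`, `W = closure (range zT)`: `W` centralises
`C` (`E.comm`, (CLE)), `L.csh_inf`, `hZ`, and `C.map τ ⊓ W.map τ = ⊥` by `csh_map`, `MonoidHom.map_closure`,
`Z.map_zT` and `R.comm_inf`. -/
theorem Cq_inf_ker (E : Ext2 τ hτ) (F : F4Facts σ) (R : RootFacts σ m) (hm : 4 ≤ m)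
    (L : LiftFacts τ hτ) (zT : Fin m → Γ) (Z : ZFacts τ hτ zT)
    (hZ : Subgroup.closure (Set.range zT) ⊓ τ.ker = ⊥) :
    Cq τ zT ⊓ τ.ker = ⊥ := by
  unfold Cq
  have hWQ : Subgroup.closure (Set.range zT) ≤ (Qsub m σ).comap τ := by
    rw [Subgroup.closure_le]
    rintro _ ⟨a, rfl⟩
    show zT a ∈ (Qsub m σ).comap τ
    rw [Subgroup.mem_comap, Z.map_zT]
    exact R.z_mem a
  apply Cfsg.Agent.Helper59.PsuM.sup_inf_ker_eq_bot τ
  · intro w hw c hc
    have hwQ : τ w ∈ Qsub m σ := Subgroup.mem_comap.1 (hWQ hw)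
    have hcQ : τ c ∈ Qsub m σ := Subgroup.mem_comap.1 (csh_le τ R.T_norm hc)
    have hcomm : Commute w c := E.comm w c hwQ hcQ
    rw [hcomm.eq, mul_inv_cancel_right]
    exact hc
  · exact L.csh_inf
  · exact hZ
  · rw [csh_map τ hτ, MonoidHom.map_closure]
    have himg : (τ '' Set.range zT) = Set.range fun i : Fin m => zE σ i 1 := by
      rw [← Set.range_comp]
      congr 1
      funext a
      exact Z.map_zT a
    rw [himg]
    exact R.comm_inf

end group

end Cfsg.Agent.Helper64.PsuE2
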