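import Cfsg.Agent.Helper5.PsuE2.Defs
import Cfsg.Agent.Helper59.PsuM_ASM

/-!
helper64 for helper5 (S2089 block PE2, farm #15283): piece (ZINF) `closure_inf_ker`, verbatim from
`tools/helper5_psue2/Skel.lean.txt`.
-/

set_option autoImplicit false
set_option linter.unusedVariables false
set_option linter.unusedSectionVars false

namespace Cfsg.Agent.Helper64.PsuE2

open Matrix
open scoped commutatorElement
open Cfsg.Agent.Helper43.PsuM.Ev
open Cfsg.Agent.Helper96.StLift
open Cfsg.Agent.Helper5.PsuE2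

universe u

/-- powers of an involution -/
theorem ZINF_zpow_of_sq {G : Type*} [Group G] (g : G) (h : g * g = 1) (k : ℤ) :
    g ^ k = 1 ∨ g ^ k = g := by
  have h2 : g ^ (2 : ℤ) = 1 := by rw [zpow_two]; exact h
  obtain ⟨n, hn | hn⟩ := Int.even_or_odd' k
  · left
    rw [hn, _root_.zpow_mul, h2, _root_.one_zpow]
  · right
    rw [hn, _root_.zpow_add, _root_.zpow_mul, h2, _root_.one_zpow, one_mul, zpow_one]

section group

variable {K : Type u} [Field K] {σ : K →+* K} {m : ℕ} {Γ : Type u} [Group Γ] [Finite Γ]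
  (τ : Γ →* SUe m σ) (hτ : Function.Surjective τ)

/-- the induction of (ZINF) -/
theorem ZINF_aux (E : Ext2 τ hτ) (R : RootFacts σ m)
    (L : LiftFacts τ hτ) (v : Fin m → Γ) (hv : ∀ a, τ (v a) = zE σ a 1) (S : Finset (Fin m)) :
    Subgroup.closure (v '' (S : Set (Fin m))) ⊓ τ.ker = ⊥ := by
  classical
  have hvQ : ∀ a, v a ∈ (Qsub m σ).comap τ := fun a => by
    rw [Subgroup.mem_comap, hv]; exact R.z_mem a
  have hcl : ∀ T : Set (Fin m), Subgroup.closure (v '' T) ≤ (Qsub m σ).comap τ := by
    intro T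
    rw [Subgroup.closure_le]
    rintro _ ⟨a, -, rfl⟩
    exact hvQ a
  have hsq : ∀ a, v a * v a = 1 := fun a => L.sq_one _ (hvQ a)
  have hzsq : ∀ a : Fin m, zE σ a 1 * zE σ a 1 = 1 := fun a => by
    rw [← hv a, ← map_mul, hsq a, map_one]
  induction S using Finset.induction_on with
  | empty =>
    simp
  | insert a S haS ih =>
    have hins : Subgroup.closure (v '' ((insert a S : Finset (Fin m)) : Set (Fin m))) =
        Subgroup.closure (v '' (S : Set (Fin m))) ⊔ Subgroup.zpowers (v a) := by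
      rw [Finset.coe_insert, Set.image_insert_eq, Set.insert_eq, Subgroup.closure_union,
        ← Subgroup.zpowers_eq_closure, sup_comm]
    rw [hins]
    apply Cfsg.Agent.Helper59.PsuM.sup_inf_ker_eq_bot τ
    · -- `W` centralises `C`
      intro w hw c hc
      have hwQ : τ w ∈ Qsub m σ := by
        obtain ⟨k, rfl⟩ := Subgroup.mem_zpowers_iff.1 hw
        exact Subgroup.mem_comap.1 (Subgroup.zpow_mem _ (hvQ a) k)
      have hcQ : τ c ∈ Qsub m σ := Subgroup.mem_comap.1 (hcl _ hc)
      have hcomm : Commute w c := E.comm w c hwQ hcQ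
      rw [hcomm.eq, mul_inv_cancel_right]
      exact hc
    · exact ih
    · -- `W ⊓ ker τ = ⊥`
      rw [eq_bot_iff]
      intro x hx
      rw [Subgroup.mem_bot]
      obtain ⟨hx1, hx2⟩ := Subgroup.mem_inf.mp hx
      obtain ⟨k, rfl⟩ := Subgroup.mem_zpowers_iff.1 hx1
      rcases ZINF_zpow_of_sq (v a) (hsq a) k with h | h
      · exact h
      · exfalso
        rw [h, MonoidHom.mem_ker, hv] at hx2
        have := R.z_ind ∅ a (Set.notMem_empty a)
        apply this
        rw [hx2]
        exact Subgroup.one_mem _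
    · -- the images meet trivially
      rw [eq_bot_iff]
      intro x hx
      rw [Subgroup.mem_bot]
      obtain ⟨hx1, hx2⟩ := Subgroup.mem_inf.mp hx
      rw [MonoidHom.map_zpowers, hv] at hx2
      obtain ⟨k, rfl⟩ := Subgroup.mem_zpowers_iff.1 hx2
      rcases ZINF_zpow_of_sq (zE σ a 1) (hzsq a) k with h | h
      · exact h
      · exfalso
        rw [h, MonoidHom.map_closure, Set.image_image] at hx1
        have himg : (fun x => τ (v x)) '' (S : Set (Fin m)) =
            (fun i : Fin m => zE σ i 1) '' (S : Set (Fin m)) := by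
          apply Set.image_congr
          intro i _
          exact hv i
        rw [himg] at hx1
        exact R.z_ind (S : Set (Fin m)) a (by simpa using haS) hx1

/-- (ZINF) By induction on `S : Finset (Fin m)`: `closure (v '' S) ⊓ ker τ = ⊥`.  Step `S ∪ {a}`:
`Cfsg.Agent.Helper59.PsuM.sup_inf_ker_eq_bot` (ASM) with `C = closure (v '' S)`, `W = zpowers (v a) = {1, v a}`
(`L.sq_one`); `W` centralises `C` (`E.comm`), `W ⊓ ker τ = ⊥` as `zE σ a 1 ≠ 1` (`R.z_ind ∅ a`), and
`C.map τ ⊓ W.map τ = ⊥` by `R.z_ind S a` (`MonoidHom.map_closure`). -/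
theorem closure_inf_ker (E : Ext2 τ hτ) (F : F4Facts σ) (R : RootFacts σ m) (hm : 4 ≤ m)
    (L : LiftFacts τ hτ) (v : Fin m → Γ) (hv : ∀ a, τ (v a) = zE σ a 1) :
    Subgroup.closure (Set.range v) ⊓ τ.ker = ⊥ := by
  have h := ZINF_aux τ hτ E R L v hv Finset.univ
  rwa [Finset.coe_univ, Set.image_univ] at h

end group

end Cfsg.Agent.Helper64.PsuE2
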