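import Mathlib

/-!
# Appendix C, Lemma C.3: the in-plane lemma (PLANE)

Pure group theory.  `Q` an abelian `p'`-subgroup normalised by `s`, `s ^ p = 1`, `y ∈ Q`,
`t = y s y⁻¹`.  If `s ^ l * t ^ (-2) * s ^ r * t ^ 2 = t⁻¹ * s ^ m * t` then
`s ^ r * t ^ (1 - r) = t ^ (1 - l) * s ^ l`.
-/

namespace Cfsg.Agent.Helper64.AppC

open scoped IsMulCommutative

/-- commutative bookkeeping, first form -/
theorem comm_aux {A : Type*} [CommGroup A] (a b c z d e f y1 : A)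
    (h : a * b⁻¹ * c * z⁻¹ = d * e⁻¹ * f * z⁻¹) :
    f * d * y1⁻¹ * a⁻¹ = c * e * b⁻¹ * y1⁻¹ := by
  apply Additive.ofMul.injective
  have h' := congrArg Additive.ofMul h
  simp only [ofMul_mul, ofMul_inv] at h' ⊢
  have key : Additive.ofMul f + Additive.ofMul d + -Additive.ofMul y1 + -Additive.ofMul a
      - (Additive.ofMul c + Additive.ofMul e + -Additive.ofMul b + -Additive.ofMul y1)
      = -((Additive.ofMul a + -Additive.ofMul b + Additive.ofMul c + -Additive.ofMul z)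
        - (Additive.ofMul d + -Additive.ofMul e + Additive.ofMul f + -Additive.ofMul z)) := by
    abel
  rw [← sub_eq_zero, key, h', sub_self, neg_zero]

/-- commutative bookkeeping, second form -/
theorem comm_aux2 {A : Type*} [CommGroup A] (a b y y1 : A) (h : a * b * y⁻¹ * y1⁻¹ = 1) :
    a * y1⁻¹ = y * b⁻¹ := by
  apply Additive.ofMul.injective
  have h' := congrArg Additive.ofMul h
  simp only [ofMul_mul, ofMul_inv, ofMul_one] at h' ⊢
  have key : Additive.ofMul a + -Additive.ofMul y1 - (Additive.ofMul y + -Additive.ofMul b)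
      = Additive.ofMul a + Additive.ofMul b + -Additive.ofMul y + -Additive.ofMul y1 := by
    abel
  rw [← sub_eq_zero, key, h']

/-- The abstract norm argument: a family `c k` of endomorphisms of an abelian group with
`c 0 = id`, `c j ∘ c k = c (j + k)`, `c p = id`; an element `g = c a y * c b y / (y * c 1 y)`
fixed by `c 1` has `g ^ p = 1`. -/
theorem norm_arg {A : Type*} [CommGroup A] (c : ℤ → A →* A)
    (hc0 : ∀ x, c 0 x = x) (hcadd : ∀ j k x, c j (c k x) = c (j + k) x)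
    (p : ℕ) (hcp : ∀ x, c (p : ℤ) x = x) (y g : A) (a b : ℤ)
    (hg : g = c a y * c b y * y⁻¹ * (c 1 y)⁻¹) (hfix : c 1 g = g) : g ^ p = 1 := by
  obtain ⟨N, hN⟩ : ∃ N : A →* A, ∀ x, N x = ∏ i ∈ Finset.range p, c (i : ℤ) x :=
    ⟨∏ i ∈ Finset.range p, c (i : ℤ), fun x => MonoidHom.finsetProd_apply _ _ _⟩
  have hN1 : ∀ x, N (c 1 x) = N x := by
    intro x
    rw [hN, hN]
    have e : ∀ i : ℕ, c (i : ℤ) (c 1 x) = c ((i + 1 : ℕ) : ℤ) x := by
      intro i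
      rw [hcadd]
      push_cast
      rfl
    simp only [e]
    have h1 := Finset.prod_range_succ' (fun i : ℕ => c (i : ℤ) x) p
    have h2 := Finset.prod_range_succ (fun i : ℕ => c (i : ℤ) x) p
    rw [h1] at h2
    simp only [Nat.cast_zero, hc0, hcp] at h2
    exact mul_right_cancel h2
  have hNk : ∀ k : ℤ, ∀ x, N (c k x) = N x := by
    intro k
    induction k using Int.induction_on with
    | zero => intro x; rw [hc0]
    | succ i ih =>
      intro x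
      rw [show ((i : ℤ) + 1) = 1 + i by ring, ← hcadd, hN1, ih]
    | pred i ih =>
      intro x
      rw [← hN1 (c (-(i : ℤ) - 1) x), hcadd, show (1 + (-(i : ℤ) - 1)) = -i by ring, ih]
  have hNg : N g = 1 := by
    rw [hg, map_mul, map_mul, map_mul, map_inv, map_inv, hNk, hNk, hNk]
    simp
  have hcg : ∀ i : ℕ, c (i : ℤ) g = g := by
    intro i
    induction i with
    | zero => simpa using hc0 g
    | succ n ih => rw [Nat.cast_succ, ← hcadd, hfix, ih]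
  rw [hN, Finset.prod_congr rfl (fun i _ => hcg i), Finset.prod_const, Finset.card_range] at hNg
  exact hNg

/-- conjugation by `s ^ k` as an endomorphism of `Q` -/
def conjHom {G : Type*} [Group G] (Q : Subgroup G) (s : G)
    (hsQ : ∀ k : ℤ, ∀ g ∈ Q, s ^ k * g * s ^ (-k) ∈ Q) (k : ℤ) : Q →* Q where
  toFun x := ⟨s ^ k * x * s ^ (-k), hsQ k x x.2⟩
  map_one' := Subtype.ext (by simp)
  map_mul' a b := Subtype.ext (by
    show s ^ k * ((a * b : Q) : G) * s ^ (-k) = (s ^ k * a * s ^ (-k)) * (s ^ k * b * s ^ (-k))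
    rw [Subgroup.coe_mul]
    group)

theorem coe_conjHom {G : Type*} [Group G] (Q : Subgroup G) (s : G)
    (hsQ : ∀ k : ℤ, ∀ g ∈ Q, s ^ k * g * s ^ (-k) ∈ Q) (k : ℤ) (x : Q) :
    ((conjHom Q s hsQ k x : Q) : G) = s ^ k * x * s ^ (-k) := rfl

/-- **(PLANE)**, the in-plane lemma of helper47's proof of Appendix C, Lemma C.3. -/
theorem plane_lemma {G : Type*} [Group G] (p : ℕ) [Fact p.Prime] (Q : Subgroup G)
    (hQ : ∀ a ∈ Q, ∀ b ∈ Q, a * b = b * a) [Finite Q] (hQp : (Nat.card Q).Coprime p)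
    (s y : G) (hs : s ^ p = 1) (hsQ : ∀ k : ℤ, ∀ g ∈ Q, s ^ k * g * s ^ (-k) ∈ Q)
    (hy : y ∈ Q) (l r m : ℤ)
    (h : s ^ l * (y * s * y⁻¹) ^ (-2 : ℤ) * s ^ r * (y * s * y⁻¹) ^ (2 : ℤ)
        = (y * s * y⁻¹) ^ (-1 : ℤ) * s ^ m * (y * s * y⁻¹)) :
    s ^ r * (y * s * y⁻¹) ^ (1 - r) = (y * s * y⁻¹) ^ (1 - l) * s ^ l := by
  classical
  -- `Q` has no `p`-torsion
  have hQtf : ∀ u ∈ Q, u ^ p = 1 → u = 1 := by
    intro u hu hup
    have h1 : orderOf (⟨u, hu⟩ : Q) ∣ Nat.card Q := orderOf_dvd_natCard _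
    have h2 : orderOf (⟨u, hu⟩ : Q) ∣ p :=
      orderOf_dvd_of_pow_eq_one (Subtype.ext (by simpa using hup))
    have h3 : orderOf (⟨u, hu⟩ : Q) = 1 :=
      Nat.Coprime.eq_one_of_dvd (Nat.Coprime.coprime_dvd_left h1 hQp) h2
    exact congrArg Subtype.val (orderOf_eq_one_iff.mp h3)
  -- the translates of `y`
  obtain ⟨Y, hYdef⟩ : ∃ Y : ℤ → G, ∀ k, Y k = s ^ k * y * s ^ (-k) := ⟨_, fun _ => rfl⟩
  have hY : ∀ k, Y k ∈ Q := fun k => by rw [hYdef]; exact hsQ k y hy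
  rw [conj_zpow, conj_zpow, conj_zpow] at h
  rw [conj_zpow, conj_zpow]
  -- first pass: `s ^ m = s ^ (l + r)`
  have hA : s ^ l * (y * s ^ (-2 : ℤ) * y⁻¹) * s ^ r * (y * s ^ (2 : ℤ) * y⁻¹)
      = Y l * (Y (l - 2))⁻¹ * Y (l + r - 2) * (Y (l + r))⁻¹ * s ^ (l + r) := by
    simp only [hYdef]; group
  have hB : ∀ n : ℤ, y * s ^ (-1 : ℤ) * y⁻¹ * s ^ n * (y * s * y⁻¹)
      = y * (Y (-1))⁻¹ * Y (n - 1) * (Y n)⁻¹ * s ^ n := by
    intro n; simp only [hYdef]; group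
  have hsm : s ^ m = s ^ (l + r) := by
    have e : Y l * (Y (l - 2))⁻¹ * Y (l + r - 2) * (Y (l + r))⁻¹ * s ^ (l + r)
        = y * (Y (-1))⁻¹ * Y (m - 1) * (Y m)⁻¹ * s ^ m := by rw [← hA, ← hB, h]
    have hu : s ^ (l + r - m) = (Y l * (Y (l - 2))⁻¹ * Y (l + r - 2) * (Y (l + r))⁻¹)⁻¹
        * (y * (Y (-1))⁻¹ * Y (m - 1) * (Y m)⁻¹) := by
      rw [zpow_sub, eq_inv_mul_iff_mul_eq, ← mul_assoc, e, mul_inv_cancel_right]
    have huQ : s ^ (l + r - m) ∈ Q := by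
      rw [hu]
      exact Q.mul_mem (Q.inv_mem (Q.mul_mem (Q.mul_mem (Q.mul_mem (hY _) (Q.inv_mem (hY _)))
        (hY _)) (Q.inv_mem (hY _))))
        (Q.mul_mem (Q.mul_mem (Q.mul_mem hy (Q.inv_mem (hY _))) (hY _)) (Q.inv_mem (hY _)))
    have hup : (s ^ (l + r - m)) ^ p = 1 := by
      rw [← zpow_natCast, ← zpow_mul, mul_comm, zpow_mul, zpow_natCast, hs, one_zpow]
    have hu1 := hQtf _ huQ hup
    rw [zpow_sub, mul_inv_eq_one] at hu1
    exact hu1.symm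
  rw [hsm] at h
  -- second pass, conjugated by `s ^ (2 - l)`
  have hA2 : s ^ (2 - l) * (s ^ l * (y * s ^ (-2 : ℤ) * y⁻¹) * s ^ r * (y * s ^ (2 : ℤ) * y⁻¹))
      * s ^ (l - 2) = Y 2 * y⁻¹ * Y r * (Y (r + 2))⁻¹ * s ^ (l + r) := by
    simp only [hYdef]; group
  have hB2 : s ^ (2 - l) * (y * s ^ (-1 : ℤ) * y⁻¹ * s ^ (l + r) * (y * s * y⁻¹)) * s ^ (l - 2)
      = Y (2 - l) * (Y (1 - l))⁻¹ * Y (r + 1) * (Y (r + 2))⁻¹ * s ^ (l + r) := by
    simp only [hYdef]; group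
  have hE : Y 2 * y⁻¹ * Y r * (Y (r + 2))⁻¹
      = Y (2 - l) * (Y (1 - l))⁻¹ * Y (r + 1) * (Y (r + 2))⁻¹ := by
    apply mul_right_cancel (b := s ^ (l + r))
    rw [← hA2, ← hB2, h]
  -- pass to the commutative group `Q`
  have : IsMulCommutative Q := ⟨⟨fun a b => Subtype.ext (hQ a a.2 b b.2)⟩⟩
  obtain ⟨c, hcdef⟩ : ∃ c : ℤ → Q →* Q, c = conjHom Q s hsQ := ⟨_, rfl⟩
  have hcoe : ∀ k (x : Q), ((c k x : Q) : G) = s ^ k * x * s ^ (-k) := by
    intro k x; rw [hcdef]; rfl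
  have hc0 : ∀ x, c 0 x = x := fun x => Subtype.ext (by rw [hcoe]; simp)
  have hcadd : ∀ j k x, c j (c k x) = c (j + k) x := fun j k x => Subtype.ext (by
    rw [hcoe, hcoe, hcoe]; group)
  have hcp : ∀ x, c (p : ℤ) x = x := fun x => Subtype.ext (by
    rw [hcoe, zpow_neg, zpow_natCast, hs]; simp)
  obtain ⟨yQ, hyQ⟩ : ∃ yQ : Q, (yQ : G) = y := ⟨⟨y, hy⟩, rfl⟩
  have hcY : ∀ k, ((c k yQ : Q) : G) = Y k := by
    intro k; rw [hcoe, hyQ, hYdef]
  obtain ⟨g, hg⟩ : ∃ g : Q, g = c r yQ * c (1 - l) yQ * yQ⁻¹ * (c 1 yQ)⁻¹ := ⟨_, rfl⟩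
  have hEQ : c 2 yQ * yQ⁻¹ * c r yQ * (c (r + 2) yQ)⁻¹
      = c (2 - l) yQ * (c (1 - l) yQ)⁻¹ * c (r + 1) yQ * (c (r + 2) yQ)⁻¹ := by
    apply Subtype.ext
    simp only [Subgroup.coe_mul, Subgroup.coe_inv, hcY, hyQ]
    exact hE
  have hfix : c 1 g = g := by
    have e1 : c 1 g = c (r + 1) yQ * c (2 - l) yQ * (c 1 yQ)⁻¹ * (c 2 yQ)⁻¹ := by
      rw [hg]
      simp only [map_mul, map_inv, hcadd]
      rw [show (1 + r : ℤ) = r + 1 by ring, show (1 + (1 - l) : ℤ) = 2 - l by ring,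
        show ((1 : ℤ) + 1) = 2 by norm_num]
    rw [e1, hg]
    exact comm_aux _ _ _ _ _ _ _ _ hEQ
  have hgp : g ^ p = 1 := norm_arg c hc0 hcadd p hcp yQ g r (1 - l) hg hfix
  have hg1 : g = 1 := by
    apply Subtype.ext
    apply hQtf _ g.2
    have := congrArg Subtype.val hgp
    simpa using this
  have hfin : c r yQ * (c 1 yQ)⁻¹ = yQ * (c (1 - l) yQ)⁻¹ := by
    apply comm_aux2
    rw [← hg, hg1]
  have hfinG : Y r * (Y 1)⁻¹ = y * (Y (1 - l))⁻¹ := by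
    have := congrArg Subtype.val hfin
    simpa only [Subgroup.coe_mul, Subgroup.coe_inv, hcY, hyQ] using this
  -- conclude
  have hL : s ^ r * (y * s ^ (1 - r) * y⁻¹) = Y r * (Y 1)⁻¹ * s := by
    simp only [hYdef]; group
  have hR : y * s ^ (1 - l) * y⁻¹ * s ^ l = y * (Y (1 - l))⁻¹ * s := by
    simp only [hYdef]; group
  rw [hL, hR, hfinG]

end Cfsg.Agent.Helper64.AppC
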