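import Cfsg.Agent.Helper47.SGDefs
import Cfsg.Agent.S0552
import Cfsg.Agent.Lib.Cores

set_option autoImplicit false

/-! Piece (W10) of helper47's Shult–Gross proof (S3793): Claim A in linear form from the key
lemma inside `MulAut W`. -/

namespace Cfsg.Agent.Helper64.SG

open Cfsg.Agent.Helper47.SG Cfsg Cfsg.Agent.Lib
open scoped commutatorElement

universe uW

/-- Conjugation by an element of the normalizer, as an automorphism of the subgroup. -/
def conjAut {Γ : Type*} [Group Γ] (G : Subgroup Γ) (x : Γ)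
    (hx : x ∈ Subgroup.normalizer (G : Set Γ)) : ↥G ≃* ↥G where
  toFun g := ⟨x * g * x⁻¹, (Subgroup.mem_normalizer_iff.mp hx g).mp g.2⟩
  invFun g := ⟨x⁻¹ * g * x, by
    have := (Subgroup.mem_normalizer_iff.mp ((Subgroup.normalizer (G : Set Γ)).inv_mem hx) g).mp g.2
    simpa using this⟩
  left_inv g := by apply Subtype.ext; simp [mul_assoc]
  right_inv g := by apply Subtype.ext; simp [mul_assoc]
  map_mul' a b := by apply Subtype.ext; simp [mul_assoc]

@[simp] theorem conjAut_coe {Γ : Type*} [Group Γ] (G : Subgroup Γ) (x : Γ)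
    (hx : x ∈ Subgroup.normalizer (G : Set Γ)) (g : ↥G) :
    ((conjAut G x hx g : ↥G) : Γ) = x * g * x⁻¹ := rfl

theorem conjAut_pow {Γ : Type*} [Group Γ] (G : Subgroup Γ) (x : Γ)
    (hx : x ∈ Subgroup.normalizer (G : Set Γ)) (k : ℕ) (g : ↥G) :
    (((conjAut G x hx) ^ k) g : Γ) = x ^ k * g * (x ^ k)⁻¹ := by
  induction k generalizing g with
  | zero => simp
  | succ k ih =>
    rw [pow_succ', MulAut.mul_apply, conjAut_coe, ih, pow_succ']
    group

theorem claimA_lin_of (h : KLCoreStmt.{uW}) : ClaimALinStmt.{uW} := by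
  intro W _ _ p r n H G x hp hr hp2 hpr hW hGH hHN hsol hpG hxH hxp hGfix hWfix hirr a ha
  have : Finite (MulAut W) := Finite.of_injective (fun f : MulAut W => (f : W → W))
    (fun f g hfg => MulEquiv.ext (fun w => congrFun hfg w))
  have hxN : x ∈ Subgroup.normalizer (G : Set (MulAut W)) := hHN hxH
  have hx1N : x ^ (p ^ n) ∈ Subgroup.normalizer (G : Set (MulAut W)) :=
    Subgroup.pow_mem _ hxN _
  -- every `O_q(G)` is centralized by `x1`
  have hcore : ∀ q : ℕ, q.Prime → ∀ g ∈ Cfsg.pCore q ↥G,
      x ^ (p ^ n) * (g : MulAut W) = (g : MulAut W) * x ^ (p ^ n) := by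
    intro q hq g hg
    have hqF : Fact q.Prime := ⟨hq⟩
    have hPq : IsPGroup q (Cfsg.pCore q ↥G) := isPGroup_pCore q
    have hchar : (Cfsg.pCore q ↥G).Characteristic := pCore_characteristic q
    by_cases hqp : q = p
    · -- `O_p(G) = 1`
      subst hqp
      have hcard : Nat.card (Cfsg.pCore q ↥G) = 1 := by
        rcases hPq.card_eq_or_dvd with h1 | h1
        · exact h1
        · exact absurd (h1.trans (Subgroup.card_subgroup_dvd_card _)) hpG
      have hbot : Cfsg.pCore q ↥G = ⊥ := Subgroup.card_eq_one.mp hcard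
      rw [hbot, Subgroup.mem_bot] at hg
      subst hg
      simp
    by_cases hqr : q = r
    · -- `O_r(G)` acts trivially on `W`, hence is trivial
      subst hqr
      have hWp : IsPGroup q W := fun w => ⟨1, by rw [pow_one]; exact hW w⟩
      -- fixed points of `O_r(G)` on `W`
      let W0 : Subgroup W :=
        { carrier := {w | ∀ b ∈ Cfsg.pCore q ↥G, ((b : ↥G) : MulAut W) w = w}
          one_mem' := fun b _ => map_one _
          mul_mem' := fun {u v} hu hv b hb => by
            rw [map_mul, hu b hb, hv b hb]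
          inv_mem' := fun {u} hu b hb => by
            rw [map_inv, hu b hb] }
      have hW0inv : ∀ k ∈ H, ∀ w ∈ W0, k w ∈ W0 := by
        intro k hk w hw b hb
        have hkN : k ∈ Subgroup.normalizer (G : Set (MulAut W)) := hHN hk
        have hkN' : k⁻¹ ∈ Subgroup.normalizer (G : Set (MulAut W)) := Subgroup.inv_mem _ hkN
        have hb' : conjAut G k⁻¹ hkN' b ∈ Cfsg.pCore q ↥G := by
          have := hchar.fixed (conjAut G k⁻¹ hkN')
          have h2 : b ∈ (Cfsg.pCore q ↥G).comap (conjAut G k⁻¹ hkN').toMonoidHom := by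
            rw [this]; exact hb
          exact h2
        have h3 := hw _ hb'
        rw [conjAut_coe] at h3
        -- `k⁻¹ b k w = w`
        have h4 : (k⁻¹ * (b : MulAut W) * k⁻¹⁻¹) w = k⁻¹ ((b : MulAut W) (k w)) := by
          simp [MulAut.mul_apply]
        rw [h4] at h3
        have h5 : k (k⁻¹ ((b : MulAut W) (k w))) = k w := by rw [h3]
        simpa using h5
      have hall : ∀ w : W, w ∈ W0 := by
        rcases hirr W0 hW0inv with h0 | h0
        · -- `W0 = ⊥` forces `W` trivial
          have hWcard : Nat.card W = 1 := by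
            rcases hWp.card_eq_or_dvd with h1 | h1
            · exact h1
            · exfalso
              have hact : (1 : W) ∈ MulAction.fixedPoints ↥((Cfsg.pCore q ↥G).map G.subtype) W := by
                intro b
                exact map_one (b : MulAut W)
              have hP' : IsPGroup q ↥((Cfsg.pCore q ↥G).map G.subtype) := hPq.map _
              obtain ⟨w, hwfix, hw1⟩ :=
                hP'.exists_fixed_point_of_prime_dvd_card_of_fixed_point W h1 hact
              have hwW0 : w ∈ W0 := by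
                intro b hb
                exact hwfix ⟨(b : MulAut W), ⟨b, hb, rfl⟩⟩
              rw [h0, Subgroup.mem_bot] at hwW0
              exact hw1 hwW0.symm
          intro w
          have : Subsingleton W := (Nat.card_eq_one_iff_unique.mp hWcard).1
          have hw1 : w = 1 := Subsingleton.elim _ _
          rw [hw1]; exact W0.one_mem
        · intro w; rw [h0]; exact Subgroup.mem_top w
      have hg1 : ((g : ↥G) : MulAut W) = 1 := by
        ext w
        exact hall w g hg
      rw [hg1]; simp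
    · -- the key lemma
      have hpq : p ≠ q := fun e => hqp e.symm
      have hmain := h W p q r n ((Cfsg.pCore q ↥G).map G.subtype) x hp hq hr hp2 hpq hpr hqr hW
        (hPq.map _)
        (by
          rintro b ⟨c, hc, rfl⟩
          have hc' : conjAut G x hxN c ∈ Cfsg.pCore q ↥G := by
            have := hchar.fixed (conjAut G x hxN)
            have h2 : c ∈ (Cfsg.pCore q ↥G).comap (conjAut G x hxN).toMonoidHom := by
              rw [this]; exact hc
            exact h2
          exact ⟨_, hc', rfl⟩)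
        hxp
        (by
          rintro b ⟨c, _, rfl⟩ hcomm
          exact hGfix _ c.2 hcomm)
        hWfix
      exact hmain _ ⟨g, hg, rfl⟩
  -- the automorphism `σ` = conjugation by `x1` on `G`
  obtain ⟨σ, hσ⟩ : ∃ σ : ↥G ≃* ↥G, σ = conjAut G (x ^ (p ^ n)) hx1N := ⟨_, rfl⟩
  have hσfix : ∀ q : ℕ, q.Prime → ∀ g ∈ Cfsg.pCore q ↥G, σ g = g := by
    intro q hq g hg
    apply Subtype.ext
    rw [hσ, conjAut_coe, hcore q hq g hg]
    group
  -- `σ` fixes `F(G)` pointwise
  have hFfix : ∀ g ∈ Cfsg.fittingSubgroup ↥G, σ g = g := by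
    have hle : ∀ q : ℕ, q.Prime →
        Cfsg.pCore q ↥G ≤ (σ.toMonoidHom).eqLocus (MonoidHom.id ↥G) := by
      intro q hq g hg
      exact hσfix q hq g hg
    have hrel : ((σ.toMonoidHom).eqLocus (MonoidHom.id ↥G)).relIndex
        (Cfsg.fittingSubgroup ↥G) = 1 := by
      rw [Nat.eq_one_iff_not_exists_prime_dvd]
      intro q hq hdvd
      have : Fact q.Prime := ⟨hq⟩
      have h1 := Subgroup.relIndex_dvd_of_le_left (Cfsg.fittingSubgroup ↥G) (hle q hq)
      have h2 := relIndex_pCore_fittingSubgroup_coprime (G := ↥G) q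
      have h3 : q ∣ (Cfsg.pCore q ↥G).relIndex (Cfsg.fittingSubgroup ↥G) := hdvd.trans h1
      exact (Nat.Prime.coprime_iff_not_dvd hq).mp h2.symm h3
    rw [Subgroup.relIndex_eq_one] at hrel
    intro g hg
    exact hrel hg
  -- `σ ^ p = 1`
  have hσp : σ ^ p = 1 := by
    ext g
    rw [hσ, conjAut_pow]
    have : (x ^ (p ^ n)) ^ p = 1 := by rw [← pow_mul, ← pow_succ]; exact hxp
    rw [this]; simp
  have hσ1 : σ = MulEquiv.refl ↥G := by
    by_contra hne
    haveI := hsol
    have hnc := Cfsg.Agent.S0552.result σ hFfix hne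
    apply hnc
    have hdvd : orderOf σ ∣ p := orderOf_dvd_of_pow_eq_one hσp
    have hcop : p.Coprime (Nat.card ↥G) := (Nat.Prime.coprime_iff_not_dvd hp).mpr hpG
    exact Nat.Coprime.coprime_dvd_left hdvd hcop
  have hfin := congrArg (fun τ : ↥G ≃* ↥G => ((τ ⟨a, ha⟩ : ↥G) : MulAut W)) hσ1
  simp only [MulEquiv.refl_apply] at hfin
  rw [hσ, conjAut_coe] at hfin
  -- `x1 * a * x1⁻¹ = a`
  calc x ^ (p ^ n) * a = (x ^ (p ^ n) * a * (x ^ (p ^ n))⁻¹) * x ^ (p ^ n) := by group
    _ = a * x ^ (p ^ n) := by rw [hfin]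

end Cfsg.Agent.Helper64.SG
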