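import Mathlib
import Cfsg.Agent.Helper62.FrobActAb
import Cfsg.Agent.Helper31.WardW34
import Cfsg.Agent.Lib.Cores

set_option autoImplicit false

/-! Module part of (E2) for S4306 (helper52): a Frobenius group `[R̄, β]⟨β⟩` of automorphisms of a
finite abelian group `M` of coprime order produces an invariant subgroup `N ≠ 1` of `M` with
`|N| = |C_N(β)| ^ t`. -/

namespace Cfsg.Agent.Helper64.PQ

open Subgroup
open scoped commutatorElement

section TypeLevel

variable {M : Type*} [CommGroup M]

/-- fixed points of an automorphism -/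
def fixB (β : MulAut M) : Subgroup M where
  carrier := {m | β m = m}
  one_mem' := map_one β
  mul_mem' := fun {a b} ha hb => by
    simp only [Set.mem_ofPred_eq] at *
    rw [map_mul, ha, hb]
  inv_mem' := fun {a} ha => by
    simp only [Set.mem_ofPred_eq] at *
    rw [map_inv, ha]

theorem mem_fixB {β : MulAut M} {m : M} : m ∈ fixB β ↔ β m = m := Iff.rfl

variable [Finite M]

theorem finite_mulAut : Finite (MulAut M) :=
  Finite.of_injective (fun f : MulAut M => (f : M → M))
    (fun f g hfg => MulEquiv.ext (fun w => congrFun hfg w))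

/-- The norm map of a finite group `U` of automorphisms of an abelian group. -/
noncomputable def normHom (U : Subgroup (MulAut M)) : M →* M :=
  haveI : Finite (MulAut M) := finite_mulAut
  haveI : Fintype ↥U := Fintype.ofFinite _
  ∏ u : ↥U, ((u : MulAut M).toMonoidHom : M →* M)

theorem normHom_apply (U : Subgroup (MulAut M)) [inst : Fintype ↥U] (m : M) :
    normHom U m = ∏ u : ↥U, (u : MulAut M) m := by
  unfold normHom
  rw [MonoidHom.finsetProd_apply]
  have h : ∀ i1 i2 : Fintype ↥U, (@Finset.univ _ i1).prod (fun u : ↥U => (u : MulAut M).toMonoidHom m)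
      = (@Finset.univ _ i2).prod (fun u : ↥U => (u : MulAut M).toMonoidHom m) := by
    intro i1 i2
    have : i1 = i2 := Subsingleton.elim _ _
    rw [this]
  exact h _ _

theorem normHom_of_fixed (U : Subgroup (MulAut M)) (m : M) (hm : ∀ u ∈ U, u m = m) :
    normHom U m = m ^ Nat.card U := by
  have : Finite (MulAut M) := finite_mulAut
  haveI : Fintype ↥U := Fintype.ofFinite _
  rw [normHom_apply]
  have : ∀ u : ↥U, (u : MulAut M) m = m := fun u => hm u u.2
  simp only [this, Finset.prod_const, Finset.card_univ]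
  rw [Nat.card_eq_fintype_card]

theorem normHom_smul (U : Subgroup (MulAut M)) (u0 : MulAut M) (hu0 : u0 ∈ U) (m : M) :
    normHom U (u0 m) = normHom U m := by
  have : Finite (MulAut M) := finite_mulAut
  haveI : Fintype ↥U := Fintype.ofFinite _
  rw [normHom_apply, normHom_apply]
  refine Fintype.prod_equiv (Equiv.mulRight (⟨u0, hu0⟩ : ↥U)) _ _ ?_
  intro u
  simp [MulAut.mul_apply]

theorem normHom_conj (U : Subgroup (MulAut M)) (a : MulAut M)
    (ha : a ∈ normalizer (U : Set (MulAut M))) (m : M) :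
    a (normHom U m) = normHom U (a m) := by
  have : Finite (MulAut M) := finite_mulAut
  haveI : Fintype ↥U := Fintype.ofFinite _
  rw [normHom_apply, normHom_apply, map_prod]
  let e : ↥U ≃ ↥U :=
    { toFun := fun u => ⟨a * u * a⁻¹, (mem_normalizer_iff.mp ha u).mp u.2⟩
      invFun := fun u => ⟨a⁻¹ * u * a, by
        have := (mem_normalizer_iff.mp ((normalizer (U : Set (MulAut M))).inv_mem ha) u).mp u.2
        simpa using this⟩
      left_inv := fun u => by apply Subtype.ext; simp [mul_assoc]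
      right_inv := fun u => by apply Subtype.ext; simp [mul_assoc] }
  refine Fintype.prod_equiv e _ _ ?_
  intro u
  show a ((u : MulAut M) m) = (a * (u : MulAut M) * a⁻¹) (a m)
  simp [MulAut.mul_apply]

theorem map_conj_eq_of_mem_normalizer {G : Type*} [Group G] (K : Subgroup G) (g : G)
    (hg : g ∈ normalizer (K : Set G)) : K.map (MulAut.conj g).toMonoidHom = K := by
  ext y
  constructor
  · rintro ⟨x, hx, rfl⟩
    exact (mem_normalizer_iff.mp hg x).mp hx
  · intro hy
    refine ⟨g⁻¹ * y * g, ?_, by simp [MulAut.conj_apply, mul_assoc]⟩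
    have := (mem_normalizer_iff.mp ((normalizer (K : Set G)).inv_mem hg) y).mp hy
    simpa using this

theorem mem_normalizer_of_map_conj_eq {G : Type*} [Group G] (K : Subgroup G) (g : G)
    (h : K.map (MulAut.conj g).toMonoidHom = K) : g ∈ normalizer (K : Set G) := by
  rw [mem_normalizer_iff]
  intro x
  constructor
  · intro hx
    rw [← h]
    exact ⟨x, hx, by simp [MulAut.conj_apply]⟩
  · intro hx
    rw [← h] at hx
    obtain ⟨y, hy, hyx⟩ := hx
    have : y = x := by
      have h1 : g * y * g⁻¹ = g * x * g⁻¹ := by simpa [MulAut.conj_apply] using hyx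
      have h2 : g * y = g * x := mul_right_cancel h1
      exact mul_left_cancel h2
    rw [← this]; exact hy

/-- **Type-level module lemma.**  `R̄` abelian group of automorphisms of the finite abelian group
`M`, `β` an automorphism of prime order `t` normalizing but not centralizing `R̄`, all orders
coprime: there is an `R̄⟨β⟩`-invariant subgroup `N ≠ 1` of `M` with `|N| = |C_N(β)| ^ t`. -/
theorem exists_free_submodule (Rb : Subgroup (MulAut M)) (β : MulAut M) {t : ℕ} (ht : t.Prime)
    (hβ : orderOf β = t) (hRab : ∀ x ∈ Rb, ∀ y ∈ Rb, x * y = y * x)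
    (hβR : β ∈ normalizer (Rb : Set (MulAut M)))
    (hcopR : (Nat.card Rb).Coprime t) (hcopMR : (Nat.card M).Coprime (Nat.card Rb))
    (hcopMt : (Nat.card M).Coprime t)
    (hne : ∃ x ∈ Rb, β * x * β⁻¹ ≠ x) :
    ∃ N : Subgroup M, N ≠ ⊥ ∧ (∀ x ∈ Rb, ∀ m ∈ N, x m ∈ N) ∧ (∀ m ∈ N, β m ∈ N) ∧
      Nat.card N = Nat.card ↥(N ⊓ fixB β) ^ t := by
  have hfinA : Finite (MulAut M) := finite_mulAut
  have htF : Fact t.Prime := ⟨ht⟩
  obtain ⟨T, hT⟩ : ∃ T : Subgroup (MulAut M), T = zpowers β := ⟨_, rfl⟩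
  have hTcard : Nat.card T = t := by rw [hT, Nat.card_zpowers, hβ]
  have hβT : β ∈ T := by rw [hT]; exact mem_zpowers β
  have hTR : T ≤ normalizer (Rb : Set (MulAut M)) := by
    rw [hT]; exact (zpowers_le).mpr hβR
  obtain ⟨-, hsplit⟩ := Cfsg.Agent.Helper31.Ward.abelian_coprime_split Rb T hRab hTR
    (by rw [hTcard]; exact hcopR)
  obtain ⟨U, hU⟩ : ∃ U : Subgroup (MulAut M), U = ⁅Rb, T⁆ := ⟨_, rfl⟩
  have hURb : U ≤ Rb := by
    rw [hU, Subgroup.commutator_le]
    intro x hx e he
    have h1 : e * x⁻¹ * e⁻¹ ∈ Rb := (mem_normalizer_iff.mp (hTR he) x⁻¹).mp (Rb.inv_mem hx)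
    have : ⁅x, e⁆ = x * (e * x⁻¹ * e⁻¹) := by rw [commutatorElement_def]; group
    rw [this]; exact Rb.mul_mem hx h1
  have hU1 : U ≠ ⊥ := by
    obtain ⟨x, hx, hxne⟩ := hne
    intro h0
    have hmem : ⁅x, β⁆ ∈ U := by rw [hU]; exact Subgroup.commutator_mem_commutator hx hβT
    rw [h0, mem_bot, commutatorElement_def] at hmem
    apply hxne
    have : x * β = β * x := by
      calc x * β = (x * β * x⁻¹ * β⁻¹) * (β * x) := by group
        _ = β * x := by rw [hmem, one_mul]
    calc β * x * β⁻¹ = (x * β) * β⁻¹ := by rw [this]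
      _ = x := by group
  have hUfix : ∀ v ∈ U, β * v = v * β → v = 1 := by
    intro v hv hcomm
    have h1 : v ∈ (Rb ⊓ centralizer (T : Set (MulAut M))) ⊓ ⁅Rb, T⁆ := by
      refine Subgroup.mem_inf.mpr ⟨Subgroup.mem_inf.mpr ⟨hURb hv, ?_⟩, hU ▸ hv⟩
      rw [mem_centralizer_iff]
      intro e he
      rw [hT] at he
      obtain ⟨i, rfl⟩ := mem_zpowers_iff.mp he
      exact (Commute.zpow_left (show Commute β v from hcomm) i).eq
    rw [hsplit, mem_bot] at h1
    exact h1
  have hRbU : Rb ≤ normalizer (U : Set (MulAut M)) := by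
    intro x hx
    have key : ∀ y ∈ Rb, ∀ w ∈ U, y * w * y⁻¹ = w := by
      intro y hy w hw
      have := hRab y hy w (hURb hw)
      rw [this]; group
    rw [mem_normalizer_iff]
    intro v
    constructor
    · intro hv; rw [key x hx v hv]; exact hv
    · intro hv
      have h2 := key x⁻¹ (Rb.inv_mem hx) _ hv
      have : v = x⁻¹ * (x * v * x⁻¹) * x⁻¹⁻¹ := by group
      rw [this, h2]; exact hv
  have hTU : T ≤ normalizer (U : Set (MulAut M)) := by
    intro e he
    apply mem_normalizer_of_map_conj_eq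
    rw [hU, Subgroup.map_commutator, map_conj_eq_of_mem_normalizer Rb e (hTR he),
      map_conj_eq_of_mem_normalizer T e (le_normalizer he)]
  obtain ⟨A, hA⟩ : ∃ A : Subgroup (MulAut M), A = Rb ⊔ T := ⟨_, rfl⟩
  have hRbA : Rb ≤ A := hA ▸ le_sup_left
  have hTA : T ≤ A := hA ▸ le_sup_right
  have hUA : U ≤ A := hURb.trans hRbA
  have hAU : A ≤ normalizer (U : Set (MulAut M)) := hA ▸ sup_le hRbU hTU
  have hARb : A ≤ normalizer (Rb : Set (MulAut M)) := hA ▸ sup_le le_normalizer hTR
  haveI hUn : (U.subgroupOf A).Normal := (normal_subgroupOf_iff_le_normalizer hUA).mpr hAU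
  haveI hRn : (Rb.subgroupOf A).Normal := (normal_subgroupOf_iff_le_normalizer hRbA).mpr hARb
  haveI hUnil : Group.IsNilpotent ↥(U.subgroupOf A) := by
    refine ⟨⟨1, Subgroup.upperCentralSeries_one_eq_top_iff.mpr ⟨⟨fun a b => ?_⟩⟩⟩⟩
    apply Subtype.ext
    apply Subtype.ext
    have ha : ((a : ↥A) : MulAut M) ∈ U := mem_subgroupOf.mp a.2
    have hb : ((b : ↥A) : MulAut M) ∈ U := mem_subgroupOf.mp b.2
    exact hRab _ (hURb ha) _ (hURb hb)
  -- coprimality
  have hcop : (Nat.card M).Coprime (Nat.card ↥A) := by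
    have h1 : (Nat.card ↥(T.subgroupOf A)).Coprime (Nat.card M) := by
      rw [Nat.card_congr (subgroupOfEquivOfLe hTA).toEquiv, hTcard]
      exact hcopMt.symm
    have h2 : (Nat.card ↥(Rb.subgroupOf A)).Coprime (Nat.card M) := by
      rw [Nat.card_congr (subgroupOfEquivOfLe hRbA).toEquiv]
      exact hcopMR.symm
    have h3 := Cfsg.Agent.Lib.card_sup_coprime_of_normal h1 h2
    have h4 : T.subgroupOf A ⊔ Rb.subgroupOf A = ⊤ := by
      rw [← subgroupOf_sup hTA hRbA, sup_comm, ← hA, subgroupOf_self]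
    rw [h4, card_top] at h3
    exact h3.symm
  -- fixed-point-freeness
  have hfpf : ∀ e ∈ T.subgroupOf A, e ≠ 1 → ∀ v ∈ U.subgroupOf A, e * v = v * e → v = 1 := by
    intro e he he1 v hv hcomm
    have heT : ((e : ↥A) : MulAut M) ∈ T := mem_subgroupOf.mp he
    have hvU : ((v : ↥A) : MulAut M) ∈ U := mem_subgroupOf.mp hv
    have hgen : zpowers (⟨(e : MulAut M), heT⟩ : ↥T) = ⊤ := by
      apply zpowers_eq_top_of_prime_card hTcard
      intro h
      apply he1
      apply Subtype.ext
      have := congrArg Subtype.val h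
      simpa using this
    have hβmem : (⟨β, hβT⟩ : ↥T) ∈ zpowers (⟨(e : MulAut M), heT⟩ : ↥T) := by
      rw [hgen]; exact mem_top _
    obtain ⟨k, hk⟩ := mem_zpowers_iff.mp hβmem
    have hk' : ((e : ↥A) : MulAut M) ^ k = β := by
      have := congrArg Subtype.val hk
      simpa using this
    have hc : ((e : ↥A) : MulAut M) * ((v : ↥A) : MulAut M) =
        ((v : ↥A) : MulAut M) * ((e : ↥A) : MulAut M) := by
      have := congrArg Subtype.val hcomm
      simpa using this
    have hc2 : β * ((v : ↥A) : MulAut M) = ((v : ↥A) : MulAut M) * β := by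
      rw [← hk']
      exact (Commute.zpow_left (show Commute ((e : ↥A) : MulAut M) ((v : ↥A) : MulAut M) from hc)
        k).eq
    apply Subtype.ext
    exact hUfix _ hvU hc2
  -- the subgroup `N`
  obtain ⟨N, hN⟩ : ∃ N : Subgroup M, N = (normHom U).ker := ⟨_, rfl⟩
  have hNinv : ∀ a ∈ A, ∀ w ∈ N, a w ∈ N := by
    intro a ha w hw
    rw [hN, MonoidHom.mem_ker] at hw ⊢
    rw [← normHom_conj U a (hAU ha), hw, map_one]
  have hNne : N ≠ ⊥ := by
    obtain ⟨u0, hu0, hu01⟩ := (Subgroup.ne_bot_iff_exists_ne_one).mp hU1 |>.imp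
      (fun u => id) |> fun ⟨u, hu⟩ => (⟨(u : MulAut M), u.2, fun h => hu (Subtype.ext h)⟩ :
        ∃ u0 : MulAut M, u0 ∈ U ∧ u0 ≠ 1)
    have : ∃ m : M, u0 m ≠ m := by
      by_contra hcon
      push Not at hcon
      exact hu01 (MulEquiv.ext hcon)
    obtain ⟨m, hm⟩ := this
    intro h0
    have hx : u0 m * m⁻¹ ∈ N := by
      rw [hN, MonoidHom.mem_ker, map_mul, map_inv, normHom_smul U u0 hu0, mul_inv_cancel]
    rw [h0, mem_bot] at hx
    exact hm (mul_inv_eq_one.mp hx)
  have hNU : N ⊓ Cfsg.Agent.Helper62.FrobAct.fixOf A.subtype (U.subgroupOf A) = ⊥ := by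
    rw [eq_bot_iff]
    intro w hw
    rw [mem_bot]
    have hw1 : normHom U w = 1 := by
      have := (Subgroup.mem_inf.mp hw).1; rw [hN, MonoidHom.mem_ker] at this; exact this
    have hw2 : ∀ v ∈ U, v w = w := by
      intro v hv
      exact (Subgroup.mem_inf.mp hw).2 ⟨v, hUA hv⟩ (mem_subgroupOf.mpr hv)
    rw [normHom_of_fixed U w hw2] at hw1
    have hd1 : orderOf w ∣ Nat.card U := orderOf_dvd_of_pow_eq_one hw1
    have hd2 : orderOf w ∣ Nat.card M := orderOf_dvd_natCard w
    have hd3 : Nat.card U ∣ Nat.card Rb := card_dvd_of_le hURb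
    have : orderOf w = 1 :=
      Nat.eq_one_of_dvd_coprimes hcopMR hd2 (hd1.trans hd3)
    exact orderOf_eq_one_iff.mp this
  have hfixE : Cfsg.Agent.Helper62.FrobAct.fixOf A.subtype (T.subgroupOf A) = fixB β := by
    ext w
    constructor
    · intro hw
      exact hw ⟨β, hTA hβT⟩ (mem_subgroupOf.mpr hβT)
    · intro hw e he
      have heT : ((e : ↥A) : MulAut M) ∈ T := mem_subgroupOf.mp he
      rw [hT] at heT
      obtain ⟨i, hi⟩ := mem_zpowers_iff.mp heT
      show ((e : ↥A) : MulAut M) w = w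
      rw [← hi]
      have hβw : β w = w := hw
      have : ∀ j : ℕ, (β ^ j) w = w := by
        intro j
        induction j with
        | zero => simp
        | succ j ih => rw [pow_succ, MulAut.mul_apply, hβw, ih]
      rcases Int.eq_nat_or_neg i with ⟨j, rfl | rfl⟩
      · rw [zpow_natCast]; exact this j
      · rw [zpow_neg, zpow_natCast]
        have h1 := this j
        conv_lhs => rw [← h1]
        exact MulAut.inv_apply_self M (β ^ j) w
  have hmain := (Cfsg.Agent.Helper62.FrobAct.abelian_main A.subtype (U.subgroupOf A)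
    (T.subgroupOf A) hcop hfpf (Nat.card N) N rfl (fun a w hw => hNinv a a.2 w hw)).1
  have hcE : Nat.card ↥(T.subgroupOf A) = t := by
    rw [Nat.card_congr (subgroupOfEquivOfLe hTA).toEquiv, hTcard]
  rw [hNU, hfixE, hcE] at hmain
  have hbot1 : Nat.card ↥((⊥ : Subgroup M) ⊓ fixB β) = 1 := by
    rw [bot_inf_eq]; exact card_bot
  have hbot2 : Nat.card ↥(⊥ : Subgroup M) = 1 := card_bot
  rw [hbot1, hbot2, one_pow, one_mul, mul_one] at hmain
  refine ⟨N, hNne, fun x hx m hm => hNinv x (hRbA hx) m hm, fun m hm => hNinv β (hTA hβT) m hm,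
    hmain⟩

end TypeLevel

end Cfsg.Agent.Helper64.PQ
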