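import Mathlib
import Cfsg.Agent.Helper52.PQDefs
import Cfsg.Agent.Helper64.PQE2a

set_option autoImplicit false

/-! Piece (E2) of helper52's S4306 plan, transport part: the action of `N_H(Q) ∩ N_H(Z)` on `Q / Z`,
and the reduction of `lemmaE2` to the non-existence of an `R`-invariant overgroup of index `2` of
`P = [Q, b]` (sub-piece (E2c)). -/

namespace Cfsg.Agent.Helper64.PQ

open Subgroup Cfsg.Agent.Helper1.Shult Cfsg.Agent.Helper52.PQ
open scoped commutatorElement

section Quot

variable {H : Type*} [Group H] (Q Z : Subgroup H)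

/-- Conjugation by an element of the normalizer, as an automorphism of the subgroup. -/
def cAut (x : H) (hx : x ∈ normalizer (Q : Set H)) : ↥Q ≃* ↥Q where
  toFun g := ⟨x * g * x⁻¹, (mem_normalizer_iff.mp hx g).mp g.2⟩
  invFun g := ⟨x⁻¹ * g * x, by
    have := (mem_normalizer_iff.mp ((normalizer (Q : Set H)).inv_mem hx) g).mp g.2
    simpa using this⟩
  left_inv g := by apply Subtype.ext; simp [mul_assoc]
  right_inv g := by apply Subtype.ext; simp [mul_assoc]
  map_mul' a b := by apply Subtype.ext; simp [mul_assoc]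

@[simp] theorem cAut_coe (x : H) (hx : x ∈ normalizer (Q : Set H)) (g : ↥Q) :
    ((cAut Q x hx g : ↥Q) : H) = x * g * x⁻¹ := rfl

theorem cAut_map_sub (x : H) (hxQ : x ∈ normalizer (Q : Set H))
    (hxZ : x ∈ normalizer (Z : Set H)) :
    (Z.subgroupOf Q).map ((cAut Q x hxQ : ↥Q ≃* ↥Q) : ↥Q →* ↥Q) = Z.subgroupOf Q := by
  ext k
  constructor
  · rintro ⟨n, hn, rfl⟩
    have hn' : (n : H) ∈ Z := hn
    show ((cAut Q x hxQ n : ↥Q) : H) ∈ Z
    rw [cAut_coe]
    exact (mem_normalizer_iff.mp hxZ n).mp hn'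
  · intro hk
    have hk' : (k : H) ∈ Z := hk
    refine ⟨(cAut Q x hxQ).symm k, ?_, ?_⟩
    · show (((cAut Q x hxQ).symm k : ↥Q) : H) ∈ Z
      have : (((cAut Q x hxQ).symm k : ↥Q) : H) = x⁻¹ * k * x := rfl
      rw [this]
      have := (mem_normalizer_iff.mp ((normalizer (Z : Set H)).inv_mem hxZ) k).mp hk'
      simpa using this
    · exact (cAut Q x hxQ).apply_symm_apply k

/-- The commutative group structure on `Q / Z` when `[Q, Q] ≤ Z`. -/
@[reducible] def qComm [(Z.subgroupOf Q).Normal]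
    (hcomm : ∀ g ∈ Q, ∀ h ∈ Q, g * h * g⁻¹ * h⁻¹ ∈ Z) : CommGroup (↥Q ⧸ Z.subgroupOf Q) :=
  { (inferInstance : Group (↥Q ⧸ Z.subgroupOf Q)) with
    mul_comm := by
      intro a b
      induction a using QuotientGroup.induction_on with
      | H a =>
      induction b using QuotientGroup.induction_on with
      | H b =>
      rw [← QuotientGroup.mk_mul, ← QuotientGroup.mk_mul, QuotientGroup.eq, mem_subgroupOf]
      have h1 := hcomm _ (Q.inv_mem b.2) _ (Q.inv_mem a.2)
      have e : (((a * b)⁻¹ * (b * a) : ↥Q) : H) = (b : H)⁻¹ * (a : H)⁻¹ * (b : H)⁻¹⁻¹ * (a : H)⁻¹⁻¹ := by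
        push_cast; group
      rw [e]; exact h1 }

/-- The conjugation action of `N_H(Q) ∩ N_H(Z)` on `Q / Z`. -/
def qAct [(Z.subgroupOf Q).Normal] :
    ↥(normalizer (Q : Set H) ⊓ normalizer (Z : Set H)) →* MulAut (↥Q ⧸ Z.subgroupOf Q) where
  toFun g := QuotientGroup.congr (Z.subgroupOf Q) (Z.subgroupOf Q)
    (cAut Q g.1 (mem_inf.mp g.2).1) (cAut_map_sub Q Z g.1 (mem_inf.mp g.2).1 (mem_inf.mp g.2).2)
  map_one' := by
    ext q
    induction q using QuotientGroup.induction_on with
    | H k =>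
      rw [QuotientGroup.congr_mk]
      simp only [MulAut.one_apply]
      congr 1
      apply Subtype.ext
      simp
  map_mul' := by
    intro g h
    ext q
    induction q using QuotientGroup.induction_on with
    | H k =>
      rw [MulAut.mul_apply, QuotientGroup.congr_mk, QuotientGroup.congr_mk, QuotientGroup.congr_mk]
      congr 1
      apply Subtype.ext
      simp [mul_assoc]

theorem qAct_mk [(Z.subgroupOf Q).Normal]
    (g : ↥(normalizer (Q : Set H) ⊓ normalizer (Z : Set H))) (k : ↥Q) :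
    qAct Q Z g (QuotientGroup.mk k) = QuotientGroup.mk (cAut Q g.1 (mem_inf.mp g.2).1 k) :=
  QuotientGroup.congr_mk _ _ _
    (cAut_map_sub Q Z g.1 (mem_inf.mp g.2).1 (mem_inf.mp g.2).2) k

end Quot

end Cfsg.Agent.Helper64.PQ
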