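import Mathlib
import Cfsg.Agent.Helper52.PQDefs
import Cfsg.Agent.Helper64.PQE2b

set_option autoImplicit false

/-! Piece (E1) of helper52's S4306 plan, part a: an abstract fixed-point lemma for a coprime
automorphism of a finite abelian group, and faithfulness of `⟨b⟩ X` on `W` in the exceptional
configuration. -/

namespace Cfsg.Agent.Helper64.PQ

open Subgroup Cfsg.Agent.Helper1.Shult Cfsg.Agent.Helper52.PQ
open scoped commutatorElement Pointwise

section AbstractFix

variable {M : Type*} [Group M] [Finite M]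

/-- In a finite abelian group with a coprime automorphism `β`, an element of `[M, ⟨β⟩]` fixed by
`β` is trivial. -/
theorem fixed_eq_one_of_mem_closure (hcomm : ∀ a b : M, a * b = b * a)
    (β : MulAut M) (hcop : (Nat.card M).Coprime (orderOf β)) (m : M)
    (hm : m ∈ closure {x : M | ∃ γ ∈ zpowers β, ∃ m' : M, x = m' * (γ m')⁻¹})
    (hfix : β m = m) : m = 1 := by
  letI : CommGroup M := { (inferInstance : Group M) with mul_comm := hcomm }
  have hker : closure {x : M | ∃ γ ∈ zpowers β, ∃ m' : M, x = m' * (γ m')⁻¹} ≤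
      (normHom (zpowers β)).ker := by
    rw [closure_le]
    rintro x ⟨γ, hγ, m', rfl⟩
    rw [SetLike.mem_coe, MonoidHom.mem_ker, map_mul, map_inv, normHom_smul _ γ hγ,
      mul_inv_cancel]
  have h1 : normHom (zpowers β) m = 1 := hker hm
  have hall : ∀ γ ∈ zpowers β, γ m = m := by
    intro γ hγ
    obtain ⟨k, rfl⟩ := mem_zpowers_iff.mp hγ
    have hstab : β ∈ MulAction.stabilizer (MulAut M) m := by
      rw [MulAction.mem_stabilizer_iff]
      exact hfix
    have := (MulAction.stabilizer (MulAut M) m).zpow_mem hstab k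
    rw [MulAction.mem_stabilizer_iff] at this
    exact this
  rw [normHom_of_fixed _ m hall, Nat.card_zpowers] at h1
  have h2 : m ^ Nat.card M = 1 := pow_card_eq_one'
  have h3 : m ^ Nat.gcd (Nat.card M) (orderOf β) = 1 := pow_gcd_eq_one.mpr ⟨h2, h1⟩
  rw [Nat.Coprime.gcd_eq_one hcop, pow_one] at h3
  exact h3

end AbstractFix

section Small

variable {H : Type*} [Group H]

theorem centralizer_zpowers_eq (b : H) :
    centralizer ((zpowers b : Subgroup H) : Set H) = centralizer {b} := by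
  apply le_antisymm
  · apply centralizer_le
    intro x hx
    rw [Set.mem_singleton_iff] at hx
    rw [hx]; exact mem_zpowers b
  · intro g hg
    rw [mem_centralizer_iff] at hg ⊢
    intro c hc
    obtain ⟨k, rfl⟩ := mem_zpowers_iff.mp hc
    have h1 : Commute b g := hg b (Set.mem_singleton b)
    exact (h1.zpow_left k)

theorem conj_mem_centralizer_of_mem_normalizer (W : Subgroup H) (c y : H)
    (hc : c ∈ normalizer (W : Set H)) (hy : y ∈ centralizer (W : Set H)) :
    c * y * c⁻¹ ∈ centralizer (W : Set H) := by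
  rw [mem_centralizer_iff] at hy ⊢
  intro w hw
  have hw' : c⁻¹ * w * c ∈ W := by
    have := (mem_normalizer_iff.mp ((normalizer (W : Set H)).inv_mem hc) w).mp hw
    simpa using this
  have h1 := hy _ hw'
  calc w * (c * y * c⁻¹) = c * ((c⁻¹ * w * c) * y) * c⁻¹ := by group
    _ = c * (y * (c⁻¹ * w * c)) * c⁻¹ := by rw [h1]
    _ = c * y * c⁻¹ * w := by group

end Small

section Faith

variable {H : Type*} [Group H] [Finite H] {ℓ u t : ℕ} {b : H} {W Q Z R : Subgroup H}

theorem W_ne_bot (e : ECfg ℓ u t b W Q Z R) : W ≠ ⊥ := by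
  intro hW
  obtain ⟨g, hg, hgb⟩ := e.hbad
  have h1 : g ∈ Q ⊓ centralizer (W : Set H) := by
    refine mem_inf.mpr ⟨hg, ?_⟩
    rw [hW, mem_centralizer_iff]
    intro w hw
    rw [SetLike.mem_coe, mem_bot] at hw
    rw [hw, one_mul, mul_one]
  rw [e.hfaith, mem_bot] at h1
  apply hgb
  rw [h1]; group

theorem b_not_mem_centralizer_W (e : ECfg ℓ u t b W Q Z R) :
    b ∉ centralizer (W : Set H) := by
  intro hb
  apply W_ne_bot e
  rw [eq_bot_iff]
  intro w hw
  rw [← e.hfix]
  refine mem_inf.mpr ⟨hw, ?_⟩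
  rw [mem_centralizer_iff] at hb ⊢
  intro y hy
  rw [Set.mem_singleton_iff] at hy
  rw [hy]
  exact (hb w hw).symm

/-- a subgroup of `⟨b⟩` (of prime order) is trivial or contains `b` -/
theorem zpowers_inf_eq_bot_of_not_mem (e : ECfg ℓ u t b W Q Z R) (K : Subgroup H)
    (hb : b ∉ K) : zpowers b ⊓ K = ⊥ := by
  have hcard : Nat.card ↥(zpowers b) = t := by rw [Nat.card_zpowers, e.ob]
  have hdvd : Nat.card ↥(zpowers b ⊓ K) ∣ t := by
    rw [← hcard]
    exact card_dvd_of_le inf_le_left
  rcases (Nat.dvd_prime e.ht).mp hdvd with h1 | h1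
  · exact card_eq_one.mp h1
  · exfalso
    apply hb
    have h2 : zpowers b ⊓ K = zpowers b := by
      apply eq_of_le_of_card_ge inf_le_left
      rw [h1, hcard]
    have h3 : b ∈ zpowers b ⊓ K := by rw [h2]; exact mem_zpowers b
    exact (mem_inf.mp h3).2

/-- **Faithfulness**: for a `b`-invariant `X ≤ Q` the group `⟨b⟩ X` acts faithfully on `W`. -/
theorem faithful_of_invariant (e : ECfg ℓ u t b W Q Z R) (X : Subgroup H) (hXQ : X ≤ Q)
    (hbX : b ∈ normalizer (X : Set H)) :
    (zpowers b ⊔ X) ⊓ centralizer (W : Set H) = ⊥ := by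
  rw [eq_bot_iff]
  intro k hk
  obtain ⟨hk1, hk2⟩ := mem_inf.mp hk
  have hBX : zpowers b ≤ normalizer (X : Set H) := by
    rw [zpowers_le]; exact hbX
  have hmul : ((zpowers b ⊔ X : Subgroup H) : Set H) = (zpowers b : Set H) * (X : Set H) :=
    coe_mul_of_left_le_normalizer_right (zpowers b) X hBX
  have hk1' : k ∈ ((zpowers b ⊔ X : Subgroup H) : Set H) := hk1
  rw [hmul] at hk1'
  obtain ⟨c, hc, x, hx, rfl⟩ := Set.mem_mul.mp hk1'
  have hc : c ∈ zpowers b := hc
  have hx : x ∈ X := hx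
  have hcW : c ∈ normalizer (W : Set H) := by
    have : zpowers b ≤ normalizer (W : Set H) := by rw [zpowers_le]; exact e.hbW
    exact this hc
  -- `c ^ m * x ^ m` centralizes `W`
  have hind : ∀ m : ℕ, c ^ m * x ^ m ∈ centralizer (W : Set H) := by
    intro m
    induction m with
    | zero => simp
    | succ m ih =>
      have h1 : c ^ (m + 1) * x ^ (m + 1) = c * (c ^ m * x ^ m) * c⁻¹ * (c * x) := by
        rw [pow_succ' c, pow_succ x]; group
      rw [h1]
      exact (centralizer (W : Set H)).mul_mem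
        (conj_mem_centralizer_of_mem_normalizer W c _ hcW ih) hk2
  have hct : c ^ t = 1 := by
    obtain ⟨j, rfl⟩ := mem_zpowers_iff.mp hc
    rw [← zpow_natCast, ← zpow_mul, mul_comm, zpow_mul, zpow_natCast, ← e.ob, pow_orderOf_eq_one,
      one_zpow]
  have hxt : x ^ t = 1 := by
    have h1 := hind t
    rw [hct, one_mul] at h1
    have h2 : x ^ t ∈ Q ⊓ centralizer (W : Set H) :=
      mem_inf.mpr ⟨Q.pow_mem (hXQ hx) t, h1⟩
    rw [e.hfaith, mem_bot] at h2
    exact h2
  have hx1 : x = 1 := by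
    obtain ⟨a, ha⟩ := e.hQ ⟨x, hXQ hx⟩
    have ha' : x ^ (2 ^ a) = 1 := by
      have := congrArg Subtype.val ha
      simpa using this
    have h3 : x ^ Nat.gcd t (2 ^ a) = 1 := pow_gcd_eq_one.mpr ⟨hxt, ha'⟩
    have hcop : Nat.Coprime t (2 ^ a) :=
      Nat.Coprime.pow_right _ ((Nat.coprime_primes e.ht Nat.prime_two).mpr e.ht2)
    rw [Nat.Coprime.gcd_eq_one hcop, pow_one] at h3
    exact h3
  rw [hx1, mul_one] at hk2 ⊢
  have h4 : c ∈ zpowers b ⊓ centralizer (W : Set H) := mem_inf.mpr ⟨hc, hk2⟩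
  rw [zpowers_inf_eq_bot_of_not_mem e _ (b_not_mem_centralizer_W e)] at h4
  exact h4

end Faith

end Cfsg.Agent.Helper64.PQ
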