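import Mathlib
import Cfsg.Agent.Helper52.PQDefs
import Cfsg.Agent.Helper64.PQE2b
import Cfsg.Agent.Helper11.PQE2c

set_option autoImplicit false

/-! Piece (E2) `lemmaE2` of helper52's S4306 plan: in the exceptional configuration with
`P = [Q, b]` extraspecial of order `2 ^ (2 n + 1)`, `t = 2 ^ n + 1`, the commutators `[x, b]`,
`x ∈ R`, centralize `Q`. -/

namespace Cfsg.Agent.Helper64.PQ

open Subgroup Cfsg.Agent.Helper1.Shult Cfsg.Agent.Helper52.PQ
open scoped commutatorElement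

section General

/-- counting along a homomorphism restricted to a subgroup -/
theorem card_eq_inf_ker_mul_map {G G' : Type*} [Group G] [Group G'] (f : G →* G')
    (K : Subgroup G) :
    Nat.card K = Nat.card ↥(K ⊓ f.ker) * Nat.card ↥(K.map f) := by
  have h1 := Subgroup.card_eq_card_quotient_mul_card_subgroup (f.domRestrict K).ker
  have h2 : Nat.card (↥K ⧸ (f.domRestrict K).ker) = Nat.card ↥(K.map f) := by
    rw [← MonoidHom.domRestrict_range]
    exact Nat.card_congr (QuotientGroup.quotientKerEquivRange (f.domRestrict K)).toEquiv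
  have h3 : Nat.card ↥(f.domRestrict K).ker = Nat.card ↥(K ⊓ f.ker) := by
    rw [MonoidHom.ker_domRestrict, ← inf_subgroupOf_right, inf_comm]
    exact Nat.card_congr (subgroupOfEquivOfLe inf_le_left).toEquiv
  rw [h1, h2, h3, mul_comm]

/-- the numeric heart: `c ≥ 2`, `c ^ (2 ^ n) ≤ 2 ^ (2 n)` forces `c = 2` and `2 ^ n = 2 n`. -/
theorem numeric_core (c n : ℕ) (hc : 2 ≤ c) (h : c ^ (2 ^ n) ≤ 2 ^ (2 * n)) :
    c = 2 ∧ 2 ^ n = 2 * n := by
  have h1 : 2 ^ (2 ^ n) ≤ 2 ^ (2 * n) := le_trans (Nat.pow_le_pow_left hc _) h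
  have h2 : 2 ^ n ≤ 2 * n := (Nat.pow_le_pow_iff_right (le_refl 2)).mp h1
  have h3 : n ≤ 2 := by
    by_contra hcon
    push Not at hcon
    have : ∀ k, 3 ≤ k → 2 * k < 2 ^ k := by
      intro k hk
      induction k, hk using Nat.le_induction with
      | base => norm_num
      | succ k hk ih => rw [pow_succ]; omega
    have := this n hcon
    omega
  interval_cases n
  · norm_num at h2
  · refine ⟨?_, by norm_num⟩
    have : c ^ 2 ≤ 4 := by simpa using h
    nlinarith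
  · refine ⟨?_, by norm_num⟩
    have h4 : c ^ 4 ≤ 16 := by simpa using h
    by_contra hne
    have h3 : 3 ≤ c := by omega
    have : 3 ^ 4 ≤ c ^ 4 := Nat.pow_le_pow_left h3 4
    omega

end General

section Core

variable {M : Type*} [Group M] [Finite M]

/-- **Abstract core of (E2).**  In the free-module situation the image of `β - 1` has order
`c ^ (t - 1)`; if it lies in a subgroup of order `2 ^ (2 n)` with `t = 2 ^ n + 1` then it equals
that subgroup, and we get an invariant overgroup of index two. -/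
theorem core_abstract (hcomm : ∀ a b : M, a * b = b * a)
    (Rb : Subgroup (MulAut M)) (β : MulAut M) {t n : ℕ} (ht : t.Prime) (hn : t = 2 ^ n + 1)
    (hβ : orderOf β = t) (hRab : ∀ x ∈ Rb, ∀ y ∈ Rb, x * y = y * x)
    (hβR : β ∈ normalizer (Rb : Set (MulAut M)))
    (hcopR : (Nat.card Rb).Coprime t) (hcopMR : (Nat.card M).Coprime (Nat.card Rb))
    (hcopMt : (Nat.card M).Coprime t)
    (hne : ∃ x ∈ Rb, β * x * β⁻¹ ≠ x)
    (Pb : Subgroup M) (hPb : ∀ m, β m * m⁻¹ ∈ Pb) (hPbcard : Nat.card Pb = 2 ^ (2 * n)) :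
    ∃ N : Subgroup M, (∀ x ∈ Rb, ∀ m ∈ N, x m ∈ N) ∧ Pb ≤ N ∧ Nat.card N = 2 ^ (2 * n + 1) := by
  letI : CommGroup M := { (inferInstance : Group M) with mul_comm := hcomm }
  obtain ⟨N, hN1, hNR, hNβ, hNcard⟩ :=
    exists_free_submodule (M := M) Rb β ht hβ hRab hβR hcopR hcopMR hcopMt hne
  refine ⟨N, hNR, ?_⟩
  -- the map δ = β - 1
  let δ : M →* M := MonoidHom.mk' (fun m => β m * m⁻¹) (by
    intro a b
    rw [map_mul, mul_inv]
    rw [mul_mul_mul_comm])
  have hδ : ∀ m, δ m = β m * m⁻¹ := fun m => rfl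
  have hker : δ.ker = fixB β := by
    ext m
    rw [MonoidHom.mem_ker, hδ, mem_fixB, mul_inv_eq_one]
  have hcount := card_eq_inf_ker_mul_map δ N
  rw [hker] at hcount
  have hmapN : N.map δ ≤ N := by
    rintro _ ⟨m, hm, rfl⟩
    rw [hδ]
    exact N.mul_mem (hNβ m hm) (N.inv_mem hm)
  have hmapP : N.map δ ≤ Pb := by
    rintro _ ⟨m, hm, rfl⟩
    rw [hδ]
    exact hPb m
  have hrle : Nat.card ↥(N.map δ) ≤ 2 ^ (2 * n) := by
    rw [← hPbcard]
    exact Nat.le_of_dvd Nat.card_pos (Subgroup.card_dvd_of_le hmapP)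
  obtain ⟨c, hc⟩ : ∃ c, c = Nat.card ↥(N ⊓ fixB β) := ⟨_, rfl⟩
  obtain ⟨r, hr⟩ : ∃ r, r = Nat.card ↥(N.map δ) := ⟨_, rfl⟩
  rw [← hc] at hcount hNcard
  rw [← hr] at hcount hrle
  have hcpos : 0 < c := by rw [hc]; exact Nat.card_pos
  have hc2 : 2 ≤ c := by
    by_contra hlt
    have hc1 : c = 1 := by omega
    rw [hc1, one_pow] at hNcard
    exact hN1 ((Subgroup.card_eq_one).mp hNcard)
  have hreq : r = c ^ (2 ^ n) := by
    have h1 : c * r = c * c ^ (2 ^ n) := by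
      rw [← hcount, hNcard, hn, pow_succ, mul_comm]
    exact Nat.eq_of_mul_eq_mul_left hcpos h1
  have hnum := numeric_core c n hc2 (by rw [← hreq]; exact hrle)
  have hr2 : r = 2 ^ (2 * n) := by rw [hreq, hnum.1, hnum.2]
  have hmapeq : N.map δ = Pb := by
    apply Subgroup.eq_of_le_of_card_ge hmapP
    rw [hPbcard, ← hr, hr2]
  refine ⟨?_, ?_⟩
  · rw [← hmapeq]; exact hmapN
  · rw [hcount, hnum.1, hr2, pow_succ, mul_comm]

end Core

section Transport

variable {H : Type*} [Group H] (Q Z : Subgroup H)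

theorem normal_subgroupOf_of_le_centralizer (hZc : Z ≤ centralizer (Q : Set H)) :
    (Z.subgroupOf Q).Normal := by
  constructor
  intro n hn g
  rw [mem_subgroupOf] at hn ⊢
  have h1 : (g : H) * (n : H) = (n : H) * (g : H) := ((mem_centralizer_iff.mp (hZc hn)) g g.2)
  have h2 : ((g * n * g⁻¹ : ↥Q) : H) = (n : H) := by
    push_cast
    rw [h1, mul_assoc, mul_inv_cancel, mul_one]
  rw [h2]; exact hn

/-- elements centralizing `Q` act trivially on `Q / Z` -/
theorem qAct_eq_one_of_mem_centralizer [(Z.subgroupOf Q).Normal]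
    (g : ↥(normalizer (Q : Set H) ⊓ normalizer (Z : Set H)))
    (hg : (g : H) ∈ centralizer (Q : Set H)) : qAct Q Z g = 1 := by
  ext m
  induction m using QuotientGroup.induction_on with
  | H k =>
    rw [qAct_mk, MulAut.one_apply]
    congr 1
    apply Subtype.ext
    rw [cAut_coe]
    have h1 : (k : H) * (g : H) = (g : H) * (k : H) := (mem_centralizer_iff.mp hg) k k.2
    rw [← h1, mul_assoc, mul_inv_cancel, mul_one]

/-- an element of odd order which centralizes `Z` (of order two) and acts trivially on `Q / Z`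
centralizes `Q`. -/
theorem mem_centralizer_of_qAct_eq_one [(Z.subgroupOf Q).Normal] (hZcard : Nat.card Z = 2)
    (g : ↥(normalizer (Q : Set H) ⊓ normalizer (Z : Set H)))
    (hgZ : (g : H) ∈ centralizer (Z : Set H)) (hodd : Odd (orderOf (g : H)))
    (h1 : qAct Q Z g = 1) : (g : H) ∈ centralizer (Q : Set H) := by
  have hsq : (g : H) ^ 2 ∈ centralizer (Q : Set H) := by
    rw [mem_centralizer_iff]
    intro q hq
    have h2 := qAct_mk Q Z g ⟨q, hq⟩
    rw [h1, MulAut.one_apply] at h2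
    have h3 := QuotientGroup.eq.mp h2
    rw [mem_subgroupOf] at h3
    have h4 : q⁻¹ * ((g : H) * q * (g : H)⁻¹) ∈ Z := by simpa using h3
    obtain ⟨z, hz⟩ : ∃ z, z = q⁻¹ * ((g : H) * q * (g : H)⁻¹) := ⟨_, rfl⟩
    rw [← hz] at h4
    have hC : z * z = 1 := by
      have h5 := pow_card_eq_one' (G := ↥Z) (x := ⟨z, h4⟩)
      rw [hZcard] at h5
      have h6 := congrArg Subtype.val h5
      simpa [pow_two] using h6
    have hB : (g : H) * z = z * (g : H) := ((mem_centralizer_iff.mp hgZ) z h4).symm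
    have hA : (g : H) * q = q * z * (g : H) := by
      rw [hz]; group
    symm
    calc (g : H) ^ 2 * q = (g : H) * ((g : H) * q) := by rw [pow_two, mul_assoc]
      _ = (g : H) * (q * z * (g : H)) := by rw [hA]
      _ = ((g : H) * q) * (z * (g : H)) := by simp only [mul_assoc]
      _ = (q * z * (g : H)) * (z * (g : H)) := by rw [hA]
      _ = q * z * ((g : H) * z) * (g : H) := by simp only [mul_assoc]
      _ = q * z * (z * (g : H)) * (g : H) := by rw [hB]
      _ = q * (z * z) * ((g : H) * (g : H)) := by simp only [mul_assoc]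
      _ = q * (g : H) ^ 2 := by rw [hC, mul_one, pow_two]
  obtain ⟨k, hk⟩ := hodd
  have h7 : (g : H) = ((g : H) ^ 2) ^ (k + 1) := by
    rw [← pow_mul]
    have : 2 * (k + 1) = orderOf (g : H) + 1 := by omega
    rw [this, pow_succ, pow_orderOf_eq_one, one_mul]
  rw [h7]
  exact Subgroup.pow_mem _ hsq _

end Transport

section Assembly

variable {H : Type*} [Group H] [Finite H]

set_option maxHeartbeats 1600000 in
/-- **(E2)**: with `P = [Q, b]` extraspecial of order `2 ^ (2 n + 1)`, `t = 2 ^ n + 1`, every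
commutator `[x, b]`, `x ∈ R`, centralizes `Q`. -/
theorem lemmaE2 {ℓ u t : ℕ} [Fact ℓ.Prime] [Fact u.Prime] {b : H} {W Q Z R : Subgroup H}
    (e : ECfg ℓ u t b W Q Z R) (n : ℕ) (hn : t = 2 ^ n + 1)
    (hcard : Nat.card ↥(⁅Q, zpowers b⁆) = 2 ^ (2 * n + 1))
    (hZP : Z ≤ ⁅Q, zpowers b⁆)
    (hcen : ⁅Q, zpowers b⁆ ⊓ centralizer ((⁅Q, zpowers b⁆ : Subgroup H) : Set H) = Z) :
    ∀ x ∈ R, x⁻¹ * (b * x * b⁻¹) ∈ centralizer (Q : Set H) := by
  classical
  by_contra hcon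
  push Not at hcon
  obtain ⟨x0, hx0R, hx0⟩ := hcon
  haveI hnorm : (Z.subgroupOf Q).Normal := normal_subgroupOf_of_le_centralizer Q Z e.hZc
  haveI htF : Fact t.Prime := ⟨e.ht⟩
  have hu : u.Prime := Fact.out
  have hbΓ : b ∈ normalizer (Q : Set H) ⊓ normalizer (Z : Set H) := mem_inf.mpr ⟨e.hbQ, e.hbZ⟩
  have hRΓ : R ≤ normalizer (Q : Set H) ⊓ normalizer (Z : Set H) :=
    le_inf e.hRQ (le_trans e.hRZ (centralizer_le_normalizer _))
  -- `P ≤ Q`
  have hPQ : ⁅Q, zpowers b⁆ ≤ Q := by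
    rw [Subgroup.commutator_le]
    intro q hq c hc
    have hcN : c ∈ normalizer (Q : Set H) := by
      obtain ⟨k, rfl⟩ := mem_zpowers_iff.mp hc
      exact Subgroup.zpow_mem _ e.hbQ k
    rw [commutatorElement_def]
    have h1 : c * q⁻¹ * c⁻¹ ∈ Q := (mem_normalizer_iff.mp hcN _).mp (Q.inv_mem hq)
    have h2 : q * c * q⁻¹ * c⁻¹ = q * (c * q⁻¹ * c⁻¹) := by group
    rw [h2]; exact Q.mul_mem hq h1
  -- the action on `Q / Z`
  have hψmk : ∀ (g : H) (hg : g ∈ normalizer (Q : Set H) ⊓ normalizer (Z : Set H)) (q : H)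
      (hq : q ∈ Q) (hq' : g * q * g⁻¹ ∈ Q),
      qAct Q Z ⟨g, hg⟩ (QuotientGroup.mk ⟨q, hq⟩) = QuotientGroup.mk ⟨g * q * g⁻¹, hq'⟩ := by
    intro g hg q hq hq'
    rw [qAct_mk]
    rfl
  have hcommM : ∀ a c : ↥Q ⧸ Z.subgroupOf Q, a * c = c * a :=
    (qComm Q Z e.hQcomm).mul_comm
  -- oddness of elements of `R`
  have hoddR : ∀ y ∈ R, Odd (orderOf y) := by
    intro y hy
    obtain ⟨k, hk⟩ := e.hR ⟨y, hy⟩
    have hk' : y ^ (u ^ k) = 1 := by
      have := congrArg Subtype.val hk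
      simpa using this
    have hdvd : orderOf y ∣ u ^ k := orderOf_dvd_of_pow_eq_one hk'
    exact Odd.of_dvd_nat ((hu.odd_of_ne_two e.hu2).pow) hdvd
  -- membership in `R̄`
  have hRbmem : ∀ r (hr : r ∈ R), qAct Q Z ⟨r, hRΓ hr⟩ ∈
      (R.subgroupOf (normalizer (Q : Set H) ⊓ normalizer (Z : Set H))).map (qAct Q Z) :=
    fun r hr => Subgroup.mem_map_of_mem _ (by rw [mem_subgroupOf]; exact hr)
  -- (1) `R̄` is abelian
  have hRab : ∀ x ∈ (R.subgroupOf (normalizer (Q : Set H) ⊓ normalizer (Z : Set H))).map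
      (qAct Q Z), ∀ y ∈ (R.subgroupOf (normalizer (Q : Set H) ⊓ normalizer (Z : Set H))).map
      (qAct Q Z), x * y = y * x := by
    rintro _ ⟨g1, hg1, rfl⟩ _ ⟨g2, hg2, rfl⟩
    rw [SetLike.mem_coe, mem_subgroupOf] at hg1 hg2
    have h1 : qAct Q Z (g1 * g2 * g1⁻¹ * g2⁻¹) = 1 := by
      apply qAct_eq_one_of_mem_centralizer
      have := e.hRcomm _ hg1 _ hg2
      simpa using this
    have h2 : g1 * g2 = (g1 * g2 * g1⁻¹ * g2⁻¹) * (g2 * g1) := by group
    rw [← map_mul, h2, map_mul, h1, one_mul, map_mul]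
  -- (2) `β` normalizes `R̄`
  have hβR : qAct Q Z ⟨b, hbΓ⟩ ∈ normalizer
      (((R.subgroupOf (normalizer (Q : Set H) ⊓ normalizer (Z : Set H))).map (qAct Q Z) :
        Subgroup (MulAut (↥Q ⧸ Z.subgroupOf Q))) : Set (MulAut (↥Q ⧸ Z.subgroupOf Q))) := by
    apply Subgroup.le_normalizer_map
    refine Subgroup.mem_map_of_mem _ ?_
    rw [mem_normalizer_iff]
    intro h
    rw [mem_subgroupOf, mem_subgroupOf]
    have := mem_normalizer_iff.mp e.hbR (h : H)
    simpa using this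
  -- (3) coprimality
  obtain ⟨kM, hkM⟩ := (IsPGroup.iff_card (p := 2)).mp (e.hQ.to_quotient (Z.subgroupOf Q))
  have hRbp : IsPGroup u ↥((R.subgroupOf (normalizer (Q : Set H) ⊓ normalizer (Z : Set H))).map
      (qAct Q Z)) := (e.hR.comap_subtype).map _
  obtain ⟨kR, hkR⟩ := (IsPGroup.iff_card (p := u)).mp hRbp
  have hcopR : (Nat.card ↥((R.subgroupOf (normalizer (Q : Set H) ⊓ normalizer (Z : Set H))).map
      (qAct Q Z))).Coprime t := by
    rw [hkR]
    exact Nat.Coprime.pow_left _ ((Nat.coprime_primes hu e.ht).mpr e.hut)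
  have hcopMR : (Nat.card (↥Q ⧸ Z.subgroupOf Q)).Coprime
      (Nat.card ↥((R.subgroupOf (normalizer (Q : Set H) ⊓ normalizer (Z : Set H))).map
      (qAct Q Z))) := by
    rw [hkR, hkM]
    exact Nat.Coprime.pow _ _ ((Nat.coprime_primes Nat.prime_two hu).mpr (Ne.symm e.hu2))
  have hcopMt : (Nat.card (↥Q ⧸ Z.subgroupOf Q)).Coprime t := by
    rw [hkM]
    exact Nat.Coprime.pow_left _ ((Nat.coprime_primes Nat.prime_two e.ht).mpr (Ne.symm e.ht2))
  -- (4) `β` does not centralize `R̄`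
  have hne : ∃ x ∈ (R.subgroupOf (normalizer (Q : Set H) ⊓ normalizer (Z : Set H))).map
      (qAct Q Z), qAct Q Z ⟨b, hbΓ⟩ * x * (qAct Q Z ⟨b, hbΓ⟩)⁻¹ ≠ x := by
    refine ⟨qAct Q Z ⟨x0, hRΓ hx0R⟩, hRbmem x0 hx0R, ?_⟩
    intro heq
    apply hx0
    have hyR : x0⁻¹ * (b * x0 * b⁻¹) ∈ R :=
      R.mul_mem (R.inv_mem hx0R) ((mem_normalizer_iff.mp e.hbR x0).mp hx0R)
    have h1 : qAct Q Z ⟨x0⁻¹ * (b * x0 * b⁻¹), hRΓ hyR⟩ = 1 := by
      have h2 : (⟨x0⁻¹ * (b * x0 * b⁻¹), hRΓ hyR⟩ :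
          ↥(normalizer (Q : Set H) ⊓ normalizer (Z : Set H))) =
          (⟨x0, hRΓ hx0R⟩)⁻¹ * (⟨b, hbΓ⟩ * ⟨x0, hRΓ hx0R⟩ * (⟨b, hbΓ⟩)⁻¹) := by
        apply Subtype.ext; simp
      rw [h2, map_mul, map_inv, map_mul, map_mul, map_inv, heq, inv_mul_cancel]
    exact mem_centralizer_of_qAct_eq_one Q Z e.hZcard ⟨_, hRΓ hyR⟩ (e.hRZ hyR)
      (hoddR _ hyR) h1
  -- (5) `β` has order `t`
  have hβ : orderOf (qAct Q Z ⟨b, hbΓ⟩) = t := by
    apply orderOf_eq_prime
    · rw [← map_pow]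
      have : (⟨b, hbΓ⟩ : ↥(normalizer (Q : Set H) ⊓ normalizer (Z : Set H))) ^ t = 1 := by
        apply Subtype.ext
        have h1 := pow_orderOf_eq_one b
        rw [e.ob] at h1
        simpa using h1
      rw [this, map_one]
    · intro h1
      obtain ⟨x, -, hx⟩ := hne
      apply hx
      rw [h1, one_mul, inv_one, mul_one]
  -- the image of `P` in `Q / Z`
  have hZqP : Z.subgroupOf Q ≤ (⁅Q, zpowers b⁆).subgroupOf Q := by
    intro k hk
    rw [mem_subgroupOf] at hk ⊢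
    exact hZP hk
  have hZqcard : Nat.card ↥(Z.subgroupOf Q) = 2 := by
    rw [← e.hZcard]
    exact Nat.card_congr (subgroupOfEquivOfLe e.hZQ).toEquiv
  have hPbcard : Nat.card ↥(((⁅Q, zpowers b⁆).subgroupOf Q).map
      (QuotientGroup.mk' (Z.subgroupOf Q))) = 2 ^ (2 * n) := by
    have h1 := card_eq_inf_ker_mul_map (QuotientGroup.mk' (Z.subgroupOf Q))
      ((⁅Q, zpowers b⁆).subgroupOf Q)
    rw [QuotientGroup.ker_mk', inf_eq_right.mpr hZqP, hZqcard] at h1
    have h2 : Nat.card ↥((⁅Q, zpowers b⁆).subgroupOf Q) = 2 ^ (2 * n + 1) := by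
      rw [← hcard]
      exact Nat.card_congr (subgroupOfEquivOfLe hPQ).toEquiv
    rw [h2, pow_succ, mul_comm] at h1
    exact (Nat.eq_of_mul_eq_mul_left (by norm_num) h1).symm
  have hPb : ∀ m : ↥Q ⧸ Z.subgroupOf Q, qAct Q Z ⟨b, hbΓ⟩ m * m⁻¹ ∈
      ((⁅Q, zpowers b⁆).subgroupOf Q).map (QuotientGroup.mk' (Z.subgroupOf Q)) := by
    intro m
    induction m using QuotientGroup.induction_on with
    | H k =>
      have hk' : b * (k : H) * b⁻¹ ∈ Q := (mem_normalizer_iff.mp e.hbQ _).mp k.2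
      have h1 := hψmk b hbΓ (k : H) k.2 hk'
      have h2 : (⟨(k : H), k.2⟩ : ↥Q) = k := rfl
      rw [h2] at h1
      rw [h1, ← QuotientGroup.mk_inv, ← QuotientGroup.mk_mul]
      refine Subgroup.mem_map_of_mem _ ?_
      rw [mem_subgroupOf]
      have h3 : ((⟨b * (k : H) * b⁻¹, hk'⟩ * k⁻¹ : ↥Q) : H) = ⁅b, (k : H)⁆ := by
        rw [commutatorElement_def]; simp
      rw [h3, Subgroup.commutator_comm]
      exact Subgroup.commutator_mem_commutator (mem_zpowers b) k.2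
  -- the abstract core
  obtain ⟨N, hNR, hPN, hNcard⟩ := core_abstract hcommM
    ((R.subgroupOf (normalizer (Q : Set H) ⊓ normalizer (Z : Set H))).map (qAct Q Z))
    (qAct Q Z ⟨b, hbΓ⟩) e.ht hn hβ hRab hβR hcopR hcopMR hcopMt hne _ hPb hPbcard
  -- the overgroup `T`
  have hTmem : ∀ h : H, h ∈ (N.comap (QuotientGroup.mk' (Z.subgroupOf Q))).map Q.subtype ↔
      ∃ hq : h ∈ Q, (QuotientGroup.mk ⟨h, hq⟩ : ↥Q ⧸ Z.subgroupOf Q) ∈ N := by
    intro h
    constructor
    · rintro ⟨k, hk, rfl⟩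
      exact ⟨k.2, hk⟩
    · rintro ⟨hq, hk⟩
      exact ⟨⟨h, hq⟩, hk, rfl⟩
  have hPT : ⁅Q, zpowers b⁆ ≤ (N.comap (QuotientGroup.mk' (Z.subgroupOf Q))).map Q.subtype := by
    intro p hp
    rw [hTmem]
    refine ⟨hPQ hp, hPN ?_⟩
    exact Subgroup.mem_map_of_mem _ (by rw [mem_subgroupOf]; exact hp)
  have hTQ : (N.comap (QuotientGroup.mk' (Z.subgroupOf Q))).map Q.subtype ≤ Q :=
    map_subtype_le _
  have hcardT : Nat.card ↥((N.comap (QuotientGroup.mk' (Z.subgroupOf Q))).map Q.subtype) =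
      2 * Nat.card ↥(⁅Q, zpowers b⁆) := by
    rw [Subgroup.card_subtype, hcard]
    have h1 := card_eq_inf_ker_mul_map (QuotientGroup.mk' (Z.subgroupOf Q))
      (N.comap (QuotientGroup.mk' (Z.subgroupOf Q)))
    rw [Subgroup.map_comap_eq_self_of_surjective (QuotientGroup.mk'_surjective _),
      inf_eq_right.mpr (MonoidHom.ker_le_comap _ _), QuotientGroup.ker_mk', hZqcard, hNcard] at h1
    exact h1
  have hstep : ∀ r ∈ R, ∀ h ∈ (N.comap (QuotientGroup.mk' (Z.subgroupOf Q))).map Q.subtype,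
      r * h * r⁻¹ ∈ (N.comap (QuotientGroup.mk' (Z.subgroupOf Q))).map Q.subtype := by
    intro r hr h hh
    rw [hTmem] at hh ⊢
    obtain ⟨hq, hk⟩ := hh
    have hq' : r * h * r⁻¹ ∈ Q := (mem_normalizer_iff.mp (e.hRQ hr) _).mp hq
    refine ⟨hq', ?_⟩
    rw [← hψmk r (hRΓ hr) h hq hq']
    exact hNR _ (hRbmem r hr) _ hk
  have hRT : R ≤ normalizer
      (((N.comap (QuotientGroup.mk' (Z.subgroupOf Q))).map Q.subtype : Subgroup H) : Set H) := by
    intro r hr
    rw [mem_normalizer_iff]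
    intro h
    constructor
    · exact hstep r hr h
    · intro hh
      have := hstep r⁻¹ (R.inv_mem hr) _ hh
      simpa [mul_assoc] using this
  exact Cfsg.Agent.Helper11.PQE2c.no_index_two_overgroup e _ _ hZP hcen hPT hTQ hcardT hRT

end Assembly

end Cfsg.Agent.Helper64.PQ
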