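import Mathlib
import Cfsg.Agent.Helper52.PQDefs
import Cfsg.Prelude.Def_Transfer
import Cfsg.Agent.Helper64.PQE1a
import Cfsg.Agent.Helper64.PQE2
import Cfsg.Agent.Helper63.SympTypeA
import Cfsg.Agent.S3765
import Cfsg.Agent.S3764

set_option autoImplicit false

/-! Piece (E1) `lemmaE1` of helper52's S4306 plan: in the exceptional configuration
`P = [Q, b]` is extraspecial with centre `Z = C_P(b)`, `t = 2 ^ n + 1` and `|P| = 2 ^ (2 n + 1)`. -/

namespace Cfsg.Agent.Helper64.PQ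

open Subgroup Cfsg.Agent.Helper1.Shult Cfsg.Agent.Helper52.PQ
open scoped commutatorElement

section E1

variable {H : Type*} [Group H] [Finite H] {ℓ u t : ℕ} {b : H} {W Q Z R : Subgroup H}

theorem comm_le_Q (e : ECfg ℓ u t b W Q Z R) : ⁅Q, zpowers b⁆ ≤ Q := by
  rw [Subgroup.commutator_le]
  intro q hq c hc
  have hcN : c ∈ normalizer (Q : Set H) := by
    obtain ⟨k, rfl⟩ := mem_zpowers_iff.mp hc
    exact Subgroup.zpow_mem _ e.hbQ k
  rw [commutatorElement_def]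
  have h1 : c * q⁻¹ * c⁻¹ ∈ Q := (mem_normalizer_iff.mp hcN _).mp (Q.inv_mem hq)
  have h2 : q * c * q⁻¹ * c⁻¹ = q * (c * q⁻¹ * c⁻¹) := by group
  rw [h2]; exact Q.mul_mem hq h1

theorem b_mem_normalizer_P (e : ECfg ℓ u t b W Q Z R) :
    b ∈ normalizer ((⁅Q, zpowers b⁆ : Subgroup H) : Set H) := by
  apply mem_normalizer_of_map_conj_eq
  rw [Subgroup.map_commutator, map_conj_eq_of_mem_normalizer Q b e.hbQ,
    map_conj_eq_of_mem_normalizer (zpowers b) b (le_normalizer (mem_zpowers b))]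

theorem b_mem_centralizer_Z (e : ECfg ℓ u t b W Q Z R) : b ∈ centralizer (Z : Set H) := by
  obtain ⟨z0, hz0, huniq⟩ := (Nat.card_eq_two_iff' (1 : ↥Z)).mp e.hZcard
  rw [mem_centralizer_iff]
  intro z hz
  by_cases hz1 : z = 1
  · rw [hz1, one_mul, mul_one]
  · have hbz : b * z * b⁻¹ ∈ Z := (mem_normalizer_iff.mp e.hbZ z).mp hz
    have h1 : (⟨z, hz⟩ : ↥Z) = z0 := huniq _ (fun h => hz1 (congrArg Subtype.val h))
    have h2 : (⟨b * z * b⁻¹, hbz⟩ : ↥Z) = z0 := by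
      apply huniq
      intro h
      apply hz1
      have h3 : b * z * b⁻¹ = 1 := congrArg Subtype.val h
      have h4 : z = b⁻¹ * (b * z * b⁻¹) * b := by group
      rw [h4, h3]; group
    have h5 : b * z * b⁻¹ = z := by
      have := h2.trans h1.symm
      exact congrArg Subtype.val this
    calc z * b = (b * z * b⁻¹) * b := by rw [h5]
      _ = b * z := by group

/-- **(i)** every abelian `b`-invariant subgroup of `Q` is centralized by `b`. -/
theorem abelian_centralized [Fact ℓ.Prime] (e : ECfg ℓ u t b W Q Z R) (X : Subgroup H)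
    (hXQ : X ≤ Q) (hXab : ∀ x ∈ X, ∀ y ∈ X, x * y = y * x)
    (hbX : b ∈ normalizer (X : Set H)) : ∀ x ∈ X, b * x * b⁻¹ = x := by
  by_contra hcon
  push Not at hcon
  obtain ⟨x0, hx0, hx0b⟩ := hcon
  have hℓ : ℓ.Prime := Fact.out
  have hbc : b ∉ centralizer (X : Set H) := by
    intro hb
    apply hx0b
    have := (mem_centralizer_iff.mp hb) x0 hx0
    rw [← this, mul_assoc, mul_inv_cancel, mul_one]
  have hres := Cfsg.Agent.S3765.result (G := H) (p := ℓ) (q := 2) (r := t) hℓ Nat.prime_two e.ht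
    e.hℓ2 e.hℓt (Ne.symm e.ht2) (zpowers b) X W (by rw [Nat.card_zpowers, e.ob])
    (e.hQ.to_le hXQ) (by rw [zpowers_le]; exact hbX)
    (zpowers_inf_eq_bot_of_not_mem e _ hbc)
    ⟨⟨⟨fun a c => Subtype.ext (e.hW.1 a a.2 c c.2)⟩⟩, e.hW.2⟩
    (W_ne_bot e) (by rw [zpowers_le]; exact e.hbW) (hXQ.trans e.hQW)
    (faithful_of_invariant e X hXQ hbX)
    (fun _ _ => ⟨⟨fun a c => Subtype.ext (hXab a a.2 c c.2)⟩⟩)
  apply hres
  rw [centralizer_zpowers_eq, e.hfix]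


set_option maxHeartbeats 800000 in
/-- **(M1)** an element of `P = [Q, b]` fixed by `b` lies in `Z`. -/
theorem mem_Z_of_fixed (e : ECfg ℓ u t b W Q Z R) (g : H) (hg : g ∈ ⁅Q, zpowers b⁆)
    (hbg : b * g * b⁻¹ = g) : g ∈ Z := by
  classical
  haveI hnorm : (Z.subgroupOf Q).Normal := normal_subgroupOf_of_le_centralizer Q Z e.hZc
  have hbΓ : b ∈ normalizer (Q : Set H) ⊓ normalizer (Z : Set H) := mem_inf.mpr ⟨e.hbQ, e.hbZ⟩
  have hPQ := comm_le_Q e
  have hcommM : ∀ a c : ↥Q ⧸ Z.subgroupOf Q, a * c = c * a :=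
    (qComm Q Z e.hQcomm).mul_comm
  have hβt : (qAct Q Z ⟨b, hbΓ⟩) ^ t = 1 := by
    rw [← map_pow]
    have : (⟨b, hbΓ⟩ : ↥(normalizer (Q : Set H) ⊓ normalizer (Z : Set H))) ^ t = 1 := by
      apply Subtype.ext
      have h1 := pow_orderOf_eq_one b
      rw [e.ob] at h1
      simpa using h1
    rw [this, map_one]
  obtain ⟨kM, hkM⟩ := (IsPGroup.iff_card (p := 2)).mp (e.hQ.to_quotient (Z.subgroupOf Q))
  have hcop : (Nat.card (↥Q ⧸ Z.subgroupOf Q)).Coprime (orderOf (qAct Q Z ⟨b, hbΓ⟩)) := by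
    apply Nat.Coprime.coprime_dvd_right (orderOf_dvd_of_pow_eq_one hβt)
    rw [hkM]
    exact Nat.Coprime.pow_left _ ((Nat.coprime_primes Nat.prime_two e.ht).mpr (Ne.symm e.ht2))
  -- `P` maps into `[M, ⟨β⟩]`
  have hPD : ⁅Q, zpowers b⁆ ≤ ((closure {x : ↥Q ⧸ Z.subgroupOf Q |
      ∃ γ ∈ zpowers (qAct Q Z ⟨b, hbΓ⟩), ∃ m' : ↥Q ⧸ Z.subgroupOf Q, x = m' * (γ m')⁻¹}).comap
      (QuotientGroup.mk' (Z.subgroupOf Q))).map Q.subtype := by
    rw [Subgroup.commutator_le]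
    intro q hq c hc
    have hcΓ : c ∈ normalizer (Q : Set H) ⊓ normalizer (Z : Set H) := by
      have : zpowers b ≤ normalizer (Q : Set H) ⊓ normalizer (Z : Set H) := by
        rw [zpowers_le]; exact hbΓ
      exact this hc
    have hcq : c * q * c⁻¹ ∈ Q := (mem_normalizer_iff.mp (mem_inf.mp hcΓ).1 q).mp hq
    have hγ : qAct Q Z ⟨c, hcΓ⟩ ∈ zpowers (qAct Q Z ⟨b, hbΓ⟩) := by
      obtain ⟨j, hj⟩ := mem_zpowers_iff.mp hc
      rw [mem_zpowers_iff]
      refine ⟨j, ?_⟩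
      rw [← map_zpow]
      congr 1
      apply Subtype.ext
      rw [SubgroupClass.coe_zpow]
      exact hj
    refine ⟨⟨q, hq⟩ * (⟨c * q * c⁻¹, hcq⟩ : ↥Q)⁻¹, ?_, ?_⟩
    · rw [SetLike.mem_coe, mem_comap]
      apply Subgroup.subset_closure
      refine ⟨_, hγ, QuotientGroup.mk ⟨q, hq⟩, ?_⟩
      rw [qAct_mk]
      rfl
    · rw [commutatorElement_def]
      simp [mul_assoc]
  obtain ⟨k, hk, hkg⟩ := hPD hg
  rw [SetLike.mem_coe, mem_comap] at hk
  have hfix : qAct Q Z ⟨b, hbΓ⟩ (QuotientGroup.mk' (Z.subgroupOf Q) k) =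
      QuotientGroup.mk' (Z.subgroupOf Q) k := by
    rw [QuotientGroup.mk'_apply, qAct_mk]
    congr 1
    apply Subtype.ext
    rw [cAut_coe]
    have hkg' : (k : H) = g := hkg
    rw [hkg']
    exact hbg
  have h1 := fixed_eq_one_of_mem_closure hcommM _ hcop _ hk hfix
  rw [QuotientGroup.mk'_apply, QuotientGroup.eq_one_iff, mem_subgroupOf] at h1
  have hkg' : (k : H) = g := hkg
  rw [hkg'] at h1
  exact h1

set_option maxHeartbeats 800000 in
/-- **(ii)** `P = [Q, b]` is not abelian. -/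
theorem P_nonabelian [Fact ℓ.Prime] (e : ECfg ℓ u t b W Q Z R) :
    ∃ x ∈ ⁅Q, zpowers b⁆, ∃ y ∈ ⁅Q, zpowers b⁆, x * y ≠ y * x := by
  classical
  by_contra hcon
  push Not at hcon
  have hcent := abelian_centralized e _ (comm_le_Q e) hcon (b_mem_normalizer_P e)
  haveI hnorm : (Z.subgroupOf Q).Normal := normal_subgroupOf_of_le_centralizer Q Z e.hZc
  have hbΓ : b ∈ normalizer (Q : Set H) ⊓ normalizer (Z : Set H) := mem_inf.mpr ⟨e.hbQ, e.hbZ⟩
  have hall : ∀ q ∈ Q, ⁅b, q⁆ ∈ Z := by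
    intro q hq
    have h1 : ⁅b, q⁆ ∈ ⁅Q, zpowers b⁆ := by
      rw [Subgroup.commutator_comm]
      exact Subgroup.commutator_mem_commutator (mem_zpowers b) hq
    exact mem_Z_of_fixed e _ h1 (hcent _ h1)
  have h1 : qAct Q Z ⟨b, hbΓ⟩ = 1 := by
    ext m
    induction m using QuotientGroup.induction_on with
    | H k =>
      rw [qAct_mk, MulAut.one_apply, QuotientGroup.eq, mem_subgroupOf]
      have h2 := hall _ (Q.inv_mem k.2)
      rw [commutatorElement_def] at h2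
      have h3 : (((cAut Q b (mem_inf.mp hbΓ).1 k)⁻¹ * k : ↥Q) : H) =
          b * (k : H)⁻¹ * b⁻¹ * (k : H)⁻¹⁻¹ := by
        simp [mul_assoc]
      rw [h3]; exact h2
  have hbQ : b ∈ centralizer (Q : Set H) :=
    mem_centralizer_of_qAct_eq_one Q Z e.hZcard ⟨b, hbΓ⟩ (b_mem_centralizer_Z e)
      (by rw [e.ob]; exact e.ht.odd_of_ne_two e.ht2) h1
  obtain ⟨g, hg, hgb⟩ := e.hbad
  apply hgb
  have := (mem_centralizer_iff.mp hbQ) g hg
  rw [← this]; group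

theorem Z_le_P [Fact ℓ.Prime] (e : ECfg ℓ u t b W Q Z R) : Z ≤ ⁅Q, zpowers b⁆ := by
  obtain ⟨x, hx, y, hy, hxy⟩ := P_nonabelian e
  have hPQ := comm_le_Q e
  have hc : x * y * x⁻¹ * y⁻¹ ∈ Z := e.hQcomm x (hPQ hx) y (hPQ hy)
  have hcP : x * y * x⁻¹ * y⁻¹ ∈ ⁅Q, zpowers b⁆ :=
    mul_mem (mul_mem (mul_mem hx hy) (inv_mem hx)) (inv_mem hy)
  have hc1 : x * y * x⁻¹ * y⁻¹ ≠ 1 := by
    intro h
    apply hxy
    calc x * y = (x * y * x⁻¹ * y⁻¹) * (y * x) := by group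
      _ = y * x := by rw [h, one_mul]
  obtain ⟨z0, hz0, huniq⟩ := (Nat.card_eq_two_iff' (1 : ↥Z)).mp e.hZcard
  have h0 : (⟨x * y * x⁻¹ * y⁻¹, hc⟩ : ↥Z) = z0 :=
    huniq _ (fun h => hc1 (congrArg Subtype.val h))
  intro z hz
  by_cases hz1 : z = 1
  · rw [hz1]; exact one_mem _
  · have h1 : (⟨z, hz⟩ : ↥Z) = z0 := huniq _ (fun h => hz1 (congrArg Subtype.val h))
    have h2 : z = x * y * x⁻¹ * y⁻¹ := congrArg Subtype.val (h1.trans h0.symm)
    rw [h2]; exact hcP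

theorem P_inf_centralizer_b [Fact ℓ.Prime] (e : ECfg ℓ u t b W Q Z R) :
    ⁅Q, zpowers b⁆ ⊓ centralizer {b} = Z := by
  apply le_antisymm
  · intro g hg
    obtain ⟨hg1, hg2⟩ := mem_inf.mp hg
    apply mem_Z_of_fixed e g hg1
    have := (mem_centralizer_iff.mp hg2) b (Set.mem_singleton b)
    rw [this, mul_assoc, mul_inv_cancel, mul_one]
  · intro z hz
    refine mem_inf.mpr ⟨Z_le_P e hz, ?_⟩
    rw [mem_centralizer_iff]
    intro y hy
    rw [Set.mem_singleton_iff] at hy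
    rw [hy]
    exact ((mem_centralizer_iff.mp (b_mem_centralizer_Z e)) z hz).symm

theorem P_inf_centralizer_P [Fact ℓ.Prime] (e : ECfg ℓ u t b W Q Z R) :
    ⁅Q, zpowers b⁆ ⊓ centralizer ((⁅Q, zpowers b⁆ : Subgroup H) : Set H) = Z := by
  have hPQ := comm_le_Q e
  apply le_antisymm
  · -- `Z(P)` is abelian and `b`-invariant
    have hstep : ∀ c ∈ normalizer ((⁅Q, zpowers b⁆ : Subgroup H) : Set H),
        ∀ x ∈ ⁅Q, zpowers b⁆ ⊓ centralizer ((⁅Q, zpowers b⁆ : Subgroup H) : Set H),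
        c * x * c⁻¹ ∈ ⁅Q, zpowers b⁆ ⊓ centralizer ((⁅Q, zpowers b⁆ : Subgroup H) : Set H) := by
      intro c hc x hx
      obtain ⟨hx1, hx2⟩ := mem_inf.mp hx
      refine mem_inf.mpr ⟨(mem_normalizer_iff.mp hc x).mp hx1, ?_⟩
      exact conj_mem_centralizer_of_mem_normalizer _ c x hc hx2
    have hbN : b ∈ normalizer ((⁅Q, zpowers b⁆ ⊓
        centralizer ((⁅Q, zpowers b⁆ : Subgroup H) : Set H) : Subgroup H) : Set H) := by
      rw [mem_normalizer_iff]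
      intro h
      constructor
      · exact hstep b (b_mem_normalizer_P e) h
      · intro hh
        have := hstep b⁻¹ (inv_mem (b_mem_normalizer_P e)) _ hh
        simpa [mul_assoc] using this
    have hab : ∀ x ∈ ⁅Q, zpowers b⁆ ⊓ centralizer ((⁅Q, zpowers b⁆ : Subgroup H) : Set H),
        ∀ y ∈ ⁅Q, zpowers b⁆ ⊓ centralizer ((⁅Q, zpowers b⁆ : Subgroup H) : Set H),
        x * y = y * x := by
      intro x hx y hy
      exact ((mem_centralizer_iff.mp (mem_inf.mp hy).2) x (mem_inf.mp hx).1)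
    have hcent := abelian_centralized e _ (inf_le_left.trans hPQ) hab hbN
    intro x hx
    rw [← P_inf_centralizer_b e]
    refine mem_inf.mpr ⟨(mem_inf.mp hx).1, ?_⟩
    rw [mem_centralizer_iff]
    intro y hy
    rw [Set.mem_singleton_iff] at hy
    rw [hy]
    have h1 := hcent x hx
    calc b * x = (b * x * b⁻¹) * b := by group
      _ = x * b := by rw [h1]
  · intro z hz
    refine mem_inf.mpr ⟨Z_le_P e hz, ?_⟩
    exact centralizer_le (fun x hx => hPQ hx) (e.hZc hz)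

theorem center_map_subtype (P : Subgroup H) :
    (center ↥P).map P.subtype = P ⊓ centralizer (P : Set H) := by
  ext x
  constructor
  · rintro ⟨y, hy, rfl⟩
    refine mem_inf.mpr ⟨y.2, ?_⟩
    rw [mem_centralizer_iff]
    intro h hh
    have := (mem_center_iff.mp hy) ⟨h, hh⟩
    exact congrArg Subtype.val this
  · intro hx
    obtain ⟨hx1, hx2⟩ := mem_inf.mp hx
    refine ⟨⟨x, hx1⟩, ?_, rfl⟩
    rw [SetLike.mem_coe, mem_center_iff]
    intro g
    apply Subtype.ext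
    exact (mem_centralizer_iff.mp hx2) g g.2

/-- **(E1)** -/
theorem lemmaE1 [Fact ℓ.Prime] [Fact u.Prime] (e : ECfg ℓ u t b W Q Z R) :
    Cfsg.IsExtraspecial 2 ↥(⁅Q, zpowers b⁆) ∧ Z ≤ ⁅Q, zpowers b⁆ ∧
    ⁅Q, zpowers b⁆ ⊓ centralizer ((⁅Q, zpowers b⁆ : Subgroup H) : Set H) = Z ∧
    ⁅Q, zpowers b⁆ ⊓ centralizer {b} = Z ∧
    ∃ n : ℕ, t = 2 ^ n + 1 ∧ Nat.card ↥(⁅Q, zpowers b⁆) = 2 ^ (2 * n + 1) := by
  have hPQ := comm_le_Q e
  have hℓ : ℓ.Prime := Fact.out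
  haveI : Fact (Nat.Prime 2) := ⟨Nat.prime_two⟩
  have hcenP := P_inf_centralizer_P e
  have hcenb := P_inf_centralizer_b e
  have hZP := Z_le_P e
  have hES : Cfsg.IsExtraspecial 2 ↥(⁅Q, zpowers b⁆) := by
    apply Cfsg.Agent.Helper63.Symp.isExtraspecial_of_data ⁅Q, zpowers b⁆ Z hZP e.hZcard
      (e.hQ.to_le hPQ)
    · intro x hx hxc
      rw [← hcenP]
      refine mem_inf.mpr ⟨hx, ?_⟩
      rw [mem_centralizer_iff]
      exact hxc
    · intro z hz d hd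
      exact (mem_centralizer_iff.mp (e.hZc hz)) d (hPQ hd)
    · intro x hx y hy
      exact e.hQcomm x (hPQ hx) y (hPQ hy)
    · intro x hx
      exact e.hQpow x (hPQ hx)
    · exact P_nonabelian e
  refine ⟨hES, hZP, hcenP, hcenb, ?_⟩
  have hres := Cfsg.Agent.S3764.result (G := H) (p := ℓ) (q := 2) (r := t) hℓ Nat.prime_two e.ht
    e.hℓ2 e.hℓt (Ne.symm e.ht2) (zpowers b) ⁅Q, zpowers b⁆ W (by rw [Nat.card_zpowers, e.ob])
    hES (by rw [zpowers_le]; exact b_mem_normalizer_P e)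
    (by rw [centralizer_zpowers_eq, hcenb, center_map_subtype, hcenP])
    ⟨⟨⟨fun a c => Subtype.ext (e.hW.1 a a.2 c c.2)⟩⟩, e.hW.2⟩
    (by rw [zpowers_le]; exact e.hbW) (hPQ.trans e.hQW)
    (faithful_of_invariant e _ hPQ (b_mem_normalizer_P e))
    (by rw [centralizer_zpowers_eq, e.hfix])
  exact hres.2

end E1

end Cfsg.Agent.Helper64.PQ
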