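import Mathlib

/-!
# S3921 farm (helper54), leaf (DI): a dihedral group is generated by its involutions
-/

set_option autoImplicit false

namespace Cfsg.Agent.Helper64.SCG

/-- (DI) a dihedral group is generated by its involutions (`sr 0`, `sr 1`). -/
theorem DI_closure_invs_dihedral (n : ℕ) :
    Subgroup.closure {x : DihedralGroup n | orderOf x = 2} = ⊤ := by
  rw [eq_top_iff]
  intro x _
  have hsr : ∀ i : ZMod n, DihedralGroup.sr i ∈
      Subgroup.closure {x : DihedralGroup n | orderOf x = 2} :=
    fun i => Subgroup.subset_closure (DihedralGroup.orderOf_sr i)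
  rcases x with k | k
  · have e : (DihedralGroup.r k : DihedralGroup n) = DihedralGroup.sr 0 * DihedralGroup.sr k := by
      rw [DihedralGroup.sr_mul_sr, sub_zero]
    rw [e]
    exact Subgroup.mul_mem _ (hsr 0) (hsr k)
  · exact hsr k

end Cfsg.Agent.Helper64.SCG
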