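import Mathlib
import Cfsg.Prelude.Def_CaseTheorems
import Cfsg.Agent.Helper54.SCG.Defs
import Cfsg.Agent.Helper63.SCG_CI
import Cfsg.Agent.Helper64.SCG_DI
import Cfsg.Agent.Helper60.SCG_NA
import Cfsg.Agent.Helper60.SCG_BS
import Cfsg.Agent.Helper84.SCG_V4
import Cfsg.Agent.S3116
import Cfsg.Agent.S1193

/-!
# S3921 farm (helper54), assembly (TG): in a group `C` with `SC` and a central involution whose Sylow
`2`-subgroups are dihedral, quasi-dihedral or four-groups, `C` is a `2`-group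
-/

set_option autoImplicit false

namespace Cfsg.Agent.Helper64.SCG

open Cfsg.Agent.Helper54.SCG

/-- a dihedral group of degree at least `3` is not cyclic -/
theorem TG_dihedral_not_cyclic (k : ℕ) (hk : 3 ≤ k) : ¬ IsCyclic (DihedralGroup k) := by
  intro hc
  have : Fact (2 < k) := ⟨by omega⟩
  have hcomm : ∀ a b : DihedralGroup k, a * b = b * a := by
    intro a b
    obtain ⟨g, hg⟩ := hc.exists_generator
    obtain ⟨i, rfl⟩ := Subgroup.mem_zpowers_iff.1 (hg a)
    obtain ⟨j, rfl⟩ := Subgroup.mem_zpowers_iff.1 (hg b)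
    rw [← zpow_add, ← zpow_add, add_comm]
  have h := hcomm (DihedralGroup.r 1) (DihedralGroup.sr 0)
  rw [DihedralGroup.r_mul_sr, DihedralGroup.sr_mul_r, zero_sub, zero_add] at h
  have h' : (-1 : ZMod k) = 1 := DihedralGroup.sr.inj h
  exact ZMod.neg_one_ne_one h'

/-- the conclusion when the subgroup generated by the involutions is dihedral of degree at least `4` -/
theorem TG_of_dihedral {C : Type*} [Group C] [Finite C] (hsc : SC C) (D : Subgroup C) (hDn : D.Normal)
    (hD2 : IsPGroup 2 ↥D) (k : ℕ) (hk : 4 ≤ k) (e : ↥D ≃* DihedralGroup k) : IsPGroup 2 C := by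
  have hnc : ¬ IsCyclic ↥D := by
    intro hc
    exact TG_dihedral_not_cyclic k (by omega) (isCyclic_of_surjective e e.surjective)
  have hA : IsPGroup 2 (MulAut ↥D) := Cfsg.Agent.S3116.result hD2 (Or.inl ⟨k, hk, ⟨e⟩⟩)
  exact Cfsg.Agent.Helper60.SCG.NA_isPGroup_of_normal hsc D hDn hnc hD2 hA

/-- the involutions of a group isomorphic to a dihedral group generate it -/
theorem TG_closure_invs_top {S : Type*} [Group S] (n : ℕ) (e : S ≃* DihedralGroup n) :
    Subgroup.closure {x : S | orderOf x = 2} = ⊤ := by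
  rw [eq_top_iff]
  intro s _
  have h1 : Subgroup.closure {y : DihedralGroup n | orderOf y = 2} ≤
      (Subgroup.closure {x : S | orderOf x = 2}).comap e.symm.toMonoidHom := by
    rw [Subgroup.closure_le]
    intro y hy
    have hy2 : orderOf y = 2 := hy
    change e.symm y ∈ Subgroup.closure {x : S | orderOf x = 2}
    apply Subgroup.subset_closure
    change orderOf (e.symm y) = 2
    rw [MulEquiv.orderOf_eq e.symm y, hy2]
  have h2 : e s ∈ Subgroup.closure {y : DihedralGroup n | orderOf y = 2} := by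
    rw [DI_closure_invs_dihedral]; trivial
  have h3 : e.symm (e s) ∈ Subgroup.closure {x : S | orderOf x = 2} := h1 h2
  rwa [MulEquiv.symm_apply_apply] at h3

/-- (TG) ASSEMBLY from (BS) (NA) (V4) (CI) (DI), `Cfsg.Agent.S3116.result`, `Cfsg.Agent.S1193.result`. -/
theorem TG_isPGroup_of_central_involution {C : Type*} [Group C] [Finite C] (hsc : SC C) (t : C)
    (ht : orderOf t = 2) (htz : ∀ g : C, g * t = t * g) (S : Sylow 2 C)
    (hS : (∃ n : ℕ, 4 ≤ n ∧ Nonempty (↥(S : Subgroup C) ≃* DihedralGroup n)) ∨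
      Cfsg.IsQuasiDihedral ↥(S : Subgroup C) ∨
      (Nat.card ↥(S : Subgroup C) = 4 ∧ ¬ IsCyclic ↥(S : Subgroup C))) : IsPGroup 2 C := by
  have hcyc : ∀ H : Subgroup C, t ∉ H → IsCyclic ↥H := by
    intro H hH
    by_contra hc
    exact hH (mem_of_central hsc t htz H hc)
  have hinv : ∀ b : C, orderOf b = 2 → b ∈ (S : Subgroup C) :=
    fun b hb => Cfsg.Agent.Helper60.SCG.BS_invs_le_sylow t ht htz hcyc b hb S
  obtain ⟨hDn, hDS, ⟨eD⟩⟩ := Cfsg.Agent.Helper63.SCG.CI_closure_invs (S : Subgroup C) hinv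
  have hD2 : IsPGroup 2 ↥(Subgroup.closure {x : C | orderOf x = 2}) := S.isPGroup'.to_le hDS
  rcases hS with ⟨n, hn, ⟨e⟩⟩ | hQ | ⟨h4, hnc⟩
  · have htop := TG_closure_invs_top n e
    exact TG_of_dihedral hsc _ hDn hD2 n hn
      ((eD.trans ((MulEquiv.subgroupCongr htop).trans Subgroup.topEquiv)).trans e)
  · obtain ⟨n, hn3, hcard, -⟩ := id hQ
    obtain ⟨-, -, -, -, ⟨e'⟩⟩ := Cfsg.Agent.S1193.result hQ n hcard
    have hk : 4 ≤ 2 ^ (n - 1) := by
      obtain ⟨j, rfl⟩ : ∃ j, n = j + 3 := ⟨n - 3, by omega⟩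
      have : j + 3 - 1 = j + 2 := by omega
      rw [this, pow_succ, pow_succ]
      have : 1 ≤ 2 ^ j := Nat.one_le_two_pow
      omega
    exact TG_of_dihedral hsc _ hDn hD2 _ hk (eD.trans e')
  · exact Cfsg.Agent.Helper84.SCG.V4_isPGroup_of_sylow_four hsc t ht htz S h4 hnc hinv

end Cfsg.Agent.Helper64.SCG
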