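import Mathlib
import Cfsg.Prelude.Def_CaseTheorems
import Cfsg.Agent.Helper54.SCG.Defs
import Cfsg.Agent.Helper64.SCG_TG
import Cfsg.Agent.Helper54.SCG.Small

/-!
# S3921 farm (helper54), assembly (CT): (TG) inside the centralizer of an involution central in a Sylow `2`-subgroup
-/

set_option autoImplicit false

namespace Cfsg.Agent.Helper64.SCG

open Cfsg.Agent.Helper54.SCG

/-- (CT) ASSEMBLY: (TG) applied to `C := ↥(centralizer {t})` with `sc_subgroup`, the Sylow subgroup
`S.subtype (le)` of C (`Sylow.subtype`, `Subgroup.subgroupOfEquivOfLe`) and (QI). -/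
theorem CT_isPGroup_centralizer {G : Type*} [Group G] [Finite G] (hsc : SC G) (S : Sylow 2 G)
    (t : G) (ht : orderOf t = 2) (htS : t ∈ (S : Subgroup G))
    (htZ : ∀ s ∈ (S : Subgroup G), s * t = t * s)
    (hS : (∃ n : ℕ, 4 ≤ n ∧ Nonempty (↥(S : Subgroup G) ≃* DihedralGroup n)) ∨
      Cfsg.IsQuasiDihedral ↥(S : Subgroup G) ∨
      (Nat.card ↥(S : Subgroup G) = 4 ∧ ¬ IsCyclic ↥(S : Subgroup G))) :
    IsPGroup 2 ↥(Subgroup.centralizer ({t} : Set G)) := by
  have hle : (S : Subgroup G) ≤ Subgroup.centralizer ({t} : Set G) := by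
    intro s hs
    rw [Subgroup.mem_centralizer_singleton_iff]
    exact htZ s hs
  have htC : t ∈ Subgroup.centralizer ({t} : Set G) := hle htS
  have hsc' : SC ↥(Subgroup.centralizer ({t} : Set G)) := sc_subgroup hsc _
  have ht' : orderOf (⟨t, htC⟩ : ↥(Subgroup.centralizer ({t} : Set G))) = 2 := by
    rw [← ht]
    exact Subgroup.orderOf_mk t htC
  have htz' : ∀ g : ↥(Subgroup.centralizer ({t} : Set G)), g * ⟨t, htC⟩ = ⟨t, htC⟩ * g := by
    intro g
    apply Subtype.ext
    have := g.2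
    rw [Subgroup.mem_centralizer_singleton_iff] at this
    exact this
  let e : ↥((S.subtype hle : Sylow 2 ↥(Subgroup.centralizer ({t} : Set G))) :
      Subgroup ↥(Subgroup.centralizer ({t} : Set G))) ≃* ↥(S : Subgroup G) :=
    Subgroup.subgroupOfEquivOfLe hle
  refine TG_isPGroup_of_central_involution hsc' ⟨t, htC⟩ ht' htz' (S.subtype hle) ?_
  rcases hS with ⟨n, hn, ⟨f⟩⟩ | hQ | ⟨h4, hnc⟩
  · exact Or.inl ⟨n, hn, ⟨e.trans f⟩⟩
  · exact Or.inr (Or.inl (QI_isQuasiDihedral_of_mulEquiv e.symm hQ))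
  · refine Or.inr (Or.inr ⟨?_, ?_⟩)
    · rw [← h4]
      exact Nat.card_congr e.toEquiv
    · intro hc
      exact hnc (isCyclic_of_surjective e e.surjective)

end Cfsg.Agent.Helper64.SCG
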