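import Mathlib

/-!
# S3921 farm (helper54), leaf (NT): an odd prime power `q` with `q - 1` or `q + 1` a power of `2` is a prime or `9`
-/

set_option autoImplicit false

namespace Cfsg.Agent.Helper64.SCG

open Finset

theorem NT_odd_geom (x : ℤ) (hx : Odd x) (e : ℕ) : Odd (∑ i ∈ range (2 * e + 1), x ^ i) := by
  induction e with
  | zero => simp
  | succ e ih =>
    rw [show 2 * (e + 1) + 1 = (2 * e + 1) + 1 + 1 by ring, Finset.sum_range_succ,
      Finset.sum_range_succ, add_assoc]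
    exact ih.add_even ((hx.pow).add_odd (hx.pow))

/-- for `x`, `f` odd: if `1 - x ^ f` is plus or minus a power of `2` then it is `±(1 - x)` -/
theorem NT_key (x : ℤ) (hx : Odd x) (f : ℕ) (hf : Odd f) (k : ℕ)
    (h : (1 - x ^ f).natAbs = 2 ^ k) : (1 - x ^ f).natAbs = (1 - x).natAbs := by
  obtain ⟨e, rfl⟩ := hf
  have hc := NT_odd_geom x hx e
  have hmul : (∑ i ∈ range (2 * e + 1), x ^ i) * (1 - x) = 1 - x ^ (2 * e + 1) := geom_sum_mul_neg x _
  have hnat : (∑ i ∈ range (2 * e + 1), x ^ i).natAbs * (1 - x).natAbs = 2 ^ k := by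
    rw [← Int.natAbs_mul, hmul, h]
  have hdvd : (∑ i ∈ range (2 * e + 1), x ^ i).natAbs ∣ 2 ^ k := Dvd.intro _ hnat
  obtain ⟨j, -, hj⟩ := (Nat.dvd_prime_pow Nat.prime_two).1 hdvd
  have hodd : Odd (∑ i ∈ range (2 * e + 1), x ^ i).natAbs := Int.natAbs_odd.2 hc
  have hj0 : j = 0 := by
    by_contra hne
    rw [hj] at hodd
    exact (Nat.not_even_iff_odd.2 hodd) ((Nat.even_pow' hne).2 even_two)
  rw [hj0, pow_zero] at hj
  rw [hj, one_mul] at hnat
  rw [h, hnat]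

/-- `p ^ f = p` forces `f = 1` for `p ≥ 2` -/
theorem NT_pow_eq_self {p f : ℕ} (hp : 2 ≤ p) (h : p ^ f = p) : f = 1 := by
  have h' : p ^ f = p ^ 1 := by rw [pow_one]; exact h
  exact Nat.pow_right_injective hp h'

theorem NT_sub_case {p f k : ℕ} (hp : 3 ≤ p) (hpo : Odd p) (hf : Odd f) (h : p ^ f - 1 = 2 ^ k) :
    f = 1 := by
  have hpf : 1 ≤ p ^ f := Nat.one_le_pow _ _ (by omega)
  have hx : Odd (p : ℤ) := by exact_mod_cast hpo
  have h1 : (1 - (p : ℤ) ^ f).natAbs = p ^ f - 1 := by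
    have : (1 - (p : ℤ) ^ f) = -((p ^ f - 1 : ℕ) : ℤ) := by
      rw [Nat.cast_sub hpf]; push_cast; ring
    rw [this, Int.natAbs_neg, Int.natAbs_natCast]
  have h2 : (1 - (p : ℤ)).natAbs = p - 1 := by
    have : (1 - (p : ℤ)) = -((p - 1 : ℕ) : ℤ) := by
      rw [Nat.cast_sub (by omega)]; push_cast; ring
    rw [this, Int.natAbs_neg, Int.natAbs_natCast]
  have key := NT_key (p : ℤ) hx f hf k (by rw [h1, h])
  rw [h1, h2] at key
  apply NT_pow_eq_self (by omega : 2 ≤ p)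
  omega

theorem NT_add_case {p f k : ℕ} (hp : 3 ≤ p) (hpo : Odd p) (hf : Odd f) (h : p ^ f + 1 = 2 ^ k) :
    f = 1 := by
  have hx : Odd (-(p : ℤ)) := by
    have : Odd (p : ℤ) := by exact_mod_cast hpo
    exact this.neg
  have h1 : (1 - (-(p : ℤ)) ^ f).natAbs = p ^ f + 1 := by
    have : (1 - (-(p : ℤ)) ^ f) = ((p ^ f + 1 : ℕ) : ℤ) := by
      rw [hf.neg_pow]; push_cast; ring
    rw [this, Int.natAbs_natCast]
  have h2 : (1 - (-(p : ℤ))).natAbs = p + 1 := by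
    have : (1 - (-(p : ℤ))) = ((p + 1 : ℕ) : ℤ) := by push_cast; ring
    rw [this, Int.natAbs_natCast]
  have key := NT_key (-(p : ℤ)) hx f hf k (by rw [h1, h])
  rw [h1, h2] at key
  apply NT_pow_eq_self (by omega : 2 ≤ p)
  omega

/-- an odd `x` with `x ^ 2 - 1` a power of `2` is `3` -/
theorem NT_sq_case {x k : ℕ} (hxo : Odd x) (h : x ^ 2 - 1 = 2 ^ k) : x = 3 := by
  have hx1 : 1 ≤ x := by
    rcases hxo with ⟨m, rfl⟩; omega
  have hfac : (x - 1) * (x + 1) = 2 ^ k := by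
    rw [← h]
    have : x ^ 2 = (x - 1) * (x + 1) + 1 := by
      obtain ⟨y, rfl⟩ : ∃ y, x = y + 1 := ⟨x - 1, by omega⟩
      simp only [Nat.add_sub_cancel]; ring
    omega
  obtain ⟨a, -, ha⟩ := (Nat.dvd_prime_pow Nat.prime_two).1 (Dvd.intro _ hfac)
  obtain ⟨b, -, hb⟩ := (Nat.dvd_prime_pow Nat.prime_two).1 (Dvd.intro_left _ hfac)
  rcases a with _ | _ | a
  · rcases hxo with ⟨m, rfl⟩
    simp at ha
  · simp at ha; omega
  · exfalso
    rw [pow_succ, pow_succ] at ha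
    rcases b with _ | _ | b
    · simp at hb; omega
    · simp at hb
      have : 0 < 2 ^ a := by positivity
      omega
    · rw [pow_succ, pow_succ] at hb
      omega

/-- (NT) q = p^f.  q - 1 = 2^k: f even gives (p^e - 1)(p^e + 1) = 2^k, so p^e = 3, q = 9; f odd > 1: the cofactor
1 + p + ... + p^(f-1) is odd > 1.  q + 1 = 2^k: f even: q + 1 ≡ 2 mod 4; f odd > 1: odd cofactor. -/
theorem NT_prime_or_nine (q : ℕ) (hq : IsPrimePow q) (hodd : Odd q)
    (h1 : q % 4 = 1 → ∃ k : ℕ, q - 1 = 2 ^ k) (h3 : q % 4 = 3 → ∃ k : ℕ, q + 1 = 2 ^ k) :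
    q = 9 ∨ (q.Prime ∧ ∃ k : ℕ, q = 2 ^ k + 1 ∨ q = 2 ^ k - 1) := by
  obtain ⟨p, f, hp, hf, rfl⟩ := hq
  have hpp : p.Prime := hp.nat_prime
  have hpo : Odd p := (Nat.odd_pow_iff (by omega)).1 hodd
  have hp3 : 3 ≤ p := by
    have := hpp.two_le
    rcases hpo with ⟨m, rfl⟩
    omega
  have hq1 : 1 ≤ p ^ f := Nat.one_le_pow _ _ (by omega)
  have hmod : p ^ f % 4 = 1 ∨ p ^ f % 4 = 3 := by
    rcases hodd with ⟨m, hm⟩
    omega
  rcases Nat.even_or_odd f with hfe | hfo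
  · -- f even: q is a square
    left
    obtain ⟨e, rfl⟩ := hfe
    have hsq : p ^ (e + e) = (p ^ e) ^ 2 := by rw [← pow_mul]; congr 1; ring
    have hxo : Odd (p ^ e) := hpo.pow
    have hm1 : (p ^ e) ^ 2 % 4 = 1 := by
      rcases hxo with ⟨m, hm⟩
      rw [hm]
      have : (2 * m + 1) ^ 2 = 4 * (m * m + m) + 1 := by ring
      rw [this]; omega
    rw [hsq] at h1 ⊢
    obtain ⟨k, hk⟩ := h1 hm1
    rw [NT_sq_case hxo hk]
    norm_num
  · -- f odd
    right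
    have hf1 : f = 1 := by
      rcases hmod with hm | hm
      · obtain ⟨k, hk⟩ := h1 hm
        exact NT_sub_case hp3 hpo hfo hk
      · obtain ⟨k, hk⟩ := h3 hm
        exact NT_add_case hp3 hpo hfo hk
    subst hf1
    rw [pow_one] at h1 h3 hmod ⊢
    refine ⟨hpp, ?_⟩
    rcases hmod with hm | hm
    · obtain ⟨k, hk⟩ := h1 hm
      exact ⟨k, Or.inl (by omega)⟩
    · obtain ⟨k, hk⟩ := h3 hm
      exact ⟨k, Or.inr (by omega)⟩

end Cfsg.Agent.Helper64.SCG
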