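import Mathlib

/-!
# (PL1) orbits of a two-point stabilizer
-/

set_option autoImplicit false

namespace Cfsg.Agent.Helper64.N3

open MulAction
open scoped Pointwise

/-- (PL1) orbits of the two-point stabilizer on `Ω` versus orbits of the point stabilizer of
`stabilizer G a` on the complement of `a` -/
theorem card_orbits_ofStabilizer {G Ω : Type*} [Group G] [MulAction G Ω] [Finite Ω]
    (a b : Ω) (hab : b ≠ a) :
    Nat.card (orbitRel.Quotient ↥(stabilizer G a ⊓ stabilizer G b) Ω) =
      Nat.card (orbitRel.Quotient
        ↥(stabilizer ↥(stabilizer G a) (⟨b, hab⟩ : SubMulAction.ofStabilizer G a))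
        ↥(SubMulAction.ofStabilizer G a)) + 1 := by
  classical
  have key1 : ∀ (t : ↥(stabilizer G a)),
      t ∈ stabilizer ↥(stabilizer G a) (⟨b, hab⟩ : SubMulAction.ofStabilizer G a) →
      (t : G) ∈ stabilizer G a ⊓ stabilizer G b := by
    intro t ht
    refine ⟨t.2, ?_⟩
    rw [mem_stabilizer_iff] at ht
    have h1 : (t : G) • b = b := congrArg Subtype.val ht
    exact h1
  have key2 : ∀ (h : G) (hh : h ∈ stabilizer G a ⊓ stabilizer G b),
      (⟨h, hh.1⟩ : ↥(stabilizer G a)) ∈
        stabilizer ↥(stabilizer G a) (⟨b, hab⟩ : SubMulAction.ofStabilizer G a) := by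
    intro h hh
    rw [mem_stabilizer_iff]
    apply Subtype.ext
    exact hh.2
  let f : Option (orbitRel.Quotient
        ↥(stabilizer ↥(stabilizer G a) (⟨b, hab⟩ : SubMulAction.ofStabilizer G a))
        ↥(SubMulAction.ofStabilizer G a)) →
      orbitRel.Quotient ↥(stabilizer G a ⊓ stabilizer G b) Ω := fun o =>
    Option.elim o (Quotient.mk'' a)
      (Quotient.lift (fun x : ↥(SubMulAction.ofStabilizer G a) =>
          (Quotient.mk'' (x : Ω) : orbitRel.Quotient ↥(stabilizer G a ⊓ stabilizer G b) Ω))
        (by
          intro x y hxy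
          obtain ⟨t, ht⟩ := (orbitRel_apply).mp hxy
          apply Quotient.sound
          refine (orbitRel_apply).mpr ⟨⟨(t.1 : G), key1 t.1 t.2⟩, ?_⟩
          rw [← ht]
          rfl))
  have hinj : Function.Injective f := by
    intro o o' hoo
    rcases o with _ | q <;> rcases o' with _ | q'
    · rfl
    · exfalso
      induction q' using Quotient.inductionOn with
      | _ x =>
        have h1 : (Quotient.mk'' a : orbitRel.Quotient ↥(stabilizer G a ⊓ stabilizer G b) Ω) =
            Quotient.mk'' (x : Ω) := hoo
        obtain ⟨h, hh⟩ := (orbitRel_apply).mp (Quotient.exact h1)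
        have h2 : (h : G) • (x : Ω) = a := hh
        have h3 : (h : G) • a = a := h.2.1
        have h4 : (x : Ω) = a := by
          have := congrArg (fun z => (h : G)⁻¹ • z) h2
          simp only [inv_smul_smul] at this
          have h5 : (h : G)⁻¹ • a = a := by
            have := congrArg (fun z => (h : G)⁻¹ • z) h3
            simp only [inv_smul_smul] at this
            exact this.symm
          rw [this, h5]
        exact (SubMulAction.mem_ofStabilizer_iff G a).mp x.2 h4
    · exfalso
      induction q using Quotient.inductionOn with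
      | _ x =>
        have h1 : (Quotient.mk'' (x : Ω) : orbitRel.Quotient ↥(stabilizer G a ⊓ stabilizer G b) Ω) =
            Quotient.mk'' a := hoo
        obtain ⟨h, hh⟩ := (orbitRel_apply).mp (Quotient.exact h1)
        have h2 : (h : G) • a = (x : Ω) := hh
        have h3 : (h : G) • a = a := h.2.1
        exact (SubMulAction.mem_ofStabilizer_iff G a).mp x.2 (by rw [← h2, h3])
    · induction q using Quotient.inductionOn with
      | _ x =>
        induction q' using Quotient.inductionOn with
        | _ y =>
          have h1 : (Quotient.mk'' (x : Ω) :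
              orbitRel.Quotient ↥(stabilizer G a ⊓ stabilizer G b) Ω) = Quotient.mk'' (y : Ω) := hoo
          obtain ⟨h, hh⟩ := (orbitRel_apply).mp (Quotient.exact h1)
          have h2 : (h : G) • (y : Ω) = (x : Ω) := hh
          congr 1
          apply Quotient.sound
          refine (orbitRel_apply).mpr ⟨⟨⟨(h : G), h.2.1⟩, key2 h.1 h.2⟩, ?_⟩
          apply Subtype.ext
          exact h2
  have hsurj : Function.Surjective f := by
    intro q
    induction q using Quotient.inductionOn with
    | _ ω =>
      by_cases hω : ω = a
      · exact ⟨none, by rw [hω]; rfl⟩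
      · exact ⟨some (Quotient.mk'' ⟨ω, (SubMulAction.mem_ofStabilizer_iff G a).mpr hω⟩), rfl⟩
  rw [← Nat.card_congr (Equiv.ofBijective f ⟨hinj, hsurj⟩), Finite.card_option]

end Cfsg.Agent.Helper64.N3
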