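import Mathlib
import Cfsg.Agent.S0676

/-!
# (T) the abstract form of S0676
-/

set_option autoImplicit false

namespace Cfsg.Agent.Helper64.N3

open MulAction
open scoped Pointwise

/-- (T) abstract form of S0676 -/
theorem three_trans_of_even {G Ω : Type*} [Group G] [Finite G] [MulAction G Ω] [FaithfulSMul G Ω]
    [Fintype Ω] [DecidableEq Ω] [IsPretransitive G Ω] {p : ℕ} [Fact p.Prime]
    (hΩ : Fintype.card Ω = p) (hG : ¬ Group.IsSolvable G) (P : Sylow p G)
    (heven : Even (Nat.card ↥(Subgroup.normalizer ((P : Subgroup G) : Set G)))) :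
    IsMultiplyPretransitive G Ω 3 := by
  have hinj : Function.Injective (MulAction.toPermHom G Ω) := MulAction.toPerm_injective
  let e : G ≃* (MulAction.toPermHom G Ω).range := MonoidHom.ofInjective hinj
  have he : ∀ g : G, ((e g : (MulAction.toPermHom G Ω).range) : Equiv.Perm Ω) =
      MulAction.toPermHom G Ω g := fun g => rfl
  haveI : IsPretransitive (MulAction.toPermHom G Ω).range Ω := by
    refine ⟨fun x y => ?_⟩
    obtain ⟨g, hg⟩ := exists_smul_eq G x y
    exact ⟨⟨MulAction.toPermHom G Ω g, g, rfl⟩, hg⟩
  have hG' : ¬ Group.IsSolvable (MulAction.toPermHom G Ω).range := by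
    intro h
    apply hG
    exact solvable_of_solvable_injective (f := e.toMonoidHom) e.injective
  have hle : (P : Subgroup G) ≤ e.symm.toMonoidHom.range := by
    intro x _
    exact ⟨e x, by simp⟩
  have hcomap : ((P.comapOfInjective e.symm.toMonoidHom e.symm.injective hle :
      Sylow p (MulAction.toPermHom G Ω).range) : Subgroup (MulAction.toPermHom G Ω).range) =
      (P : Subgroup G).comap e.symm.toMonoidHom :=
    Sylow.coe_comapOfInjective _ _ _ _
  have hN : Subgroup.normalizer
      (((P.comapOfInjective e.symm.toMonoidHom e.symm.injective hle :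
        Sylow p (MulAction.toPermHom G Ω).range) : Subgroup (MulAction.toPermHom G Ω).range) :
          Set (MulAction.toPermHom G Ω).range) =
      (Subgroup.normalizer ((P : Subgroup G) : Set G)).comap e.symm.toMonoidHom := by
    rw [hcomap]
    exact (Subgroup.comap_normalizer_eq_of_surjective _ e.symm.surjective).symm
  have hcard : Nat.card ↥(Subgroup.normalizer
      (((P.comapOfInjective e.symm.toMonoidHom e.symm.injective hle :
        Sylow p (MulAction.toPermHom G Ω).range) : Subgroup (MulAction.toPermHom G Ω).range) :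
          Set (MulAction.toPermHom G Ω).range)) =
      Nat.card ↥(Subgroup.normalizer ((P : Subgroup G) : Set G)) := by
    rw [hN, Subgroup.comap_equiv_eq_map_symm']
    exact Subgroup.card_map_of_injective e.symm.symm.injective
  have h3 := Cfsg.Agent.S0676.result hΩ (MulAction.toPermHom G Ω).range hG'
    (P.comapOfInjective e.symm.toMonoidHom e.symm.injective hle) (by rw [hcard]; exact heven)
  refine ⟨fun x y => ?_⟩
  obtain ⟨g', hg'⟩ := h3.exists_smul_eq x y
  obtain ⟨g, hg⟩ := g'.2
  refine ⟨g, ?_⟩
  rw [← hg']
  ext i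
  simp only [Function.Embedding.smul_apply]
  show MulAction.toPermHom G Ω g (x i) = (g' : Equiv.Perm Ω) (x i)
  rw [hg]

end Cfsg.Agent.Helper64.N3
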