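import Mathlib

/-!
# (EMB) prescribing images of a list
-/

set_option autoImplicit false

namespace Cfsg.Agent.Helper64.N4

open MulAction
open scoped Pointwise

/-- (EMB) prescribing an element of an `m`-transitive group on a list of `m` distinct points -/
theorem exists_smul_eq_of_list {G Ω : Type*} [Group G] [MulAction G Ω] (m : ℕ)
    (hm : IsMultiplyPretransitive G Ω m) (xs ys : Fin m → Ω) (hxs : Function.Injective xs)
    (hys : Function.Injective ys) : ∃ g : G, ∀ i, g • xs i = ys i := by
  obtain ⟨g, hg⟩ := hm.exists_smul_eq (⟨xs, hxs⟩ : Fin m ↪ Ω) ⟨ys, hys⟩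
  refine ⟨g, fun i => ?_⟩
  have := congrArg (fun f : Fin m ↪ Ω => f i) hg
  simpa using this

end Cfsg.Agent.Helper64.N4
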