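import Mathlib

/-!
# (QP) a faithful 2-transitive group is quasiprimitive
-/

set_option autoImplicit false

namespace Cfsg.Agent.Helper64.N4

open MulAction
open scoped Pointwise

/-- (QP) a faithful 2-transitive group is quasiprimitive -/
theorem quasiprimitive_of_two_trans {G Ω : Type*} [Group G] [MulAction G Ω] [FaithfulSMul G Ω]
    (h2 : IsMultiplyPretransitive G Ω 2) (N : Subgroup G) (hN : N.Normal) (hN1 : N ≠ ⊥) :
    IsPretransitive ↥N Ω := by
  haveI : IsPreprimitive G Ω := isPreprimitive_of_is_two_pretransitive h2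
  haveI : IsQuasiPreprimitive G Ω := IsPreprimitive.isQuasiPreprimitive
  haveI := hN
  apply IsQuasiPreprimitive.isPretransitive_of_normal (G := G) (X := Ω) (N := N)
  intro hfix
  apply hN1
  rw [Subgroup.eq_bot_iff_forall]
  intro g hg
  apply FaithfulSMul.eq_of_smul_eq_smul (α := Ω)
  intro x
  rw [one_smul]
  have hx : x ∈ fixedPoints ↥N Ω := by rw [hfix]; exact Set.mem_univ x
  exact hx ⟨g, hg⟩

end Cfsg.Agent.Helper64.N4
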