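import Mathlib

/-!
helper64 for helper60 (S3331 block A, farm #15365): piece (SYL) `sylow_count`, verbatim from
`tools/helper60_sc3a/Skel.lean.txt`.
-/

set_option autoImplicit false

namespace Cfsg.Agent.Helper64.SC3

universe u

/-- an element of order dividing two is conjugate into any Sylow `2`-subgroup -/
theorem SYL_conj {Γ : Type u} [Group Γ] [Finite Γ] (P : Sylow 2 Γ) (s : Γ) (hs : s ^ 2 = 1) :
    ∃ c : Γ, c * s * c⁻¹ ∈ P := by
  have : Fact (Nat.Prime 2) := ⟨Nat.prime_two⟩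
  have hp : IsPGroup 2 (Subgroup.zpowers s) := by
    rintro ⟨z, hz⟩
    obtain ⟨k, rfl⟩ := Subgroup.mem_zpowers_iff.1 hz
    refine ⟨1, ?_⟩
    apply Subtype.ext
    simp only [pow_one, Subgroup.coe_pow, Subgroup.coe_one]
    rw [← zpow_natCast, ← zpow_mul, mul_comm, zpow_mul, zpow_natCast, hs, one_zpow]
  obtain ⟨Q, hQ⟩ := hp.exists_le_sylow
  obtain ⟨g, hg⟩ := MulAction.exists_smul_eq Γ Q P
  refine ⟨g, ?_⟩
  have hsQ : s ∈ Q := hQ (Subgroup.mem_zpowers s)
  rw [← hg]
  show g * s * g⁻¹ ∈ ((g • Q : Sylow 2 Γ) : Subgroup Γ)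
  rw [Sylow.coe_subgroup_smul, Subgroup.mem_pointwise_smul_iff_inv_smul_mem]
  have : (MulAut.conj g)⁻¹ • (g * s * g⁻¹) = s := by
    rw [MulAut.smul_def, MulAut.conj_inv_apply]; group
  rw [this]
  exact hsQ

/-- (SYL) Sylow double counting in a finite group with a central involution. -/
theorem sylow_count {Γ : Type u} [Group Γ] [Finite Γ] (τ : Γ) (hτ : τ ∈ Subgroup.center Γ)
    (hτ2 : orderOf τ = 2) (I : Finset Γ) (hI : ∀ s ∈ I, s ^ 2 = 1 ∧ s ≠ 1 ∧ s ≠ τ) :
    ∑ s ∈ I, Nat.card (Subgroup.centralizer ({s} : Set Γ)) + 2 * Nat.card Γ ≤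
      Nat.card Γ * 2 ^ (Nat.card Γ).factorization 2 := by
  classical
  haveI : Fintype Γ := Fintype.ofFinite Γ
  have : Fact (Nat.Prime 2) := ⟨Nat.prime_two⟩
  have P : Sylow 2 Γ := default
  have hPcard : Nat.card P = 2 ^ (Nat.card Γ).factorization 2 := Sylow.card_eq_multiplicity P
  have hτsq : τ ^ 2 = 1 := by rw [← hτ2]; exact pow_orderOf_eq_one τ
  have hτ1 : τ ≠ 1 := by
    intro h
    rw [h, orderOf_one] at hτ2
    omega
  have hτc : ∀ g : Γ, g * τ = τ * g := fun g => Subgroup.mem_center_iff.1 hτ g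
  -- `τ ∈ P`
  have hτP : τ ∈ P := by
    obtain ⟨c, hc⟩ := SYL_conj P τ hτsq
    rwa [hτc c, mul_inv_cancel_right] at hc
  -- the finsets
  set PF : Finset Γ := Finset.univ.filter (fun g => g ∈ P) with hPF
  have hPFcard : PF.card = 2 ^ (Nat.card Γ).factorization 2 := by
    rw [← hPcard, Nat.card_eq_fintype_card, Fintype.card_subtype, hPF]
    rfl
  set T : Finset Γ := (PF.erase 1).erase τ with hT
  have h1PF : (1 : Γ) ∈ PF := by simp [hPF, one_mem]
  have hτPF : τ ∈ PF.erase 1 := by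
    rw [Finset.mem_erase]
    exact ⟨hτ1, by simp [hPF, hτP]⟩
  have hTcard : T.card + 2 = 2 ^ (Nat.card Γ).factorization 2 := by
    rw [hT, Finset.card_erase_of_mem hτPF, Finset.card_erase_of_mem h1PF, hPFcard]
    have h2 : 2 ≤ PF.card := by
      have := Finset.card_pos.2 ⟨τ, hτPF⟩
      rw [Finset.card_erase_of_mem h1PF] at this
      omega
    rw [hPFcard] at h2
    omega
  have hmemT : ∀ g : Γ, g ∈ T ↔ g ∈ P ∧ g ≠ 1 ∧ g ≠ τ := by
    intro g
    simp only [hT, hPF, Finset.mem_erase, Finset.mem_filter, Finset.mem_univ, true_and]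
    tauto
  -- every `s ∈ I` has a conjugate in `T`
  have hconjT : ∀ s ∈ I, ∃ c : Γ, c * s * c⁻¹ ∈ T := by
    intro s hs
    obtain ⟨hs2, hs1, hsτ⟩ := hI s hs
    obtain ⟨c, hc⟩ := SYL_conj P s hs2
    refine ⟨c, (hmemT _).2 ⟨hc, ?_, ?_⟩⟩
    · intro h
      apply hs1
      have : s = c⁻¹ * (c * s * c⁻¹) * c := by group
      rw [this, h]; group
    · intro h
      apply hsτ
      have : s = c⁻¹ * (c * s * c⁻¹) * c := by group
      rw [this, h, mul_assoc, ← hτc c, inv_mul_cancel_left]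
  -- lower bound
  have hlow : ∀ s ∈ I, Nat.card (Subgroup.centralizer ({s} : Set Γ)) ≤
      ((Finset.univ : Finset Γ).bipartiteAbove (fun s c => c * s * c⁻¹ ∈ T) s).card := by
    intro s hs
    obtain ⟨c₀, hc₀⟩ := hconjT s hs
    have e1 : Nat.card (Subgroup.centralizer ({s} : Set Γ)) =
        (Finset.univ.filter (fun z : Γ => z ∈ Subgroup.centralizer ({s} : Set Γ))).card := by
      rw [Nat.card_eq_fintype_card, Fintype.card_subtype]
    rw [e1]
    apply Finset.card_le_card_of_injOn (fun z => c₀ * z)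
    · intro z hz
      have hz' : z ∈ Subgroup.centralizer ({s} : Set Γ) := by simpa using hz
      have hzs : z * s = s * z := (Subgroup.mem_centralizer_singleton_iff.1 hz')
      simp only [Finset.bipartiteAbove, Finset.coe_filter, Finset.mem_univ, true_and,
        Set.mem_ofPred_eq]
      have : c₀ * z * s * (c₀ * z)⁻¹ = c₀ * s * c₀⁻¹ := by
        rw [mul_inv_rev, mul_assoc c₀ z s, hzs]; group
      rw [this]
      exact hc₀
    · intro z _ z' _ h
      exact mul_left_cancel h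
  -- upper bound
  have hup : ∀ c ∈ (Finset.univ : Finset Γ),
      (I.bipartiteBelow (fun s c => c * s * c⁻¹ ∈ T) c).card ≤ T.card := by
    intro c _
    apply Finset.card_le_card_of_injOn (fun s => c * s * c⁻¹)
    · intro s hs
      simp only [Finset.bipartiteBelow, Finset.coe_filter, Set.mem_ofPred_eq] at hs
      exact hs.2
    · intro s _ s' _ h
      have h' : c * s * c⁻¹ = c * s' * c⁻¹ := h
      exact mul_left_cancel (mul_right_cancel h')
  have hsum : ∑ s ∈ I, Nat.card (Subgroup.centralizer ({s} : Set Γ)) ≤ Nat.card Γ * T.card := by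
    calc ∑ s ∈ I, Nat.card (Subgroup.centralizer ({s} : Set Γ))
        ≤ ∑ s ∈ I, ((Finset.univ : Finset Γ).bipartiteAbove (fun s c => c * s * c⁻¹ ∈ T) s).card :=
          Finset.sum_le_sum hlow
      _ = ∑ c ∈ (Finset.univ : Finset Γ), (I.bipartiteBelow (fun s c => c * s * c⁻¹ ∈ T) c).card :=
          Finset.sum_card_bipartiteAbove_eq_sum_card_bipartiteBelow _
      _ ≤ ∑ _c ∈ (Finset.univ : Finset Γ), T.card := Finset.sum_le_sum hup
      _ = Nat.card Γ * T.card := by
          rw [Finset.sum_const, Finset.card_univ, Nat.card_eq_fintype_card, smul_eq_mul]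
  calc ∑ s ∈ I, Nat.card (Subgroup.centralizer ({s} : Set Γ)) + 2 * Nat.card Γ
      ≤ Nat.card Γ * T.card + 2 * Nat.card Γ := Nat.add_le_add_right hsum _
    _ = Nat.card Γ * (T.card + 2) := by ring
    _ = Nat.card Γ * 2 ^ (Nat.card Γ).factorization 2 := by rw [hTcard]

end Cfsg.Agent.Helper64.SC3
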