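import Mathlib
import Cfsg.Prelude.Def_OddOrderLocal
import Cfsg.Agent.Helper29.BenderA
import Cfsg.Agent.Helper29.BG10G
import Cfsg.Agent.Lib.Cores

/-!
# Assembly lemma for statement S1357 (helper64)

If `M_F ≠ M_σ` then `F(M)` is a TI-subset: a short corollary of the (statement-shaped) conclusions of
the frozen statements S1437 and S1440, the Hall property of `M_σ` (S1350) and `α(M) ⊆ σ(M)`.
-/

set_option autoImplicit false

namespace Cfsg.Agent.Helper64.BG157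

open Cfsg Cfsg.Agent.Helper29.BG10

variable {G : Type*} [Group G] [Finite G]

/-- an elementary abelian subgroup of exponent `q` inside a cyclic subgroup has order at most `q` -/
theorem card_le_of_le_cyclic {q : ℕ} (hq : 0 < q) {Q A : Subgroup G} (hQ : IsCyclic ↥Q) (hAQ : A ≤ Q)
    (hA : ∀ a ∈ A, a ^ q = 1) : Nat.card ↥A ≤ q := by
  have h1 : IsCyclic ↥(A.subgroupOf Q) := inferInstance
  have h2 : IsCyclic ↥A :=
    isCyclic_of_surjective _ (Subgroup.subgroupOfEquivOfLe hAQ).surjective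
  obtain ⟨g, hg⟩ := IsCyclic.exists_generator (α := ↥A)
  have h3 : orderOf g = Nat.card ↥A := orderOf_eq_card_of_forall_mem_zpowers hg
  have h4 : g ^ q = 1 := by
    apply Subtype.ext
    simpa using hA g.1 g.2
  rw [← h3]
  exact Nat.le_of_dvd hq (orderOf_dvd_of_pow_eq_one h4)

/-- a normal Sylow `q`-subgroup of `M_σ` inside `M_F`, `q ∈ β(M)`, prevents `O_{p'}(M_F)` from being
cyclic for `p ≠ q` -/
theorem not_isCyclic_pPrimeCore_of_beta {M : Subgroup G}
    (hHall : ∀ p : ℕ, p.Prime → p ∈ sigma M → ¬ p ∣ (sigmaCore M).relIndex M)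
    (hασ : alpha M ⊆ sigma M)
    {q p : ℕ} (hq : q ∈ beta M) (hp : p.Prime) (hpq : p ≠ q) {Q : Subgroup G}
    (hQF : Q ≤ fittingHallOf M) (hMQ : M ≤ Subgroup.normalizer (Q : Set G)) (hQq : IsPGroup q ↥Q)
    (hQs : ¬ q ∣ Q.relIndex (sigmaCore M)) :
    ¬ IsCyclic ↥(Cfsg.pPrimeCore p ↥(fittingHallOf M)) := by
  intro hcyc
  have hqp : q.Prime := hq.1.1
  have : Fact q.Prime := ⟨hqp⟩
  have hFM : fittingHallOf M ≤ M := Subgroup.map_subtype_le _
  have hσM : sigmaCore M ≤ M := Subgroup.map_subtype_le _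
  -- `Q` is cyclic
  have hQc : IsCyclic ↥Q := by
    have hn : (Q.subgroupOf (fittingHallOf M)).Normal :=
      Subgroup.normal_subgroupOf_of_le_normalizer (hFM.trans hMQ)
    have hcard : Nat.card ↥(Q.subgroupOf (fittingHallOf M)) = Nat.card ↥Q :=
      Nat.card_congr (Subgroup.subgroupOfEquivOfLe hQF).toEquiv
    have hcop : (Nat.card ↥(Q.subgroupOf (fittingHallOf M))).Coprime p := by
      rw [hcard]
      obtain ⟨k, hk⟩ := IsPGroup.iff_card.1 hQq
      rw [hk]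
      exact Nat.Coprime.pow_left k ((Nat.coprime_primes hqp hp).2 (Ne.symm hpq))
    have hle : Q.subgroupOf (fittingHallOf M) ≤ Cfsg.pPrimeCore p ↥(fittingHallOf M) :=
      Cfsg.Agent.Lib.le_pPrimeCore hn hcop
    have h1 : IsCyclic ↥((Q.subgroupOf (fittingHallOf M)).subgroupOf
        (Cfsg.pPrimeCore p ↥(fittingHallOf M))) := inferInstance
    have h2 : IsCyclic ↥(Q.subgroupOf (fittingHallOf M)) :=
      isCyclic_of_surjective _ (Subgroup.subgroupOfEquivOfLe hle).surjective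
    exact isCyclic_of_surjective _ (Subgroup.subgroupOfEquivOfLe hQF).surjective
  -- `Q ⊓ M_σ` is a Sylow `q`-subgroup of `M`
  have hqσ : q ∈ sigma M := hασ hq.1
  have hrel : ¬ q ∣ (Q ⊓ sigmaCore M).relIndex M := by
    rw [← Subgroup.relIndex_mul_relIndex (Q ⊓ sigmaCore M) (sigmaCore M) M inf_le_right hσM,
      Subgroup.inf_relIndex_right]
    intro hd
    rcases (Nat.Prime.dvd_mul hqp).1 hd with h | h
    · exact hQs h
    · exact hHall q hqp hqσ h
  have hSyl : IsSylowIn q (Q ⊓ sigmaCore M) M :=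
    ⟨inf_le_right.trans hσM, hQq.to_le inf_le_left, hrel⟩
  apply hq.1.2
  apply pRankLE_of_isSylowIn hSyl
  by_contra hcon
  obtain ⟨A, hAQ, hAe, hAlt⟩ := (Cfsg.Agent.Helper23.not_pRankLE_subgroup_iff q 2 _).1 hcon
  have h5 : Nat.card ↥A ≤ q :=
    card_le_of_le_cyclic hqp.pos hQc (hAQ.trans inf_le_left) hAe.2
  have h6 : q ≤ q ^ 2 := by nlinarith [hqp.one_lt]
  omega

/-- **Assembly for S1357**: `F(M)` is a TI-subset when `M_F ≠ M_σ`. -/
theorem isTISubset_fittingOf {M K : Subgroup G}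
    (hHall : ∀ p : ℕ, p.Prime → p ∈ sigma M → ¬ p ∣ (sigmaCore M).relIndex M)
    (hασ : alpha M ⊆ sigma M)
    (hKp : (Nat.card ↥K).Prime)
    (h1437 : ∃ q : ℕ, q ∈ beta M ∧ ∃ Q : Subgroup G, Q ≤ fittingHallOf M ∧
      M ≤ Subgroup.normalizer (Q : Set G) ∧ IsPGroup q ↥Q ∧ ¬ q ∣ Q.relIndex (sigmaCore M))
    (h1440 : ∀ g : G, g ∉ M →
      fittingOf M ⊓ (fittingOf M).map (MulAut.conj g).toMonoidHom ≠ ⊥ →
      K = ⊥ ∨ ∃ p : ℕ, p.Prime ∧ p ∉ beta M ∧ IsCyclic ↥(Cfsg.pPrimeCore p ↥(fittingHallOf M))) :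
    Cfsg.IsTISubset (fittingOf M : Set G) := by
  intro g hg x hx hgx
  by_contra hx1
  have hgM : g ∉ M := fun h => hg (Cfsg.Agent.Helper29.Bender.le_normalizer_fittingOf M h)
  have hX : fittingOf M ⊓ (fittingOf M).map (MulAut.conj g).toMonoidHom ≠ ⊥ := by
    intro hbot
    have hmem : g * x * g⁻¹ ∈ fittingOf M ⊓ (fittingOf M).map (MulAut.conj g).toMonoidHom :=
      ⟨hgx, x, hx, by simp [MulAut.conj_apply]⟩
    rw [hbot, Subgroup.mem_bot] at hmem
    exact hx1 (conj_eq_one_iff.1 hmem)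
  obtain ⟨q, hq, Q, hQF, hMQ, hQq, hQs⟩ := h1437
  rcases h1440 g hgM hX with hK | ⟨p, hp, hpβ, hcyc⟩
  · rw [hK, Subgroup.card_bot] at hKp
    exact Nat.not_prime_one hKp
  · have hpq : p ≠ q := fun h => hpβ (h ▸ hq)
    exact not_isCyclic_pPrimeCore_of_beta hHall hασ hq hp hpq hQF hMQ hQq hQs hcyc

end Cfsg.Agent.Helper64.BG157
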