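import Mathlib
import Cfsg.Agent.Helper44.CliffDefs

/-!
# (R1) the group `R` inside `GL_{2^n}(3)` and its map onto `K`, from (C7), (L5), (N1)
-/

set_option autoImplicit false
open scoped MatrixGroups

namespace Cfsg.Agent.Helper64.Cliff

open Matrix Cfsg.Agent.Helper44.Cliff

variable {n : ℕ}

/-- conjugation without inverses -/
theorem conj_eq_iff (g : GL (X n) (ZMod 3)) (A B : Matrix (X n) (X n) (ZMod 3)) :
    (g : Matrix (X n) (X n) (ZMod 3)) * A *
      ((g⁻¹ : GL (X n) (ZMod 3)) : Matrix (X n) (X n) (ZMod 3)) = B ↔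
      (g : Matrix (X n) (X n) (ZMod 3)) * A = B * (g : Matrix (X n) (X n) (ZMod 3)) := by
  have h1 : ((g⁻¹ : GL (X n) (ZMod 3)) : Matrix (X n) (X n) (ZMod 3)) *
      (g : Matrix (X n) (X n) (ZMod 3)) = 1 := by
    rw [← Units.val_mul, inv_mul_cancel, Units.val_one]
  have h2 : (g : Matrix (X n) (X n) (ZMod 3)) *
      ((g⁻¹ : GL (X n) (ZMod 3)) : Matrix (X n) (X n) (ZMod 3)) = 1 := by
    rw [← Units.val_mul, mul_inv_cancel, Units.val_one]
  constructor
  · intro h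
    rw [← h, Matrix.mul_assoc, h1, Matrix.mul_one]
  · intro h
    rw [h, Matrix.mul_assoc, h2, Matrix.mul_one]

/-- the relation defining `Rg` -/
def RgRel {K : Type*} (act : K → U0 n → U0 n) (g : GL (X n) (ZMod 3)) (k : K) : Prop :=
  ∀ u, ∃ ε : ZMod 2, (g : Matrix (X n) (X n) (ZMod 3)) * T u =
    sg ε • (T (act k u) * (g : Matrix (X n) (X n) (ZMod 3)))

theorem RgRel_one {K : Type*} [Group K] (act : K → U0 n → U0 n) (h1 : ∀ u, act 1 u = u) :
    RgRel act (1 : GL (X n) (ZMod 3)) 1 := by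
  intro u
  refine ⟨0, ?_⟩
  rw [h1, sg_zero, one_smul, Units.val_one, Matrix.one_mul, Matrix.mul_one]

theorem RgRel_mul {K : Type*} [Group K] (act : K → U0 n → U0 n)
    (hmul : ∀ k k' u, act (k * k') u = act k (act k' u)) {g g' : GL (X n) (ZMod 3)} {k k' : K}
    (hg : RgRel act g k) (hg' : RgRel act g' k') : RgRel act (g * g') (k * k') := by
  intro u
  obtain ⟨ε', h'⟩ := hg' u
  obtain ⟨ε, h⟩ := hg (act k' u)
  refine ⟨ε' + ε, ?_⟩
  rw [Units.val_mul, Matrix.mul_assoc, h', Matrix.mul_smul, ← Matrix.mul_assoc, h, Matrix.smul_mul,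
    smul_smul, hmul, sg_add, Matrix.mul_assoc]

theorem RgRel_inv {K : Type*} [Group K] (act : K → U0 n → U0 n) (h1 : ∀ u, act 1 u = u)
    (hmul : ∀ k k' u, act (k * k') u = act k (act k' u)) {g : GL (X n) (ZMod 3)} {k : K}
    (hg : RgRel act g k) : RgRel act g⁻¹ k⁻¹ := by
  intro u
  obtain ⟨ε, h⟩ := hg (act k⁻¹ u)
  have hu : act k (act k⁻¹ u) = u := by rw [← hmul, mul_inv_cancel, h1]
  rw [hu] at h
  refine ⟨ε, ?_⟩
  have h1' : ((g⁻¹ : GL (X n) (ZMod 3)) : Matrix (X n) (X n) (ZMod 3)) *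
      (g : Matrix (X n) (X n) (ZMod 3)) = 1 := by
    rw [← Units.val_mul, inv_mul_cancel, Units.val_one]
  have h2' : (g : Matrix (X n) (X n) (ZMod 3)) *
      ((g⁻¹ : GL (X n) (ZMod 3)) : Matrix (X n) (X n) (ZMod 3)) = 1 := by
    rw [← Units.val_mul, mul_inv_cancel, Units.val_one]
  -- `T (act k⁻¹ u) * g⁻¹ = sg ε • (g⁻¹ * T u)`
  have h3 : T (act k⁻¹ u) * ((g⁻¹ : GL (X n) (ZMod 3)) : Matrix (X n) (X n) (ZMod 3)) =
      sg ε • (((g⁻¹ : GL (X n) (ZMod 3)) : Matrix (X n) (X n) (ZMod 3)) * T u) := by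
    have h4 := congrArg (fun M => ((g⁻¹ : GL (X n) (ZMod 3)) : Matrix (X n) (X n) (ZMod 3)) * M *
      ((g⁻¹ : GL (X n) (ZMod 3)) : Matrix (X n) (X n) (ZMod 3))) h
    rw [← Matrix.mul_assoc, h1', Matrix.one_mul, Matrix.mul_smul, Matrix.smul_mul,
      Matrix.mul_assoc, Matrix.mul_assoc, h2', Matrix.mul_one] at h4
    exact h4
  rw [h3, smul_smul, sg_mul_self, one_smul]

/-- the subgroup `Rg` -/
def RgSub {K : Type*} [Group K] (act : K → U0 n → U0 n) (h1 : ∀ u, act 1 u = u)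
    (hmul : ∀ k k' u, act (k * k') u = act k (act k' u)) : Subgroup (GL (X n) (ZMod 3)) where
  carrier := {g | ∃ k : K, RgRel act g k}
  one_mem' := ⟨1, RgRel_one act h1⟩
  mul_mem' := by
    rintro g g' ⟨k, hk⟩ ⟨k', hk'⟩
    exact ⟨k * k', RgRel_mul act hmul hk hk'⟩
  inv_mem' := by
    rintro g ⟨k, hk⟩
    exact ⟨k⁻¹, RgRel_inv act h1 hmul hk⟩

/-- uniqueness of `k` -/
theorem RgRel_unique
    (hC7 : ∀ (ε δ : ZMod 2) (u v : U0 n), sg ε • T u = sg δ • T v → u = v ∧ ε = δ)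
    {K : Type*} (act : K → U0 n → U0 n)
    (hfaith : ∀ k k', (∀ u, act k u = act k' u) → k = k') {g : GL (X n) (ZMod 3)} {k k' : K}
    (hk : RgRel act g k) (hk' : RgRel act g k') : k = k' := by
  apply hfaith
  intro u
  obtain ⟨ε, h⟩ := hk u
  obtain ⟨ε', h'⟩ := hk' u
  have h2' : (g : Matrix (X n) (X n) (ZMod 3)) *
      ((g⁻¹ : GL (X n) (ZMod 3)) : Matrix (X n) (X n) (ZMod 3)) = 1 := by
    rw [← Units.val_mul, mul_inv_cancel, Units.val_one]
  have h3 : sg ε • (T (act k u) * (g : Matrix (X n) (X n) (ZMod 3))) =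
      sg ε' • (T (act k' u) * (g : Matrix (X n) (X n) (ZMod 3))) := h.symm.trans h'
  have h4 := congrArg (fun M => M * ((g⁻¹ : GL (X n) (ZMod 3)) : Matrix (X n) (X n) (ZMod 3))) h3
  simp only [Matrix.smul_mul, Matrix.mul_assoc, h2', Matrix.mul_one] at h4
  exact (hC7 _ _ _ _ h4).1

/-- (R1) from its ingredients (C7), (L5), (N1) given as hypotheses -/
theorem exists_Rg_of
    (hC7 : ∀ (ε δ : ZMod 2) (u v : U0 n), sg ε • T u = sg δ • T v → u = v ∧ ε = δ)
    (hL5 : ∀ (σ : U0 n → U0 n), (∀ u v, σ (u + v) = σ u + σ v) → (∀ u, q0 (σ u) = q0 u) →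
      ∃ (g : GL (X n) (ZMod 3)) (f : U0 n → ZMod 2), ∀ u,
        (g : Matrix (X n) (X n) (ZMod 3)) * T u *
          ((g⁻¹ : GL (X n) (ZMod 3)) : Matrix (X n) (X n) (ZMod 3)) = sg (f u) • T (σ u))
    (hN1 : ∀ (g : GL (X n) (ZMod 3)) (ℓ : U0 n → ZMod 2),
      (∀ u, (g : Matrix (X n) (X n) (ZMod 3)) * T u *
        ((g⁻¹ : GL (X n) (ZMod 3)) : Matrix (X n) (X n) (ZMod 3)) = sg (ℓ u) • T u) → g ∈ Q0 n)
    {K : Type*} [Group K] (act : K → U0 n → U0 n) (h1 : ∀ u, act 1 u = u)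
    (hmul : ∀ k k' u, act (k * k') u = act k (act k' u))
    (hadd : ∀ k u v, act k (u + v) = act k u + act k v) (hq : ∀ k u, q0 (act k u) = q0 u)
    (hfaith : ∀ k k', (∀ u, act k u = act k' u) → k = k') :
    ∃ (Rg : Subgroup (GL (X n) (ZMod 3))) (π : ↥Rg →* K),
      (∀ (r : ↥Rg) (u : U0 n), ∃ ε : ZMod 2,
        ((r : GL (X n) (ZMod 3)) : Matrix (X n) (X n) (ZMod 3)) * T u *
          (((r : GL (X n) (ZMod 3))⁻¹ : GL (X n) (ZMod 3)) : Matrix (X n) (X n) (ZMod 3)) =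
          sg ε • T (act (π r) u)) ∧
      Function.Surjective π ∧ Q0 n ≤ Rg ∧ π.ker = (Q0 n).subgroupOf Rg := by
  classical
  have hspec : ∀ r : ↥(RgSub act h1 hmul), RgRel act (r : GL (X n) (ZMod 3))
      (Classical.choose r.2) := fun r => Classical.choose_spec r.2
  have huniq : ∀ (r : ↥(RgSub act h1 hmul)) (k : K), RgRel act (r : GL (X n) (ZMod 3)) k →
      Classical.choose r.2 = k := fun r k hk => RgRel_unique hC7 act hfaith (hspec r) hk
  let π : ↥(RgSub act h1 hmul) →* K :=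
    { toFun := fun r => Classical.choose r.2
      map_one' := huniq 1 1 (RgRel_one act h1)
      map_mul' := fun r r' => huniq (r * r') _ (RgRel_mul act hmul (hspec r) (hspec r')) }
  have hπ : ∀ r : ↥(RgSub act h1 hmul), π r = Classical.choose r.2 := fun r => rfl
  -- elements of `Q0 n` act trivially
  have hQ0 : ∀ g : GL (X n) (ZMod 3), g ∈ Q0 n → RgRel act g 1 := by
    rintro g ⟨ε, w, hg⟩ u
    refine ⟨bil w u, ?_⟩
    rw [h1, hg, Matrix.smul_mul, Matrix.mul_smul, T_comm w u, smul_smul, smul_smul, mul_comm]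
  refine ⟨RgSub act h1 hmul, π, ?_, ?_, ?_, ?_⟩
  · intro r u
    obtain ⟨ε, h⟩ := hspec r u
    refine ⟨ε, ?_⟩
    rw [conj_eq_iff, h, Matrix.smul_mul, hπ]
  · intro k
    obtain ⟨g, f, hgf⟩ := hL5 (act k) (hadd k) (hq k)
    have hrel : RgRel act g k := by
      intro u
      refine ⟨f u, ?_⟩
      have := (conj_eq_iff g (T u) (sg (f u) • T (act k u))).mp (hgf u)
      rw [this, Matrix.smul_mul]
    exact ⟨⟨g, k, hrel⟩, huniq ⟨g, k, hrel⟩ k hrel⟩
  · intro g hg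
    exact ⟨1, hQ0 g hg⟩
  · ext r
    rw [MonoidHom.mem_ker, Subgroup.mem_subgroupOf]
    constructor
    · intro hr
      have hrel := hspec r
      rw [← hπ, hr] at hrel
      -- choose the signs
      have hex : ∀ u, ∃ ε : ZMod 2,
          ((r : GL (X n) (ZMod 3)) : Matrix (X n) (X n) (ZMod 3)) * T u *
            (((r : GL (X n) (ZMod 3))⁻¹ : GL (X n) (ZMod 3)) : Matrix (X n) (X n) (ZMod 3)) =
            sg ε • T u := by
        intro u
        obtain ⟨ε, h⟩ := hrel u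
        rw [h1] at h
        refine ⟨ε, ?_⟩
        rw [conj_eq_iff, h, Matrix.smul_mul]
      choose ℓ hℓ using hex
      exact hN1 (r : GL (X n) (ZMod 3)) ℓ hℓ
    · intro hr
      rw [hπ]
      exact huniq r 1 (hQ0 _ hr)

end Cfsg.Agent.Helper64.Cliff
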