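import Mathlib
import Cfsg.Prelude.Def_Transfer
import Cfsg.Agent.Helper44.CliffDefs
import Cfsg.Agent.Helper53.Heis

/-!
# (R2) packaging of the extension in coordinates, from (R1), (Q1), (Q2)
-/

set_option autoImplicit false
open scoped MatrixGroups

namespace Cfsg.Agent.Helper64.Cliff

open Matrix Cfsg.Agent.Helper44.Cliff

variable {n : ℕ}

/-- an isomorphism preserves the centre -/
theorem mem_center_mulEquiv_iff {A B : Type*} [Group A] [Group B] (φ : A ≃* B) (a : A) :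
    φ a ∈ Subgroup.center B ↔ a ∈ Subgroup.center A := by
  rw [Subgroup.mem_center_iff, Subgroup.mem_center_iff]
  constructor
  · intro h a'
    apply φ.injective
    rw [map_mul, map_mul]
    exact h (φ a')
  · intro h b
    obtain ⟨a', rfl⟩ := φ.surjective b
    rw [← map_mul, ← map_mul, h a']

/-- (R2) from (R1), (Q1), (Q2) given as hypotheses -/
theorem exists_extension_coords_of
    (hQ1 : Cfsg.IsExtraspecial 2 ↥(Q0 n) ∧ Nat.card ↥(Q0 n) = 2 ^ (2 * n + 1))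
    (hQ2 : ∃ χ : ↥(Q0 n) →* Multiplicative (U0 n),
      (∀ (a : ↥(Q0 n)) (ε : ZMod 2) (u : U0 n),
        ((a : GL (X n) (ZMod 3)) : Matrix (X n) (X n) (ZMod 3)) = sg ε • T u →
        χ a = Multiplicative.ofAdd u) ∧
      Function.Surjective χ ∧ χ.ker = Subgroup.center ↥(Q0 n) ∧
      ∀ a : ↥(Q0 n), a * a = 1 ↔ q0 (Multiplicative.toAdd (χ a)) = 0)
    {K : Type*} [Group K] (act : K → U0 n → U0 n)
    (hR1 : ∃ (Rg : Subgroup (GL (X n) (ZMod 3))) (π : ↥Rg →* K),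
      (∀ (r : ↥Rg) (u : U0 n), ∃ ε : ZMod 2,
        ((r : GL (X n) (ZMod 3)) : Matrix (X n) (X n) (ZMod 3)) * T u *
          (((r : GL (X n) (ZMod 3))⁻¹ : GL (X n) (ZMod 3)) : Matrix (X n) (X n) (ZMod 3)) =
          sg ε • T (act (π r) u)) ∧
      Function.Surjective π ∧ Q0 n ≤ Rg ∧ π.ker = (Q0 n).subgroupOf Rg) :
    ∃ (R : Type) (_ : Group R) (_ : Finite R) (Q : Subgroup R) (hN : Q.Normal) (e : R ⧸ Q ≃* K)
      (χ : ↥Q →* Multiplicative (U0 n)),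
      Cfsg.IsExtraspecial 2 ↥Q ∧ Nat.card ↥Q = 2 ^ (2 * n + 1) ∧ Function.Surjective χ ∧
      χ.ker = Subgroup.center ↥Q ∧
      (∀ (r : R) (a : ↥Q), χ ⟨r * a * r⁻¹, hN.conj_mem (a : R) a.2 r⟩ =
        Multiplicative.ofAdd (act (e (r : R ⧸ Q)) (Multiplicative.toAdd (χ a)))) ∧
      ∀ a : ↥Q, a * a = 1 ↔ q0 (Multiplicative.toAdd (χ a)) = 0 := by
  obtain ⟨Rg, π, hconj, hsurj, hle, hker⟩ := hR1
  obtain ⟨χ0, hχ0, hχ0surj, hχ0ker, hχ0sq⟩ := hQ2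
  have hN : ((Q0 n).subgroupOf Rg).Normal := by
    rw [← hker]
    infer_instance
  let e : ↥Rg ⧸ (Q0 n).subgroupOf Rg ≃* K :=
    (QuotientGroup.quotientMulEquivOfEq hker.symm).trans
      (QuotientGroup.quotientKerEquivOfSurjective π hsurj)
  have he : ∀ r : ↥Rg, e (r : ↥Rg ⧸ (Q0 n).subgroupOf Rg) = π r := fun r => rfl
  let φ : ↥((Q0 n).subgroupOf Rg) ≃* ↥(Q0 n) := Subgroup.subgroupOfEquivOfLe hle
  have hφ : ∀ a : ↥((Q0 n).subgroupOf Rg),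
      ((φ a : ↥(Q0 n)) : GL (X n) (ZMod 3)) = ((a : ↥Rg) : GL (X n) (ZMod 3)) := fun a => rfl
  refine ⟨↥Rg, inferInstance, inferInstance, (Q0 n).subgroupOf Rg, hN, e,
    χ0.comp φ.toMonoidHom, ?_, ?_, ?_, ?_, ?_, ?_⟩
  · exact Cfsg.Agent.Helper53.isExtraspecial_of_mulEquiv φ.symm hQ1.1
  · rw [Nat.card_congr φ.toEquiv]
    exact hQ1.2
  · exact hχ0surj.comp φ.surjective
  · ext a
    rw [MonoidHom.mem_ker, MonoidHom.comp_apply]
    have h1 : χ0 (φ a) = 1 ↔ φ a ∈ χ0.ker := (MonoidHom.mem_ker).symm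
    show χ0 (φ a) = 1 ↔ _
    rw [h1, hχ0ker, mem_center_mulEquiv_iff]
  · intro r a
    obtain ⟨ε, u, hau⟩ := (mem_Q0_iff _).mp (φ a).2
    have h1 : χ0 (φ a) = Multiplicative.ofAdd u := hχ0 (φ a) ε u hau
    obtain ⟨ε', hr⟩ := hconj r u
    have h2 : (χ0.comp φ.toMonoidHom) a = Multiplicative.ofAdd u := h1
    rw [h2, toAdd_ofAdd, he]
    show χ0 (φ ⟨r * a * r⁻¹, hN.conj_mem (a : ↥Rg) a.2 r⟩) = _
    apply hχ0 _ (ε + ε')
    rw [hφ]
    show (((r * (a : ↥Rg) * r⁻¹ : ↥Rg) : GL (X n) (ZMod 3)) : Matrix (X n) (X n) (ZMod 3)) = _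
    rw [Subgroup.coe_mul, Subgroup.coe_mul, Subgroup.coe_inv, Units.val_mul, Units.val_mul,
      ← hφ a, hau, Matrix.mul_smul, Matrix.smul_mul, hr, smul_smul, sg_add]
  · intro a
    show a * a = 1 ↔ q0 (Multiplicative.toAdd (χ0 (φ a))) = 0
    rw [← hχ0sq (φ a), ← map_mul, map_eq_one_iff φ φ.injective]

end Cfsg.Agent.Helper64.Cliff
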