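import Mathlib
import Cfsg.Prelude.Def_Transfer
import Cfsg.Agent.Helper44.CliffDefs
import Cfsg.Agent.Helper23.CliffL5pre
import Cfsg.Agent.Helper88.CliffL2
import Cfsg.Agent.Helper30.CliffL3
import Cfsg.Agent.Helper48.CliffL4
import Cfsg.Agent.Helper30.CliffN1
import Cfsg.Agent.Helper87.CliffC7
import Cfsg.Agent.Helper82.CliffQ1
import Cfsg.Agent.Helper82.CliffQ2
import Cfsg.Agent.Helper64.CliffR1
import Cfsg.Agent.Helper64.CliffR2

/-!
# (R1), (R2): the final statements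
-/

set_option autoImplicit false
open scoped MatrixGroups

namespace Cfsg.Agent.Helper64.Cliff

open Matrix Cfsg.Agent.Helper44.Cliff

variable {n : ℕ}

/-- (L5) from the landed pieces (L2), (L3), (L4) -/
theorem exists_lift' (σ : U0 n → U0 n) (hadd : ∀ u v, σ (u + v) = σ u + σ v)
    (hq : ∀ u, q0 (σ u) = q0 u) :
    ∃ (g : GL (X n) (ZMod 3)) (f : U0 n → ZMod 2), ∀ u,
      (g : Matrix (X n) (X n) (ZMod 3)) * T u * ((g⁻¹ : GL (X n) (ZMod 3)) : Matrix (X n) (X n) (ZMod 3)) =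
        sg (f u) • T (σ u) :=
  Cfsg.Agent.Helper23.Cliff.exists_lift_of σ hadd (Cfsg.Agent.Helper88.Cliff.exists_sign σ hadd hq)
    (fun T' h0 hmul => Cfsg.Agent.Helper30.Cliff.exists_algEnd T' h0 hmul)
    (fun Φ h1 hmul => Cfsg.Agent.Helper48.Cliff.skolem_noether Φ h1 hmul)

/-- (R1) the group `R` inside `GL_{2^n}(3)` and its map onto `K` -/
theorem exists_Rg {K : Type*} [Group K] (act : K → U0 n → U0 n) (h1 : ∀ u, act 1 u = u)
    (hmul : ∀ k k' u, act (k * k') u = act k (act k' u))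
    (hadd : ∀ k u v, act k (u + v) = act k u + act k v) (hq : ∀ k u, q0 (act k u) = q0 u)
    (hfaith : ∀ k k', (∀ u, act k u = act k' u) → k = k') :
    ∃ (Rg : Subgroup (GL (X n) (ZMod 3))) (π : ↥Rg →* K),
      (∀ (r : ↥Rg) (u : U0 n), ∃ ε : ZMod 2,
        ((r : GL (X n) (ZMod 3)) : Matrix (X n) (X n) (ZMod 3)) * T u *
          (((r : GL (X n) (ZMod 3))⁻¹ : GL (X n) (ZMod 3)) : Matrix (X n) (X n) (ZMod 3)) =
          sg ε • T (act (π r) u)) ∧
      Function.Surjective π ∧ Q0 n ≤ Rg ∧ π.ker = (Q0 n).subgroupOf Rg :=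
  exists_Rg_of (fun ε δ u v h => Cfsg.Agent.Helper87.Cliff.T_unique ε δ u v h)
    (fun σ hadd' hq' => exists_lift' σ hadd' hq')
    (fun g ℓ h => Cfsg.Agent.Helper30.Cliff.mem_Q0_of_trivial_action g ℓ h)
    act h1 hmul hadd hq hfaith

/-- (R2) packaging in coordinates -/
theorem exists_extension_coords {K : Type*} [Group K] (hn : 1 ≤ n) (act : K → U0 n → U0 n)
    (h1 : ∀ u, act 1 u = u) (hmul : ∀ k k' u, act (k * k') u = act k (act k' u))
    (hadd : ∀ k u v, act k (u + v) = act k u + act k v) (hq : ∀ k u, q0 (act k u) = q0 u)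
    (hfaith : ∀ k k', (∀ u, act k u = act k' u) → k = k') :
    ∃ (R : Type) (_ : Group R) (_ : Finite R) (Q : Subgroup R) (hN : Q.Normal) (e : R ⧸ Q ≃* K)
      (χ : ↥Q →* Multiplicative (U0 n)),
      Cfsg.IsExtraspecial 2 ↥Q ∧ Nat.card ↥Q = 2 ^ (2 * n + 1) ∧ Function.Surjective χ ∧
      χ.ker = Subgroup.center ↥Q ∧
      (∀ (r : R) (a : ↥Q), χ ⟨r * a * r⁻¹, hN.conj_mem (a : R) a.2 r⟩ =
        Multiplicative.ofAdd (act (e (r : R ⧸ Q)) (Multiplicative.toAdd (χ a)))) ∧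
      ∀ a : ↥Q, a * a = 1 ↔ q0 (Multiplicative.toAdd (χ a)) = 0 :=
  exists_extension_coords_of (Cfsg.Agent.Helper82.Cliff.Q0_extraspecial hn)
    (Cfsg.Agent.Helper82.Cliff.exists_chi0 n) act (exists_Rg act h1 hmul hadd hq hfaith)

end Cfsg.Agent.Helper64.Cliff
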