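import Mathlib

set_option autoImplicit false

namespace Cfsg.Agent.Helper64

open DihedralGroup

/-- The parity character of the dihedral group `D_m`, `m` even: `r i, sr i ↦ i mod 2`. -/
def dihedralParity {m : ℕ} (hm : 2 ∣ m) : DihedralGroup m →* Multiplicative (ZMod 2) where
  toFun x := match x with
    | r i => Multiplicative.ofAdd (ZMod.castHom hm (ZMod 2) i)
    | sr i => Multiplicative.ofAdd (ZMod.castHom hm (ZMod 2) i)
  map_one' := by
    change Multiplicative.ofAdd (ZMod.castHom hm (ZMod 2) 0) = 1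
    simp
  map_mul' := by
    have hneg : ∀ x : ZMod 2, -x = x := by decide
    rintro (i | i) (j | j)
    · change Multiplicative.ofAdd (ZMod.castHom hm (ZMod 2) (i + j)) = _
      rw [map_add]; rfl
    · change Multiplicative.ofAdd (ZMod.castHom hm (ZMod 2) (j - i)) = _
      rw [map_sub, sub_eq_add_neg, hneg, add_comm]; rfl
    · change Multiplicative.ofAdd (ZMod.castHom hm (ZMod 2) (i + j)) = _
      rw [map_add]; rfl
    · change Multiplicative.ofAdd (ZMod.castHom hm (ZMod 2) (j - i)) = _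
      rw [map_sub, sub_eq_add_neg, hneg, add_comm]; rfl

theorem dihedralParity_sr_zero {m : ℕ} (hm : 2 ∣ m) : dihedralParity hm (sr 0) = 1 := by
  change Multiplicative.ofAdd (ZMod.castHom hm (ZMod 2) 0) = 1
  simp

theorem dihedralParity_sr_one {m : ℕ} (hm : 2 ∣ m) : dihedralParity hm (sr 1) ≠ 1 := by
  change Multiplicative.ofAdd (ZMod.castHom hm (ZMod 2) 1) ≠ 1
  rw [map_one]
  decide

/-- In `D_m`, `m` even, the reflections `sr 0` and `sr 1` are not conjugate. -/
theorem not_conj_sr_zero_sr_one {m : ℕ} (hm : 2 ∣ m) (y : DihedralGroup m) :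
    y * sr 0 * y⁻¹ ≠ sr 1 := by
  intro h
  have h1 := congrArg (dihedralParity hm) h
  rw [map_mul, map_mul, map_inv, dihedralParity_sr_zero, mul_one, mul_inv_cancel] at h1
  exact dihedralParity_sr_one hm h1.symm

/-- The only rotation of order two in `D_m`, `m` even. -/
theorem r_eq_of_orderOf_eq_two {m : ℕ} [NeZero m] (hm : 2 ∣ m) {i : ZMod m}
    (h : orderOf (r i) = 2) : r i = r ((m / 2 : ℕ) : ZMod m) := by
  obtain ⟨k, hk⟩ := hm
  have hmpos : 0 < m := Nat.pos_of_ne_zero (NeZero.ne m)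
  have h1 : (r i) ^ 2 = 1 := by
    have := pow_orderOf_eq_one (r i)
    rwa [h] at this
  have h2 : r i ≠ 1 := by
    intro h3
    rw [h3, orderOf_one] at h
    omega
  rw [pow_two, r_mul_r, one_def, r.injEq] at h1
  rw [one_def, Ne, r.injEq] at h2
  have h3 : ((i.val + i.val : ℕ) : ZMod m) = 0 := by
    rw [Nat.cast_add, ZMod.natCast_zmod_val]; exact h1
  rw [ZMod.natCast_eq_zero_iff] at h3
  have hlt : i.val < m := ZMod.val_lt i
  have hne : i.val ≠ 0 := fun h0 => h2 ((ZMod.val_eq_zero i).mp h0)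
  have hval : i.val = k := by
    obtain ⟨t, ht⟩ := h3
    generalize i.val = v at ht hlt hne ⊢
    subst hk
    have ht1 : v = k * t := by nlinarith
    have : t = 1 := by
      rcases Nat.lt_or_ge t 2 with h4 | h4
      · interval_cases t
        · simp only [mul_zero] at ht1; exact absurd ht1 hne
        · rfl
      · exfalso; nlinarith
    rw [ht1, this, mul_one]
  have hdiv : m / 2 = k := by omega
  rw [r.injEq, hdiv, ← hval, ZMod.natCast_zmod_val]

/-- Every reflection in `D_m` is conjugate (by a rotation) to `sr 0` or `sr 1`. -/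
theorem exists_conj_sr {m : ℕ} [NeZero m] (i : ZMod m) :
    ∃ y : DihedralGroup m, y * sr 0 * y⁻¹ = sr i ∨ y * sr 1 * y⁻¹ = sr i := by
  rcases Nat.even_or_odd' i.val with ⟨t, ht | ht⟩
  · refine ⟨r (-(t : ZMod m)), Or.inl ?_⟩
    rw [inv_r, r_mul_sr, sr_mul_r, sr.injEq, neg_neg, sub_neg_eq_add, zero_add]
    have : ((i.val : ℕ) : ZMod m) = ((2 * t : ℕ) : ZMod m) := by rw [ht]
    rw [ZMod.natCast_zmod_val] at this
    rw [this]; push_cast; ring
  · refine ⟨r (-(t : ZMod m)), Or.inr ?_⟩
    rw [inv_r, r_mul_sr, sr_mul_r, sr.injEq, neg_neg, sub_neg_eq_add]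
    have : ((i.val : ℕ) : ZMod m) = ((2 * t + 1 : ℕ) : ZMod m) := by rw [ht]
    rw [ZMod.natCast_zmod_val] at this
    rw [this]; push_cast; ring

end Cfsg.Agent.Helper64
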