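import Cfsg.Agent.Helper64.Dihedral
import Cfsg.Agent.Helper64.Basic
import Cfsg.Agent.Helper53.NormalComplement

set_option autoImplicit false

namespace Cfsg.Agent.Helper64

open DihedralGroup Subgroup

section Data

variable {G : Type*} [Group G] {P : Subgroup G} {m : ℕ} (e : ↥P ≃* DihedralGroup m)

/-- The rotation generator of a dihedral subgroup, as an element of `G`. -/
def dihA : G := ((e.symm (r 1) : P) : G)

/-- A reflection of a dihedral subgroup, as an element of `G`. -/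
def dihB : G := ((e.symm (sr 0) : P) : G)

/-- The central involution of a dihedral subgroup (`m` even), as an element of `G`. -/
def dihZ : G := ((e.symm (r ((m / 2 : ℕ) : ZMod m)) : P) : G)

theorem dihA_mem : dihA e ∈ P := (e.symm (r 1)).2
theorem dihB_mem : dihB e ∈ P := (e.symm (sr 0)).2
theorem dihZ_mem : dihZ e ∈ P := (e.symm _).2

theorem dihB_mul_dihA : dihB e * dihA e = ((e.symm (sr 1) : P) : G) := by
  unfold dihB dihA
  rw [← Subgroup.coe_mul, ← map_mul, sr_mul_r, zero_add]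

theorem orderOf_dihA : orderOf (dihA e) = m := by
  unfold dihA
  rw [Subgroup.orderOf_coe, MulEquiv.orderOf_eq, orderOf_r_one]

theorem orderOf_dihB : orderOf (dihB e) = 2 := by
  unfold dihB
  rw [Subgroup.orderOf_coe, MulEquiv.orderOf_eq, orderOf_sr]

theorem orderOf_dihB_mul_dihA : orderOf (dihB e * dihA e) = 2 := by
  rw [dihB_mul_dihA, Subgroup.orderOf_coe, MulEquiv.orderOf_eq, orderOf_sr]

theorem dihA_pow (k : ℕ) : dihA e ^ k = ((e.symm (r (k : ZMod m)) : P) : G) := by
  unfold dihA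
  rw [← Subgroup.coe_pow, ← map_pow, r_one_pow]

theorem dihA_zpow (k : ℤ) : dihA e ^ k = ((e.symm (r (k : ZMod m)) : P) : G) := by
  unfold dihA
  rw [← Subgroup.coe_zpow, ← map_zpow, r_zpow, one_mul]

theorem dihB_mul_dihA_pow (k : ℕ) :
    dihB e * dihA e ^ k = ((e.symm (sr (k : ZMod m)) : P) : G) := by
  rw [dihA_pow]
  unfold dihB
  rw [← Subgroup.coe_mul, ← map_mul, sr_mul_r, zero_add]

/-- Every element of `P` is `a ^ k` or `b * a ^ k`. -/
theorem mem_cases [NeZero m] {x : G} (hx : x ∈ P) :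
    (∃ k : ℕ, x = dihA e ^ k) ∨ ∃ k : ℕ, x = dihB e * dihA e ^ k := by
  have hx' : x = ((e.symm (e ⟨x, hx⟩) : P) : G) := by simp
  rcases h : e ⟨x, hx⟩ with i | i
  · left
    refine ⟨i.val, ?_⟩
    rw [dihA_pow, ZMod.natCast_zmod_val, ← h]
    exact hx'
  · right
    refine ⟨i.val, ?_⟩
    rw [dihB_mul_dihA_pow, ZMod.natCast_zmod_val, ← h]
    exact hx'

/-- Elements of `⟨a⟩` correspond to rotations. -/
theorem exists_r_of_mem_zpowers {x : G} (hx : x ∈ zpowers (dihA e)) :
    ∃ i : ZMod m, x = ((e.symm (r i) : P) : G) := by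
  obtain ⟨k, rfl⟩ := mem_zpowers_iff.mp hx
  exact ⟨_, dihA_zpow e k⟩

theorem zpowers_dihA_le : zpowers (dihA e) ≤ P := zpowers_le.mpr (dihA_mem e)

theorem dihB_not_mem_zpowers : dihB e ∉ zpowers (dihA e) := by
  intro h
  obtain ⟨i, hi⟩ := exists_r_of_mem_zpowers e h
  unfold dihB at hi
  have := e.symm.injective (Subtype.ext hi)
  cases this

theorem dihB_mul_dihA_not_mem_zpowers : dihB e * dihA e ∉ zpowers (dihA e) := by
  intro h
  obtain ⟨i, hi⟩ := exists_r_of_mem_zpowers e h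
  rw [dihB_mul_dihA] at hi
  have := e.symm.injective (Subtype.ext hi)
  cases this

theorem dihB_conj_dihA : dihB e * dihA e * (dihB e)⁻¹ = (dihA e)⁻¹ := by
  unfold dihB dihA
  rw [← Subgroup.coe_inv, ← Subgroup.coe_inv, ← Subgroup.coe_mul, ← Subgroup.coe_mul, ← map_inv,
    ← map_inv, ← map_mul, ← map_mul]
  congr 2
  rw [sr_mul_r, inv_sr, sr_mul_sr, inv_r, zero_add, zero_sub]

variable (hm : 2 ∣ m)

include hm in
/-- An involution in `⟨a⟩` is the central involution. -/
theorem eq_dihZ_of_mem_zpowers [NeZero m] {x : G} (hx : x ∈ zpowers (dihA e))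
    (hx2 : orderOf x = 2) : x = dihZ e := by
  obtain ⟨i, rfl⟩ := exists_r_of_mem_zpowers e hx
  rw [Subgroup.orderOf_coe, MulEquiv.orderOf_eq] at hx2
  unfold dihZ
  rw [r_eq_of_orderOf_eq_two hm hx2]

include hm in
theorem dihZ_ne_one [NeZero m] : dihZ e ≠ 1 := by
  unfold dihZ
  intro h
  have h1 : e.symm (r ((m / 2 : ℕ) : ZMod m)) = 1 := Subtype.ext h
  rw [← map_one e.symm, one_def] at h1
  have h2 := e.symm.injective h1
  rw [r.injEq, ZMod.natCast_eq_zero_iff] at h2
  obtain ⟨k, hk⟩ := hm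
  have hmpos : 0 < m := Nat.pos_of_ne_zero (NeZero.ne m)
  have : m / 2 = k := by omega
  rw [this] at h2
  have := Nat.le_of_dvd (by omega) h2
  omega

include hm in
theorem dihZ_mul_self : dihZ e * dihZ e = 1 := by
  unfold dihZ
  rw [← Subgroup.coe_mul, ← map_mul, r_mul_r, ← Nat.cast_add]
  have : m / 2 + m / 2 = m := by omega
  rw [this, ZMod.natCast_self, r_zero, map_one, Subgroup.coe_one]

include hm in
theorem orderOf_dihZ [NeZero m] : orderOf (dihZ e) = 2 := by
  apply orderOf_eq_prime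
  · rw [pow_two]; exact dihZ_mul_self e hm
  · exact dihZ_ne_one e hm

include hm in
/-- The central involution commutes with `P`. -/
theorem dihZ_comm {t : G} (ht : t ∈ P) : t * dihZ e * t⁻¹ = dihZ e := by
  have hc : ∀ y : DihedralGroup m, y * r ((m / 2 : ℕ) : ZMod m) * y⁻¹ = r ((m / 2 : ℕ) : ZMod m) := by
    have h2 : ((m / 2 : ℕ) : ZMod m) + ((m / 2 : ℕ) : ZMod m) = 0 := by
      rw [← Nat.cast_add]
      have : m / 2 + m / 2 = m := by omega
      rw [this, ZMod.natCast_self]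
    rintro (i | i)
    · rw [inv_r, r_mul_r, r_mul_r, r.injEq]; ring
    · rw [inv_sr, sr_mul_r, sr_mul_sr, r.injEq]
      have : (-((m / 2 : ℕ) : ZMod m)) = ((m / 2 : ℕ) : ZMod m) := by
        rw [neg_eq_iff_add_eq_zero]; exact h2
      rw [sub_add_eq_sub_sub, sub_self, zero_sub, this]
  have h1 : t = ((e.symm (e ⟨t, ht⟩) : P) : G) := by simp
  rw [h1]
  unfold dihZ
  rw [← Subgroup.coe_inv, ← Subgroup.coe_mul, ← Subgroup.coe_mul, ← map_inv, ← map_mul, ← map_mul,
    hc]

theorem dihZ_ne_dihB : dihZ e ≠ dihB e := by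
  unfold dihZ dihB
  intro h
  have := e.symm.injective (Subtype.ext h)
  cases this

theorem dihZ_ne_dihB_mul_dihA : dihZ e ≠ dihB e * dihA e := by
  rw [dihB_mul_dihA]
  unfold dihZ
  intro h
  have := e.symm.injective (Subtype.ext h)
  cases this

include hm in
/-- Classification of the involutions of `P` up to `P`-conjugacy. -/
theorem involution_cases [NeZero m] {x : G} (hx : x ∈ P) (hx2 : orderOf x = 2) :
    x = dihZ e ∨ (∃ t ∈ P, t * dihB e * t⁻¹ = x) ∨ ∃ t ∈ P, t * (dihB e * dihA e) * t⁻¹ = x := by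
  have hx' : x = ((e.symm (e ⟨x, hx⟩) : P) : G) := by simp
  have ho : orderOf (e ⟨x, hx⟩) = 2 := by
    rw [MulEquiv.orderOf_eq, ← Subgroup.orderOf_coe]; exact hx2
  rcases h : e ⟨x, hx⟩ with i | i
  · left
    rw [h] at ho
    rw [hx', h, r_eq_of_orderOf_eq_two hm ho]
    rfl
  · right
    obtain ⟨y, hy | hy⟩ := exists_conj_sr i
    · left
      refine ⟨((e.symm y : P) : G), (e.symm y).2, ?_⟩
      unfold dihB
      rw [← Subgroup.coe_inv, ← Subgroup.coe_mul, ← Subgroup.coe_mul, ← map_inv, ← map_mul,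
        ← map_mul, hy, ← h]
      exact hx'.symm
    · right
      refine ⟨((e.symm y : P) : G), (e.symm y).2, ?_⟩
      rw [dihB_mul_dihA, ← Subgroup.coe_inv, ← Subgroup.coe_mul, ← Subgroup.coe_mul, ← map_inv,
        ← map_mul, ← map_mul, hy, ← h]
      exact hx'.symm

include hm in
/-- `b` and `b a` are not conjugate in `P`. -/
theorem dihB_not_conj {t : G} (ht : t ∈ P) : t * dihB e * t⁻¹ ≠ dihB e * dihA e := by
  intro h
  have h1 : t = ((e.symm (e ⟨t, ht⟩) : P) : G) := by simp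
  rw [h1, dihB_mul_dihA] at h
  unfold dihB at h
  rw [← Subgroup.coe_inv, ← Subgroup.coe_mul, ← Subgroup.coe_mul, ← map_inv, ← map_mul,
    ← map_mul] at h
  have h2 := e.symm.injective (Subtype.ext h)
  exact not_conj_sr_zero_sr_one hm _ h2

end Data

end Cfsg.Agent.Helper64
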