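import Mathlib

set_option autoImplicit false

namespace Cfsg.Agent.Helper64.E6Tor

open Polynomial

/-- (CYC12) -/
theorem cyclotomic_twelve : cyclotomic 12 ℤ = X ^ 4 - X ^ 2 + 1 := by
  have h : cyclotomic (6 * 2) ℤ = expand ℤ 2 (cyclotomic 6 ℤ) :=
    (cyclotomic_expand_eq_cyclotomic Nat.prime_two (by norm_num : 2 ∣ 6) ℤ).symm
  have h6 : (6 * 2 : ℕ) = 12 := by norm_num
  rw [h6] at h
  rw [h, cyclotomic_six]
  simp only [map_add, map_sub, map_pow, expand_X, map_one]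
  ring

end Cfsg.Agent.Helper64.E6Tor
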