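import Mathlib

set_option autoImplicit false

namespace Cfsg.Agent.Helper64.E6Tor

open Polynomial

/-- `det (1 - q M)` is the value at `q` of the reversed characteristic polynomial -/
theorem det_one_sub_smul_eq_eval_charpolyRev {n : Type*} [Fintype n] [DecidableEq n] (q : ℤ)
    (M : Matrix n n ℤ) : (1 - q • M).det = eval q M.charpolyRev := by
  unfold Matrix.charpolyRev
  rw [← coe_evalRingHom, RingHom.map_det]
  congr 1
  ext i j
  rw [RingHom.mapMatrix_apply, Matrix.map_apply, Matrix.sub_apply, Matrix.sub_apply,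
    Matrix.smul_apply, Matrix.smul_apply, Matrix.map_apply, Matrix.one_apply, Matrix.one_apply,
    coe_evalRingHom]
  by_cases hij : i = j <;> simp [hij]

/-- (DET6), from the characteristic polynomial (CP6) -/
theorem det_one_sub_smul6_of (q : ℕ) (M : Matrix (Fin 6) (Fin 6) ℤ)
    (hchar : M.charpoly = X ^ 6 + X ^ 5 - X ^ 3 + X + 1) :
    (1 - (q : ℤ) • M).det = (q : ℤ) ^ 6 + (q : ℤ) ^ 5 - (q : ℤ) ^ 3 + (q : ℤ) + 1 := by
  have h2 : M.charpolyRev = X ^ 6 + X ^ 5 - X ^ 3 + X + 1 := by
    rw [← Matrix.reverse_charpoly, hchar]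
    have hdeg : (X ^ 6 + X ^ 5 - X ^ 3 + X + 1 : ℤ[X]).natDegree = 6 := by
      compute_degree!
    rw [reverse, hdeg, reflect_add, reflect_add, reflect_sub, reflect_add, reflect_monomial,
      reflect_monomial, reflect_monomial, reflect_one]
    have hX : reflect 6 (X : ℤ[X]) = X ^ revAt 6 1 := by
      have := reflect_monomial (R := ℤ) 6 1
      rwa [pow_one] at this
    rw [hX, revAt_le (by norm_num : 6 ≤ 6), revAt_le (by norm_num : 5 ≤ 6),
      revAt_le (by norm_num : 3 ≤ 6), revAt_le (by norm_num : 1 ≤ 6)]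
    norm_num
    ring
  rw [det_one_sub_smul_eq_eval_charpolyRev, h2]
  simp

end Cfsg.Agent.Helper64.E6Tor
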