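import Mathlib
import Cfsg.Agent.Helper40.E6Tor.Defs
import Cfsg.Agent.Helper45.E6Tor_CP6
import Cfsg.Agent.Helper64.E6Tor_DET6

/-!
helper64 for helper40 (S2373 farm #14814): piece (DET6) `det_one_sub_smul6`, verbatim, from helper45's (CP6).
-/

set_option autoImplicit false

namespace Cfsg.Agent.Helper64.E6Tor

open Cfsg.Agent.Helper40.E6Tor
open Polynomial

/-- (DET6) -/
theorem det_one_sub_smul6 (q : ℕ) (M : Matrix (Fin 6) (Fin 6) ℤ) (hM : CoxLike M) :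
    (1 - (q : ℤ) • M).det = (q : ℤ) ^ 6 + (q : ℤ) ^ 5 - (q : ℤ) ^ 3 + (q : ℤ) + 1 :=
  det_one_sub_smul6_of q M (Cfsg.Agent.Helper45.E6Tor.charpoly_of_coxLike M hM)

end Cfsg.Agent.Helper64.E6Tor
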