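import Cfsg.Agent.Helper40.E6Tor.Tab6
import Cfsg.Agent.Helper40.E6Tor.Defs

/-!
helper64 for helper40 (S2373, `E₆` Coxeter torus farm #14814): piece (WCONJ) `exists_conj` of
`tools/helper40_e6tor/Skel.lean.txt`, verbatim.  Self-contained: the part of (WROWS) it needs (the rows of
`wordM chevE6 w` are roots) is `WCONJ_rows`.
-/

set_option autoImplicit false
set_option linter.unusedVariables false
set_option maxRecDepth 100000

namespace Cfsg.Agent.Helper64.E6Tor

open Cfsg Cfsg.Lie Cfsg.Agent.Helper18 Cfsg.Agent.Helper19.Cox Cfsg.Agent.Helper19.Poinc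
  Cfsg.Agent.Helper80.Tor Cfsg.Agent.Helper36.TorD Cfsg.Agent.Helper40.E6Tor

/-- the vector of a list -/
def vecOf (r : List ℤ) : Fin 6 → ℤ := fun j => r.getD j.val 0

theorem vecOf_ofFn (f : Fin 6 → ℤ) : vecOf (List.ofFn f) = f := by
  funext j
  fin_cases j <;> simp [vecOf]

/-- `refM chevE6 i` with its size written as `6` -/
def R6 (i : ℕ) : Matrix (Fin 6) (Fin 6) ℤ := refM chevE6 i

/-- `wordM chevE6 w` with its size written as `6` -/
def W6w (w : List ℕ) : Matrix (Fin 6) (Fin 6) ℤ := (w.map R6).prod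

theorem W6w_eq (w : List ℕ) : W6w w = wordM chevE6 w := rfl

/-- the row vector `r` times `W6w u`, as a list -/
def rowAct (u : List ℕ) (r : List ℤ) : List ℤ :=
  u.foldl (fun v i => List.ofFn (Matrix.vecMul (vecOf v) (R6 i))) r

theorem WCONJ_step : ∀ r ∈ roots6, ∀ i : Fin 6,
    List.ofFn (Matrix.vecMul (vecOf r) (R6 i.val)) ∈ roots6 := by
  decide +kernel

theorem WCONJ_tab : ∀ p ∈ List.zip roots6 conjTab,
    rowAct p.2 [1,0,0,0,0,0] = [1,0,0,0,0,0] ∧ rowAct p.2 p.1 = repOf p.1 := by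
  decide +kernel

theorem WCONJ_idx : ∀ b ∈ roots6, (List.zip roots6 conjTab).any (fun p => p.1 = b) = true := by
  decide +kernel

theorem WCONJ_reps : ∀ r ∈ reps, List.ofFn (vecOf r) = r := by
  decide +kernel

theorem WCONJ_one : ∀ j : Fin 6, List.ofFn ((1 : Matrix (Fin 6) (Fin 6) ℤ) j) ∈ roots6 := by
  decide +kernel

theorem WCONJ_sq : ∀ i : Fin 6, R6 i.val * R6 i.val = 1 := by
  decide +kernel

theorem repOf_mem (b : List ℤ) : repOf b ∈ reps := by
  unfold repOf reps
  simp only []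
  split_ifs <;> simp

theorem R6_ge (i : ℕ) (hi : 6 ≤ i) : R6 i = 1 := by
  ext j k
  have hk : ¬ (k.val = i) := by
    have := k.isLt
    omega
  have hk' : ¬ ((k : Fin chevE6.rank).val = i) := hk
  show refM chevE6 i j k = _
  unfold refM
  rw [if_neg hk', sub_zero]
  rfl

theorem R6_sq (i : ℕ) : R6 i * R6 i = 1 := by
  by_cases hi : i < 6
  · exact WCONJ_sq ⟨i, hi⟩
  · rw [R6_ge i (by omega), one_mul]

theorem W6w_cons (i : ℕ) (u : List ℕ) : W6w (i :: u) = R6 i * W6w u := by
  simp [W6w]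

theorem W6w_append (u v : List ℕ) : W6w (u ++ v) = W6w u * W6w v := by
  simp [W6w]

theorem W6w_single (i : ℕ) : W6w [i] = R6 i := by
  simp [W6w]

theorem W6w_nil : W6w [] = 1 := by
  simp [W6w]

theorem W6w_reverse_mul (u : List ℕ) : W6w u.reverse * W6w u = 1 := by
  induction u with
  | nil => simp [W6w]
  | cons i u ih =>
    rw [List.reverse_cons, W6w_append, W6w_single, W6w_cons]
    calc W6w u.reverse * R6 i * (R6 i * W6w u)
        = W6w u.reverse * (R6 i * R6 i) * W6w u := by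
          simp only [mul_assoc]
      _ = 1 := by rw [R6_sq, mul_one, ih]

theorem W6w_mul_reverse (u : List ℕ) : W6w u * W6w u.reverse = 1 := by
  have := W6w_reverse_mul u.reverse
  rwa [List.reverse_reverse] at this

theorem rowAct_eq (u : List ℕ) : ∀ r : List ℤ,
    vecOf (rowAct u r) = Matrix.vecMul (vecOf r) (W6w u) := by
  induction u with
  | nil =>
    intro r
    rw [W6w_nil, Matrix.vecMul_one]
    rfl
  | cons i u ih =>
    intro r
    have h1 : rowAct (i :: u) r = rowAct u (List.ofFn (Matrix.vecMul (vecOf r) (R6 i))) := by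
      simp [rowAct]
    rw [h1, ih, vecOf_ofFn, W6w_cons, Matrix.vecMul_vecMul]

theorem mul_row (A B : Matrix (Fin 6) (Fin 6) ℤ) (j : Fin 6) : (A * B) j = Matrix.vecMul (A j) B := by
  funext k
  simp [Matrix.mul_apply, Matrix.vecMul, dotProduct]

/-- the rows of an element of `W(E₆)` are roots (part of (WROWS)) -/
theorem W6w_rows (w : List ℕ) : ∀ j : Fin 6, List.ofFn ((W6w w) j) ∈ roots6 := by
  induction w using List.reverseRecOn with
  | nil =>
    intro j
    rw [W6w_nil]
    exact WCONJ_one j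
  | append_singleton w i ih =>
    intro j
    rw [W6w_append, W6w_single, mul_row]
    by_cases hi : i < 6
    · have := WCONJ_step _ (ih j) ⟨i, hi⟩
      rwa [vecOf_ofFn] at this
    · rw [R6_ge i (by omega), Matrix.vecMul_one]
      exact ih j

theorem e0_vecMul (N : Matrix (Fin 6) (Fin 6) ℤ) : Matrix.vecMul (vecOf [1,0,0,0,0,0]) N = N 0 := by
  funext k
  simp [Matrix.vecMul, dotProduct, Fin.sum_univ_six, vecOf]

theorem exists_conj_aux (w : List ℕ) :
    ∃ u : List ℕ, W6w u.reverse * W6w u = 1 ∧ W6w u * W6w u.reverse = 1 ∧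
      (ofMat (W6w (u.reverse ++ w ++ u))).getD 0 [] ∈ reps := by
  set M := W6w w with hM
  set b : List ℤ := List.ofFn (M 0) with hb
  have hbr : b ∈ roots6 := W6w_rows w 0
  have hidx := WCONJ_idx b hbr
  rw [List.any_eq_true] at hidx
  obtain ⟨p, hp, hpb⟩ := hidx
  have hpb' : p.1 = b := by simpa using hpb
  obtain ⟨h0, h1⟩ := WCONJ_tab p hp
  refine ⟨p.2, W6w_reverse_mul p.2, W6w_mul_reverse p.2, ?_⟩
  set u := p.2 with hu
  -- `α₁` is fixed by `W6w u`, hence by its inverse
  have e1 : Matrix.vecMul (vecOf [1,0,0,0,0,0]) (W6w u) = vecOf [1,0,0,0,0,0] := by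
    rw [← rowAct_eq, h0]
  have e2 : Matrix.vecMul (vecOf [1,0,0,0,0,0]) (W6w u.reverse) = vecOf [1,0,0,0,0,0] := by
    conv_lhs => rw [← e1]
    rw [Matrix.vecMul_vecMul, W6w_mul_reverse, Matrix.vecMul_one]
  have e3 : Matrix.vecMul (vecOf b) (W6w u) = vecOf (repOf b) := by
    rw [← rowAct_eq, ← hpb', h1]
  have hrow : (W6w (u.reverse ++ w ++ u)) 0 = vecOf (repOf b) := by
    rw [W6w_append, W6w_append, ← e0_vecMul (W6w u.reverse * W6w w * W6w u), ← Matrix.vecMul_vecMul,
      ← Matrix.vecMul_vecMul, e2, e0_vecMul, ← hM, ← e3, hb, vecOf_ofFn]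
  have hget : (ofMat (W6w (u.reverse ++ w ++ u))).getD 0 [] =
      List.ofFn ((W6w (u.reverse ++ w ++ u)) 0) := by
    simp [ofMat]
  rw [hget, hrow, WCONJ_reps _ (repOf_mem b)]
  exact repOf_mem b

/-- (WCONJ) every element of `W(E₆)` is conjugate in `W(E₆)` to one whose first row is one of the
five representatives; `conjTab` lists, for each root `b` (in the order of `roots6`), a word `u`
with `α₁ · wordM u = α₁` and `b · wordM u = repOf b` -/
theorem exists_conj (w : List ℕ) :
    ∃ u : List ℕ, wordM chevE6 u.reverse * wordM chevE6 u = 1 ∧ wordM chevE6 u * wordM chevE6 u.reverse = 1 ∧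
      (ofMat (wordM chevE6 (u.reverse ++ w ++ u))).getD 0 [] ∈ reps :=
  exists_conj_aux w

end Cfsg.Agent.Helper64.E6Tor
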