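import Mathlib
import Cfsg.Agent.Helper54.QuadAvg
import Cfsg.Agent.Helper64.TransvRing

/-!
# Norm averaging over a regular orbit (helper64)

Ring form of the "abelian case" of Hall–Higman's Theorem B.  Let `E` be a ring, `h ∈ Eˣ`, `Q ≤ Eˣ` a finite
subgroup normalized by `h` with `|Q|` invertible in `E`, and `N ≥ 1` such that `C_Q(h ^ i) = 1` for
`0 < i < N`.  If every `Q`-conjugate `h'` of `h` has `1 + h' + ⋯ + h' ^ (N - 1) = 0`, then `Q = 1`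
(`eq_one_of_norm_zero`).  Consequence (`commute_of_norm_zero_abelian`): if `p = 0` in `E`, `h` is a
`p`-element normalizing a finite abelian `p'`-group `Q ≤ Eˣ` and all `Q`-conjugates `h'` of `h` have
`∑_{i < p^(n+1)} h' ^ i = 0`, then `h ^ (p ^ n)` centralizes `Q`.
-/

set_option autoImplicit false

namespace Cfsg.Agent.Helper64

open Subgroup

section grp

variable {G : Type*} [Group G]

/-- if `z = [q, y]` commutes with `y` then `z ^ j = [q, y ^ j]` -/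
theorem comm_pow_of_commute (y q z : G) (hz : z = q⁻¹ * (y * q * y⁻¹)) (hyz : z * y = y * z) (j : ℕ) :
    z ^ j = q⁻¹ * (y ^ j * q * (y ^ j)⁻¹) := by
  induction j with
  | zero => simp
  | succ j ih =>
    have hc : z * y ^ j = y ^ j * z := ((show Commute z y from hyz).pow_right j).eq
    calc z ^ (j + 1) = z ^ j * z := pow_succ _ _
      _ = q⁻¹ * (y ^ j * q * (y ^ j)⁻¹) * z := by rw [ih]
      _ = q⁻¹ * (y ^ j * q * ((y ^ j)⁻¹ * (z * y ^ j)) * (y ^ j)⁻¹) := by group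
      _ = q⁻¹ * (y ^ j * q * ((y ^ j)⁻¹ * (y ^ j * z)) * (y ^ j)⁻¹) := by rw [hc]
      _ = q⁻¹ * (y ^ j * q * z * (y ^ j)⁻¹) := by group
      _ = q⁻¹ * (y ^ j * q * (q⁻¹ * (y * q * y⁻¹)) * (y ^ j)⁻¹) := by rw [← hz]
      _ = q⁻¹ * (y ^ (j + 1) * q * (y ^ (j + 1))⁻¹) := by rw [pow_succ]; group

/-- an element commuting with `h ^ i`, `0 < i < p ^ (n + 1)`, `h` a `p`-element, commutes with
`h ^ (p ^ n)` -/
theorem commute_pow_prime_pow_of_commute_pow {p : ℕ} [hp : Fact p.Prime] (h z : G) (m : ℕ)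
    (hm : h ^ p ^ m = 1) (n i : ℕ) (hi0 : 0 < i) (hi : i < p ^ (n + 1)) (hz : z * h ^ i = h ^ i * z) :
    z * h ^ p ^ n = h ^ p ^ n * z := by
  obtain ⟨a, -, ha⟩ := (Nat.dvd_prime_pow hp.out).mp (Nat.gcd_dvd_right i (p ^ m))
  have hale : a ≤ n := by
    have h1 : p ^ a ∣ i := ha ▸ Nat.gcd_dvd_left i (p ^ m)
    have h2 : p ^ a ≤ i := Nat.le_of_dvd hi0 h1
    have h3 : p ^ a < p ^ (n + 1) := lt_of_le_of_lt h2 hi
    have h4 := (Nat.pow_lt_pow_iff_right hp.out.one_lt).mp h3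
    omega
  have hbez : ((i.gcd (p ^ m) : ℕ) : ℤ) = i * Nat.gcdA i (p ^ m) + (p ^ m : ℕ) * Nat.gcdB i (p ^ m) :=
    Nat.gcd_eq_gcd_ab i (p ^ m)
  have h1 : h ^ p ^ a = (h ^ i) ^ (Nat.gcdA i (p ^ m)) := by
    rw [← ha, ← zpow_natCast h (i.gcd (p ^ m)), hbez, zpow_add, zpow_mul, zpow_mul, zpow_natCast,
      zpow_natCast, hm, one_zpow, mul_one]
  have h2 : Commute z (h ^ p ^ a) := by
    rw [h1]
    exact (show Commute z (h ^ i) from hz).zpow_right _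
  have h3 : h ^ p ^ n = (h ^ p ^ a) ^ p ^ (n - a) := by
    rw [← pow_mul, ← pow_add, Nat.add_sub_cancel' hale]
  rw [h3]
  exact (h2.pow_right _).eq

end grp

section normavg

variable {E : Type*} [Ring E]

/-- if `g` normalizes the finite subgroup `Q` of units and `C_Q(g) = 1`, the sum of the `Q`-conjugates of
`g` is `(∑ Q) g` -/
theorem sum_conj_eq (Q : Subgroup Eˣ) [Fintype Q] (g : Eˣ) (hnorm : ∀ q ∈ Q, g * q * g⁻¹ ∈ Q)
    (hcent : ∀ q ∈ Q, q * g = g * q → q = 1) :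
    ∑ r : Q, (((r : Eˣ)⁻¹ * g * r : Eˣ) : E) = (∑ r : Q, ((r : Eˣ) : E)) * (g : E) := by
  obtain ⟨φ, hφ⟩ : ∃ φ : Q → Q, ∀ r : Q, ((φ r : Q) : Eˣ) = (r : Eˣ)⁻¹ * (g * r * g⁻¹) :=
    ⟨fun r => ⟨(r : Eˣ)⁻¹ * (g * r * g⁻¹), Q.mul_mem (Q.inv_mem r.2) (hnorm r r.2)⟩, fun r => rfl⟩
  have hφinj : Function.Injective φ := by
    intro r s hrs
    have h1 : (r : Eˣ)⁻¹ * (g * r * g⁻¹) = (s : Eˣ)⁻¹ * (g * s * g⁻¹) := by
      rw [← hφ, ← hφ, hrs]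
    have h2 : ((s : Eˣ) * (r : Eˣ)⁻¹) * g = g * ((s : Eˣ) * (r : Eˣ)⁻¹) := by
      have h3 : g * (r : Eˣ) * g⁻¹ = (r : Eˣ) * (s : Eˣ)⁻¹ * (g * s * g⁻¹) := by
        rw [mul_assoc (r : Eˣ), ← h1]; group
      have h4 : g * (r : Eˣ) = (r : Eˣ) * (s : Eˣ)⁻¹ * g * s := by
        calc g * (r : Eˣ) = g * (r : Eˣ) * g⁻¹ * g := by group
          _ = (r : Eˣ) * (s : Eˣ)⁻¹ * (g * s * g⁻¹) * g := by rw [h3]
          _ = (r : Eˣ) * (s : Eˣ)⁻¹ * g * s := by group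
      calc ((s : Eˣ) * (r : Eˣ)⁻¹) * g = (s : Eˣ) * (r : Eˣ)⁻¹ * (g * (r : Eˣ)) * (r : Eˣ)⁻¹ := by group
        _ = (s : Eˣ) * (r : Eˣ)⁻¹ * ((r : Eˣ) * (s : Eˣ)⁻¹ * g * s) * (r : Eˣ)⁻¹ := by rw [h4]
        _ = g * ((s : Eˣ) * (r : Eˣ)⁻¹) := by group
    have h5 := hcent _ (Q.mul_mem s.2 (Q.inv_mem r.2)) h2
    apply Subtype.ext
    have h6 : (s : Eˣ) = (r : Eˣ) := by
      calc (s : Eˣ) = (s : Eˣ) * (r : Eˣ)⁻¹ * (r : Eˣ) := by group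
        _ = (r : Eˣ) := by rw [h5, one_mul]
    exact h6.symm
  have hφbij : Function.Bijective φ := Finite.injective_iff_bijective.mp hφinj
  rw [Finset.sum_mul]
  refine Fintype.sum_bijective φ hφbij _ _ fun r => ?_
  rw [hφ, ← Units.val_mul]
  congr 1
  group

/-- **Norm averaging.** -/
theorem eq_one_of_norm_zero (h : Eˣ) (Q : Subgroup Eˣ) [Finite Q]
    (hc : IsUnit ((Nat.card Q : ℕ) : E))
    (hnorm : ∀ q ∈ Q, h * q * h⁻¹ ∈ Q) (N : ℕ) (hN : 0 < N)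
    (hcent : ∀ i, 0 < i → i < N → ∀ q ∈ Q, q * h ^ i = h ^ i * q → q = 1)
    (hzero : ∀ r ∈ Q, ∑ i ∈ Finset.range N, (((r⁻¹ * h * r) ^ i : Eˣ) : E) = 0) :
    ∀ q ∈ Q, q = 1 := by
  classical
  haveI : Fintype Q := Fintype.ofFinite Q
  obtain ⟨σ, hσ⟩ : ∃ σ : E, σ = ∑ r : Q, ((r : Eˣ) : E) := ⟨_, rfl⟩
  obtain ⟨c, hcdef⟩ : ∃ c : E, c = ((Nat.card Q : ℕ) : E) := ⟨_, rfl⟩
  rw [← hcdef] at hc
  have hccomm : ∀ a : E, c * a = a * c := by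
    intro a; rw [hcdef]; exact (Nat.cast_commute _ a).eq
  have h1 : ∑ r : Q, ∑ i ∈ Finset.range N, ((((r : Eˣ)⁻¹ * h * r) ^ i : Eˣ) : E) = 0 :=
    Finset.sum_eq_zero fun r _ => hzero r r.2
  rw [Finset.sum_comm] at h1
  have h2 : ∀ i ∈ Finset.range N, ∑ r : Q, ((((r : Eˣ)⁻¹ * h * r) ^ i : Eˣ) : E)
      = if i = 0 then c else σ * ((h ^ i : Eˣ) : E) := by
    intro i hi
    split_ifs with h0
    · subst h0
      simp [hcdef, Nat.card_eq_fintype_card]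
    · have hconj : ∀ r : Q, ((r : Eˣ)⁻¹ * h * r) ^ i = (r : Eˣ)⁻¹ * h ^ i * r := by
        intro r
        have := conj_pow (a := (r : Eˣ)⁻¹) (b := h) (i := i)
        rw [inv_inv] at this
        exact this
      rw [Finset.sum_congr rfl fun r _ => by rw [hconj r], hσ]
      exact sum_conj_eq Q (h ^ i) (Cfsg.Agent.Helper54.Quad.conj_pow_mem Q h hnorm i)
        (hcent i (Nat.pos_of_ne_zero h0) (Finset.mem_range.mp hi))
  rw [Finset.sum_congr rfl h2] at h1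
  obtain ⟨N', rfl⟩ : ∃ N', N = N' + 1 := Nat.exists_eq_succ_of_ne_zero hN.ne'
  rw [Finset.sum_range_succ'] at h1
  simp only [Nat.add_eq_zero_iff, one_ne_zero, and_false, if_false, if_true] at h1
  rw [← Finset.mul_sum] at h1
  obtain ⟨S, hS⟩ : ∃ S : E, S = ∑ i ∈ Finset.range N', ((h ^ (i + 1) : Eˣ) : E) := ⟨_, rfl⟩
  rw [← hS] at h1
  have hσσ : σ * σ = c * σ := by
    have := sum_mul_of_fixed Q σ (fun z hz => by rw [hσ]; exact unit_mul_sum Q z hz)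
    rw [← hσ] at this
    rw [this, hcdef, Nat.card_eq_fintype_card]
  have hσS : σ * S = -c := eq_neg_of_add_eq_zero_left h1
  have h3 : σ * c = c * c := by
    have h4 : σ * (σ * S + c) = 0 := by rw [h1, mul_zero]
    rw [mul_add, ← mul_assoc, hσσ, mul_assoc, hσS] at h4
    have h5 : σ * c = -(c * -c) := eq_neg_of_add_eq_zero_right h4
    rw [h5]; simp
  obtain ⟨u, hu⟩ := hc
  have hσc : σ = c := by
    have h6 : σ * (u : E) * ((u⁻¹ : Eˣ) : E) = c * (u : E) * ((u⁻¹ : Eˣ) : E) := by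
      rw [hu, h3]
    simpa [mul_assoc] using h6
  intro q hq
  have h7 : (q : E) * σ = σ := by rw [hσ]; exact unit_mul_sum Q q hq
  rw [hσc] at h7
  apply Units.ext
  have h8 : (q : E) * (u : E) * ((u⁻¹ : Eˣ) : E) = (u : E) * ((u⁻¹ : Eˣ) : E) := by
    rw [hu, h7]
  simpa [mul_assoc] using h8

end normavg

section abel

variable {E : Type*} [Ring E]

/-- a natural number prime to `p` is a unit in a ring where `p = 0` -/
theorem isUnit_natCast_of_coprime {p : ℕ} (hchar : (p : E) = 0) {k : ℕ} (hk : k.Coprime p) :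
    IsUnit ((k : ℕ) : E) := by
  have hbez : ((k.gcd p : ℕ) : ℤ) = k * Nat.gcdA k p + p * Nat.gcdB k p := Nat.gcd_eq_gcd_ab k p
  rw [hk] at hbez
  have h1 : ((k : ℕ) : E) * ((Nat.gcdA k p : ℤ) : E) = 1 := by
    have := congrArg (fun t : ℤ => (t : E)) hbez
    simp only [Int.cast_add, Int.cast_mul, Int.cast_natCast, Nat.cast_one, Int.cast_one] at this
    rw [hchar, zero_mul, add_zero] at this
    exact this.symm
  have h2 : ((Nat.gcdA k p : ℤ) : E) * ((k : ℕ) : E) = 1 := by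
    rw [← h1]; exact ((Nat.cast_commute k _).eq).symm
  exact ⟨⟨_, _, h1, h2⟩, rfl⟩

/-- **Abelian case.** `p = 0` in `E`, `h` a `p`-element of `Eˣ` normalizing the finite abelian
`p'`-subgroup `Q`; if all `Q`-conjugates `h'` of `h` satisfy `∑_{i < p^(n+1)} h' ^ i = 0` then
`h ^ (p ^ n)` centralizes `Q`. -/
theorem commute_of_norm_zero_abelian {p : ℕ} [hp : Fact p.Prime] (hchar : (p : E) = 0) (h : Eˣ)
    (m : ℕ) (hm : h ^ p ^ m = 1) (Q : Subgroup Eˣ) [Finite Q]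
    (hab : ∀ a ∈ Q, ∀ b ∈ Q, a * b = b * a) (hcop : (Nat.card Q).Coprime p)
    (hnorm : ∀ q ∈ Q, h * q * h⁻¹ ∈ Q) (n : ℕ)
    (hzero : ∀ r ∈ Q, ∑ i ∈ Finset.range (p ^ (n + 1)), (((r⁻¹ * h * r) ^ i : Eˣ) : E) = 0) :
    ∀ q ∈ Q, h ^ p ^ n * q = q * h ^ p ^ n := by
  obtain ⟨y, hy⟩ : ∃ y : Eˣ, y = h ^ p ^ n := ⟨_, rfl⟩
  rw [← hy]
  have hynorm : ∀ q ∈ Q, y * q * y⁻¹ ∈ Q := by
    rw [hy]; exact Cfsg.Agent.Helper54.Quad.conj_pow_mem Q h hnorm _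
  have hyh : y * h = h * y := by
    rw [hy]; exact ((Commute.refl h).pow_left _).eq
  have hypow : y ^ p ^ m = 1 := by
    rw [hy, ← pow_mul, mul_comm, pow_mul, hm, one_pow]
  -- the subgroup `[Q, y]`
  obtain ⟨Q1, hQ1⟩ : ∃ Q1 : Subgroup Eˣ, ∀ z, z ∈ Q1 ↔ ∃ q ∈ Q, z = q⁻¹ * (y * q * y⁻¹) := by
    refine ⟨{ carrier := {z | ∃ q ∈ Q, z = q⁻¹ * (y * q * y⁻¹)}
              mul_mem' := ?_
              one_mem' := ⟨1, Q.one_mem, by group⟩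
              inv_mem' := ?_ }, fun z => Iff.rfl⟩
    · rintro a b ⟨q, hq, rfl⟩ ⟨r, hr, rfl⟩
      refine ⟨q * r, Q.mul_mem hq hr, ?_⟩
      have h1 : (y * q * y⁻¹) * r⁻¹ = r⁻¹ * (y * q * y⁻¹) :=
        hab _ (hynorm q hq) _ (Q.inv_mem hr)
      have h2 : q⁻¹ * r⁻¹ = r⁻¹ * q⁻¹ := hab _ (Q.inv_mem hq) _ (Q.inv_mem hr)
      calc q⁻¹ * (y * q * y⁻¹) * (r⁻¹ * (y * r * y⁻¹))
          = q⁻¹ * ((y * q * y⁻¹) * r⁻¹) * (y * r * y⁻¹) := by group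
        _ = q⁻¹ * (r⁻¹ * (y * q * y⁻¹)) * (y * r * y⁻¹) := by rw [h1]
        _ = (q⁻¹ * r⁻¹) * (y * (q * r) * y⁻¹) := by group
        _ = (r⁻¹ * q⁻¹) * (y * (q * r) * y⁻¹) := by rw [h2]
        _ = (q * r)⁻¹ * (y * (q * r) * y⁻¹) := by group
    · rintro a ⟨q, hq, rfl⟩
      refine ⟨q⁻¹, Q.inv_mem hq, ?_⟩
      have h1 : (y * q⁻¹ * y⁻¹) * q = q * (y * q⁻¹ * y⁻¹) :=
        hab _ (hynorm _ (Q.inv_mem hq)) _ hq
      calc (q⁻¹ * (y * q * y⁻¹))⁻¹ = (y * q⁻¹ * y⁻¹) * q := by group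
        _ = q * (y * q⁻¹ * y⁻¹) := h1
        _ = q⁻¹⁻¹ * (y * q⁻¹ * y⁻¹) := by rw [inv_inv]
  have hQ1Q : Q1 ≤ Q := by
    intro z hz
    obtain ⟨q, hq, rfl⟩ := (hQ1 z).mp hz
    exact Q.mul_mem (Q.inv_mem hq) (hynorm q hq)
  haveI : Finite Q1 := Finite.of_injective _ (inclusion_injective hQ1Q)
  have hcop1 : (Nat.card Q1).Coprime p :=
    Nat.Coprime.coprime_dvd_left (card_dvd_of_le hQ1Q) hcop
  have hnorm1 : ∀ z ∈ Q1, h * z * h⁻¹ ∈ Q1 := by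
    intro z hz
    obtain ⟨q, hq, rfl⟩ := (hQ1 z).mp hz
    refine (hQ1 _).mpr ⟨h * q * h⁻¹, hnorm q hq, ?_⟩
    have hyh' : y⁻¹ * h⁻¹ = h⁻¹ * y⁻¹ := by
      rw [← mul_inv_rev, ← mul_inv_rev, hyh]
    calc h * (q⁻¹ * (y * q * y⁻¹)) * h⁻¹ = h * q⁻¹ * h⁻¹ * ((h * y) * q * (y⁻¹ * h⁻¹)) := by group
      _ = h * q⁻¹ * h⁻¹ * ((y * h) * q * (h⁻¹ * y⁻¹)) := by rw [hyh, hyh']
      _ = (h * q * h⁻¹)⁻¹ * (y * (h * q * h⁻¹) * y⁻¹) := by group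
  have hcent1 : ∀ i, 0 < i → i < p ^ (n + 1) → ∀ z ∈ Q1, z * h ^ i = h ^ i * z → z = 1 := by
    intro i hi0 hi z hz hzi
    have hzy : z * y = y * z := by
      rw [hy]; exact commute_pow_prime_pow_of_commute_pow h z m hm n i hi0 hi hzi
    obtain ⟨q, hq, hzq⟩ := (hQ1 z).mp hz
    have h1 := comm_pow_of_commute y q z hzq hzy (p ^ m)
    rw [hypow] at h1
    have h2 : z ^ p ^ m = 1 := by rw [h1]; group
    have h3 : orderOf z ∣ p ^ m := orderOf_dvd_of_pow_eq_one h2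
    have h4 : orderOf z ∣ Nat.card Q1 := Subgroup.orderOf_dvd_natCard Q1 hz
    have h5 : orderOf z = 1 :=
      Nat.eq_one_of_dvd_coprimes (Nat.Coprime.pow_right m hcop1) h4 h3
    exact orderOf_eq_one_iff.mp h5
  have key := eq_one_of_norm_zero h Q1 (isUnit_natCast_of_coprime hchar hcop1) hnorm1 (p ^ (n + 1))
    (Nat.pos_of_ne_zero (pow_ne_zero _ hp.out.ne_zero)) hcent1 (fun r hr => hzero r (hQ1Q hr))
  intro q hq
  have h1 := key _ ((hQ1 _).mpr ⟨q, hq, rfl⟩)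
  calc y * q = q * (q⁻¹ * (y * q * y⁻¹)) * y := by group
    _ = q * y := by rw [h1, mul_one]

end abel

end Cfsg.Agent.Helper64
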