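import Mathlib
import Cfsg.Prelude.Def_PLocal
import Cfsg.Agent.Lib.Cores
import Cfsg.Agent.Helper11.PSolvable
import Cfsg.Agent.Helper62.PSolvDual
import Cfsg.Agent.Helper63.Frattini
import Cfsg.Agent.Helper70.FrattiniAction
import Cfsg.Agent.Helper54.SectionAct
import Cfsg.Agent.Helper48.CoprimeGen
import Cfsg.Agent.Helper64.NormAvg
import Cfsg.Agent.Helper64.CyclicNormal

/-!
# The exponent of `G / O_p(G)` when the Sylow `q`-subgroups (`q ≠ p`) are abelian (helper64)

`G` finite `p`-solvable with `O_{p'}(G) = 1` and abelian `q`-subgroups for all primes `q ≠ p`.  If all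
`p`-elements of `G` have order dividing `p ^ (n + 1)` then all `p`-elements of `G / O_p(G)` have order
dividing `p ^ n` (`pow_eq_one_quotient_pCore`).  This is the abelian case of Hall–Higman's Theorem B, proved
by norm averaging (`Helper64.NormAvg`).
-/

set_option autoImplicit false

namespace Cfsg.Agent.Helper64

open Subgroup Cfsg Cfsg.Agent.Lib Cfsg.Agent.Helper54.Quad Cfsg.Agent.Helper70

section lifts

variable {G G' : Type*} [Group G] [Group G'] [Finite G]

/-- `q`-subgroups of a homomorphic image are abelian if those of the group are -/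
theorem abelian_pSubgroups_of_surjective (f : G →* G') (hf : Function.Surjective f)
    {q : ℕ} [Fact q.Prime]
    (h : ∀ S : Subgroup G, IsPGroup q S → ∀ a ∈ S, ∀ b ∈ S, a * b = b * a) :
    ∀ S : Subgroup G', IsPGroup q S → ∀ a ∈ S, ∀ b ∈ S, a * b = b * a := by
  intro S hS a ha b hb
  obtain ⟨P', hP'⟩ := hS.exists_le_sylow
  obtain ⟨P, rfl⟩ := Sylow.mapSurjective_surjective hf q P'
  rw [Sylow.coe_mapSurjective] at hP'
  obtain ⟨a', ha', rfl⟩ := hP' ha
  obtain ⟨b', hb', rfl⟩ := hP' hb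
  rw [← map_mul, ← map_mul, h P P.isPGroup' a' ha' b' hb']

/-- `p`-elements of a homomorphic image lift to `p`-elements -/
theorem exists_pElement_lift (f : G →* G') (hf : Function.Surjective f)
    {p : ℕ} [Fact p.Prime] (y : G') (hy : ∃ k : ℕ, y ^ p ^ k = 1) :
    ∃ x : G, f x = y ∧ ∃ k : ℕ, x ^ p ^ k = 1 := by
  have hz : IsPGroup p (zpowers y) := by
    obtain ⟨k, hk⟩ := hy
    rintro ⟨g, hg⟩
    refine ⟨k, ?_⟩
    obtain ⟨j, rfl⟩ := mem_zpowers_iff.mp hg
    apply Subtype.ext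
    show (y ^ j) ^ p ^ k = 1
    rw [← zpow_natCast, ← zpow_mul, mul_comm, zpow_mul, zpow_natCast, hk, one_zpow]
  obtain ⟨P', hP'⟩ := hz.exists_le_sylow
  obtain ⟨P, rfl⟩ := Sylow.mapSurjective_surjective hf p P'
  rw [Sylow.coe_mapSurjective] at hP'
  obtain ⟨x, hx, rfl⟩ := hP' (mem_zpowers y)
  refine ⟨x, rfl, ?_⟩
  obtain ⟨k, hk⟩ := P.isPGroup' ⟨x, hx⟩
  exact ⟨k, by simpa using congrArg Subtype.val hk⟩

end lifts

section act

theorem sum_toEnd_apply {V : Type*} [CommGroup V] {ι : Type*} (s : Finset ι) (a : ι → MulAut V) (v : V) :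
    (∑ i ∈ s, (toEnd (a i) : AddMonoid.End (Additive V))) (Additive.ofMul v)
      = Additive.ofMul (∏ i ∈ s, a i v) := by
  classical
  induction s using Finset.induction_on with
  | empty => rfl
  | insert i s hi ih =>
    rw [Finset.sum_insert hi, Finset.prod_insert hi]
    show toEnd (a i) (Additive.ofMul v) + (∑ i ∈ s, (toEnd (a i) : AddMonoid.End (Additive V))) (Additive.ofMul v) = _
    rw [ih, toEnd_apply]
    rfl

/-- the abelian step, for a group acting faithfully on an elementary abelian `p`-group -/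
theorem commute_pow_of_norm_one {H : Type*} [Group H] {p : ℕ} [hp : Fact p.Prime]
    {V : Type*} [CommGroup V] (hV : ∀ v : V, v ^ p = 1) (ψ : H →* MulAut V)
    (hψ : Function.Injective ψ) (h : H) (m : ℕ) (hm : h ^ p ^ m = 1) (Q : Subgroup H) [Finite Q]
    (hab : ∀ a ∈ Q, ∀ b ∈ Q, a * b = b * a) (hcop : (Nat.card Q).Coprime p)
    (hnorm : ∀ q ∈ Q, h * q * h⁻¹ ∈ Q) (n : ℕ)
    (hzero : ∀ r ∈ Q, ∀ v : V, ∏ i ∈ Finset.range (p ^ (n + 1)), ψ ((r⁻¹ * h * r) ^ i) v = 1) :
    ∀ q ∈ Q, h ^ p ^ n * q = q * h ^ p ^ n := by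
  have hchar : ((p : ℕ) : AddMonoid.End (Additive V)) = 0 := natCast_end_eq_zero hV
  obtain ⟨ρ, hρ⟩ : ∃ ρ : H →* (AddMonoid.End (Additive V))ˣ, ρ = toUnitsEnd.comp ψ := ⟨_, rfl⟩
  have hρinj : Function.Injective ρ := by
    rw [hρ]; exact toUnitsEnd_injective.comp hψ
  have hρval : ∀ g : H, ((ρ g : (AddMonoid.End (Additive V))ˣ) : AddMonoid.End (Additive V))
      = toEnd (ψ g) := by
    intro g; rw [hρ]; exact toUnitsEnd_val _
  haveI : Finite (Q.map ρ) :=
    Finite.of_surjective (fun g : Q => (⟨ρ g, Subgroup.mem_map_of_mem _ g.2⟩ : Q.map ρ)) (by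
      rintro ⟨_, ⟨g, hg, rfl⟩⟩
      exact ⟨⟨g, hg⟩, rfl⟩)
  have hcop' : (Nat.card (Q.map ρ)).Coprime p :=
    Nat.Coprime.coprime_dvd_left (Subgroup.card_map_dvd _ _) hcop
  have hab' : ∀ a ∈ Q.map ρ, ∀ b ∈ Q.map ρ, a * b = b * a := by
    rintro _ ⟨a, ha, rfl⟩ _ ⟨b, hb, rfl⟩
    rw [← map_mul, ← map_mul, hab a ha b hb]
  have hnorm' : ∀ q ∈ Q.map ρ, ρ h * q * (ρ h)⁻¹ ∈ Q.map ρ := by
    rintro _ ⟨q, hq, rfl⟩
    rw [← map_inv, ← map_mul, ← map_mul]
    exact Subgroup.mem_map_of_mem _ (hnorm q hq)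
  have hzero' : ∀ r ∈ Q.map ρ, ∑ i ∈ Finset.range (p ^ (n + 1)),
      (((r⁻¹ * ρ h * r) ^ i : (AddMonoid.End (Additive V))ˣ) : AddMonoid.End (Additive V)) = 0 := by
    rintro _ ⟨r, hr, rfl⟩
    have h1 : ∀ i : ℕ, ((((ρ r)⁻¹ * ρ h * ρ r) ^ i : (AddMonoid.End (Additive V))ˣ) :
        AddMonoid.End (Additive V)) = toEnd (ψ ((r⁻¹ * h * r) ^ i)) := by
      intro i
      rw [← map_inv, ← map_mul, ← map_mul, ← map_pow, hρval]
    rw [Finset.sum_congr rfl fun i _ => h1 i]
    refine DFunLike.ext _ _ fun w => ?_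
    obtain ⟨v, rfl⟩ : ∃ v : V, Additive.ofMul v = w := ⟨Additive.toMul w, rfl⟩
    rw [sum_toEnd_apply, hzero r hr v]
    rfl
  have key := commute_of_norm_zero_abelian hchar (ρ h) m (by rw [← map_pow, hm, map_one]) (Q.map ρ)
    hab' hcop' hnorm' n hzero'
  intro q hq
  have := key (ρ q) (Subgroup.mem_map_of_mem _ hq)
  rw [← map_pow, ← map_mul, ← map_mul] at this
  exact hρinj this

/-- `H` finite `p`-solvable with `O_p(H) = 1` and abelian `q`-subgroups (`q ≠ p`), acting faithfully on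
the elementary abelian `p`-group `V`; if every `p`-element `h'` has norm
`v ↦ ∏_{i < p^(n+1)} h'^i v` trivial on `V`, then every `p`-element has order dividing `p ^ n`. -/
theorem pow_eq_one_of_norm_one {H : Type*} [Group H] [Finite H] {p : ℕ} [hp : Fact p.Prime]
    (hH : IsPSolvable p H) (hO : pCore p H = ⊥)
    (habel : ∀ (q : ℕ) [Fact q.Prime], q ≠ p → ∀ S : Subgroup H, IsPGroup q S →
      ∀ a ∈ S, ∀ b ∈ S, a * b = b * a)
    {V : Type*} [CommGroup V] (hV : ∀ v : V, v ^ p = 1) (ψ : H →* MulAut V)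
    (hψ : Function.Injective ψ) (n : ℕ)
    (hzero : ∀ h' : H, (∃ k : ℕ, h' ^ p ^ k = 1) →
      ∀ v : V, ∏ i ∈ Finset.range (p ^ (n + 1)), ψ (h' ^ i) v = 1)
    (h : H) (hpel : ∃ k : ℕ, h ^ p ^ k = 1) : h ^ p ^ n = 1 := by
  obtain ⟨m, hm⟩ := hpel
  obtain ⟨L, hL⟩ : ∃ L : Subgroup H, L = pPrimeCore p H := ⟨_, rfl⟩
  haveI hLchar : L.Characteristic := by rw [hL]; exact pPrimeCore_characteristic p
  haveI hLn : L.Normal := Subgroup.normal_of_characteristic _
  have hLcop : (Nat.card L).Coprime p := by rw [hL]; exact card_pPrimeCore_coprime p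
  have hpL : ¬ p ∣ Nat.card L := by
    intro hd
    have := Nat.Coprime.eq_one_of_dvd hLcop.symm hd
    exact hp.out.one_lt.ne' this
  have hzN : zpowers h ≤ normalizer (L : Set H) := by
    rw [Subgroup.normalizer_eq_top]; exact le_top
  have hzp : IsPGroup p (zpowers h) := by
    rintro ⟨g, hg⟩
    refine ⟨m, ?_⟩
    obtain ⟨j, rfl⟩ := mem_zpowers_iff.mp hg
    apply Subtype.ext
    show (h ^ j) ^ p ^ m = 1
    rw [← zpow_natCast, ← zpow_mul, mul_comm, zpow_mul, zpow_natCast, hm, one_zpow]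
  obtain ⟨y, hy⟩ : ∃ y : H, y = h ^ p ^ n := ⟨_, rfl⟩
  rw [← hy]
  have hle : L ≤ L ⊓ centralizer {y} := by
    apply Cfsg.Agent.Helper48.le_of_forall_sylow_le inf_le_left
    intro q hq
    haveI : Fact q.Prime := hq
    obtain ⟨S, hS⟩ := Cfsg.Agent.Helper48.exists_invariant_sylow L (zpowers h) hzN hzp hpL q
    refine ⟨S, ?_⟩
    obtain ⟨Q, hQdef⟩ : ∃ Q : Subgroup H, Q = (S : Subgroup L).map L.subtype := ⟨_, rfl⟩
    rw [← hQdef]
    have hQL : Q ≤ L := by
      rw [hQdef]; rintro _ ⟨w, -, rfl⟩; exact w.2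
    have hQq : IsPGroup q Q := by rw [hQdef]; exact S.isPGroup'.map _
    have hQn : ∀ u ∈ Q, h * u * h⁻¹ ∈ Q := by
      rw [hQdef]
      rintro _ ⟨w, hw, rfl⟩
      exact ⟨⟨h * (w : H) * h⁻¹, hLn.conj_mem w w.2 h⟩,
        hS h (mem_zpowers h) w hw (hLn.conj_mem w w.2 h), rfl⟩
    haveI : Finite Q := Finite.of_injective _ (inclusion_injective hQL)
    have hQcop : (Nat.card Q).Coprime p :=
      Nat.Coprime.coprime_dvd_left (card_dvd_of_le hQL) hLcop
    have hcent : ∀ u ∈ Q, y * u = u * y := by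
      by_cases hqp : q = p
      · intro u hu
        have h1 : orderOf u ∣ Nat.card Q := Subgroup.orderOf_dvd_natCard Q hu
        obtain ⟨k, hk⟩ := hQq ⟨u, hu⟩
        have h2 : u ^ q ^ k = 1 := by simpa using congrArg Subtype.val hk
        have h3 : orderOf u ∣ p ^ k := by
          rw [← hqp]; exact orderOf_dvd_of_pow_eq_one h2
        have h4 : orderOf u = 1 :=
          Nat.eq_one_of_dvd_coprimes (Nat.Coprime.pow_right k hQcop) h1 h3
        rw [orderOf_eq_one_iff.mp h4, mul_one, one_mul]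
      · rw [hy]
        refine commute_pow_of_norm_one hV ψ hψ h m hm Q (habel q hqp Q hQq) hQcop hQn n ?_
        intro r hr v
        apply hzero
        refine ⟨m, ?_⟩
        have := conj_pow (a := r⁻¹) (b := h) (i := p ^ m)
        rw [inv_inv] at this
        rw [this, hm]; group
    intro u hu
    refine ⟨hQL hu, ?_⟩
    show u ∈ centralizer {y}
    rw [mem_centralizer_singleton_iff]
    exact (hcent u hu).symm
  have hyC : y ∈ centralizer (L : Set H) := by
    rw [mem_centralizer_iff]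
    intro l hl
    have h1 : l ∈ centralizer {y} := (hle hl).2
    rw [mem_centralizer_singleton_iff] at h1
    exact h1
  have hyL : y ∈ L := by
    have := Cfsg.Agent.Helper62.centralizer_pPrimeCore_le_of_isPSolvable hH hO
    rw [← hL] at this
    exact this hyC
  have ho1 : orderOf y ∣ Nat.card L := Subgroup.orderOf_dvd_natCard L hyL
  have ho2 : orderOf y ∣ p ^ m := by
    apply orderOf_dvd_of_pow_eq_one
    rw [hy, ← pow_mul, mul_comm, pow_mul, hm, one_pow]
  have ho3 : orderOf y = 1 :=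
    Nat.eq_one_of_dvd_coprimes (Nat.Coprime.pow_right m hLcop) ho1 ho2
  exact orderOf_eq_one_iff.mp ho3

end act

section quot

variable {G : Type*} [Group G] [Finite G] {p : ℕ} [hp : Fact p.Prime]

/-- **Exponent of `G / O_p(G)`**, abelian case of Hall–Higman's Theorem B. -/
theorem pow_eq_one_quotient_pCore (hG : IsPSolvable p G) (hO : pPrimeCore p G = ⊥)
    (habel : ∀ (q : ℕ) [Fact q.Prime], q ≠ p → ∀ S : Subgroup G, IsPGroup q S →
      ∀ a ∈ S, ∀ b ∈ S, a * b = b * a)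
    (n : ℕ) (hexp : ∀ g : G, (∃ k : ℕ, g ^ p ^ k = 1) → g ^ p ^ (n + 1) = 1)
    (y : G ⧸ pCore p G) (hy : ∃ k : ℕ, y ^ p ^ k = 1) : y ^ p ^ n = 1 := by
  obtain ⟨R, hR⟩ : ∃ R : Subgroup G, R = pCore p G := ⟨_, rfl⟩
  subst hR
  have hRp : IsPGroup p (pCore p G) := isPGroup_pCore p
  have hC : centralizer (pCore p G : Set G) ≤ pCore p G :=
    Cfsg.Agent.Helper11.centralizer_pCore_le_of_isPSolvable hG hO
  have hHsol : IsPSolvable p (G ⧸ pCore p G) := Cfsg.Agent.Helper11.isPSolvable_quotient _ hG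
  have hHO : pCore p (G ⧸ pCore p G) = ⊥ := Cfsg.Agent.Helper62.pCore_quotient_pCore_eq_bot p
  have hV : ∀ v : ↥(pCore p G) ⧸ frattini ↥(pCore p G), v ^ p = 1 := by
    intro v
    induction v using QuotientGroup.induction_on with | _ r => ?_
    rw [← QuotientGroup.mk_pow, QuotientGroup.eq_one_iff]
    exact Cfsg.Agent.Helper63.pow_prime_mem_frattini hRp r
  letI : CommGroup (↥(pCore p G) ⧸ frattini ↥(pCore p G)) := frattiniCommGroup (pCore p G) hRp
  -- the product formula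
  have hprod : ∀ (x : G) (u : ↥(pCore p G)) (N : ℕ),
      ∃ hw : ((u : G) * x) ^ N * (x ^ N)⁻¹ ∈ pCore p G,
        ((⟨_, hw⟩ : ↥(pCore p G)) : ↥(pCore p G) ⧸ frattini ↥(pCore p G))
          = ∏ i ∈ Finset.range N, frattiniAct (pCore p G) (x ^ i)
              ((u : ↥(pCore p G)) : ↥(pCore p G) ⧸ frattini ↥(pCore p G)) := by
    intro x u N
    induction N with
    | zero =>
      refine ⟨by simp [Subgroup.one_mem], ?_⟩
      rw [Finset.prod_range_zero, QuotientGroup.eq_one_iff]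
      have : (⟨((u : G) * x) ^ 0 * (x ^ 0)⁻¹, by simp [Subgroup.one_mem]⟩ : ↥(pCore p G)) = 1 := by
        apply Subtype.ext; simp
      rw [this]; exact Subgroup.one_mem _
    | succ N ih =>
      obtain ⟨hw, ih⟩ := ih
      have hstep : ((u : G) * x) ^ (N + 1) * (x ^ (N + 1))⁻¹
          = (((u : G) * x) ^ N * (x ^ N)⁻¹) * (x ^ N * u * (x ^ N)⁻¹) := by
        rw [pow_succ, pow_succ]; group
      have hconj : x ^ N * (u : G) * (x ^ N)⁻¹ ∈ pCore p G :=
        (inferInstance : (pCore p G).Normal).conj_mem u u.2 _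
      refine ⟨by rw [hstep]; exact Subgroup.mul_mem _ hw hconj, ?_⟩
      rw [Finset.prod_range_succ, ← ih, frattiniAct_mk, ← QuotientGroup.mk_mul]
      congr 1
      apply Subtype.ext
      exact hstep
  refine pow_eq_one_of_norm_one hHsol hHO
    (fun q _ hq => abelian_pSubgroups_of_surjective (QuotientGroup.mk' (pCore p G))
      (QuotientGroup.mk'_surjective _) (habel q hq))
    hV (fratQuotAct (pCore p G) hRp) (fratQuotAct_injective (pCore p G) hRp hC le_rfl) n ?_ y hy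
  intro h' hh' v
  obtain ⟨x, rfl⟩ := QuotientGroup.mk_surjective h'
  induction v using QuotientGroup.induction_on with | _ u => ?_
  -- every lift of a `p`-element modulo a `p`-group is a `p`-element
  have hlift : ∀ g : G, (g : G ⧸ pCore p G) = (x : G ⧸ pCore p G) → ∃ k : ℕ, g ^ p ^ k = 1 := by
    intro g hg
    obtain ⟨k, hk⟩ := hh'
    rw [← hg, ← QuotientGroup.mk_pow, QuotientGroup.eq_one_iff] at hk
    obtain ⟨j, hj⟩ := hRp ⟨_, hk⟩
    refine ⟨k + j, ?_⟩
    rw [pow_add, pow_mul]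
    simpa using congrArg Subtype.val hj
  have hx1 : x ^ p ^ (n + 1) = 1 := hexp x (hlift x rfl)
  have hux1 : ((u : G) * x) ^ p ^ (n + 1) = 1 := by
    apply hexp _ (hlift _ _)
    rw [QuotientGroup.mk_mul, (QuotientGroup.eq_one_iff (u : G)).mpr u.2, one_mul]
  obtain ⟨hw, hwprod⟩ := hprod x u (p ^ (n + 1))
  have hw1 : (⟨_, hw⟩ : ↥(pCore p G)) = 1 := by
    apply Subtype.ext
    show ((u : G) * x) ^ p ^ (n + 1) * (x ^ p ^ (n + 1))⁻¹ = 1
    rw [hx1, hux1]; simp
  rw [hw1] at hwprod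
  have hterm : ∀ i : ℕ, fratQuotAct (pCore p G) hRp ((x : G ⧸ pCore p G) ^ i)
      ((u : ↥(pCore p G)) : ↥(pCore p G) ⧸ frattini ↥(pCore p G))
      = frattiniAct (pCore p G) (x ^ i) ((u : ↥(pCore p G)) : ↥(pCore p G) ⧸ frattini ↥(pCore p G)) := by
    intro i
    rw [← QuotientGroup.mk_pow, fratQuotAct_mk]
  rw [Finset.prod_congr rfl fun i _ => hterm i, ← hwprod]
  rfl

end quot

end Cfsg.Agent.Helper64
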