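import Mathlib
import Cfsg.Agent.Helper64.GrossDefs
import Cfsg.Agent.S0026
import Cfsg.Agent.Helper47.GrossREP
import Cfsg.Agent.Helper47.GrossSYMP
import Cfsg.Agent.Helper44.GrossEND

set_option autoImplicit false
set_option linter.style.haveILetI false

/-! S3795 (Gross): assembly of the pieces (REP), (SYMP), (END) into the final contradiction
(helper64). -/

namespace Cfsg.Agent.Helper64.Gross

open Subgroup Cfsg.Agent.Helper47.SG
open scoped commutatorElement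

universe uΓ uW

theorem final_contra {Γ : Type uΓ} [Group Γ] [Finite Γ] {W : Type uW} [CommGroup W] [Finite W]
    (q r s N : ℕ) (φ : Γ →* MulAut W) (P Z A : Subgroup Γ) [P.Normal] [Z.Normal] (x : Γ)
    (hq : q.Prime) (hr : r.Prime) (hs : s.Prime) (hq2 : q ≠ 2) (hr2 : r ≠ 2) (hs2 : s ≠ 2)
    (hqr : q ≠ r) (hqs : q ≠ s)
    (hexp : ∀ w : W, w ^ r = 1) (hP : IsPGroup q P) (hPexp : ∀ a ∈ P, a ^ q = 1) (hZP : Z ≤ P)
    (hcomm : ∀ a ∈ P, ∀ b ∈ P, ⁅a, b⁆ ∈ Z) (hZc : ∀ z ∈ Z, ∀ a ∈ P, a * z = z * a)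
    (hgen : Z ≤ closure {g | ∃ a ∈ P, ∃ b ∈ P, ⁅a, b⁆ = g})
    (hxord : orderOf x = 2 ^ N)
    (hfree : ∀ i : ℕ, x ^ i ≠ 1 → ∀ a ∈ P, ⁅x ^ i, a⁆ ∈ Z → a ∈ Z)
    (hfaith : ∀ z ∈ Z, φ z = 1 → z = 1) (hZne : Z ≠ ⊥)
    (hWfix : ∀ w : W, φ x w = w → w = 1)
    (hA : IsPGroup s A) (hAZ : ∀ a ∈ A, ∀ z ∈ Z, a * z = z * a)
    (hxA : x ∈ normalizer (A : Set Γ))
    (hAfix : ∀ v ∈ P, (∀ a ∈ A, a * v = v * a) → v ∈ Z) : False := by
  classical
  haveI : Fact q.Prime := ⟨hq⟩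
  haveI : Fact s.Prime := ⟨hs⟩
  have hZq : ∀ z ∈ Z, z ^ q = 1 := fun z hz => hPexp z (hZP hz)
  obtain ⟨Z0, T, j, k, hZ0, hidx, hjN, hyZ0', hytriv, hT, hk1, hTidx, hbound⟩ :=
    Cfsg.Agent.Helper47.Gross.rep_data q r N φ P Z x hq hr hq2 hr2 hqr hexp hP hZP hcomm hZc hgen hZq hxord hfree hfaith hZne
      hWfix
  have hyord : orderOf (x ^ (2 ^ j)) = 2 ^ (N - j) := by
    rw [orderOf_pow_of_dvd (pow_ne_zero _ two_ne_zero) (by rw [hxord]; exact pow_dvd_pow 2 hjN.le),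
      hxord, Nat.pow_div hjN.le two_pos]
  have hfreey : ∀ i : ℕ, (x ^ (2 ^ j)) ^ i ≠ 1 → ∀ a ∈ P, ⁅(x ^ (2 ^ j)) ^ i, a⁆ ∈ Z → a ∈ Z := by
    intro i hi a ha hmem
    rw [← pow_mul] at hi hmem
    exact hfree _ hi a ha hmem
  have hnP : ∀ g : Γ, g ∈ normalizer (P : Set Γ) := fun g => by
    rw [normalizer_eq_top_iff.mpr inferInstance]; exact mem_top g
  have hnZ : ∀ g : Γ, g ∈ normalizer (Z : Set Γ) := fun g => by
    rw [normalizer_eq_top_iff.mpr inferInstance]; exact mem_top g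
  have hyZ0 : x ^ (2 ^ j) ∈ normalizer (Z0 : Set Γ) := mem_normalizer_fintype hyZ0'
  obtain ⟨hk, hqb⟩ := Cfsg.Agent.Helper47.Gross.symp_num q (N - j) k P Z Z0 T (x ^ (2 ^ j)) hq hq2 hP hPexp hZP hcomm hZc hZ0
    hidx hT (hnP _) (hnZ _) hyZ0 hytriv hyord hfreey hk1 hTidx hbound
  subst hk
  have hTP : T ≤ P := fun a ha => ((hT a).mp ha).1
  have hZT : Z ≤ T := by
    intro z hz
    refine (hT z).mpr ⟨hZP hz, fun b hb => ?_⟩
    have h1 : ⁅z, b⁆ = 1 := by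
      rw [commutatorElement_def, ← hZc z hz b hb]; group
    rw [h1]; exact Z0.one_mem
  have hAnt : ∃ a ∈ A, ∃ v ∈ P, ⁅a, v⁆ ∉ T := by
    by_contra hcon
    push Not at hcon
    have hAP : A ≤ normalizer (P : Set Γ) := fun a _ => hnP a
    have hcop : (Nat.card A).Coprime (Nat.card P) := by
      obtain ⟨e, he⟩ := (IsPGroup.iff_card).mp hA
      obtain ⟨f, hf⟩ := (IsPGroup.iff_card).mp hP
      rw [he, hf]
      exact Nat.Coprime.pow _ _ ((Nat.coprime_primes hs hq).mpr (Ne.symm hqs))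
    have hsolv : Group.IsSolvable A ∨ Group.IsSolvable P := Or.inl (by
      haveI := hA.isNilpotent
      infer_instance)
    have h26 := Cfsg.Agent.S0026.result A P hAP hcop hsolv
    have h1 : ⁅P, A⁆ ≤ T := by
      rw [commutator_le]
      intro v hv a ha
      have h2 : ⁅v, a⁆ = ⁅a, v⁆⁻¹ := (commutatorElement_inv _ _).symm
      rw [h2]
      exact T.inv_mem (hcon a ha v hv)
    have h2 : P ⊓ centralizer (A : Set Γ) ≤ T := by
      intro v hv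
      apply hZT
      apply hAfix v hv.1
      intro a ha
      exact mem_centralizer_iff.mp hv.2 a ha
    have h3 : P ≤ T := by
      rw [← h26]; exact sup_le h1 h2
    have h4 : T.relIndex P = 1 := relIndex_eq_one.mpr h3
    rw [h4] at hTidx
    have : 1 < q ^ (2 * 1) := Nat.one_lt_pow (by norm_num) hq.one_lt
    omega
  exact Cfsg.Agent.Helper44.Gross.endgame q s (N - j) P Z Z0 T A (x ^ (2 ^ j)) hq hs hq2 hs2 hqs hP hPexp hZP hcomm hZc hZ0 hidx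
    hT (by rw [hTidx]) hqb (hnP _) (hnZ _) hyZ0 hytriv hyord hfreey hA (fun a _ => hnP a) hAZ
    (pow_mem hxA _) hAnt

end Cfsg.Agent.Helper64.Gross
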