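import Mathlib
import Cfsg.Agent.S0022

set_option autoImplicit false

/-! S3795 (Gross): freeness of a coprime cyclic action passes from `P / Z` to `P / T`
(helper64; for the pieces (SYMP) and (END)). -/

namespace Cfsg.Agent.Helper64.Gross

open Subgroup
open scoped commutatorElement

/-- If `u` normalizes `P` and `T ≤ P`, `T` normal in `P`, the order of `u` is coprime to `|P|`, `P` is solvable
and every element of `P` fixed by `u` lies in `T`, then every element of `P` fixed by `u` modulo
`T` lies in `T`. -/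
theorem mem_of_commutator_mem {Γ : Type*} [Group Γ] [Finite Γ] (P T : Subgroup Γ) (u : Γ)
    (hTP : T ≤ P) (hPT : P ≤ normalizer (T : Set Γ)) (huP : u ∈ normalizer (P : Set Γ))
    (huT : u ∈ normalizer (T : Set Γ)) (hcop : (orderOf u).Coprime (Nat.card P))
    (hsol : Group.IsSolvable P)
    (hfix : ∀ c ∈ P, u * c = c * u → c ∈ T) :
    ∀ a ∈ P, ⁅u, a⁆ ∈ T → a ∈ T := by
  intro a ha hua
  have hAK : zpowers u ≤ normalizer (P : Set Γ) := (zpowers_le).mpr huP
  have hAT : zpowers u ≤ normalizer (T : Set Γ) := (zpowers_le).mpr huT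
  have hcop' : (Nat.card (zpowers u)).Coprime (Nat.card P) := by
    rw [Nat.card_zpowers]; exact hcop
  -- every power of `u` fixes `a` modulo `T`
  have hall : ∀ v ∈ zpowers u, v * a * v⁻¹ * a⁻¹ ∈ T := by
    have hle : zpowers u ≤
        { carrier := {v | v ∈ normalizer (T : Set Γ) ∧ v * a * v⁻¹ * a⁻¹ ∈ T}
          one_mem' := ⟨one_mem _, by simp⟩
          mul_mem' := by
            rintro v w ⟨hv, hva⟩ ⟨hw, hwa⟩
            refine ⟨mul_mem hv hw, ?_⟩
            have e : v * w * a * (v * w)⁻¹ * a⁻¹ =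
                (v * (w * a * w⁻¹ * a⁻¹) * v⁻¹) * (v * a * v⁻¹ * a⁻¹) := by group
            rw [e]
            exact T.mul_mem ((mem_normalizer_iff.mp hv _).mp hwa) hva
          inv_mem' := by
            rintro v ⟨hv, hva⟩
            refine ⟨inv_mem hv, ?_⟩
            have e : v⁻¹ * a * v⁻¹⁻¹ * a⁻¹ = v⁻¹ * (v * a * v⁻¹ * a⁻¹)⁻¹ * v⁻¹⁻¹ := by group
            rw [e]
            exact (mem_normalizer_iff.mp (inv_mem hv) _).mp (T.inv_mem hva) } := by
      rw [zpowers_le]
      exact ⟨huT, by rwa [commutatorElement_def] at hua⟩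
    intro v hv
    exact (hle hv).2
  obtain ⟨c, hc, hac⟩ := Cfsg.Agent.S0022.result (zpowers u) P hAK hcop' (Or.inr hsol) T hTP hPT hAT
    a ha hall
  have hcT : c ∈ T := by
    apply hfix c hc.1
    exact mem_centralizer_iff.mp hc.2 u (mem_zpowers u)
  have e : a = c * (a⁻¹ * c)⁻¹ := by group
  rw [e]
  exact T.mul_mem hcT (T.inv_mem hac)

end Cfsg.Agent.Helper64.Gross
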