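import Mathlib
import Cfsg.Agent.Helper64.GrossDefs
import Cfsg.Agent.Helper64.GrossMidDefs
import Cfsg.Agent.Helper64.GrossFinal
import Cfsg.Agent.Helper50.SGW7
import Cfsg.Agent.Helper91.GrossAC
import Cfsg.Agent.Helper37.GrossAB
import Cfsg.Agent.Helper33.GrossHH
import Cfsg.Agent.Helper71.GrossAQ
import Cfsg.Agent.Helper71.GrossPZ

set_option autoImplicit false
set_option linter.style.haveILetI false

/-! S3795 (Gross): there is no minimal counterexample to the three level lemma (helper64;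
assembly of the middle pieces (AC), (AB), (HH), (AQ), (PZ) and of `final_contra`). -/

namespace Cfsg.Agent.Helper64.Gross

open Subgroup Cfsg.Agent.Helper47.SG
open scoped commutatorElement

universe uΓ uW

theorem commutator_self_le {G : Type*} [Group G] (P : Subgroup G) : ⁅P, P⁆ ≤ P := by
  rw [commutator_le]
  intro a ha b hb
  exact P.mul_mem (P.mul_mem (P.mul_mem ha hb) (P.inv_mem ha)) (P.inv_mem hb)

theorem mem_normalizer_commutator {G : Type*} [Group G] (H K : Subgroup G) (g : G)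
    (hH : g ∈ normalizer (H : Set G)) (hK : g ∈ normalizer (K : Set G)) :
    g ∈ normalizer ((⁅H, K⁆ : Subgroup G) : Set G) := by
  have key : ∀ g : G, g ∈ normalizer (H : Set G) → g ∈ normalizer (K : Set G) →
      ∀ c ∈ ⁅H, K⁆, g * c * g⁻¹ ∈ ⁅H, K⁆ := by
    intro g hH hK c hc
    have h1 : ⁅H, K⁆ ≤ (⁅H, K⁆).comap (MulAut.conj g).toMonoidHom := by
      rw [commutator_le]
      intro a ha b hb
      show g * ⁅a, b⁆ * g⁻¹ ∈ ⁅H, K⁆
      have h2 : g * ⁅a, b⁆ * g⁻¹ = ⁅g * a * g⁻¹, g * b * g⁻¹⁆ := by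
        simp only [commutatorElement_def]; group
      rw [h2]
      exact commutator_mem_commutator ((mem_normalizer_iff.mp hH a).mp ha)
        ((mem_normalizer_iff.mp hK b).mp hb)
    exact h1 hc
  rw [mem_normalizer_iff]
  intro c
  constructor
  · exact key g hH hK c
  · intro hc
    have := key g⁻¹ (inv_mem hH) (inv_mem hK) _ hc
    have e : g⁻¹ * (g * c * g⁻¹) * g⁻¹⁻¹ = c := by group
    rwa [e] at this

set_option maxHeartbeats 800000 in
theorem kl3_min : KL3MinStmt.{uΓ, uW} := by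
  intro Γ _ _ W _ _ q s r n φ Q S x c
  classical
  have hH := Cfsg.Agent.Helper33.Gross.hh_data Cfsg.Agent.Helper91.Gross.abelian_cent c
  have hA := Cfsg.Agent.Helper71.Gross.a_data Cfsg.Agent.Helper37.Gross.abelian_tower c hH
  have hPZ := Cfsg.Agent.Helper71.Gross.pz_data Cfsg.Agent.Helper91.Gross.abelian_cent c hH hA
  obtain ⟨P, hPdef⟩ : ∃ P : Subgroup Γ, P = ⁅Q, zpowers (x ^ (2 ^ n))⁆ := ⟨_, rfl⟩
  obtain ⟨Z, hZdef⟩ : ∃ Z : Subgroup Γ, Z = ⁅P, P⁆ := ⟨_, rfl⟩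
  obtain ⟨A, hAdef⟩ : ∃ A : Subgroup Γ, A = ⁅S, S⁆ := ⟨_, rfl⟩
  obtain ⟨τ, hτdef⟩ : ∃ τ : Γ, τ = x ^ (2 ^ n) := ⟨_, rfl⟩
  have hPQ : P ≤ Q := by rw [hPdef]; exact hPZ.PQ
  have hxP : x ∈ normalizer (P : Set Γ) := by rw [hPdef]; exact hPZ.xP
  have hAP : A ≤ normalizer (P : Set Γ) := by rw [hPdef, hAdef]; exact hPZ.AP
  have hZne : Z ≠ ⊥ := by rw [hZdef, hPdef]; exact hPZ.Zne
  have hinv : ∀ a ∈ P, a * (τ * a * τ⁻¹) ∈ Z := by
    rw [hZdef, hPdef, hτdef]; exact hPZ.inv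
  have hPD : ∀ g ∈ P, g ∈ ⁅Q, Q⁆ → g ∈ Z := by
    rw [hZdef, hPdef]; exact hPZ.PD
  have hZP : Z ≤ P := by rw [hZdef]; exact commutator_self_le P
  have hZD : Z ≤ ⁅Q, Q⁆ := by rw [hZdef]; exact commutator_mono hPQ hPQ
  have hAS : A ≤ S := by rw [hAdef]; exact commutator_self_le S
  have hZc : ∀ z ∈ Z, ∀ a ∈ P, a * z = z * a := fun z hz a ha =>
    hH.Dcent z (hZD hz) a (hPQ ha)
  have hAZc : ∀ a ∈ A, ∀ z ∈ Z, a * z = z * a := fun a ha z hz => hH.SD a (hAS ha) z (hZD hz)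
  have hxZ : x ∈ normalizer (Z : Set Γ) := by
    rw [hZdef]; exact mem_normalizer_commutator P P x hxP hxP
  have hcentN : ∀ a : Γ, (∀ z ∈ Z, a * z = z * a) → a ∈ normalizer (Z : Set Γ) := by
    intro a ha
    apply mem_normalizer_fintype
    intro z hz
    have e : a * z * a⁻¹ = z := by rw [ha z hz]; group
    rw [e]; exact hz
  have hAZ : A ≤ normalizer (Z : Set Γ) := fun a ha => hcentN a (hAZc a ha)
  have hPnZ : P ≤ normalizer (Z : Set Γ) := fun a ha => hcentN a (fun z hz => hZc z hz a ha)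
  have hxS' : x ∈ normalizer (A : Set Γ) := by
    rw [hAdef]; exact mem_normalizer_commutator S S x c.hxS c.hxS
  -- the ambient group
  obtain ⟨Γ₁, hΓ₁⟩ : ∃ Γ₁ : Subgroup Γ, Γ₁ = normalizer (P : Set Γ) ⊓ normalizer (Z : Set Γ) :=
    ⟨_, rfl⟩
  have hPΓ : P ≤ Γ₁ := by rw [hΓ₁]; exact le_inf le_normalizer hPnZ
  have hZΓ : Z ≤ Γ₁ := hZP.trans hPΓ
  have hAΓ : A ≤ Γ₁ := by rw [hΓ₁]; exact le_inf hAP hAZ
  have hxΓ : x ∈ Γ₁ := by rw [hΓ₁]; exact ⟨hxP, hxZ⟩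
  haveI hP₁n : (P.subgroupOf Γ₁).Normal :=
    normal_subgroupOf_of_le_normalizer (by rw [hΓ₁]; exact inf_le_left)
  haveI hZ₁n : (Z.subgroupOf Γ₁).Normal :=
    normal_subgroupOf_of_le_normalizer (by rw [hΓ₁]; exact inf_le_right)
  have hτ2 : τ * τ = 1 := by
    rw [hτdef, ← pow_add, ← two_mul, ← pow_succ']; exact c.hx
  have hτinv : τ⁻¹ = τ := inv_eq_of_mul_eq_one_left hτ2
  haveI : Fact q.Prime := ⟨c.hq⟩
  have hqodd : Odd q := c.hq.odd_of_ne_two c.hq2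
  -- elements of `P` with square in `Z` lie in `Z`
  have hsq : ∀ a ∈ P, a * a ∈ Z → a ∈ Z := by
    intro a ha haa
    obtain ⟨m, hm⟩ := hqodd
    have h1 : a ^ q = 1 := hH.expQ a (hPQ ha)
    have h2 : a = ((a * a) ^ (m + 1)) := by
      rw [← pow_two, ← pow_mul]
      have : 2 * (m + 1) = q + 1 := by omega
      rw [this, pow_succ, h1, one_mul]
    rw [h2]
    exact Z.pow_mem haa _
  refine final_contra q r s (n + 1) (φ.comp Γ₁.subtype) (P.subgroupOf Γ₁) (Z.subgroupOf Γ₁)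
    (A.subgroupOf Γ₁) ⟨x, hxΓ⟩ c.hq c.hr c.hs c.hq2 c.hr2 c.hs2 c.hqr c.hqs c.hexp
    ((c.hQ.to_le hPQ).comap_subtype) ?_ ?_ ?_ ?_ ?_ ?_ ?_ ?_ ?_ ?_ (c.hS.to_le hAS).comap_subtype
    ?_ ?_ ?_
  · -- exponent
    intro a ha
    apply Subtype.ext
    rw [SubgroupClass.coe_pow]
    exact hH.expQ _ (hPQ (mem_subgroupOf.mp ha))
  · -- Z ≤ P
    intro z hz
    exact mem_subgroupOf.mpr (hZP (mem_subgroupOf.mp hz))
  · -- commutators
    intro a ha b hb
    rw [mem_subgroupOf]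
    have : ((⁅a, b⁆ : ↥Γ₁) : Γ) = ⁅(a : Γ), (b : Γ)⁆ := by simp [commutatorElement_def]
    rw [this, hZdef]
    exact commutator_mem_commutator (mem_subgroupOf.mp ha) (mem_subgroupOf.mp hb)
  · -- central
    intro z hz a ha
    apply Subtype.ext
    exact hZc _ (mem_subgroupOf.mp hz) _ (mem_subgroupOf.mp ha)
  · -- generation
    have h1 : Z.subgroupOf Γ₁ = ⁅P.subgroupOf Γ₁, P.subgroupOf Γ₁⁆ := by
      apply map_injective Γ₁.subtype_injective
      rw [map_commutator, subgroupOf_map_subtype, subgroupOf_map_subtype, inf_of_le_left hZΓ,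
        inf_of_le_left hPΓ, hZdef]
    rw [h1, Subgroup.commutator_def]
  · -- order of x
    rw [Subgroup.orderOf_mk]
    exact hPZ.ordx
  · -- freeness
    intro i hi a ha hia
    have hi' : x ^ i ≠ 1 := by
      intro h
      apply hi
      apply Subtype.ext
      rw [SubgroupClass.coe_pow]
      exact h
    have hx₁ : (⟨x, hxΓ⟩ : ↥Γ₁) ^ (2 ^ (n + 1)) = 1 := by
      apply Subtype.ext
      rw [SubgroupClass.coe_pow]
      exact c.hx
    have h1 := Cfsg.Agent.Helper50.SGW.pow_mem_zpowers_of_ne_one Nat.prime_two hx₁ i hi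
    obtain ⟨k, hk⟩ := Cfsg.Agent.Helper50.mem_zpowers_exists_pow h1
    have h2 := Cfsg.Agent.Helper50.SGW.fixMod_le_pow (P.subgroupOf Γ₁) (Z.subgroupOf Γ₁)
      ((⟨x, hxΓ⟩ : ↥Γ₁) ^ i) k ⟨ha, hia⟩
    rw [hk] at h2
    have h3 : ⁅τ, (a : Γ)⁆ ∈ Z := by
      have := mem_subgroupOf.mp h2.2
      have e : ((⁅(⟨x, hxΓ⟩ : ↥Γ₁) ^ 2 ^ n, a⁆ : ↥Γ₁) : Γ) = ⁅τ, (a : Γ)⁆ := by
        rw [hτdef]; simp [commutatorElement_def]
      rwa [e] at this
    have haP : (a : Γ) ∈ P := mem_subgroupOf.mp ha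
    have h4 := hinv _ haP
    rw [mem_subgroupOf]
    apply hsq _ haP
    -- `a * a = ⁅τ, a⁆⁻¹ * (a * (τ a τ⁻¹))` up to centrality
    have h5 : (a : Γ) * (τ * a * τ⁻¹) = ⁅τ, (a : Γ)⁆ * ((a : Γ) * a) := by
      have hc := hZc _ h3 _ haP
      calc (a : Γ) * (τ * a * τ⁻¹) = (a : Γ) * ⁅τ, (a : Γ)⁆ * a := by
            simp only [commutatorElement_def]; group
        _ = ⁅τ, (a : Γ)⁆ * (a : Γ) * a := by rw [hc]
        _ = ⁅τ, (a : Γ)⁆ * ((a : Γ) * a) := by group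
    rw [h5] at h4
    have := Z.mul_mem (Z.inv_mem h3) h4
    rwa [inv_mul_cancel_left] at this
  · -- faithful
    intro z hz hφ
    apply Subtype.ext
    exact c.hfaith _ (hPQ (hZP (mem_subgroupOf.mp hz))) hφ
  · -- Z ≠ ⊥
    intro h
    apply hZne
    rw [eq_bot_iff]
    intro z hz
    have : (⟨z, hZΓ hz⟩ : ↥Γ₁) ∈ Z.subgroupOf Γ₁ := mem_subgroupOf.mpr hz
    rw [h, mem_bot] at this
    rw [mem_bot]
    exact congrArg Subtype.val this
  · -- no fixed points on W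
    intro w hw
    exact c.hWfix w hw
  · -- A centralizes Z
    intro a ha z hz
    apply Subtype.ext
    exact hAZc _ (mem_subgroupOf.mp ha) _ (mem_subgroupOf.mp hz)
  · -- x normalizes A
    apply mem_normalizer_fintype
    intro a ha
    rw [SetLike.mem_coe, mem_subgroupOf] at ha ⊢
    exact (mem_normalizer_iff.mp hxS' _).mp ha
  · -- fixed points of A on P
    intro v hv hfix
    rw [mem_subgroupOf] at hv ⊢
    apply hPD _ hv
    apply hA.fixD _ (hPQ hv)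
    intro a ha
    have haA : a ∈ A := by rw [hAdef]; exact ha
    have h1 := congrArg Subtype.val (hfix ⟨a, hAΓ haA⟩ (mem_subgroupOf.mpr haA))
    have h2 : a * (v : Γ) = (v : Γ) * a := h1
    have h3 : ⁅a, (v : Γ)⁆ = 1 := by
      rw [commutatorElement_def, h2]; group
    rw [h3]
    exact one_mem _

end Cfsg.Agent.Helper64.Gross
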