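import Cfsg.Agent.Helper64.HHBStep3

/-!
# Hall–Higman Theorem B, part 9: the linear core theorem

Let `K` be algebraically closed of characteristic `p`, `Q` a finite `q`-group (`q ≠ p`) acting on
a finite-dimensional space `W`, `X` an invertible endomorphism with `X ^ (p^(n+1)) = 1` normalising
the action through an automorphism `α` such that `α ^ (p^n)` acts nontrivially on `ρ(Q)`.  If
`(X - 1) ^ r = 0` then `p^(n+1) ≤ r`, or `p^n₀ - 1 = q^m` for some `1 ≤ n₀ ≤ n+1`, `ρ(Q)` is not
commutative and `p^(n+1-n₀) (p^n₀ - 1) ≤ r`.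
-/

set_option autoImplicit false

namespace Cfsg.Agent.Helper64

open Module

universe u v w

variable {K : Type u} [Field K]

theorem hh_core (p q : ℕ) [hp : Fact p.Prime] [hq : Fact q.Prime] (hpq : p ≠ q) [CharP K p]
    [IsAlgClosed K] : ∀ M : ℕ, HHHyp.{u, v, w} K p q M := by
  intro M
  induction M with
  | zero =>
    intro Q' _ _ W' _ _ _ hQ hM
    exfalso
    have := Nat.card_pos (α := Q')
    omega
  | succ M IH =>
    intro Q _ _ W _ _ _ hQ hM n D hmv r hr
    haveI : Nontrivial W := by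
      by_contra h
      rw [not_nontrivial_iff_subsingleton] at h
      obtain ⟨g, hg⟩ := hmv
      apply hg
      apply LinearMap.ext; intro w
      exact Subsingleton.elim _ _
    by_cases hirr : D.Irr
    · rcases step_weights p q hpq M IH hQ hM n D hmv r hr hirr with h | hsc
      · exact h
      by_cases hinj : Function.Injective D.ρ
      · by_cases hmin : ∀ Q₁ : Subgroup Q, Q₁ ≠ ⊤ → (∀ g ∈ Q₁, D.α g ∈ Q₁) →
            ∀ g ∈ Q₁, D.ρ ((D.α ^ p ^ n) g) = D.ρ g
        · exact step_final p q hpq hQ n D hmv r hr hirr hsc hinj hmin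
        · push Not at hmin
          obtain ⟨Q₁, h1, h2, g, hg, hne⟩ := hmin
          exact step_subgroup p q M IH hQ hM n D r hr Q₁ h1 h2 ⟨g, hg, hne⟩
      · exact step_kernel p q M IH hQ hM n D hmv r hr hinj
    · unfold HHData.Irr at hirr
      push Not at hirr
      obtain ⟨U, hU, h0, h1⟩ := hirr
      exact step_reducible p q hpq M IH hQ hM n D hmv r hr U hU h0 h1

/-- **Hall–Higman Theorem B, linear form.** -/
theorem hh_linear (p q : ℕ) [hp : Fact p.Prime] [hq : Fact q.Prime] (hpq : p ≠ q) [CharP K p]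
    [IsAlgClosed K] {Q : Type w} [Group Q] [Finite Q] {W : Type v} [AddCommGroup W] [Module K W]
    [FiniteDimensional K W] (hQ : IsPGroup q Q) (n : ℕ) (D : HHData K Q W (p ^ (n + 1)))
    (hmv : D.Moves (p ^ n)) (r : ℕ) (hr : (D.X - 1) ^ r = 0) : HHConcl p q n r D.ρ :=
  hh_core p q hpq _ Q W hQ le_rfl n D hmv r hr

end Cfsg.Agent.Helper64
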