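import Cfsg.Agent.Helper64.HHSection

/-!
# Hall–Higman engine, part 6: irreducible representations of `q`-groups have `q`-power degree

Over an algebraically closed field whose characteristic does not divide the group order.
Clifford theory with respect to an element that is central modulo scalars: the group permutes
the eigenspaces of that element.
-/

set_option autoImplicit false

namespace Cfsg.Agent.Helper64

open Module

universe u v w

variable {K : Type u} [Field K] {Q : Type w} [Group Q]
  {V : Type v} [AddCommGroup V] [Module K V]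

theorem rho_injective (ρ : Representation K Q V) (h : Q) : Function.Injective (ρ h) := by
  intro a b hab
  have : ρ h⁻¹ (ρ h a) = ρ h⁻¹ (ρ h b) := by rw [hab]
  rwa [← Module.End.mul_apply, ← Module.End.mul_apply, ← map_mul, inv_mul_cancel, map_one] at this

section step

variable (ρ : Representation K Q V) (u : Q) (χ : Q →* Kˣ)
  (hχ : ∀ h, ρ u * ρ h = ((χ h : Kˣ) : K) • (ρ h * ρ u))

include hχ in
theorem rho_mem_eigenspace (h : Q) (β : K) (x : V) (hx : x ∈ Module.End.eigenspace (ρ u) β) :
    ρ h x ∈ Module.End.eigenspace (ρ u) (((χ h : Kˣ) : K) * β) := by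
  rw [Module.End.mem_eigenspace_iff] at hx ⊢
  have h1 : (ρ u) ((ρ h) x) = (ρ u * ρ h) x := rfl
  rw [h1, hχ h, LinearMap.smul_apply, Module.End.mul_apply, hx, map_smul, smul_smul]

include hχ in
theorem finrank_eigenspace_eq [FiniteDimensional K V] (h : Q) (β : K) :
    finrank K (Module.End.eigenspace (ρ u) (((χ h : Kˣ) : K) * β))
      = finrank K (Module.End.eigenspace (ρ u) β) := by
  apply le_antisymm
  · -- ρ h⁻¹ maps eig (χ h β) into eig β
    have hmap : ∀ x ∈ Module.End.eigenspace (ρ u) (((χ h : Kˣ) : K) * β),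
        ρ h⁻¹ x ∈ Module.End.eigenspace (ρ u) β := by
      intro x hx
      have := rho_mem_eigenspace ρ u χ hχ h⁻¹ _ x hx
      rwa [map_inv, ← mul_assoc, Units.val_inv_eq_inv_val, inv_mul_cancel₀ (Units.ne_zero _),
        one_mul] at this
    apply LinearMap.finrank_le_finrank_of_injective (f := (ρ h⁻¹).restrict hmap)
    intro a b hab
    apply Subtype.ext
    apply rho_injective ρ h⁻¹
    exact congrArg Subtype.val hab
  · have hmap : ∀ x ∈ Module.End.eigenspace (ρ u) β,
        ρ h x ∈ Module.End.eigenspace (ρ u) (((χ h : Kˣ) : K) * β) :=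
      fun x hx => rho_mem_eigenspace ρ u χ hχ h β x hx
    apply LinearMap.finrank_le_finrank_of_injective (f := (ρ h).restrict hmap)
    intro a b hab
    apply Subtype.ext
    apply rho_injective ρ h
    exact congrArg Subtype.val hab

variable [FiniteDimensional K V] [Finite Q]

include hχ in
/-- Clifford step: dimension count and irreducibility of an eigenspace under the kernel of `χ`. -/
theorem clifford_eigen_step (hirr : ElemIrred ρ) (lam : K)
    (hlam : Module.End.eigenspace (ρ u) lam ≠ ⊥) :
    finrank K V = Nat.card χ.range * finrank K (Module.End.eigenspace (ρ u) lam) ∧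
    ∀ W : Submodule K V, W ≤ Module.End.eigenspace (ρ u) lam →
      (∀ t ∈ χ.ker, ∀ x ∈ W, ρ t x ∈ W) → W = ⊥ ∨ W = Module.End.eigenspace (ρ u) lam := by
  classical
  haveI : Finite χ.range := Finite.of_surjective χ.rangeRestrict χ.rangeRestrict_surjective
  haveI : Fintype χ.range := Fintype.ofFinite _
  -- lam ≠ 0
  have hlam0 : lam ≠ 0 := by
    intro h0
    apply hlam
    rw [eq_bot_iff]
    intro x hx
    rw [Module.End.mem_eigenspace_iff, h0, zero_smul] at hx
    have : ρ u x = ρ u 0 := by rw [hx, map_zero]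
    rw [Submodule.mem_bot]
    exact rho_injective ρ u this
  -- the family
  let A : χ.range → Submodule K V :=
    fun c => Module.End.eigenspace (ρ u) ((((c : Kˣ)) : K) * lam)
  have hinj : Function.Injective (fun c : χ.range => (((c : Kˣ)) : K) * lam) := by
    intro c d hcd
    have : (((c : Kˣ)) : K) = ((d : Kˣ) : K) := mul_right_cancel₀ hlam0 hcd
    exact Subtype.ext (Units.ext this)
  have hind : iSupIndep A := (Module.End.eigenspaces_iSupIndep (ρ u)).comp hinj
  have hA1 : A 1 = Module.End.eigenspace (ρ u) lam := by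
    simp only [A, OneMemClass.coe_one, Units.val_one, one_mul]
  have hmapA : ∀ (g : Q) (c : χ.range) (x : V), x ∈ A c →
      ρ g x ∈ A ⟨χ g * c, χ.range.mul_mem ⟨g, rfl⟩ c.2⟩ := by
    intro g c x hx
    have := rho_mem_eigenspace ρ u χ hχ g _ x hx
    simp only [A, Units.val_mul]
    rwa [mul_assoc]
  have hsup : iSup A = ⊤ := by
    rcases hirr.2 (iSup A) (by
      intro g x hx
      refine Submodule.iSup_induction A (motive := fun x => ρ g x ∈ iSup A) hx ?_ ?_ ?_
      · intro c x hx
        exact (le_iSup A _) (hmapA g c x hx)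
      · rw [map_zero]; exact Submodule.zero_mem _
      · intro x y hx hy
        rw [map_add]; exact Submodule.add_mem _ hx hy) with h | h
    · exfalso
      apply hlam
      rw [← hA1, eq_bot_iff, ← h]
      exact le_iSup A 1
    · exact h
  have hdim : ∀ c : χ.range, finrank K (A c) = finrank K (Module.End.eigenspace (ρ u) lam) := by
    rintro ⟨c, g, rfl⟩
    exact finrank_eigenspace_eq ρ u χ hχ g lam
  refine ⟨?_, ?_⟩
  · have hint := DirectSum.isInternal_submodule_of_iSupIndep_of_iSup_eq_top hind hsup
    have e := LinearEquiv.ofBijective (DirectSum.coeLinearMap A) hint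
    rw [← e.finrank_eq, Module.finrank_directSum]
    simp only [hdim, Finset.sum_const, Finset.card_univ, smul_eq_mul]
    rw [Nat.card_eq_fintype_card]
  · intro W hWE hWT
    by_cases hW : W = ⊥
    · left; exact hW
    right
    -- total space generated by translates of W
    rcases hirr.2 (⨆ g : Q, W.map (ρ g)) (by
      intro g x hx
      refine Submodule.iSup_induction (fun g : Q => W.map (ρ g))
        (motive := fun x => ρ g x ∈ ⨆ g : Q, W.map (ρ g)) hx ?_ ?_ ?_
      · rintro g' _ ⟨y, hy, rfl⟩
        apply (le_iSup (fun g : Q => W.map (ρ g)) (g * g'))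
        refine ⟨y, hy, ?_⟩
        rw [map_mul]; rfl
      · rw [map_zero]; exact Submodule.zero_mem _
      · intro x y hx hy
        rw [map_add]; exact Submodule.add_mem _ hx hy) with h | h
    · exfalso
      apply hW
      rw [eq_bot_iff, ← h]
      intro x hx
      apply (le_iSup (fun g : Q => W.map (ρ g)) 1)
      exact ⟨x, hx, by rw [map_one]; rfl⟩
    · -- ⊤ ≤ W ⊔ ⨆_{c ≠ 1} A c
      have hle : (⊤ : Submodule K V) ≤ W ⊔ ⨆ c, ⨆ (_ : c ≠ (1 : χ.range)), A c := by
        rw [← h]
        apply iSup_le
        intro g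
        by_cases hg : χ g = 1
        · apply le_trans _ le_sup_left
          rintro _ ⟨y, hy, rfl⟩
          exact hWT g (MonoidHom.mem_ker.mpr hg) y hy
        · apply le_trans _ le_sup_right
          have hc : (⟨χ g, ⟨g, rfl⟩⟩ : χ.range) ≠ 1 := by
            intro h1
            apply hg
            exact congrArg Subtype.val h1
          apply le_trans _ (le_iSup₂ (f := fun c (_ : c ≠ (1 : χ.range)) => A c) _ hc)
          rintro _ ⟨y, hy, rfl⟩
          have := rho_mem_eigenspace ρ u χ hχ g lam y (hWE hy)
          exact this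
      have hdisj : Disjoint (A 1) (⨆ c, ⨆ (_ : c ≠ (1 : χ.range)), A c) := hind 1
      apply le_antisymm hWE
      intro x hx
      have hx' : x ∈ W ⊔ ⨆ c, ⨆ (_ : c ≠ (1 : χ.range)), A c := hle Submodule.mem_top
      obtain ⟨w, hw, y, hy, rfl⟩ := Submodule.mem_sup.mp hx'
      have hyE : y ∈ A 1 := by
        rw [hA1]
        have : y = (w + y) - w := by abel
        rw [this]
        exact Submodule.sub_mem _ hx (hWE hw)
      have hy0 : y = 0 := by
        have := hdisj.le_bot (Submodule.mem_inf.mpr ⟨hyE, hy⟩)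
        exact (Submodule.mem_bot K).mp this
      rw [hy0, add_zero]; exact hw

end step

end Cfsg.Agent.Helper64

namespace Cfsg.Agent.Helper64

open Module

universe u v w

variable {K : Type u} [Field K] {Q : Type w} [Group Q]
  {V : Type v} [AddCommGroup V] [Module K V]

/-- The elements acting as scalars. -/
def scalarSubgroup (ρ : Representation K Q V) : Subgroup Q where
  carrier := {g | ∃ c : K, ρ g = c • (1 : Module.End K V)}
  mul_mem' := by
    rintro a b ⟨c, hc⟩ ⟨d, hd⟩
    exact ⟨c * d, by rw [map_mul, hc, hd, smul_mul_smul_comm, one_mul]⟩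
  one_mem' := ⟨1, by rw [map_one, one_smul]⟩
  inv_mem' := by
    rintro a ⟨c, hc⟩
    have h1 : ρ a * ρ a⁻¹ = 1 := by rw [← map_mul, mul_inv_cancel, map_one]
    rw [hc, smul_mul_assoc, one_mul] at h1
    by_cases hc0 : c = 0
    · refine ⟨0, ?_⟩
      rw [hc0, zero_smul] at h1
      rw [zero_smul]
      calc ρ a⁻¹ = ρ a⁻¹ * 1 := (mul_one _).symm
        _ = ρ a⁻¹ * 0 := by rw [h1]
        _ = 0 := mul_zero _
    · refine ⟨c⁻¹, ?_⟩
      rw [← h1, smul_smul, inv_mul_cancel₀ hc0, one_smul]

theorem mem_scalarSubgroup (ρ : Representation K Q V) (g : Q) :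
    g ∈ scalarSubgroup ρ ↔ ∃ c : K, ρ g = c • (1 : Module.End K V) := Iff.rfl

instance scalarSubgroup_normal (ρ : Representation K Q V) : (scalarSubgroup ρ).Normal := by
  constructor
  rintro a ⟨c, hc⟩ g
  refine ⟨c, ?_⟩
  rw [map_mul, map_mul, hc, mul_smul_comm, mul_one, smul_mul_assoc, ← map_mul, mul_inv_cancel,
    map_one]

theorem finrank_eq_one_of_all_scalar (ρ : Representation K Q V) (hirr : ElemIrred ρ)
    (hs : ∀ g, ∃ c : K, ρ g = c • (1 : Module.End K V)) : finrank K V = 1 := by
  haveI := hirr.1
  obtain ⟨x, hx⟩ := exists_ne (0 : V)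
  rcases hirr.2 (Submodule.span K {x}) (by
    intro g y hy
    obtain ⟨c, hc⟩ := hs g
    rw [hc, LinearMap.smul_apply, Module.End.one_apply]
    exact Submodule.smul_mem _ _ hy) with h | h
  · exfalso
    apply hx
    have : x ∈ Submodule.span K {x} := Submodule.mem_span_singleton_self x
    rw [h] at this
    exact (Submodule.mem_bot K).mp this
  · rw [← finrank_top K V, ← h]
    exact finrank_span_singleton hx

theorem rho_ne_zero [Nontrivial V] (ρ : Representation K Q V) (g : Q) : ρ g ≠ 0 := by
  intro h
  obtain ⟨x, hx⟩ := exists_ne (0 : V)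
  apply hx
  apply rho_injective ρ g
  rw [h, map_zero]; rfl

/-- Restriction of a representation to a subgroup and an invariant subspace. -/
def restrictRep (ρ : Representation K Q V) (T : Subgroup Q) (E : Submodule K V)
    (hE : ∀ t ∈ T, ∀ x ∈ E, ρ t x ∈ E) : Representation K T E where
  toFun t := (ρ (t : Q)).restrict (hE t t.2)
  map_one' := by
    apply LinearMap.ext; intro x
    apply Subtype.ext
    simp
  map_mul' a b := by
    apply LinearMap.ext; intro x
    apply Subtype.ext
    simp

theorem restrictRep_apply (ρ : Representation K Q V) (T : Subgroup Q) (E : Submodule K V)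
    (hE : ∀ t ∈ T, ∀ x ∈ E, ρ t x ∈ E) (t : T) (x : E) :
    ((restrictRep ρ T E hE t x : E) : V) = ρ (t : Q) (x : V) := rfl

/-- **Irreducible representations of `q`-groups have `q`-power degree** (coprime characteristic,
algebraically closed field). -/
theorem exists_finrank_eq_prime_pow (q : ℕ) [hq : Fact q.Prime] [IsAlgClosed K]
    (hqK : (q : K) ≠ 0) :
    ∀ (m : ℕ) (Q : Type w) [Group Q] [Finite Q], IsPGroup q Q → Nat.card Q ≤ m →
      ∀ (V : Type v) [AddCommGroup V] [Module K V] [FiniteDimensional K V]
        (ρ : Representation K Q V), ElemIrred ρ → ∃ b : ℕ, finrank K V = q ^ b := by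
  intro m
  induction m with
  | zero =>
    intro Q _ _ _ hcard
    exact absurd hcard (by have := Nat.card_pos (α := Q); omega)
  | succ m ih =>
    intro Q _ _ hQ hcard V _ _ _ ρ hirr
    classical
    haveI := Fintype.ofFinite Q
    haveI : Nontrivial V := hirr.1
    haveI : ρ.IsIrreducible := isIrreducible_of_elemIrred hirr
    by_cases hscal : ∀ g, ∃ c : K, ρ g = c • (1 : Module.End K V)
    · exact ⟨0, by rw [finrank_eq_one_of_all_scalar ρ hirr hscal, pow_zero]⟩
    push Not at hscal
    obtain ⟨g0, hg0⟩ := hscal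
    -- the quotient by the scalar subgroup
    have hg0' : g0 ∉ scalarSubgroup ρ := fun ⟨c, hc⟩ => hg0 c hc
    haveI : Nontrivial (Q ⧸ scalarSubgroup ρ) :=
      ⟨⟨(g0 : Q ⧸ scalarSubgroup ρ), 1, fun h => hg0' ((QuotientGroup.eq_one_iff g0).mp h)⟩⟩
    haveI := (hQ.to_quotient (scalarSubgroup ρ)).center_nontrivial
    obtain ⟨⟨z, hz⟩, hz1⟩ := exists_ne (1 : Subgroup.center (Q ⧸ scalarSubgroup ρ))
    obtain ⟨u, rfl⟩ := QuotientGroup.mk_surjective z
    have hu : u ∉ scalarSubgroup ρ := by
      intro hu
      apply hz1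
      apply Subtype.ext
      exact (QuotientGroup.eq_one_iff u).mpr hu
    -- commutator scalars
    have hcomm : ∀ h : Q, ∃ c : K, ρ u * ρ h = c • (ρ h * ρ u) := by
      intro h
      have h1 : ((u⁻¹ * h⁻¹ * u * h : Q) : Q ⧸ scalarSubgroup ρ) = 1 := by
        have := Subgroup.mem_center_iff.mp hz (h : Q ⧸ scalarSubgroup ρ)
        simp only [QuotientGroup.mk_mul, QuotientGroup.mk_inv]
        rw [mul_assoc, ← this, ← mul_assoc, mul_assoc _ _ (h : Q ⧸ scalarSubgroup ρ),
          inv_mul_cancel, mul_one, inv_mul_cancel]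
      obtain ⟨c, hc⟩ := (QuotientGroup.eq_one_iff _).mp h1
      refine ⟨c, ?_⟩
      have h2 : ρ u * ρ h = ρ h * ρ u * ρ (u⁻¹ * h⁻¹ * u * h) := by
        rw [← map_mul, ← map_mul, ← map_mul]
        congr 1
        group
      rw [h2, hc, mul_smul_comm, mul_one]
    choose cf hcf using hcomm
    have hcf0 : ∀ h, cf h ≠ 0 := by
      intro h h0
      have := hcf h
      rw [h0, zero_smul, ← map_mul] at this
      exact rho_ne_zero ρ _ this
    have hcfmul : ∀ a b, cf (a * b) = cf a * cf b := by
      intro a b
      have h1 : ρ u * ρ (a * b) = (cf a * cf b) • (ρ (a * b) * ρ u) := by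
        rw [map_mul, ← mul_assoc, hcf a, smul_mul_assoc, mul_assoc, hcf b, mul_smul_comm,
          smul_smul, ← mul_assoc]
      rw [hcf (a * b)] at h1
      have h2 : (cf (a * b) - cf a * cf b) • (ρ (a * b) * ρ u) = 0 := by
        rw [sub_smul, h1, sub_self]
      rcases smul_eq_zero.mp h2 with h3 | h3
      · exact sub_eq_zero.mp h3
      · rw [← map_mul] at h3
        exact absurd h3 (rho_ne_zero ρ _)
    let χ : Q →* Kˣ := MonoidHom.mk' (fun h => Units.mk0 (cf h) (hcf0 h)) (by
      intro a b
      apply Units.ext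
      simp only [Units.val_mk0, Units.val_mul]
      exact hcfmul a b)
    have hχ : ∀ h, ρ u * ρ h = ((χ h : Kˣ) : K) • (ρ h * ρ u) := fun h => hcf h
    -- eigenvalue
    obtain ⟨lam, hlam⟩ := Module.End.exists_eigenvalue (ρ u)
    have hlam' : Module.End.eigenspace (ρ u) lam ≠ ⊥ := hlam
    obtain ⟨hdim, hTirr⟩ := clifford_eigen_step ρ u χ hχ hirr lam hlam'
    -- the kernel is proper
    have hker : χ.ker ≠ ⊤ := by
      intro htop
      apply hu
      have hall : ∀ g, ρ u * ρ g = ρ g * ρ u := by
        intro g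
        have hg : g ∈ χ.ker := by rw [htop]; trivial
        have h1 : χ g = 1 := MonoidHom.mem_ker.mp hg
        rw [hχ g, h1, Units.val_one, one_smul]
      exact exists_eq_smul_one_of_commute ρ (ρ u) hall
    have hcardT : Nat.card χ.ker ≤ m := by
      have h1 : Nat.card χ.ker < Nat.card Q := by
        rcases lt_or_eq_of_le (Subgroup.card_le_card_group χ.ker) with h | h
        · exact h
        · exact absurd ((Subgroup.card_eq_iff_eq_top χ.ker).mp h) hker
      omega
    -- invariance of the eigenspace under the kernel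
    have hstab : ∀ t ∈ χ.ker, ∀ x ∈ Module.End.eigenspace (ρ u) lam,
        ρ t x ∈ Module.End.eigenspace (ρ u) lam := by
      intro t ht x hx
      have := rho_mem_eigenspace ρ u χ hχ t lam x hx
      rwa [MonoidHom.mem_ker.mp ht, Units.val_one, one_mul] at this
    -- irreducibility of the restricted representation
    have hirrE : ElemIrred (restrictRep ρ χ.ker (Module.End.eigenspace (ρ u) lam) hstab) := by
      refine ⟨(Submodule.nontrivial_iff_ne_bot).mpr hlam', ?_⟩
      intro W' hW'
      rcases hTirr (W'.map (Module.End.eigenspace (ρ u) lam).subtype)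
        (Submodule.map_subtype_le _ _) (by
          rintro t ht _ ⟨y, hy, rfl⟩
          refine ⟨restrictRep ρ χ.ker _ hstab ⟨t, ht⟩ y, hW' ⟨t, ht⟩ y hy, rfl⟩) with h | h
      · left
        apply Submodule.map_injective_of_injective (Submodule.injective_subtype _)
        rw [h, Submodule.map_bot]
      · right
        apply Submodule.map_injective_of_injective (Submodule.injective_subtype _)
        rw [h, Submodule.map_subtype_top]
    obtain ⟨b', hb'⟩ := ih χ.ker (hQ.to_subgroup χ.ker) hcardT _ _ hirrE
    -- the index is a power of q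
    obtain ⟨n, hn⟩ := hQ.exists_card_eq
    have hdvd : Nat.card χ.range ∣ q ^ n := by
      rw [← hn]
      exact Subgroup.card_range_dvd χ
    obtain ⟨a, _, ha⟩ := (Nat.dvd_prime_pow hq.1).mp hdvd
    exact ⟨a + b', by rw [hdim, ha, hb', pow_add]⟩

end Cfsg.Agent.Helper64
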