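import Cfsg.Agent.Helper64.HHCrit
import Cfsg.Agent.Helper64.HHPow

/-!
# Hall–Higman Theorem B, part 1: the data of the linear situation and its operations

`HHData K Q W o` packages a representation `ρ` of a group `Q` on `W`, an automorphism `α` of `Q`
and an invertible endomorphism `X` of `W` with `X ρ(g) X⁻¹ = ρ(α g)`, `α ^ o = 1`, `X ^ o = 1`.
We define the restriction to an invariant subgroup, to an invariant subspace, the quotient by an
invariant subspace, the quotient by the kernel of `ρ`, and the passage to powers of `X`.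
-/

set_option autoImplicit false

namespace Cfsg.Agent.Helper64

open Module

universe u v w

/-- The data of the linear Hall–Higman situation. -/
structure HHData (K : Type u) [Field K] (Q : Type w) [Group Q] (W : Type v) [AddCommGroup W]
    [Module K W] (o : ℕ) where
  ρ : Representation K Q W
  α : MulAut Q
  X : Module.End K W
  X' : Module.End K W
  hXX' : X * X' = 1
  hX'X : X' * X = 1
  hα : ∀ g, X * ρ g * X' = ρ (α g)
  hαo : α ^ o = 1
  hXo : X ^ o = 1

namespace HHData

variable {K : Type u} [Field K] {Q : Type w} [Group Q] {W : Type v} [AddCommGroup W] [Module K W]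
  {o : ℕ}

theorem pow_mul_pow (D : HHData K Q W o) (k : ℕ) : D.X ^ k * D.X' ^ k = 1 := by
  induction k with
  | zero => simp
  | succ k ih =>
    rw [pow_succ', pow_succ, show D.X * D.X ^ k * (D.X' ^ k * D.X') = D.X * (D.X ^ k * D.X' ^ k) * D.X' by
      simp only [mul_assoc], ih, mul_one, D.hXX']

theorem pow_mul_pow' (D : HHData K Q W o) (k : ℕ) : D.X' ^ k * D.X ^ k = 1 := by
  induction k with
  | zero => simp
  | succ k ih =>
    rw [pow_succ', pow_succ, show D.X' * D.X' ^ k * (D.X ^ k * D.X) = D.X' * (D.X' ^ k * D.X ^ k) * D.X by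
      simp only [mul_assoc], ih, mul_one, D.hX'X]

theorem hX'o (D : HHData K Q W o) : D.X' ^ o = 1 := by
  have := D.pow_mul_pow' o
  rwa [D.hXo, mul_one] at this

theorem X'_eq_pow (D : HHData K Q W o) (ho : 0 < o) : D.X' = D.X ^ (o - 1) := by
  have h1 : D.X' * D.X ^ o = D.X' := by rw [D.hXo, mul_one]
  obtain ⟨k, rfl⟩ : ∃ k, o = k + 1 := ⟨o - 1, by omega⟩
  rw [pow_succ', ← mul_assoc, D.hX'X, one_mul] at h1
  rw [Nat.add_sub_cancel]; exact h1.symm

theorem conj_pow (D : HHData K Q W o) (i : ℕ) (g : Q) :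
    D.X ^ i * D.ρ g * D.X' ^ i = D.ρ ((D.α ^ i) g) := by
  induction i generalizing g with
  | zero => simp
  | succ i ih =>
    rw [pow_succ' D.X, pow_succ D.X', pow_succ' D.α, MulAut.mul_apply, ← D.hα, ← ih]
    simp only [mul_assoc]

theorem rho_mul_pow (D : HHData K Q W o) (i : ℕ) (g : Q) :
    D.ρ ((D.α ^ i) g) * D.X ^ i = D.X ^ i * D.ρ g := by
  rw [← D.conj_pow, mul_assoc, D.pow_mul_pow', mul_one]

theorem rho_mul_X (D : HHData K Q W o) (g : Q) : D.ρ (D.α g) * D.X = D.X * D.ρ g := by
  rw [← D.hα, mul_assoc, D.hX'X, mul_one]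

theorem X'_mul_rho (D : HHData K Q W o) (g : Q) : D.X' * D.ρ (D.α g) = D.ρ g * D.X' := by
  rw [← D.hα, ← mul_assoc, ← mul_assoc, D.hX'X, one_mul]

/-- Invariance of a subspace under `ρ(Q)`, `X` and `X⁻¹`. -/
def Inv (D : HHData K Q W o) (U : Submodule K W) : Prop :=
  (∀ g, ∀ w ∈ U, D.ρ g w ∈ U) ∧ (∀ w ∈ U, D.X w ∈ U) ∧ (∀ w ∈ U, D.X' w ∈ U)

theorem pow_mem_of_mem {U : Submodule K W} (A : Module.End K W) (hA : ∀ w ∈ U, A w ∈ U) (k : ℕ) :
    ∀ w ∈ U, (A ^ k) w ∈ U := by
  induction k with
  | zero => intro w hw; simpa using hw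
  | succ k ih =>
    intro w hw
    rw [pow_succ, Module.End.mul_apply]
    exact ih _ (hA w hw)

/-- Invariance under `ρ(Q)` and `X` suffices. -/
theorem inv_of_X (D : HHData K Q W o) (ho : 0 < o) (U : Submodule K W)
    (h1 : ∀ g, ∀ w ∈ U, D.ρ g w ∈ U) (h2 : ∀ w ∈ U, D.X w ∈ U) : D.Inv U := by
  refine ⟨h1, h2, ?_⟩
  rw [D.X'_eq_pow ho]
  exact pow_mem_of_mem D.X h2 _

/-- `α ^ k` moves some element modulo the kernel of `ρ`. -/
def Moves (D : HHData K Q W o) (k : ℕ) : Prop := ∃ g, D.ρ ((D.α ^ k) g) ≠ D.ρ g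

/-! ### Restriction to an invariant subspace -/

/-- The subrepresentation on an invariant subspace. -/
def subRep (ρ : Representation K Q W) (U : Submodule K W) (hU : ∀ g, ∀ w ∈ U, ρ g w ∈ U) :
    Representation K Q U where
  toFun g := (ρ g).restrict (hU g)
  map_one' := by
    apply LinearMap.ext; intro x
    apply Subtype.ext
    simp
  map_mul' a b := by
    apply LinearMap.ext; intro x
    apply Subtype.ext
    simp

theorem subRep_apply (ρ : Representation K Q W) (U : Submodule K W)
    (hU : ∀ g, ∀ w ∈ U, ρ g w ∈ U) (g : Q) (x : U) :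
    ((subRep ρ U hU g x : U) : W) = ρ g (x : W) := rfl

/-- Restriction of the data to an invariant subspace. -/
def res (D : HHData K Q W o) (U : Submodule K W) (hU : D.Inv U) : HHData K Q U o where
  ρ := subRep D.ρ U hU.1
  α := D.α
  X := D.X.restrict hU.2.1
  X' := D.X'.restrict hU.2.2
  hXX' := by
    apply LinearMap.ext; intro x
    apply Subtype.ext
    have := LinearMap.congr_fun D.hXX' (x : W)
    simpa using this
  hX'X := by
    apply LinearMap.ext; intro x
    apply Subtype.ext
    have := LinearMap.congr_fun D.hX'X (x : W)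
    simpa using this
  hα g := by
    apply LinearMap.ext; intro x
    apply Subtype.ext
    have := LinearMap.congr_fun (D.hα g) (x : W)
    simpa [subRep_apply] using this
  hαo := D.hαo
  hXo := by
    apply LinearMap.ext; intro x
    apply Subtype.ext
    have h1 : ∀ (k : ℕ) (y : U), (((D.X.restrict hU.2.1) ^ k) y : W) = (D.X ^ k) (y : W) := by
      intro k
      induction k with
      | zero => intro y; simp
      | succ k ih =>
        intro y
        rw [pow_succ, Module.End.mul_apply, ih, pow_succ, Module.End.mul_apply]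
        rfl
    rw [h1, D.hXo]; rfl

@[simp] theorem res_α (D : HHData K Q W o) (U : Submodule K W) (hU : D.Inv U) :
    (D.res U hU).α = D.α := rfl

theorem res_ρ_apply (D : HHData K Q W o) (U : Submodule K W) (hU : D.Inv U) (g : Q) (x : U) :
    (((D.res U hU).ρ g x : U) : W) = D.ρ g (x : W) := rfl

theorem res_X_apply (D : HHData K Q W o) (U : Submodule K W) (hU : D.Inv U) (x : U) :
    (((D.res U hU).X x : U) : W) = D.X (x : W) := rfl

theorem res_sub_one_pow (D : HHData K Q W o) (U : Submodule K W) (hU : D.Inv U) (r : ℕ) (x : U) :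
    (((((D.res U hU).X - 1) ^ r) x : U) : W) = ((D.X - 1) ^ r) (x : W) := by
  induction r generalizing x with
  | zero => simp
  | succ r ih =>
    rw [pow_succ, Module.End.mul_apply, ih, pow_succ, Module.End.mul_apply]
    congr 1

/-! ### Quotient by an invariant subspace -/

/-- The quotient representation. -/
def quoRep (ρ : Representation K Q W) (U : Submodule K W) (hU : ∀ g, ∀ w ∈ U, ρ g w ∈ U) :
    Representation K Q (W ⧸ U) where
  toFun g := U.mapQ U (ρ g) (fun w hw => hU g w hw)
  map_one' := by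
    apply LinearMap.ext; intro x
    obtain ⟨x, rfl⟩ := Submodule.Quotient.mk_surjective U x
    simp
  map_mul' a b := by
    apply LinearMap.ext; intro x
    obtain ⟨x, rfl⟩ := Submodule.Quotient.mk_surjective U x
    simp

theorem quoRep_mk (ρ : Representation K Q W) (U : Submodule K W)
    (hU : ∀ g, ∀ w ∈ U, ρ g w ∈ U) (g : Q) (x : W) :
    quoRep ρ U hU g (Submodule.Quotient.mk x) = Submodule.Quotient.mk (ρ g x) := rfl

/-- The quotient of the data by an invariant subspace. -/
def quo (D : HHData K Q W o) (U : Submodule K W) (hU : D.Inv U) : HHData K Q (W ⧸ U) o where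
  ρ := quoRep D.ρ U hU.1
  α := D.α
  X := U.mapQ U D.X (fun w hw => hU.2.1 w hw)
  X' := U.mapQ U D.X' (fun w hw => hU.2.2 w hw)
  hXX' := by
    apply LinearMap.ext; intro x
    obtain ⟨x, rfl⟩ := Submodule.Quotient.mk_surjective U x
    have := LinearMap.congr_fun D.hXX' x
    simp only [Module.End.mul_apply, Module.End.one_apply] at this
    simp [this]
  hX'X := by
    apply LinearMap.ext; intro x
    obtain ⟨x, rfl⟩ := Submodule.Quotient.mk_surjective U x
    have := LinearMap.congr_fun D.hX'X x
    simp only [Module.End.mul_apply, Module.End.one_apply] at this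
    simp [this]
  hα g := by
    apply LinearMap.ext; intro x
    obtain ⟨x, rfl⟩ := Submodule.Quotient.mk_surjective U x
    have := LinearMap.congr_fun (D.hα g) x
    simp only [Module.End.mul_apply] at this
    simp [quoRep_mk, this]
  hαo := D.hαo
  hXo := by
    apply LinearMap.ext; intro x
    obtain ⟨x, rfl⟩ := Submodule.Quotient.mk_surjective U x
    have h1 : ∀ (k : ℕ) (y : W), ((U.mapQ U D.X (fun w hw => hU.2.1 w hw)) ^ k)
        (Submodule.Quotient.mk y) = Submodule.Quotient.mk ((D.X ^ k) y) := by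
      intro k
      induction k with
      | zero => intro y; simp
      | succ k ih =>
        intro y
        rw [pow_succ, Module.End.mul_apply, Submodule.mapQ_apply, ih, pow_succ,
          Module.End.mul_apply]
    rw [h1, D.hXo]; rfl

@[simp] theorem quo_α (D : HHData K Q W o) (U : Submodule K W) (hU : D.Inv U) :
    (D.quo U hU).α = D.α := rfl

theorem quo_ρ_mk (D : HHData K Q W o) (U : Submodule K W) (hU : D.Inv U) (g : Q) (x : W) :
    (D.quo U hU).ρ g (Submodule.Quotient.mk x) = Submodule.Quotient.mk (D.ρ g x) := rfl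

theorem quo_sub_one_pow (D : HHData K Q W o) (U : Submodule K W) (hU : D.Inv U) (r : ℕ) (x : W) :
    (((D.quo U hU).X - 1) ^ r) (Submodule.Quotient.mk x)
      = Submodule.Quotient.mk (((D.X - 1) ^ r) x) := by
  induction r generalizing x with
  | zero => simp
  | succ r ih =>
    rw [pow_succ, Module.End.mul_apply, pow_succ, Module.End.mul_apply, ← ih]
    congr 1

/-! ### Powers -/

/-- Passing to `X ^ a`, `α ^ a`. -/
def pow (D : HHData K Q W o) (a b : ℕ) (h : o = a * b) : HHData K Q W b where
  ρ := D.ρ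
  α := D.α ^ a
  X := D.X ^ a
  X' := D.X' ^ a
  hXX' := D.pow_mul_pow a
  hX'X := D.pow_mul_pow' a
  hα g := D.conj_pow a g
  hαo := by rw [← pow_mul, ← h]; exact D.hαo
  hXo := by rw [← pow_mul, ← h]; exact D.hXo

@[simp] theorem pow_ρ (D : HHData K Q W o) (a b : ℕ) (h : o = a * b) : (D.pow a b h).ρ = D.ρ := rfl
@[simp] theorem pow_α (D : HHData K Q W o) (a b : ℕ) (h : o = a * b) :
    (D.pow a b h).α = D.α ^ a := rfl
@[simp] theorem pow_X (D : HHData K Q W o) (a b : ℕ) (h : o = a * b) :
    (D.pow a b h).X = D.X ^ a := rfl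
@[simp] theorem pow_X' (D : HHData K Q W o) (a b : ℕ) (h : o = a * b) :
    (D.pow a b h).X' = D.X' ^ a := rfl

end HHData

end Cfsg.Agent.Helper64
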