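import Mathlib

/-!
# Hall–Higman Theorem B, part 4: the group-theoretic lemma

Let `Q` be a finite `q`-group, `α` an automorphism, `β` a power of `α` with `β ^ p = 1`, `β ≠ 1`,
`p ≠ q`. If `β` fixes every proper `α`-invariant subgroup pointwise, then the fixed points of `β`
are central in `Q`.
-/

set_option autoImplicit false

namespace Cfsg.Agent.Helper64

variable {Q : Type*} [Group Q]

/-- The subgroup of fixed points of an automorphism. -/
def fixSubgroup (β : MulAut Q) : Subgroup Q where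
  carrier := {g | β g = g}
  mul_mem' := by
    intro a b ha hb
    show β (a * b) = a * b
    rw [map_mul, ha, hb]
  one_mem' := map_one β
  inv_mem' := by
    intro a ha
    show β a⁻¹ = a⁻¹
    rw [map_inv, ha]

theorem mem_fixSubgroup (β : MulAut Q) (g : Q) : g ∈ fixSubgroup β ↔ β g = g := Iff.rfl

theorem fix_le_center [Finite Q] (p q : ℕ) [hp : Fact p.Prime] [hq : Fact q.Prime] (hpq : p ≠ q)
    (hQ : IsPGroup q Q) (α β : MulAut Q) (hcomm : ∀ g, α (β g) = β (α g)) (hβp : β ^ p = 1)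
    (hβ : ∃ g, β g ≠ g)
    (hmin : ∀ Q₁ : Subgroup Q, Q₁ ≠ ⊤ → (∀ g ∈ Q₁, α g ∈ Q₁) → ∀ g ∈ Q₁, β g = g) :
    ∀ c, β c = c → c ∈ Subgroup.center Q := by
  obtain ⟨C, hC⟩ : ∃ C, C = fixSubgroup β := ⟨_, rfl⟩
  have hCmem : ∀ g, g ∈ C ↔ β g = g := fun g => by rw [hC]; exact Iff.rfl
  have hCα : ∀ g, α g ∈ C ↔ g ∈ C := by
    intro g
    rw [hCmem, hCmem, ← hcomm]
    exact α.injective.eq_iff
  have hCtop : C ≠ ⊤ := by
    intro h
    obtain ⟨g, hg⟩ := hβ
    apply hg
    rw [← hCmem, h]; trivial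
  haveI : Group.IsNilpotent Q := hQ.isNilpotent
  -- C is normal
  have hCn : C.Normal := by
    have hN : ∀ g ∈ Subgroup.normalizer (C : Set Q), α g ∈ Subgroup.normalizer (C : Set Q) := by
      intro g hg
      rw [Subgroup.mem_normalizer_iff] at hg ⊢
      intro h
      obtain ⟨h', rfl⟩ := α.surjective h
      rw [← map_inv, ← map_mul, ← map_mul, hCα, hCα]
      exact hg h'
    have hNtop : Subgroup.normalizer (C : Set Q) = ⊤ := by
      by_contra hne
      have h1 := hmin _ hne hN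
      have h2 : Subgroup.normalizer (C : Set Q) ≤ C := fun g hg => (hCmem g).mpr (h1 g hg)
      have h3 := Group.normalizerCondition_of_isNilpotent (G := Q) C (lt_top_iff_ne_top.mpr hCtop)
      exact absurd h2 (not_le_of_gt h3)
    exact Subgroup.normalizer_eq_top_iff.mp hNtop
  -- the commutator set
  obtain ⟨T, hT⟩ : ∃ T : Set Q, T = {t | ∃ g, t = g⁻¹ * β g} := ⟨_, rfl⟩
  have hTα : (α : Q →* Q) '' T ⊆ T := by
    rintro _ ⟨t, ht, rfl⟩
    rw [hT] at ht ⊢
    obtain ⟨g, rfl⟩ := ht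
    refine ⟨α g, ?_⟩
    show α (g⁻¹ * β g) = (α g)⁻¹ * β (α g)
    rw [map_mul, map_inv, hcomm]
  have hQ₀α : ∀ g ∈ Subgroup.normalClosure T, α g ∈ Subgroup.normalClosure T := by
    intro g hg
    have h1 : α g ∈ (Subgroup.normalClosure T).map (α : Q →* Q) := ⟨g, hg, rfl⟩
    rw [Subgroup.map_normalClosure T (α : Q →* Q) α.surjective] at h1
    exact Subgroup.normalClosure_mono hTα h1
  have hQ₀top : Subgroup.normalClosure T = ⊤ := by
    by_contra hne
    have h1 := hmin _ hne hQ₀α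
    obtain ⟨g, hg⟩ := hβ
    apply hg
    obtain ⟨t, ht⟩ : ∃ t, t = g⁻¹ * β g := ⟨_, rfl⟩
    have htT : t ∈ Subgroup.normalClosure T := Subgroup.subset_normalClosure (by rw [hT]; exact ⟨g, ht⟩)
    have hβt : β t = t := h1 t htT
    have hβg : β g = g * t := by rw [ht, mul_inv_cancel_left]
    have hpow : ∀ k : ℕ, (β ^ k) g = g * t ^ k := by
      intro k
      induction k with
      | zero => simp
      | succ k ih =>
        rw [pow_succ', MulAut.mul_apply, ih, map_mul, map_pow, hβt, hβg, pow_succ', mul_assoc]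
    have h2 := hpow p
    rw [hβp, MulAut.one_apply] at h2
    have htp : t ^ p = 1 := by
      have := h2.symm
      rwa [mul_eq_left] at this
    obtain ⟨k, hk⟩ := hQ t
    have ho1 : orderOf t ∣ p := orderOf_dvd_of_pow_eq_one htp
    have ho2 : orderOf t ∣ q ^ k := orderOf_dvd_of_pow_eq_one hk
    have hcop : Nat.Coprime p (q ^ k) :=
      Nat.Coprime.pow_right k ((Nat.coprime_primes hp.1 hq.1).mpr hpq)
    have ho3 : orderOf t = 1 := Nat.eq_one_of_dvd_coprimes hcop ho1 ho2
    rw [hβg, orderOf_eq_one_iff.mp ho3, mul_one]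
  -- T centralizes C
  haveI := hCn
  haveI : (Subgroup.centralizer (C : Set Q)).Normal := Subgroup.normal_centralizer
  have hTC : T ⊆ (Subgroup.centralizer (C : Set Q) : Set Q) := by
    intro t ht
    rw [hT] at ht
    obtain ⟨g, rfl⟩ := ht
    rw [SetLike.mem_coe, Subgroup.mem_centralizer_iff]
    intro c hc
    have h1 : g * c * g⁻¹ ∈ C := hCn.conj_mem c hc g
    rw [hCmem, map_mul, map_mul, map_inv, (hCmem c).mp hc] at h1
    -- β g * c * (β g)⁻¹ = g * c * g⁻¹
    have h2 : β g * c = g * c * g⁻¹ * β g := by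
      rw [← h1]; group
    calc c * (g⁻¹ * β g) = g⁻¹ * (g * c * g⁻¹ * β g) := by group
      _ = g⁻¹ * (β g * c) := by rw [h2]
      _ = g⁻¹ * β g * c := by group
  have hle := Subgroup.normalClosure_le_normal hTC
  rw [hQ₀top] at hle
  intro c hc
  rw [Subgroup.mem_center_iff]
  intro g
  have hg : g ∈ Subgroup.centralizer (C : Set Q) := hle (Subgroup.mem_top g)
  rw [Subgroup.mem_centralizer_iff] at hg
  exact (hg c ((hCmem c).mpr hc)).symm

end Cfsg.Agent.Helper64
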