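import Cfsg.Agent.Helper64.HHBOps

/-!
# Hall–Higman Theorem B, part 3: auxiliary lemmas (cyclic `p`-groups, nilpotent parts, Schur)
-/

set_option autoImplicit false

namespace Cfsg.Agent.Helper64

open Module

universe u v w

section cyc

variable {G : Type*} [Group G]

/-- In a cyclic `p`-group generated by `a`, if `a ^ i` lies in a subgroup and `p ^ j ∤ i`, then
`a ^ (p ^ (j - 1))` lies in that subgroup. -/
theorem cyc_pow_mem (S : Subgroup G) (a : G) (p : ℕ) [hp : Fact p.Prime] (N j i : ℕ)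
    (ha : a ^ p ^ N = 1) (hi : a ^ i ∈ S) (hj : ¬ p ^ j ∣ i) (hj1 : 1 ≤ j) :
    a ^ p ^ (j - 1) ∈ S := by
  obtain ⟨g, hg⟩ : ∃ g, g = Nat.gcd i (p ^ N) := ⟨_, rfl⟩
  have hgN : g ∣ p ^ N := hg ▸ Nat.gcd_dvd_right _ _
  have hgi : g ∣ i := hg ▸ Nat.gcd_dvd_left _ _
  obtain ⟨e, -, he⟩ := (Nat.dvd_prime_pow hp.1).mp hgN
  have hej : e ≤ j - 1 := by
    by_contra hcon
    have : j ≤ e := by omega
    apply hj
    exact dvd_trans (pow_dvd_pow p this) (he ▸ hgi)
  have hag : a ^ g ∈ S := by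
    have hb := Nat.gcd_eq_gcd_ab i (p ^ N)
    rw [← hg] at hb
    have h1 : a ^ (g : ℤ) = (a ^ i) ^ (Nat.gcdA i (p ^ N)) * (a ^ p ^ N) ^ (Nat.gcdB i (p ^ N)) := by
      rw [hb, zpow_add, zpow_mul, zpow_mul, zpow_natCast, zpow_natCast]
    rw [ha, one_zpow, mul_one, zpow_natCast] at h1
    rw [h1]
    exact Subgroup.zpow_mem _ hi _
  have : p ^ (j - 1) = g * p ^ (j - 1 - e) := by
    rw [he, ← pow_add]; congr 1; omega
  rw [this, pow_mul]
  exact Subgroup.pow_mem _ hag _

end cyc

section lin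

variable {K : Type u} [Field K] {W : Type v} [AddCommGroup W] [Module K W]

theorem one_add_pow_of_sq_zero (ε : Module.End K W) (hε : ε * ε = 0) (m : ℕ) :
    (1 + ε) ^ m = 1 + (m : K) • ε := by
  induction m with
  | zero => simp
  | succ m ih =>
    rw [pow_succ, ih, mul_add, mul_one, add_mul, one_mul, smul_mul_assoc, hε, smul_zero, add_zero,
      Nat.cast_succ, add_smul, one_smul, add_assoc]

/-- An endomorphism `u` with `(u - 1)² = 0` and `u ^ m = 1`, `m` invertible in `K`, is `1`. -/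
theorem eq_one_of_sq_zero (u : Module.End K W) (h2 : (u - 1) * (u - 1) = 0) (m : ℕ)
    (hm : (m : K) ≠ 0) (hu : u ^ m = 1) : u = 1 := by
  have h1 := one_add_pow_of_sq_zero (u - 1) h2 m
  rw [add_sub_cancel, hu] at h1
  have h3 : (m : K) • (u - 1) = 0 := by
    have := h1.symm
    rwa [add_eq_left] at this
  rcases smul_eq_zero.mp h3 with h | h
  · exact absurd h hm
  · exact sub_eq_zero.mp h

/-- **The induction step for nilpotency degrees.** If `π` picks out the `W₀`-component and kills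
`X ^ i W₀` for `0 < i < p ^ j`, then `(X^(p^j) - 1)^(s) w ≠ 0` for some `w ∈ W₀` forces
`(X - 1)^(p^j (s+1) - 1) ≠ 0`. -/
theorem sub_one_pow_ne_zero_of_component (p : ℕ) [hp : Fact p.Prime] [CharP K p] (j : ℕ)
    (X π : Module.End K W) (W₀ : Submodule K W) (c : K) (hc : c ≠ 0)
    (hπ : ∀ w ∈ W₀, π w = c • w)
    (hπ0 : ∀ i, 0 < i → i < p ^ j → ∀ w ∈ W₀, π ((X ^ i) w) = 0)
    (hX : ∀ w ∈ W₀, (X ^ p ^ j) w ∈ W₀) (s : ℕ) (w : W) (hw : w ∈ W₀)
    (hne : ((X ^ p ^ j - 1) ^ s) w ≠ 0) : (X - 1) ^ (p ^ j * (s + 1) - 1) ≠ 0 := by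
  haveI : CharP (Module.End K W) p := by
    by_cases hW : Nontrivial W
    · exact charP_of_injective_algebraMap (algebraMap K (Module.End K W)).injective p
    · rw [not_nontrivial_iff_subsingleton] at hW
      exfalso
      apply hne
      exact Subsingleton.elim _ _
  have hpos : 1 ≤ p ^ j := Nat.one_le_pow _ _ hp.1.pos
  have hexp : p ^ j * (s + 1) - 1 = p ^ j * s + (p ^ j - 1) := by
    rw [mul_add, mul_one]; omega
  have h1 : (X - 1) ^ (p ^ j * s) = (X ^ p ^ j - 1) ^ s := by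
    rw [pow_mul, sub_pow_char_pow_of_commute p j (Commute.one_right X), one_pow]
  have h2 : (X - 1) ^ (p ^ j - 1) = ∑ i ∈ Finset.range (p ^ j), X ^ i :=
    (geom_sum_eq_sub_one_pow_pow (K := K) p j X).symm
  intro hzero
  have h3 : ((X - 1) ^ (p ^ j * (s + 1) - 1)) w = 0 := by rw [hzero]; rfl
  rw [hexp, pow_add, h1, h2] at h3
  -- commute the two factors
  have hcomm : (X ^ p ^ j - 1) ^ s * ∑ i ∈ Finset.range (p ^ j), X ^ i
      = (∑ i ∈ Finset.range (p ^ j), X ^ i) * (X ^ p ^ j - 1) ^ s := by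
    have : Commute (X ^ p ^ j - 1) (∑ i ∈ Finset.range (p ^ j), X ^ i) := by
      apply Commute.sum_right
      intro i _
      apply Commute.sub_left
      · exact (Commute.refl X).pow_pow _ _
      · exact Commute.one_left _
    exact (this.pow_left s).eq
  rw [hcomm, Module.End.mul_apply] at h3
  obtain ⟨v, hv⟩ : ∃ v, v = ((X ^ p ^ j - 1) ^ s) w := ⟨_, rfl⟩
  rw [← hv] at h3 hne
  have hvW : v ∈ W₀ := by
    rw [hv]
    apply HHData.pow_mem_of_mem (X ^ p ^ j - 1) _ s w hw
    intro y hy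
    rw [LinearMap.sub_apply, Module.End.one_apply]
    exact W₀.sub_mem (hX y hy) hy
  have h4 := congrArg π h3
  rw [map_zero, LinearMap.sum_apply, map_sum] at h4
  rw [Finset.sum_eq_single 0] at h4
  · rw [pow_zero, Module.End.one_apply, hπ v hvW] at h4
    rcases smul_eq_zero.mp h4 with h | h
    · exact hc h
    · exact hne h
  · intro i hi hi0
    exact hπ0 i (Nat.pos_of_ne_zero hi0) (Finset.mem_range.mp hi) v hvW
  · intro h0
    exact absurd (Finset.mem_range.mpr hpos) h0

/-- A minimal nonzero subspace with a given property. -/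
theorem exists_min_submodule [FiniteDimensional K W] (P : Submodule K W → Prop)
    (hex : ∃ U, U ≠ ⊥ ∧ P U) :
    ∃ U, U ≠ ⊥ ∧ P U ∧ ∀ U', U' ≠ ⊥ → P U' → U' ≤ U → U' = U := by
  classical
  have hex' : ∃ d, ∃ U : Submodule K W, U ≠ ⊥ ∧ P U ∧ finrank K U = d := by
    obtain ⟨U, h1, h2⟩ := hex
    exact ⟨_, U, h1, h2, rfl⟩
  obtain ⟨U, h1, h2, h3⟩ := Nat.find_spec hex'
  refine ⟨U, h1, h2, ?_⟩
  intro U' h1' h2' hle
  apply Submodule.eq_of_le_of_finrank_le hle
  rw [h3]
  exact Nat.find_min' hex' ⟨U', h1', h2', rfl⟩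

end lin

namespace HHData

variable {K : Type u} [Field K] {Q : Type w} [Group Q] {W : Type v} [AddCommGroup W] [Module K W]
  {o : ℕ}

/-- Irreducibility under `ρ(Q)` and `X`. -/
def Irr (D : HHData K Q W o) : Prop := ∀ U : Submodule K W, D.Inv U → U = ⊥ ∨ U = ⊤

/-- Schur's lemma for the group generated by `ρ(Q)` and `X`. -/
theorem schur [IsAlgClosed K] [FiniteDimensional K W] [Nontrivial W] (D : HHData K Q W o)
    (hirr : D.Irr) (Y : Module.End K W) (hYρ : ∀ g, Y * D.ρ g = D.ρ g * Y)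
    (hYX : Y * D.X = D.X * Y) : ∃ c : K, Y = c • (1 : Module.End K W) := by
  obtain ⟨c, hc⟩ := Module.End.exists_eigenvalue Y
  refine ⟨c, ?_⟩
  have hYX' : Y * D.X' = D.X' * Y := by
    have : D.X' * (Y * D.X) * D.X' = D.X' * (D.X * Y) * D.X' := by rw [hYX]
    rw [show D.X' * (Y * D.X) * D.X' = D.X' * Y * (D.X * D.X') by simp only [mul_assoc], D.hXX',
      mul_one, show D.X' * (D.X * Y) * D.X' = (D.X' * D.X) * Y * D.X' by simp only [mul_assoc],
      D.hX'X, one_mul] at this
    exact this.symm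
  have hinv : D.Inv (Module.End.eigenspace Y c) := by
    refine ⟨?_, ?_, ?_⟩
    · intro g w hw
      rw [Module.End.mem_eigenspace_iff] at hw ⊢
      have := LinearMap.congr_fun (hYρ g) w
      simp only [Module.End.mul_apply] at this
      rw [this, hw, map_smul]
    · intro w hw
      rw [Module.End.mem_eigenspace_iff] at hw ⊢
      have := LinearMap.congr_fun hYX w
      simp only [Module.End.mul_apply] at this
      rw [this, hw, map_smul]
    · intro w hw
      rw [Module.End.mem_eigenspace_iff] at hw ⊢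
      have := LinearMap.congr_fun hYX' w
      simp only [Module.End.mul_apply] at this
      rw [this, hw, map_smul]
  rcases hirr _ hinv with h | h
  · exact absurd h hc
  · apply LinearMap.ext; intro w
    have : w ∈ Module.End.eigenspace Y c := by rw [h]; trivial
    rw [Module.End.mem_eigenspace_iff] at this
    rw [this, LinearMap.smul_apply, Module.End.one_apply]

end HHData

end Cfsg.Agent.Helper64
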