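import Cfsg.Agent.Helper64.HHBData

/-!
# Hall–Higman Theorem B, part 2: restriction to an invariant subgroup, quotient by the kernel
-/

set_option autoImplicit false

namespace Cfsg.Agent.Helper64

open Module

universe u v w

namespace HHData

variable {K : Type u} [Field K] {Q : Type w} [Group Q] {W : Type v} [AddCommGroup W] [Module K W]
  {o : ℕ}

/-! ### Restriction to an invariant subgroup -/

/-- The restriction of an automorphism to an invariant subgroup of a finite group. -/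
noncomputable def autRestrict [Finite Q] (α : MulAut Q) (Q₁ : Subgroup Q)
    (h : ∀ g ∈ Q₁, α g ∈ Q₁) : MulAut Q₁ :=
  MulEquiv.ofBijective ((α.toMonoidHom.comp Q₁.subtype).codRestrict Q₁ (fun g => h g g.2))
    (by
      have hinj : Function.Injective
          ((α.toMonoidHom.comp Q₁.subtype).codRestrict Q₁ (fun g => h g g.2)) := by
        intro a b hab
        have : α (a : Q) = α (b : Q) := congrArg Subtype.val hab
        exact Subtype.ext (α.injective this)
      exact ⟨hinj, Finite.injective_iff_surjective.mp hinj⟩)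

theorem autRestrict_apply [Finite Q] (α : MulAut Q) (Q₁ : Subgroup Q)
    (h : ∀ g ∈ Q₁, α g ∈ Q₁) (g : Q₁) : ((autRestrict α Q₁ h g : Q₁) : Q) = α (g : Q) := rfl

theorem autRestrict_pow_apply [Finite Q] (α : MulAut Q) (Q₁ : Subgroup Q)
    (h : ∀ g ∈ Q₁, α g ∈ Q₁) (k : ℕ) (g : Q₁) :
    ((((autRestrict α Q₁ h) ^ k) g : Q₁) : Q) = (α ^ k) (g : Q) := by
  induction k generalizing g with
  | zero => simp
  | succ k ih =>
    rw [pow_succ, MulAut.mul_apply, ih, autRestrict_apply, pow_succ, MulAut.mul_apply]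

/-- Restriction of the data to an `α`-invariant subgroup. -/
noncomputable def sub [Finite Q] (D : HHData K Q W o) (Q₁ : Subgroup Q)
    (h : ∀ g ∈ Q₁, D.α g ∈ Q₁) : HHData K Q₁ W o where
  ρ := D.ρ.comp Q₁.subtype
  α := autRestrict D.α Q₁ h
  X := D.X
  X' := D.X'
  hXX' := D.hXX'
  hX'X := D.hX'X
  hα g := by
    show D.X * D.ρ (g : Q) * D.X' = D.ρ ((autRestrict D.α Q₁ h g : Q₁) : Q)
    rw [autRestrict_apply, D.hα]
  hαo := by
    apply MulEquiv.ext; intro g
    apply Subtype.ext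
    rw [autRestrict_pow_apply, D.hαo]; rfl
  hXo := D.hXo

theorem sub_ρ_apply [Finite Q] (D : HHData K Q W o) (Q₁ : Subgroup Q)
    (h : ∀ g ∈ Q₁, D.α g ∈ Q₁) (g : Q₁) : (D.sub Q₁ h).ρ g = D.ρ (g : Q) := rfl

theorem sub_α_pow_apply [Finite Q] (D : HHData K Q W o) (Q₁ : Subgroup Q)
    (h : ∀ g ∈ Q₁, D.α g ∈ Q₁) (k : ℕ) (g : Q₁) :
    ((((D.sub Q₁ h).α ^ k) g : Q₁) : Q) = (D.α ^ k) (g : Q) :=
  autRestrict_pow_apply D.α Q₁ h k g

@[simp] theorem sub_X [Finite Q] (D : HHData K Q W o) (Q₁ : Subgroup Q)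
    (h : ∀ g ∈ Q₁, D.α g ∈ Q₁) : (D.sub Q₁ h).X = D.X := rfl

/-! ### Quotient by the kernel -/

/-- The kernel of the representation. -/
def kerρ (D : HHData K Q W o) : Subgroup Q := MonoidHom.ker D.ρ

instance (D : HHData K Q W o) : D.kerρ.Normal := MonoidHom.normal_ker _

theorem mem_kerρ (D : HHData K Q W o) (g : Q) : g ∈ D.kerρ ↔ D.ρ g = 1 := MonoidHom.mem_ker

theorem α_mem_kerρ_iff (D : HHData K Q W o) (g : Q) : D.α g ∈ D.kerρ ↔ g ∈ D.kerρ := by
  rw [mem_kerρ, mem_kerρ, ← D.hα]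
  constructor
  · intro h
    have : D.X' * (D.X * D.ρ g * D.X') * D.X = D.X' * 1 * D.X := by rw [h]
    rw [mul_one, D.hX'X] at this
    rw [← this]
    rw [show D.X' * (D.X * D.ρ g * D.X') * D.X = (D.X' * D.X) * D.ρ g * (D.X' * D.X) by
      simp only [mul_assoc], D.hX'X, one_mul, mul_one]
  · intro h
    rw [h, mul_one, D.hXX']

theorem map_kerρ (D : HHData K Q W o) : D.kerρ.map (D.α : Q →* Q) = D.kerρ := by
  ext x
  constructor
  · rintro ⟨g, hg, rfl⟩
    exact (D.α_mem_kerρ_iff g).mpr hg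
  · intro hx
    refine ⟨D.α.symm x, ?_, by simp⟩
    rw [SetLike.mem_coe, ← D.α_mem_kerρ_iff]
    simpa using hx

/-- The quotient of the data by the kernel of `ρ`. -/
noncomputable def quotKer (D : HHData K Q W o) : HHData K (Q ⧸ D.kerρ) W o where
  ρ := QuotientGroup.lift D.kerρ D.ρ (le_refl _)
  α := QuotientGroup.congr D.kerρ D.kerρ D.α D.map_kerρ
  X := D.X
  X' := D.X'
  hXX' := D.hXX'
  hX'X := D.hX'X
  hα g := by
    induction g using QuotientGroup.induction_on with | _ g => ?_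
    rw [QuotientGroup.congr_mk]
    exact D.hα g
  hαo := by
    apply MulEquiv.ext; intro g
    induction g using QuotientGroup.induction_on with | _ g => ?_
    have h1 : ∀ k : ℕ, ∀ g : Q, ((QuotientGroup.congr D.kerρ D.kerρ D.α D.map_kerρ) ^ k)
        (g : Q ⧸ D.kerρ) = (((D.α ^ k) g : Q) : Q ⧸ D.kerρ) := by
      intro k
      induction k with
      | zero => intro g; simp
      | succ k ih =>
        intro g
        rw [pow_succ, MulAut.mul_apply, QuotientGroup.congr_mk, ih, pow_succ, MulAut.mul_apply]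
    rw [h1, D.hαo]; rfl
  hXo := D.hXo

theorem quotKer_ρ_mk (D : HHData K Q W o) (g : Q) : D.quotKer.ρ (g : Q ⧸ D.kerρ) = D.ρ g := rfl

theorem quotKer_α_pow_mk (D : HHData K Q W o) (k : ℕ) (g : Q) :
    (D.quotKer.α ^ k) (g : Q ⧸ D.kerρ) = (((D.α ^ k) g : Q) : Q ⧸ D.kerρ) := by
  induction k generalizing g with
  | zero => simp
  | succ k ih =>
    rw [pow_succ, MulAut.mul_apply]
    show (D.quotKer.α ^ k) ((QuotientGroup.congr D.kerρ D.kerρ D.α D.map_kerρ) (g : Q ⧸ D.kerρ)) = _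
    rw [QuotientGroup.congr_mk, ih, pow_succ, MulAut.mul_apply]

@[simp] theorem quotKer_X (D : HHData K Q W o) : D.quotKer.X = D.X := rfl

theorem quotKer_injective (D : HHData K Q W o) : Function.Injective D.quotKer.ρ := by
  intro a b hab
  induction a using QuotientGroup.induction_on with | _ a => ?_
  induction b using QuotientGroup.induction_on with | _ b => ?_
  rw [quotKer_ρ_mk, quotKer_ρ_mk] at hab
  rw [QuotientGroup.eq]
  show a⁻¹ * b ∈ D.kerρ
  rw [mem_kerρ, map_mul, ← hab, ← map_mul, inv_mul_cancel, map_one]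

end HHData

end Cfsg.Agent.Helper64
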