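import Mathlib
import Cfsg.Prelude.Def_Local
import Cfsg.Agent.Lib.Cores
import Cfsg.Agent.Helper62.PSolvDual
import Cfsg.Agent.Helper48.CoprimeGen

/-!
# Hall–Higman Theorem B, part 10: the group-theoretic reduction

In a finite `p`-solvable group with `O_p = 1`, a nontrivial `p`-element `y = x ^ (p^n)` fails to
centralise some `x`-invariant `q`-subgroup, `q ≠ p`.
-/

set_option autoImplicit false

namespace Cfsg.Agent.Helper64

open Subgroup Cfsg Cfsg.Agent.Lib

theorem exists_invariant_qsubgroup {G : Type*} [Group G] [Finite G] {p : ℕ} [hp : Fact p.Prime]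
    (hG : IsPSolvable p G) (hO : pCore p G = ⊥) (x : G) (m : ℕ) (hm : x ^ p ^ m = 1) (n : ℕ)
    (hy : x ^ p ^ n ≠ 1) :
    ∃ q : ℕ, q.Prime ∧ q ≠ p ∧ ∃ Q₀ : Subgroup G, IsPGroup q Q₀ ∧ (∀ u ∈ Q₀, x * u * x⁻¹ ∈ Q₀) ∧
      ∃ u ∈ Q₀, x ^ p ^ n * u ≠ u * x ^ p ^ n := by
  by_contra hall
  push Not at hall
  apply hy
  obtain ⟨L, hL⟩ : ∃ L : Subgroup G, L = pPrimeCore p G := ⟨_, rfl⟩
  haveI hLchar : L.Characteristic := by rw [hL]; exact pPrimeCore_characteristic p
  haveI hLn : L.Normal := Subgroup.normal_of_characteristic _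
  have hLcop : (Nat.card L).Coprime p := by rw [hL]; exact card_pPrimeCore_coprime p
  have hpL : ¬ p ∣ Nat.card L := by
    intro hd
    have := Nat.Coprime.eq_one_of_dvd hLcop.symm hd
    exact hp.out.one_lt.ne' this
  have hzN : zpowers x ≤ normalizer (L : Set G) := by
    rw [Subgroup.normalizer_eq_top]; exact le_top
  have hzp : IsPGroup p (zpowers x) := by
    rintro ⟨g, hg⟩
    refine ⟨m, ?_⟩
    obtain ⟨j, rfl⟩ := mem_zpowers_iff.mp hg
    apply Subtype.ext
    show (x ^ j) ^ p ^ m = 1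
    rw [← zpow_natCast, ← zpow_mul, mul_comm, zpow_mul, zpow_natCast, hm, one_zpow]
  obtain ⟨y, hydef⟩ : ∃ y : G, y = x ^ p ^ n := ⟨_, rfl⟩
  rw [← hydef] at hall ⊢
  have hle : L ≤ L ⊓ centralizer {y} := by
    apply Cfsg.Agent.Helper48.le_of_forall_sylow_le inf_le_left
    intro q hq
    haveI : Fact q.Prime := hq
    obtain ⟨S, hS⟩ := Cfsg.Agent.Helper48.exists_invariant_sylow L (zpowers x) hzN hzp hpL q
    refine ⟨S, ?_⟩
    obtain ⟨Q, hQdef⟩ : ∃ Q : Subgroup G, Q = (S : Subgroup L).map L.subtype := ⟨_, rfl⟩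
    rw [← hQdef]
    have hQL : Q ≤ L := by
      rw [hQdef]; rintro _ ⟨w, -, rfl⟩; exact w.2
    have hQq : IsPGroup q Q := by rw [hQdef]; exact S.isPGroup'.map _
    have hQn : ∀ u ∈ Q, x * u * x⁻¹ ∈ Q := by
      rw [hQdef]
      rintro _ ⟨w, hw, rfl⟩
      exact ⟨⟨x * (w : G) * x⁻¹, hLn.conj_mem w w.2 x⟩,
        hS x (mem_zpowers x) w hw (hLn.conj_mem w w.2 x), rfl⟩
    haveI : Finite Q := Finite.of_injective _ (inclusion_injective hQL)
    have hQcop : (Nat.card Q).Coprime p :=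
      Nat.Coprime.coprime_dvd_left (card_dvd_of_le hQL) hLcop
    have hcent : ∀ u ∈ Q, y * u = u * y := by
      by_cases hqp : q = p
      · intro u hu
        have h1 : orderOf u ∣ Nat.card Q := Subgroup.orderOf_dvd_natCard Q hu
        obtain ⟨k, hk⟩ := hQq ⟨u, hu⟩
        have h2 : u ^ q ^ k = 1 := by simpa using congrArg Subtype.val hk
        have h3 : orderOf u ∣ p ^ k := by
          rw [← hqp]; exact orderOf_dvd_of_pow_eq_one h2
        have h4 : orderOf u = 1 :=
          Nat.eq_one_of_dvd_coprimes (Nat.Coprime.pow_right k hQcop) h1 h3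
        rw [orderOf_eq_one_iff.mp h4, mul_one, one_mul]
      · exact hall q hq.1 hqp Q hQq hQn
    intro u hu
    refine ⟨hQL hu, ?_⟩
    show u ∈ centralizer {y}
    rw [mem_centralizer_singleton_iff]
    exact (hcent u hu).symm
  have hyC : y ∈ centralizer (L : Set G) := by
    rw [mem_centralizer_iff]
    intro l hl
    have h1 : l ∈ centralizer {y} := (hle hl).2
    rw [mem_centralizer_singleton_iff] at h1
    exact h1
  have hyL : y ∈ L := by
    have := Cfsg.Agent.Helper62.centralizer_pPrimeCore_le_of_isPSolvable hG hO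
    rw [← hL] at this
    exact this hyC
  have ho1 : orderOf y ∣ Nat.card L := Subgroup.orderOf_dvd_natCard L hyL
  have ho2 : orderOf y ∣ p ^ m := by
    apply orderOf_dvd_of_pow_eq_one
    rw [hydef, ← pow_mul, mul_comm, pow_mul, hm, one_pow]
  have ho3 : orderOf y = 1 :=
    Nat.eq_one_of_dvd_coprimes (Nat.Coprime.pow_right m hLcop) ho1 ho2
  exact orderOf_eq_one_iff.mp ho3

end Cfsg.Agent.Helper64
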