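import Cfsg.Agent.Helper64.HHBWeight

/-!
# Hall–Higman Theorem B, part 6: the conclusion, the induction hypothesis, and the easy steps
-/

set_option autoImplicit false

namespace Cfsg.Agent.Helper64

open Module

universe u v w

section defs

variable {K : Type u} [Field K] {Q : Type w} [Group Q] {W : Type v} [AddCommGroup W] [Module K W]

/-- The conclusion of Theorem B in linear form. -/
def HHConcl (p q n r : ℕ) (ρ : Representation K Q W) : Prop :=
  p ^ (n + 1) ≤ r ∨ ∃ n₀ m : ℕ, 1 ≤ n₀ ∧ n₀ ≤ n + 1 ∧ 1 ≤ m ∧ p ^ n₀ - 1 = q ^ m ∧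
    (∃ g h, ρ g * ρ h ≠ ρ h * ρ g) ∧ p ^ (n + 1 - n₀) * (p ^ n₀ - 1) ≤ r

theorem HHConcl.mono {Q' : Type*} [Group Q'] {W' : Type*} [AddCommGroup W'] [Module K W']
    {p q n r r' : ℕ} {ρ : Representation K Q W} {ρ' : Representation K Q' W'}
    (h : HHConcl p q n r ρ) (hr : r ≤ r')
    (hρ : (∃ g h, ρ g * ρ h ≠ ρ h * ρ g) → ∃ g h, ρ' g * ρ' h ≠ ρ' h * ρ' g) :
    HHConcl p q n r' ρ' := by
  rcases h with h | ⟨n₀, m, h1, h2, h3, h4, h5, h6⟩
  · exact Or.inl (le_trans h hr)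
  · exact Or.inr ⟨n₀, m, h1, h2, h3, h4, hρ h5, le_trans h6 hr⟩

theorem HHConcl.lift {p q n j r₀ r : ℕ} {ρ : Representation K Q W} (hj : j ≤ n)
    (h : HHConcl p q (n - j) r₀ ρ) (hr : p ^ j * r₀ ≤ r) : HHConcl p q n r ρ := by
  rcases h with h | ⟨n₀, m, h1, h2, h3, h4, h5, h6⟩
  · left
    calc p ^ (n + 1) = p ^ j * p ^ (n - j + 1) := by rw [← pow_add]; congr 1; omega
      _ ≤ p ^ j * r₀ := Nat.mul_le_mul_left _ h
      _ ≤ r := hr
  · right
    refine ⟨n₀, m, h1, by omega, h3, h4, h5, ?_⟩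
    calc p ^ (n + 1 - n₀) * (p ^ n₀ - 1) = p ^ j * (p ^ (n - j + 1 - n₀) * (p ^ n₀ - 1)) := by
          rw [← mul_assoc, ← pow_add]; congr 2; omega
      _ ≤ p ^ j * r₀ := Nat.mul_le_mul_left _ h6
      _ ≤ r := hr

end defs

/-- The induction hypothesis: Theorem B in linear form for all data of measure at most `M`. -/
def HHHyp (K : Type u) [Field K] (p q M : ℕ) : Prop :=
  ∀ (Q' : Type w) [Group Q'] [Finite Q'] (W' : Type v) [AddCommGroup W'] [Module K W']
    [FiniteDimensional K W'], IsPGroup q Q' → finrank K W' + Nat.card Q' ≤ M →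
    ∀ (n' : ℕ) (D' : HHData K Q' W' (p ^ (n' + 1))), D'.Moves (p ^ n') →
    ∀ r' : ℕ, (D'.X - 1) ^ r' = 0 → HHConcl p q n' r' D'.ρ

variable {K : Type u} [Field K] {Q : Type w} [Group Q] {W : Type v} [AddCommGroup W] [Module K W]

namespace HHData

variable {o : ℕ}

theorem pow_comm_apply (α : MulAut Q) (k : ℕ) (g : Q) : (α ^ k) (α g) = α ((α ^ k) g) := by
  rw [← MulAut.mul_apply, ← MulAut.mul_apply, ← pow_succ, ← pow_succ']

/-- If `α ^ k` acts trivially modulo `ρ` on a nonzero `ρ(Q)`-stable subspace and the data is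
irreducible, then `α ^ k` acts trivially modulo `ρ`. -/
theorem not_moves_of_fix_on (D : HHData K Q W o) (ho : 0 < o) (hirr : D.Irr) (k : ℕ)
    (W₀ : Submodule K W) (hW₀ : W₀ ≠ ⊥)
    (hfix : ∀ g, ∀ w ∈ W₀, D.ρ ((D.α ^ k) g) w = D.ρ g w) : ¬ D.Moves k := by
  obtain ⟨F, hF⟩ : ∃ F : Submodule K W, ∀ w, w ∈ F ↔ ∀ g, D.ρ ((D.α ^ k) g) w = D.ρ g w := by
    refine ⟨{ carrier := {w | ∀ g, D.ρ ((D.α ^ k) g) w = D.ρ g w}
              add_mem' := ?_, zero_mem' := ?_, smul_mem' := ?_ }, fun w => Iff.rfl⟩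
    · intro a b ha hb g
      rw [map_add, map_add, ha g, hb g]
    · intro g
      rw [map_zero, map_zero]
    · intro c a ha g
      rw [map_smul, map_smul, ha g]
  have hinv : D.Inv F := by
    apply D.inv_of_X ho
    · intro h w hw
      rw [hF] at hw ⊢
      intro g
      obtain ⟨h', hh'⟩ : ∃ h', (D.α ^ k) h' = h := (D.α ^ k).surjective h
      have e1 : D.ρ ((D.α ^ k) g) (D.ρ h w) = D.ρ ((D.α ^ k) (g * h')) w := by
        rw [map_mul, hh', map_mul, Module.End.mul_apply]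
      have e2 : D.ρ h w = D.ρ h' w := by rw [← hh', hw h']
      rw [e1, hw (g * h'), map_mul, Module.End.mul_apply, e2]
    · intro w hw
      rw [hF] at hw ⊢
      intro g
      obtain ⟨g', rfl⟩ := D.α.surjective g
      rw [pow_comm_apply]
      have e1 := LinearMap.congr_fun (D.rho_mul_X ((D.α ^ k) g')) w
      have e2 := LinearMap.congr_fun (D.rho_mul_X g') w
      simp only [Module.End.mul_apply] at e1 e2
      rw [e1, e2, hw g']
  have hFne : F ≠ ⊥ := by
    intro h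
    apply hW₀
    rw [eq_bot_iff, ← h]
    intro w hw
    rw [hF]
    intro g
    exact hfix g w hw
  rcases hirr F hinv with h | h
  · exact absurd h hFne
  · rintro ⟨g, hg⟩
    apply hg
    apply LinearMap.ext; intro w
    have : w ∈ F := by rw [h]; trivial
    exact (hF w).mp this g

end HHData

section steps

variable (p q : ℕ) [hp : Fact p.Prime] [hq : Fact q.Prime] [CharP K p]

theorem natCast_ne_zero_of_ne (hpq : p ≠ q) : (q : K) ≠ 0 := by
  intro h
  have := (CharP.cast_eq_zero_iff K p q).mp h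
  exact hpq ((Nat.prime_dvd_prime_iff_eq hp.1 hq.1).mp this)

variable [Finite Q] [FiniteDimensional K W]

/-- **Reducible case.** -/
theorem step_reducible (hpq : p ≠ q) (M : ℕ) (IH : HHHyp.{u, v, w} K p q M) (hQ : IsPGroup q Q)
    (hM : finrank K W + Nat.card Q ≤ M + 1) (n : ℕ) (D : HHData K Q W (p ^ (n + 1)))
    (hmv : D.Moves (p ^ n)) (r : ℕ) (hr : (D.X - 1) ^ r = 0) (U : Submodule K W)
    (hU : D.Inv U) (hU0 : U ≠ ⊥) (hU1 : U ≠ ⊤) : HHConcl p q n r D.ρ := by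
  have hlt1 : finrank K U < finrank K W := Submodule.finrank_lt hU1
  have hlt2 : finrank K (W ⧸ U) < finrank K W := by
    have h1 := Submodule.finrank_quotient_add_finrank U
    have h2 : finrank K U ≠ 0 := fun h => hU0 (Submodule.finrank_eq_zero.mp h)
    omega
  by_cases h1 : (D.res U hU).Moves (p ^ n)
  · have hr1 : ((D.res U hU).X - 1) ^ r = 0 := by
      apply LinearMap.ext; intro x
      apply Subtype.ext
      rw [D.res_sub_one_pow, hr]; rfl
    have := IH Q U hQ (by omega) n (D.res U hU) h1 r hr1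
    refine this.mono le_rfl ?_
    rintro ⟨g, h, hgh⟩
    refine ⟨g, h, ?_⟩
    intro heq
    apply hgh
    rw [← map_mul, ← map_mul]
    apply LinearMap.ext; intro x
    apply Subtype.ext
    show D.ρ (g * h) (x : W) = D.ρ (h * g) (x : W)
    rw [map_mul, map_mul, heq]
  by_cases h2 : (D.quo U hU).Moves (p ^ n)
  · have hr2 : ((D.quo U hU).X - 1) ^ r = 0 := by
      apply LinearMap.ext; intro x
      obtain ⟨x, rfl⟩ := Submodule.Quotient.mk_surjective U x
      rw [D.quo_sub_one_pow, hr]; rfl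
    have := IH Q (W ⧸ U) hQ (by omega) n (D.quo U hU) h2 r hr2
    refine this.mono le_rfl ?_
    rintro ⟨g, h, hgh⟩
    refine ⟨g, h, ?_⟩
    intro heq
    apply hgh
    rw [← map_mul, ← map_mul]
    apply LinearMap.ext; intro x
    obtain ⟨x, rfl⟩ := Submodule.Quotient.mk_surjective U x
    rw [D.quo_ρ_mk, D.quo_ρ_mk, map_mul, map_mul, heq]
  exfalso
  obtain ⟨g, hg⟩ := hmv
  apply hg
  unfold HHData.Moves at h1 h2
  push Not at h1 h2
  obtain ⟨b, hb⟩ : ∃ b, b = (D.α ^ p ^ n) g := ⟨_, rfl⟩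
  rw [← hb]
  have h1g : ∀ w ∈ U, D.ρ b w = D.ρ g w := by
    intro w hw
    have := LinearMap.congr_fun (h1 g) ⟨w, hw⟩
    have := congrArg Subtype.val this
    rw [HHData.res_α, ← hb] at this
    exact this
  have h2g : ∀ w, D.ρ b w - D.ρ g w ∈ U := by
    intro w
    have := LinearMap.congr_fun (h2 g) (Submodule.Quotient.mk w)
    rw [HHData.quo_α, ← hb, D.quo_ρ_mk, D.quo_ρ_mk, Submodule.Quotient.eq] at this
    exact this
  obtain ⟨u, hu⟩ : ∃ u, u = D.ρ (g⁻¹ * b) := ⟨_, rfl⟩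
  have hu1 : ∀ w ∈ U, u w = w := by
    intro w hw
    rw [hu, map_mul, Module.End.mul_apply, h1g w hw, ← Module.End.mul_apply, ← map_mul,
      inv_mul_cancel, map_one, Module.End.one_apply]
  have hu2 : ∀ w, u w - w ∈ U := by
    intro w
    have h3 : u w - w = D.ρ g⁻¹ (D.ρ b w - D.ρ g w) := by
      rw [map_sub, hu, map_mul, Module.End.mul_apply, ← Module.End.mul_apply (D.ρ g⁻¹) (D.ρ g),
        ← map_mul, inv_mul_cancel, map_one, Module.End.one_apply]
    rw [h3]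
    exact hU.1 _ _ (h2g w)
  have husq : (u - 1) * (u - 1) = 0 := by
    apply LinearMap.ext; intro w
    rw [Module.End.mul_apply, LinearMap.sub_apply, LinearMap.sub_apply, Module.End.one_apply,
      Module.End.one_apply, LinearMap.zero_apply, hu1 _ (hu2 w), sub_self]
  obtain ⟨k, hk⟩ := hQ (g⁻¹ * b)
  have hupow : u ^ (q ^ k) = 1 := by rw [hu, ← map_pow, hk, map_one]
  have hqK : ((q ^ k : ℕ) : K) ≠ 0 := by
    rw [Nat.cast_pow]; exact pow_ne_zero _ (natCast_ne_zero_of_ne p q hpq)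
  have hu1' := eq_one_of_sq_zero u husq (q ^ k) hqK hupow
  rw [hu, map_mul] at hu1'
  calc D.ρ b = D.ρ g * (D.ρ g⁻¹ * D.ρ b) := by
        rw [← mul_assoc, ← map_mul, mul_inv_cancel, map_one, one_mul]
    _ = D.ρ g := by rw [hu1', mul_one]

/-- **Non-faithful case.** -/
theorem step_kernel (M : ℕ) (IH : HHHyp.{u, v, w} K p q M) (hQ : IsPGroup q Q)
    (hM : finrank K W + Nat.card Q ≤ M + 1) (n : ℕ) (D : HHData K Q W (p ^ (n + 1)))
    (hmv : D.Moves (p ^ n)) (r : ℕ) (hr : (D.X - 1) ^ r = 0)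
    (hker : ¬ Function.Injective D.ρ) : HHConcl p q n r D.ρ := by
  have hne : D.kerρ ≠ ⊥ := by
    intro h
    apply hker
    exact (MonoidHom.ker_eq_bot_iff (D.ρ : Q →* Module.End K W)).mp h
  have hcard : Nat.card (Q ⧸ D.kerρ) < Nat.card Q := by
    have h1 := Subgroup.card_eq_card_quotient_mul_card_subgroup D.kerρ
    have h2 := (Subgroup.one_lt_card_iff_ne_bot D.kerρ).mpr hne
    have h3 : 0 < Nat.card (Q ⧸ D.kerρ) := Nat.card_pos
    nlinarith
  have hmv' : D.quotKer.Moves (p ^ n) := by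
    obtain ⟨g, hg⟩ := hmv
    refine ⟨(g : Q ⧸ D.kerρ), ?_⟩
    rw [D.quotKer_α_pow_mk, D.quotKer_ρ_mk, D.quotKer_ρ_mk]
    exact hg
  have := IH (Q ⧸ D.kerρ) W (hQ.to_quotient _) (by omega) n D.quotKer hmv' r hr
  refine this.mono le_rfl ?_
  rintro ⟨g, h, hgh⟩
  induction g using QuotientGroup.induction_on with | _ g => ?_
  induction h using QuotientGroup.induction_on with | _ h => ?_
  exact ⟨g, h, hgh⟩

/-- **A proper invariant subgroup on which `β` still acts nontrivially.** -/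
theorem step_subgroup (M : ℕ) (IH : HHHyp.{u, v, w} K p q M) (hQ : IsPGroup q Q)
    (hM : finrank K W + Nat.card Q ≤ M + 1) (n : ℕ) (D : HHData K Q W (p ^ (n + 1)))
    (r : ℕ) (hr : (D.X - 1) ^ r = 0) (Q₁ : Subgroup Q) (hQ₁ : Q₁ ≠ ⊤)
    (hinv : ∀ g ∈ Q₁, D.α g ∈ Q₁) (hmv : ∃ g ∈ Q₁, D.ρ ((D.α ^ p ^ n) g) ≠ D.ρ g) :
    HHConcl p q n r D.ρ := by
  have hcard : Nat.card Q₁ < Nat.card Q := by
    have h1 := Subgroup.card_le_card_group Q₁
    have h2 : Nat.card Q₁ ≠ Nat.card Q := fun h => hQ₁ (Subgroup.eq_top_of_card_eq Q₁ h)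
    omega
  have hmv' : (D.sub Q₁ hinv).Moves (p ^ n) := by
    obtain ⟨g, hg, hne⟩ := hmv
    refine ⟨⟨g, hg⟩, ?_⟩
    rw [D.sub_ρ_apply, D.sub_ρ_apply, D.sub_α_pow_apply]
    exact hne
  have := IH Q₁ W (hQ.to_subgroup Q₁) (by omega) n (D.sub Q₁ hinv) hmv' r hr
  refine this.mono le_rfl ?_
  rintro ⟨g, h, hgh⟩
  exact ⟨g, h, hgh⟩

end steps

end Cfsg.Agent.Helper64
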