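import Cfsg.Agent.Helper64.HHBStep1

/-!
# Hall–Higman Theorem B, part 7: the weight step
-/

set_option autoImplicit false

namespace Cfsg.Agent.Helper64

open Module

universe u v w

variable {K : Type u} [Field K] {Q : Type w} [Group Q] {W : Type v} [AddCommGroup W] [Module K W]

namespace HHData

/-- The automorphisms fixing the weight `lam` of the centre. -/
def wtStab (lam : Q → K) : Subgroup (MulAut Q) where
  carrier := {σ | ∀ z ∈ Subgroup.center Q, lam (σ z) = lam z}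
  mul_mem' := by
    intro a b ha hb z hz
    rw [MulAut.mul_apply, ha _ (aut_mem_center b z hz), hb z hz]
  one_mem' := by
    intro z _
    rfl
  inv_mem' := by
    intro a ha z hz
    have := ha (a⁻¹ z) (aut_mem_center _ z hz)
    rw [MulAut.apply_inv_self] at this
    exact this.symm

theorem mem_wtStab (lam : Q → K) (σ : MulAut Q) :
    σ ∈ wtStab lam ↔ ∀ z ∈ Subgroup.center Q, lam (σ z) = lam z := Iff.rfl

theorem exists_period (p : ℕ) [hp : Fact p.Prime] (n : ℕ) (D : HHData K Q W (p ^ (n + 1)))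
    (lam : Q → K) :
    ∃ j, j ≤ n + 1 ∧ D.α ^ p ^ j ∈ wtStab lam ∧
      ∀ i, 0 < i → i < p ^ j → D.α ^ i ∉ wtStab lam := by
  classical
  have hex : ∃ j, D.α ^ p ^ j ∈ wtStab lam := ⟨n + 1, by rw [D.hαo]; exact one_mem _⟩
  refine ⟨Nat.find hex, Nat.find_min' hex (by rw [D.hαo]; exact one_mem _), Nat.find_spec hex, ?_⟩
  intro i hi0 hilt hmem
  have hndvd : ¬ p ^ Nat.find hex ∣ i := Nat.not_dvd_of_pos_of_lt hi0 hilt
  have hj1 : 1 ≤ Nat.find hex := by
    by_contra h
    have : Nat.find hex = 0 := by omega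
    rw [this, pow_zero] at hilt
    omega
  have := cyc_pow_mem (wtStab lam) D.α p (n + 1) (Nat.find hex) i D.hαo hmem hndvd hj1
  exact Nat.find_min hex (by omega) this

end HHData

section step

variable (p q : ℕ) [hp : Fact p.Prime] [hq : Fact q.Prime] [CharP K p]
variable [Finite Q] [FiniteDimensional K W]

theorem noncomm_of_res {o : ℕ} (D : HHData K Q W o) (U : Submodule K W) (hU : D.Inv U)
    (h : ∃ g h, (D.res U hU).ρ g * (D.res U hU).ρ h ≠ (D.res U hU).ρ h * (D.res U hU).ρ g) :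
    ∃ g h, D.ρ g * D.ρ h ≠ D.ρ h * D.ρ g := by
  obtain ⟨g, h, hgh⟩ := h
  refine ⟨g, h, ?_⟩
  intro heq
  apply hgh
  rw [← map_mul, ← map_mul]
  apply LinearMap.ext; intro x
  apply Subtype.ext
  show D.ρ (g * h) (x : W) = D.ρ (h * g) (x : W)
  rw [map_mul, map_mul, heq]

theorem pow_eq_zero_of_le' {E : Type*} [Ring E] (a : E) (r s : ℕ) (h : a ^ r = 0) (hrs : r ≤ s) :
    a ^ s = 0 := by
  obtain ⟨t, rfl⟩ := Nat.exists_eq_add_of_le hrs
  rw [pow_add, h, zero_mul]

/-- **The weight step.** Either the conclusion holds, or the centre of `Q` acts by scalars. -/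
theorem step_weights [IsAlgClosed K] [Nontrivial W] (hpq : p ≠ q) (M : ℕ)
    (IH : HHHyp.{u, v, w} K p q M) (hQ : IsPGroup q Q)
    (hM : finrank K W + Nat.card Q ≤ M + 1) (n : ℕ) (D : HHData K Q W (p ^ (n + 1)))
    (hmv : D.Moves (p ^ n)) (r : ℕ) (hr : (D.X - 1) ^ r = 0) (hirr : D.Irr) :
    HHConcl p q n r D.ρ ∨ ∀ z ∈ Subgroup.center Q, ∃ c : K, D.ρ z = c • (1 : Module.End K W) := by
  classical
  haveI : Fintype (Subgroup.center Q) := Fintype.ofFinite _
  obtain ⟨lam, w₀, hw₀, h1, hmul, hlam⟩ := exists_weight D.ρ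
  obtain ⟨W₀, hW₀⟩ : ∃ W₀, W₀ = D.wtSpace lam := ⟨_, rfl⟩
  have hw₀W : w₀ ∈ W₀ := by rw [hW₀]; exact hlam
  have hW₀ne : W₀ ≠ ⊥ := fun h => hw₀ (by rw [h] at hw₀W; exact (Submodule.mem_bot K).mp hw₀W)
  obtain ⟨j, hj, hjS, hjmin⟩ := D.exists_period p n lam
  have hcardK : (Nat.card (Subgroup.center Q) : K) ≠ 0 := by
    obtain ⟨k, hk⟩ := (hQ.to_subgroup (Subgroup.center Q)).exists_card_eq
    rw [hk, Nat.cast_pow]
    exact pow_ne_zero _ (natCast_ne_zero_of_ne p q hpq)
  have hXW₀ : ∀ w ∈ W₀, (D.X ^ p ^ j) w ∈ W₀ := by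
    intro w hw
    rw [hW₀] at hw ⊢
    have h2 := D.pow_mem_wtSpace lam (p ^ j) w hw
    intro z hz
    rw [h2 z hz]
    congr 1
    exact (HHData.mem_wtStab lam _).mp (Subgroup.inv_mem _ hjS) z hz
  have hX'W₀ : ∀ w ∈ W₀, (D.X' ^ p ^ j) w ∈ W₀ := by
    intro w hw
    rw [hW₀] at hw ⊢
    have h2 := D.pow'_mem_wtSpace lam (p ^ j) w hw
    intro z hz
    rw [h2 z hz]
    congr 1
    exact (HHData.mem_wtStab lam _).mp hjS z hz
  have hρW₀ : ∀ g, ∀ w ∈ W₀, D.ρ g w ∈ W₀ := by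
    intro g w hw
    rw [hW₀] at hw ⊢
    exact D.rho_mem_wtSpace lam g w hw
  have hπ : ∀ w ∈ W₀, D.wtProj lam w = (Nat.card (Subgroup.center Q) : K) • w := by
    intro w hw
    rw [hW₀] at hw
    exact D.wtProj_apply_of_mem lam h1 hmul w hw
  have hπ0 : ∀ i, 0 < i → i < p ^ j → ∀ w ∈ W₀, D.wtProj lam ((D.X ^ i) w) = 0 := by
    intro i hi0 hilt w hw
    rw [hW₀] at hw
    have hnot : (D.α ^ i)⁻¹ ∉ HHData.wtStab lam := by
      intro h
      apply hjmin i hi0 hilt
      have := Subgroup.inv_mem _ h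
      rwa [inv_inv] at this
    rw [HHData.mem_wtStab] at hnot
    push Not at hnot
    obtain ⟨z₀, hz₀, hne⟩ := hnot
    exact D.wtProj_apply_of_ne lam _ hmul z₀ hz₀ hne _ (D.pow_mem_wtSpace lam i w hw)
  have hopos : 0 < p ^ (n + 1) := Nat.pos_of_ne_zero (pow_ne_zero _ hp.1.ne_zero)
  rcases Nat.eq_zero_or_pos j with hj0 | hjpos
  · -- the weight space is invariant, hence everything
    right
    rw [hj0, pow_zero, pow_one] at hXW₀ hX'W₀
    have hinv : D.Inv W₀ := ⟨hρW₀, hXW₀, hX'W₀⟩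
    rcases hirr W₀ hinv with h | h
    · exact absurd h hW₀ne
    · intro z hz
      refine ⟨lam z, ?_⟩
      apply LinearMap.ext; intro w
      have hw : w ∈ D.wtSpace lam := by rw [← hW₀, h]; trivial
      rw [hw z hz, LinearMap.smul_apply, Module.End.one_apply]
  left
  have hp2 : 1 < p ^ j := Nat.one_lt_pow (by omega) hp.1.one_lt
  rcases Nat.lt_or_ge n j with hjn | hjn
  · -- free orbit
    have hjeq : j = n + 1 := by omega
    left
    have hne : ((D.X ^ p ^ j - 1 : Module.End K W) ^ 0) w₀ ≠ 0 := by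
      rw [pow_zero, Module.End.one_apply]; exact hw₀
    have h3 := sub_one_pow_ne_zero_of_component p j D.X (D.wtProj lam) W₀ _ hcardK hπ hπ0 hXW₀ 0
      w₀ hw₀W hne
    rw [zero_add, mul_one, hjeq] at h3
    by_contra hlt
    apply h3
    exact pow_eq_zero_of_le' _ r _ hr (by omega)
  · -- induction on the weight space
    have hoeq : p ^ (n + 1) = p ^ j * p ^ (n - j + 1) := by rw [← pow_add]; congr 1; omega
    have hInv' : (D.pow (p ^ j) (p ^ (n - j + 1)) hoeq).Inv W₀ := ⟨hρW₀, hXW₀, hX'W₀⟩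
    obtain ⟨D', hD'α, hD'ρ, hD'X⟩ : ∃ D' : HHData K Q W₀ (p ^ (n - j + 1)),
        D'.α = D.α ^ p ^ j ∧ (∀ g (x : W₀), ((D'.ρ g x : W₀) : W) = D.ρ g (x : W)) ∧
        (∀ s (x : W₀), ((((D'.X - 1) ^ s) x : W₀) : W) = ((D.X ^ p ^ j - 1) ^ s) (x : W)) :=
      ⟨(D.pow (p ^ j) (p ^ (n - j + 1)) hoeq).res W₀ hInv', rfl, fun _ _ => rfl,
        fun s x => (D.pow (p ^ j) (p ^ (n - j + 1)) hoeq).res_sub_one_pow W₀ hInv' s x⟩
    have hW₀top : W₀ ≠ ⊤ := by
      intro htop
      have h2 : (D.X ^ 1) w₀ ∈ W₀ := by rw [htop]; trivial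
      have h3 := hπ _ h2
      rw [hπ0 1 Nat.one_pos hp2 w₀ hw₀W] at h3
      rcases smul_eq_zero.mp h3.symm with h | h
      · exact hcardK h
      · rw [pow_one] at h
        apply hw₀
        have := congrArg D.X' h
        rw [map_zero, ← Module.End.mul_apply, D.hX'X, Module.End.one_apply] at this
        exact this
    have hlt : finrank K W₀ < finrank K W := Submodule.finrank_lt hW₀top
    have hmv' : D'.Moves (p ^ (n - j)) := by
      by_contra h
      apply D.not_moves_of_fix_on hopos hirr (p ^ n) W₀ hW₀ne _ hmv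
      intro g w hw
      unfold HHData.Moves at h
      push Not at h
      have h2 := LinearMap.congr_fun (h g) ⟨w, hw⟩
      have h3 := congrArg Subtype.val h2
      rw [hD'α, ← pow_mul, ← pow_add, show j + (n - j) = n by omega, hD'ρ, hD'ρ] at h3
      exact h3
    haveI : Nontrivial W₀ := Submodule.nontrivial_iff_ne_bot.mpr hW₀ne
    haveI : CharP (Module.End K W₀) p :=
      charP_of_injective_algebraMap (algebraMap K (Module.End K W₀)).injective p
    have hex : ∃ k, (D'.X - 1) ^ k = 0 := by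
      refine ⟨p ^ (n - j + 1), ?_⟩
      rw [sub_pow_char_pow_of_commute p _ (Commute.one_right _), one_pow, D'.hXo, sub_self]
    obtain ⟨r₀, hr₀, hr₀min⟩ : ∃ r₀, (D'.X - 1) ^ r₀ = 0 ∧ ∀ k < r₀, (D'.X - 1) ^ k ≠ 0 :=
      ⟨Nat.find hex, Nat.find_spec hex, fun k hk => Nat.find_min hex hk⟩
    have hr₀pos : 0 < r₀ := by
      rcases Nat.eq_zero_or_pos r₀ with h | h
      · rw [h, pow_zero] at hr₀
        exact absurd hr₀ one_ne_zero
      · exact h
    have hne1 := hr₀min (r₀ - 1) (by omega)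
    obtain ⟨x, hx⟩ : ∃ x : W₀, ((D'.X - 1) ^ (r₀ - 1)) x ≠ 0 := by
      by_contra hcon
      push Not at hcon
      apply hne1
      apply LinearMap.ext; intro x
      rw [hcon x]; rfl
    have hx' : ((D.X ^ p ^ j - 1) ^ (r₀ - 1)) (x : W) ≠ 0 := by
      intro h
      apply hx
      apply Subtype.ext
      rw [hD'X, h]; rfl
    have h3 := sub_one_pow_ne_zero_of_component p j D.X (D.wtProj lam) W₀ _ hcardK hπ hπ0 hXW₀
      (r₀ - 1) x x.2 hx'
    rw [show r₀ - 1 + 1 = r₀ by omega] at h3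
    have hrle : p ^ j * r₀ ≤ r := by
      by_contra hlt'
      apply h3
      exact pow_eq_zero_of_le' _ r _ hr (by omega)
    have hconcl := IH Q W₀ hQ (by omega) (n - j) D' hmv' r₀ hr₀
    have hconcl' : HHConcl p q (n - j) r₀ D.ρ := by
      refine hconcl.mono le_rfl ?_
      rintro ⟨g, h, hgh⟩
      refine ⟨g, h, ?_⟩
      intro heq
      apply hgh
      apply LinearMap.ext; intro x
      apply Subtype.ext
      rw [Module.End.mul_apply, Module.End.mul_apply, hD'ρ, hD'ρ, hD'ρ, hD'ρ]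
      have := LinearMap.congr_fun heq (x : W)
      simpa using this
    exact hconcl'.lift hjn hrle

end step

end Cfsg.Agent.Helper64
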