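import Cfsg.Agent.Helper64.HHBStep2
import Cfsg.Agent.Helper64.HHBGroup

/-!
# Hall–Higman Theorem B, part 8: the critical case
-/

set_option autoImplicit false

namespace Cfsg.Agent.Helper64

open Module
open scoped commutatorElement

universe u v w

variable {K : Type u} [Field K] {Q : Type w} [Group Q] {W : Type v} [AddCommGroup W] [Module K W]

theorem end_commute_of_finrank_eq_one [FiniteDimensional K W] (h1 : finrank K W = 1)
    (A B : Module.End K W) : A * B = B * A := by
  obtain ⟨v, hv⟩ := finrank_eq_one_iff'.mp h1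
  have key : ∀ A : Module.End K W, ∃ c : K, A = c • (1 : Module.End K W) := by
    intro A
    obtain ⟨c, hc⟩ := hv.2 (A v)
    refine ⟨c, ?_⟩
    apply LinearMap.ext; intro w
    obtain ⟨d, rfl⟩ := hv.2 w
    rw [map_smul, ← hc, LinearMap.smul_apply, Module.End.one_apply, smul_comm]
  obtain ⟨a, rfl⟩ := key A
  obtain ⟨b, rfl⟩ := key B
  rw [smul_mul_smul_comm, smul_mul_smul_comm, mul_comm]

section final

variable (p q : ℕ) [hp : Fact p.Prime] [hq : Fact q.Prime] [CharP K p]
variable [Finite Q] [FiniteDimensional K W]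

/-- **The critical case.** -/
theorem step_final [IsAlgClosed K] [Nontrivial W] (hpq : p ≠ q) (hQ : IsPGroup q Q) (n : ℕ)
    (D : HHData K Q W (p ^ (n + 1))) (hmv : D.Moves (p ^ n)) (r : ℕ) (hr : (D.X - 1) ^ r = 0)
    (hirr : D.Irr)
    (hsc : ∀ z ∈ Subgroup.center Q, ∃ c : K, D.ρ z = c • (1 : Module.End K W))
    (hinj : Function.Injective D.ρ)
    (hmin : ∀ Q₁ : Subgroup Q, Q₁ ≠ ⊤ → (∀ g ∈ Q₁, D.α g ∈ Q₁) →
      ∀ g ∈ Q₁, D.ρ ((D.α ^ p ^ n) g) = D.ρ g) :
    HHConcl p q n r D.ρ := by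
  classical
  haveI : Fintype Q := Fintype.ofFinite Q
  have hqK : (q : K) ≠ 0 := natCast_ne_zero_of_ne p q hpq
  have hopos : 0 < p ^ (n + 1) := Nat.pos_of_ne_zero (pow_ne_zero _ hp.1.ne_zero)
  obtain ⟨β, hβ⟩ : ∃ β, β = D.α ^ p ^ n := ⟨_, rfl⟩
  rw [← hβ] at hmin
  have hβp : β ^ p = 1 := by rw [hβ, ← pow_mul, ← pow_succ]; exact D.hαo
  have hβne : ∃ g, β g ≠ g := by
    obtain ⟨g, hg⟩ := hmv
    refine ⟨g, fun h => hg ?_⟩
    rw [← hβ, h]
  have hcomm : ∀ g, D.α (β g) = β (D.α g) := fun g => by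
    rw [hβ]; exact (HHData.pow_comm_apply D.α _ g).symm
  have hmin' : ∀ Q₁ : Subgroup Q, Q₁ ≠ ⊤ → (∀ g ∈ Q₁, D.α g ∈ Q₁) → ∀ g ∈ Q₁, β g = g :=
    fun Q₁ h1 h2 g hg => hinj (hmin Q₁ h1 h2 g hg)
  have hC : ∀ c, β c = c → c ∈ Subgroup.center Q :=
    fix_le_center p q hpq hQ D.α β hcomm hβp hβne hmin'
  have hZα : ∀ z ∈ Subgroup.center Q, D.α z = z := by
    intro z hz
    apply hinj
    obtain ⟨c, hc⟩ := hsc z hz
    rw [← D.hα, hc, mul_smul_comm, mul_one, smul_mul_assoc, D.hXX']
  have hαpow : ∀ (k : ℕ), ∀ z ∈ Subgroup.center Q, (D.α ^ k) z = z := by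
    intro k
    induction k with
    | zero => intro z _; rfl
    | succ k ih =>
      intro z hz
      rw [pow_succ, MulAut.mul_apply, hZα z hz, ih z hz]
  -- Q is not abelian
  have hnonab : ∃ g h : Q, g * h ≠ h * g := by
    by_contra hcon
    push Not at hcon
    obtain ⟨g, hg⟩ := hβne
    apply hg
    rw [hβ]
    apply hαpow
    rw [Subgroup.mem_center_iff]
    intro h
    exact hcon h g
  obtain ⟨g₀, h₀, hg₀h₀⟩ := hnonab
  haveI : Nontrivial Q := ⟨⟨g₀ * h₀, h₀ * g₀, hg₀h₀⟩⟩
  haveI : Group.IsNilpotent Q := hQ.isNilpotent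
  -- the commutator subgroup is central
  have hder : commutator Q ≤ Subgroup.center Q := by
    intro g hg
    apply hC
    apply hmin' (commutator Q) (ne_of_lt (Group.IsSolvable.commutator_lt_top_of_nontrivial Q)) _ g hg
    intro g hg
    have hchar : (commutator Q).Characteristic := by
      rw [commutator_def]; exact Subgroup.commutator_characteristic ⊤ ⊤
    have := Subgroup.characteristic_iff_map_eq.mp hchar D.α
    rw [← this]
    exact ⟨g, hg, rfl⟩
  -- traces vanish off the centre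
  have hvan : ∀ (S : Submodule K W) (hS : ∀ g, ∀ x ∈ S, D.ρ g x ∈ S) (g : Q),
      g ∉ Subgroup.center Q → LinearMap.trace K S (HHData.subRep D.ρ S hS g) = 0 := by
    intro S hS g hg
    rw [Subgroup.mem_center_iff] at hg
    push Not at hg
    obtain ⟨h, hh⟩ := hg
    have hcmem : ⁅h, g⁆ ∈ Subgroup.center Q := by
      apply hder
      rw [commutator_def]
      exact Subgroup.commutator_mem_commutator (Subgroup.mem_top h) (Subgroup.mem_top g)
    have hc1 : ⁅h, g⁆ ≠ 1 := by
      intro h1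
      apply hh
      rw [commutatorElement_def] at h1
      calc h * g = (h * g * h⁻¹ * g⁻¹) * (g * h) := by group
        _ = g * h := by rw [h1, one_mul]
    obtain ⟨ζ, hζ⟩ := hsc _ hcmem
    have hζ1 : ζ ≠ 1 := by
      intro h1
      apply hc1
      apply hinj
      rw [hζ, h1, one_smul, map_one]
    have hconj : h * g * h⁻¹ = ⁅h, g⁆ * g := by rw [commutatorElement_def]; group
    have e1 : HHData.subRep D.ρ S hS (h * g * h⁻¹) = ζ • HHData.subRep D.ρ S hS g := by
      rw [hconj, map_mul]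
      have : HHData.subRep D.ρ S hS ⁅h, g⁆ = ζ • (1 : Module.End K S) := by
        apply LinearMap.ext; intro x
        apply Subtype.ext
        rw [HHData.subRep_apply, hζ]
        rfl
      rw [this, smul_mul_assoc, one_mul]
    have e2 : LinearMap.trace K S (HHData.subRep D.ρ S hS (h * g * h⁻¹))
        = LinearMap.trace K S (HHData.subRep D.ρ S hS g) := by
      rw [map_mul (HHData.subRep D.ρ S hS), map_mul (HHData.subRep D.ρ S hS),
        LinearMap.trace_mul_cycle, ← map_mul (HHData.subRep D.ρ S hS), inv_mul_cancel, map_one,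
        one_mul]
    rw [e1, map_smul, smul_eq_mul] at e2
    have e3 : (ζ - 1) * LinearMap.trace K S (HHData.subRep D.ρ S hS g) = 0 := by
      rw [sub_mul, e2, one_mul, sub_self]
    rcases mul_eq_zero.mp e3 with h | h
    · exact absurd (sub_eq_zero.mp h) hζ1
    · exact h
  -- elements `α g * g⁻¹` off the centre
  have hnc : ∀ g, g ∉ Subgroup.center Q → D.α g * g⁻¹ ∉ Subgroup.center Q := by
    intro g hg hz
    apply hg
    obtain ⟨z, hzdef⟩ : ∃ z, z = D.α g * g⁻¹ := ⟨_, rfl⟩
    rw [← hzdef] at hz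
    have hαg : D.α g = z * g := by rw [hzdef, inv_mul_cancel_right]
    have hpow : ∀ k : ℕ, (D.α ^ k) g = z ^ k * g := by
      intro k
      induction k with
      | zero => simp
      | succ k ih =>
        rw [pow_succ, MulAut.mul_apply, hαg, map_mul, ih, hαpow k z hz, pow_succ']
        group
    have h1 := hpow (p ^ (n + 1))
    rw [D.hαo, MulAut.one_apply] at h1
    have hz1 : z ^ p ^ (n + 1) = 1 := by
      have := h1.symm
      rwa [mul_eq_right] at this
    obtain ⟨k, hk⟩ := hQ z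
    have ho1 : orderOf z ∣ p ^ (n + 1) := orderOf_dvd_of_pow_eq_one hz1
    have ho2 : orderOf z ∣ q ^ k := orderOf_dvd_of_pow_eq_one hk
    have hcop : Nat.Coprime (p ^ (n + 1)) (q ^ k) :=
      Nat.Coprime.pow _ _ ((Nat.coprime_primes hp.1 hq.1).mpr hpq)
    have ho3 : orderOf z = 1 := Nat.eq_one_of_dvd_coprimes hcop ho1 ho2
    have hz1' : z = 1 := orderOf_eq_one_iff.mp ho3
    rw [hz1', one_mul] at hαg
    apply hC
    rw [hβ]
    have : ∀ k : ℕ, (D.α ^ k) g = g := by
      intro k
      induction k with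
      | zero => rfl
      | succ k ih => rw [pow_succ, MulAut.mul_apply, hαg, ih]
    exact this _
  -- the operator T
  obtain ⟨T, hT⟩ : ∃ T : Module.End K W, T = ∑ g : Q, D.ρ (D.α g * g⁻¹) := ⟨_, rfl⟩
  have hTρ : ∀ h, D.ρ (D.α h) * T = T * D.ρ h := by
    intro h
    rw [hT, Finset.mul_sum, Finset.sum_mul]
    rw [← Equiv.sum_comp (Equiv.mulLeft h) (fun g => D.ρ (D.α g * g⁻¹) * D.ρ h)]
    apply Finset.sum_congr rfl
    intro g _
    rw [Equiv.coe_mulLeft, ← map_mul, ← map_mul]
    congr 1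
    rw [map_mul]; group
  have hXT : D.X * T = T * D.X := by
    have h1 : D.X * T * D.X' = T := by
      rw [hT, Finset.mul_sum, Finset.sum_mul]
      rw [← Equiv.sum_comp D.α.toEquiv (fun g => D.ρ (D.α g * g⁻¹))]
      apply Finset.sum_congr rfl
      intro g _
      rw [D.hα]
      congr 1
      simp
    calc D.X * T = D.X * T * (D.X' * D.X) := by rw [D.hX'X, mul_one]
      _ = (D.X * T * D.X') * D.X := by simp only [mul_assoc]
      _ = T * D.X := by rw [h1]
  obtain ⟨c, hc⟩ := D.schur hirr (D.X' * T)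
    (by
      intro h
      rw [mul_assoc, ← hTρ, ← mul_assoc, D.X'_mul_rho, mul_assoc])
    (by
      rw [mul_assoc, ← hXT, ← mul_assoc, D.hX'X, one_mul, ← mul_assoc, D.hXX', one_mul])
  have hTc : T = c • D.X := by
    calc T = D.X * (D.X' * T) := by rw [← mul_assoc, D.hXX', one_mul]
      _ = c • D.X := by rw [hc, mul_smul_comm, mul_one]
  -- T ≠ 0
  obtain ⟨S, hS, hSne, hSirr⟩ := exists_irr_sub D.ρ
  obtain ⟨b, hb⟩ := exists_finrank_eq_prime_pow q hqK (Nat.card Q) Q hQ le_rfl S
    (HHData.subRep D.ρ S hS) hSirr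
  have hTne : T ≠ 0 := by
    intro hT0
    have h1 : (∑ g : Q, HHData.subRep D.ρ S hS (D.α g * g⁻¹)) = 0 := by
      apply LinearMap.ext; intro x
      apply Subtype.ext
      rw [LinearMap.sum_apply, Submodule.coe_sum]
      have : ∀ g : Q, ((HHData.subRep D.ρ S hS (D.α g * g⁻¹) x : S) : W)
          = D.ρ (D.α g * g⁻¹) (x : W) := fun g => rfl
      rw [Finset.sum_congr rfl (fun g _ => this g), ← LinearMap.sum_apply, ← hT, hT0]
      rfl
    have h2 := congrArg (LinearMap.trace K S) h1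
    rw [map_sum, map_zero] at h2
    have h3 : ∀ g : Q, LinearMap.trace K S (HHData.subRep D.ρ S hS (D.α g * g⁻¹))
        = if g ∈ Subgroup.center Q then ((q ^ b : ℕ) : K) else 0 := by
      intro g
      by_cases hg : g ∈ Subgroup.center Q
      · rw [if_pos hg, hZα g hg, mul_inv_cancel, map_one, LinearMap.trace_one, hb]
      · rw [if_neg hg]
        exact hvan S hS _ (hnc g hg)
    rw [Finset.sum_congr rfl (fun g _ => h3 g), ← Finset.sum_filter, Finset.sum_const,
      nsmul_eq_mul] at h2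
    rcases mul_eq_zero.mp h2 with h | h
    · have hcard : (Finset.univ.filter (fun g : Q => g ∈ Subgroup.center Q)).card
          = Nat.card (Subgroup.center Q) := by
        rw [Nat.card_eq_fintype_card, Fintype.card_subtype]
      rw [hcard] at h
      obtain ⟨k, hk⟩ := (hQ.to_subgroup (Subgroup.center Q)).exists_card_eq
      rw [hk, Nat.cast_pow] at h
      exact pow_ne_zero _ hqK h
    · rw [Nat.cast_pow] at h
      exact pow_ne_zero _ hqK h
  have hc0 : c ≠ 0 := by
    intro h
    apply hTne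
    rw [hTc, h, zero_smul]
  -- ρ is irreducible
  have hirrρ : ElemIrred D.ρ := by
    refine ⟨inferInstance, ?_⟩
    intro U hU
    apply hirr
    apply D.inv_of_X hopos U hU
    intro w hw
    have h1 : D.X w = c⁻¹ • T w := by
      rw [hTc, LinearMap.smul_apply, smul_smul, inv_mul_cancel₀ hc0, one_smul]
    rw [h1, hT, LinearMap.sum_apply]
    apply Submodule.smul_mem
    apply Submodule.sum_mem
    intro g _
    exact hU _ w hw
  haveI : D.ρ.IsIrreducible := isIrreducible_of_elemIrred hirrρ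
  by_cases hrbig : p ^ (n + 1) ≤ r
  · exact Or.inl hrbig
  have hQK : (Nat.card Q : K) ≠ 0 := by
    obtain ⟨k, hk⟩ := hQ.exists_card_eq
    rw [hk, Nat.cast_pow]
    exact pow_ne_zero _ hqK
  have hfree : ∀ g i, 0 < i → i < p ^ (n + 1) → (D.α ^ i) g = g →
      ∃ c : K, D.ρ g = c • (1 : Module.End K W) := by
    intro g i hi0 hilt hfix
    apply hsc
    apply hC
    have hmem : D.α ^ i ∈ MulAction.stabilizer (MulAut Q) g := by
      rw [MulAction.mem_stabilizer_iff, MulAut.smul_def]; exact hfix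
    have hndvd : ¬ p ^ (n + 1) ∣ i := Nat.not_dvd_of_pos_of_lt hi0 hilt
    have := cyc_pow_mem (MulAction.stabilizer (MulAut Q) g) D.α p (n + 1) (n + 1) i D.hαo hmem
      hndvd (by omega)
    rw [Nat.add_sub_cancel, MulAction.mem_stabilizer_iff, MulAut.smul_def] at this
    rw [hβ]; exact this
  have hN : 2 ≤ finrank K W := by
    by_contra hlt
    have hpos : 0 < finrank K W := Module.finrank_pos
    have h1 : finrank K W = 1 := by omega
    apply hg₀h₀
    apply hinj
    rw [map_mul, map_mul]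
    exact end_commute_of_finrank_eq_one h1 _ _
  obtain ⟨hfin, hreq⟩ := critical_linear p (n + 1) D.ρ hQK D.X D.X' D.hXX' D.hX'X D.α D.hα D.hαo
    D.hXo hfree r hr (by omega) hN
  obtain ⟨b', hb'⟩ := exists_finrank_eq_prime_pow q hqK (Nat.card Q) Q hQ le_rfl W D.ρ hirrρ
  have hb'1 : 1 ≤ b' := by
    by_contra h
    have : b' = 0 := by omega
    rw [this, pow_zero] at hb'
    omega
  right
  refine ⟨n + 1, b', by omega, le_rfl, hb'1, by rw [← hfin, hb'], ⟨g₀, h₀, ?_⟩, ?_⟩
  · intro h
    apply hg₀h₀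
    apply hinj
    rw [map_mul, map_mul, h]
  · rw [Nat.sub_self, pow_zero, one_mul, hreq]

end final

end Cfsg.Agent.Helper64
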