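import Cfsg.Agent.Helper64.HHBLin

/-!
# Hall–Higman Theorem B, part 5: weights of the centre
-/

set_option autoImplicit false

namespace Cfsg.Agent.Helper64

open Module

universe u v w

section general

variable {K : Type u} [Field K] {Q : Type w} [Group Q] {W : Type v} [AddCommGroup W] [Module K W]

theorem schur_elem [IsAlgClosed K] [FiniteDimensional K W] (ρ : Representation K Q W)
    (hirr : ElemIrred ρ) (Y : Module.End K W) (hY : ∀ g, Y * ρ g = ρ g * Y) :
    ∃ c : K, Y = c • (1 : Module.End K W) := by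
  haveI := hirr.1
  obtain ⟨c, hc⟩ := Module.End.exists_eigenvalue Y
  refine ⟨c, ?_⟩
  rcases hirr.2 (Module.End.eigenspace Y c) (by
    intro g w hw
    rw [Module.End.mem_eigenspace_iff] at hw ⊢
    have := LinearMap.congr_fun (hY g) w
    simp only [Module.End.mul_apply] at this
    rw [this, hw, map_smul]) with h | h
  · exact absurd h hc
  · apply LinearMap.ext; intro w
    have : w ∈ Module.End.eigenspace Y c := by rw [h]; trivial
    rw [Module.End.mem_eigenspace_iff] at this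
    rw [this, LinearMap.smul_apply, Module.End.one_apply]

theorem elemIrred_subRep_of_min (ρ : Representation K Q W) (S : Submodule K W)
    (hS : ∀ g, ∀ x ∈ S, ρ g x ∈ S) (hne : S ≠ ⊥)
    (hmin : ∀ U' : Submodule K W, U' ≠ ⊥ → (∀ g, ∀ x ∈ U', ρ g x ∈ U') → U' ≤ S → U' = S) :
    ElemIrred (HHData.subRep ρ S hS) := by
  refine ⟨Submodule.nontrivial_iff_ne_bot.mpr hne, ?_⟩
  intro U hU
  by_cases hU0 : U = ⊥
  · exact Or.inl hU0
  right
  have h1 : U.map S.subtype ≠ ⊥ := by
    intro h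
    apply hU0
    rw [Submodule.eq_bot_iff]
    intro y hy
    have : (y : W) ∈ U.map S.subtype := ⟨y, hy, rfl⟩
    rw [h, Submodule.mem_bot] at this
    exact Subtype.ext this
  have h2 : ∀ g, ∀ x ∈ U.map S.subtype, ρ g x ∈ U.map S.subtype := by
    rintro g _ ⟨y, hy, rfl⟩
    exact ⟨HHData.subRep ρ S hS g y, hU g y hy, rfl⟩
  have h3 := hmin _ h1 h2 (Submodule.map_subtype_le S U)
  rw [eq_top_iff]
  intro y _
  have : (y : W) ∈ U.map S.subtype := by rw [h3]; exact y.2
  obtain ⟨y', hy', hyy⟩ := this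
  have : y' = y := Subtype.ext hyy
  rwa [← this]

theorem exists_irr_sub [FiniteDimensional K W] [Nontrivial W] (ρ : Representation K Q W) :
    ∃ (S : Submodule K W) (hS : ∀ g, ∀ x ∈ S, ρ g x ∈ S), S ≠ ⊥ ∧
      ElemIrred (HHData.subRep ρ S hS) := by
  obtain ⟨S, hne, hS, hmin⟩ := exists_min_submodule (K := K) (W := W)
    (fun U => ∀ g, ∀ x ∈ U, ρ g x ∈ U) ⟨⊤, top_ne_bot, fun _ _ _ => trivial⟩
  exact ⟨S, hS, hne, elemIrred_subRep_of_min ρ S hS hne hmin⟩

/-- A common eigenvector of the centre. -/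
theorem exists_weight [IsAlgClosed K] [FiniteDimensional K W] [Nontrivial W]
    (ρ : Representation K Q W) :
    ∃ (lam : Q → K) (w₀ : W), w₀ ≠ 0 ∧ lam 1 = 1 ∧
      (∀ z ∈ Subgroup.center Q, ∀ z' ∈ Subgroup.center Q, lam (z * z') = lam z * lam z') ∧
      ∀ z ∈ Subgroup.center Q, ρ z w₀ = lam z • w₀ := by
  classical
  obtain ⟨ρZ, hρZ⟩ : ∃ ρZ : Representation K (Subgroup.center Q) W,
      ρZ = ρ.comp (Subgroup.center Q).subtype := ⟨_, rfl⟩
  have hρZa : ∀ z : Subgroup.center Q, ρZ z = ρ (z : Q) := fun z => by rw [hρZ]; rfl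
  obtain ⟨S, hS, hne, hirr⟩ := exists_irr_sub ρZ
  have hsc : ∀ z : Subgroup.center Q, ∃ c : K,
      HHData.subRep ρZ S hS z = c • (1 : Module.End K S) := by
    intro z
    apply schur_elem _ hirr
    intro z'
    rw [← map_mul, ← map_mul]
    congr 1
    exact Subtype.ext (Subgroup.mem_center_iff.mp z'.2 (z : Q))
  choose c hc using hsc
  obtain ⟨w₀, hw₀S, hw₀⟩ := (Submodule.ne_bot_iff S).mp hne
  have key : ∀ (z : Q) (hz : z ∈ Subgroup.center Q), ρ z w₀ = c ⟨z, hz⟩ • w₀ := by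
    intro z hz
    have h1 := LinearMap.congr_fun (hc ⟨z, hz⟩) ⟨w₀, hw₀S⟩
    have h2 := congrArg Subtype.val h1
    rw [HHData.subRep_apply, hρZa] at h2
    simpa using h2
  refine ⟨fun g => if h : g ∈ Subgroup.center Q then c ⟨g, h⟩ else 0, w₀, hw₀, ?_, ?_, ?_⟩
  · have h1 := key 1 (Subgroup.one_mem _)
    rw [map_one, Module.End.one_apply] at h1
    have h2 : (c ⟨1, Subgroup.one_mem _⟩ - 1) • w₀ = 0 := by
      rw [sub_smul, one_smul, ← h1, sub_self]
    rcases smul_eq_zero.mp h2 with h | h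
    · simp only [Subgroup.one_mem, dif_pos]
      exact sub_eq_zero.mp h
    · exact absurd h hw₀
  · intro z hz z' hz'
    simp only [hz, hz', Subgroup.mul_mem _ hz hz', dif_pos]
    have h1 := key (z * z') (Subgroup.mul_mem _ hz hz')
    rw [map_mul, Module.End.mul_apply, key z' hz', map_smul, key z hz, smul_smul] at h1
    have h2 : (c ⟨z * z', Subgroup.mul_mem _ hz hz'⟩ - c ⟨z, hz⟩ * c ⟨z', hz'⟩) • w₀ = 0 := by
      rw [sub_smul, ← h1, mul_comm, sub_self]
    rcases smul_eq_zero.mp h2 with h | h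
    · exact sub_eq_zero.mp h
    · exact absurd h hw₀
  · intro z hz
    simp only [hz, dif_pos]
    exact key z hz

theorem aut_mem_center (σ : MulAut Q) (z : Q) (hz : z ∈ Subgroup.center Q) :
    σ z ∈ Subgroup.center Q := by
  rw [Subgroup.mem_center_iff] at hz ⊢
  intro g
  obtain ⟨g', rfl⟩ := σ.surjective g
  rw [← map_mul, ← map_mul, hz]

end general

namespace HHData

variable {K : Type u} [Field K] {Q : Type w} [Group Q] {W : Type v} [AddCommGroup W] [Module K W]
  {o : ℕ}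

/-- The weight space of `lam` for the centre of `Q`. -/
def wtSpace (D : HHData K Q W o) (lam : Q → K) : Submodule K W where
  carrier := {w | ∀ z ∈ Subgroup.center Q, D.ρ z w = lam z • w}
  add_mem' := by
    intro a b ha hb z hz
    rw [map_add, ha z hz, hb z hz, smul_add]
  zero_mem' := by
    intro z _
    rw [map_zero, smul_zero]
  smul_mem' := by
    intro c a ha z hz
    rw [map_smul, ha z hz, smul_comm]

theorem mem_wtSpace (D : HHData K Q W o) (lam : Q → K) (w : W) :
    w ∈ D.wtSpace lam ↔ ∀ z ∈ Subgroup.center Q, D.ρ z w = lam z • w := Iff.rfl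

theorem rho_mem_wtSpace (D : HHData K Q W o) (lam : Q → K) (g : Q) (w : W)
    (hw : w ∈ D.wtSpace lam) : D.ρ g w ∈ D.wtSpace lam := by
  intro z hz
  have h1 : D.ρ z * D.ρ g = D.ρ g * D.ρ z := by
    rw [← map_mul, ← map_mul, (Subgroup.mem_center_iff.mp hz g)]
  have := LinearMap.congr_fun h1 w
  simp only [Module.End.mul_apply] at this
  rw [this, hw z hz, map_smul]

/-- `X ^ i` maps the `lam`-weight space into the `lam ∘ (α^i)⁻¹`-weight space. -/
theorem pow_mem_wtSpace (D : HHData K Q W o) (lam : Q → K) (i : ℕ) (w : W)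
    (hw : w ∈ D.wtSpace lam) :
    (D.X ^ i) w ∈ D.wtSpace (fun z => lam ((D.α ^ i)⁻¹ z)) := by
  intro z hz
  have h1 := D.rho_mul_pow i ((D.α ^ i)⁻¹ z)
  rw [MulAut.apply_inv_self] at h1
  have := LinearMap.congr_fun h1 w
  simp only [Module.End.mul_apply] at this
  rw [this, hw _ (aut_mem_center _ z hz), map_smul]

/-- `X' ^ i` maps the `lam`-weight space into the `lam ∘ α^i`-weight space. -/
theorem pow'_mem_wtSpace (D : HHData K Q W o) (lam : Q → K) (i : ℕ) (w : W)
    (hw : w ∈ D.wtSpace lam) :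
    (D.X' ^ i) w ∈ D.wtSpace (fun z => lam ((D.α ^ i) z)) := by
  intro z hz
  -- ρ z X'^i = X'^i ρ(α^i z)
  have h1 : D.ρ z * D.X' ^ i = D.X' ^ i * D.ρ ((D.α ^ i) z) := by
    rw [← D.conj_pow, ← mul_assoc, ← mul_assoc, D.pow_mul_pow', one_mul]
  have := LinearMap.congr_fun h1 w
  simp only [Module.End.mul_apply] at this
  rw [this, hw _ (aut_mem_center _ z hz), map_smul]

variable [Fintype (Subgroup.center Q)]

/-- The (unnormalised) projection onto the `lam`-weight space. -/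
noncomputable def wtProj (D : HHData K Q W o) (lam : Q → K) : Module.End K W :=
  ∑ z : Subgroup.center Q, lam ((z : Q)⁻¹) • D.ρ (z : Q)

theorem rho_mul_wtProj (D : HHData K Q W o) (lam : Q → K)
    (hmul : ∀ z ∈ Subgroup.center Q, ∀ z' ∈ Subgroup.center Q, lam (z * z') = lam z * lam z')
    (z₀ : Q) (hz₀ : z₀ ∈ Subgroup.center Q) :
    D.ρ z₀ * D.wtProj lam = lam z₀ • D.wtProj lam := by
  unfold wtProj
  rw [Finset.mul_sum, Finset.smul_sum]
  rw [← Equiv.sum_comp (Equiv.mulLeft (⟨z₀, hz₀⟩ : Subgroup.center Q))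
    (fun z => lam z₀ • (lam ((z : Q)⁻¹) • D.ρ (z : Q)))]
  apply Finset.sum_congr rfl
  intro z _
  simp only [Equiv.coe_mulLeft, Subgroup.coe_mul]
  rw [mul_smul_comm, ← map_mul, smul_smul]
  congr 1
  have hz' : z₀ * (z : Q) ∈ Subgroup.center Q := Subgroup.mul_mem _ hz₀ z.2
  rw [← hmul z₀ hz₀ _ (Subgroup.inv_mem _ hz')]
  congr 1
  rw [← Subgroup.mem_center_iff.mp hz₀ _]; group

theorem wtProj_mul_rho (D : HHData K Q W o) (lam : Q → K) (g : Q) :
    D.wtProj lam * D.ρ g = D.ρ g * D.wtProj lam := by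
  unfold wtProj
  rw [Finset.mul_sum, Finset.sum_mul]
  apply Finset.sum_congr rfl
  intro z _
  rw [smul_mul_assoc, mul_smul_comm, ← map_mul, ← map_mul,
    (Subgroup.mem_center_iff.mp z.2 g)]

theorem wtProj_apply_of_mem (D : HHData K Q W o) (lam : Q → K) (h1 : lam 1 = 1)
    (hmul : ∀ z ∈ Subgroup.center Q, ∀ z' ∈ Subgroup.center Q, lam (z * z') = lam z * lam z')
    (w : W) (hw : w ∈ D.wtSpace lam) :
    D.wtProj lam w = (Nat.card (Subgroup.center Q) : K) • w := by
  unfold wtProj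
  rw [LinearMap.sum_apply]
  have h2 : ∀ z : Subgroup.center Q, (lam ((z : Q)⁻¹) • D.ρ (z : Q)) w = w := by
    intro z
    rw [LinearMap.smul_apply, hw z z.2, smul_smul,
      ← hmul _ (Subgroup.inv_mem _ z.2) _ z.2, inv_mul_cancel, h1, one_smul]
  rw [Finset.sum_congr rfl (fun z _ => h2 z), Finset.sum_const, Finset.card_univ,
    Nat.card_eq_fintype_card, ← Nat.cast_smul_eq_nsmul K]

theorem wtProj_mem (D : HHData K Q W o) (lam : Q → K)
    (hmul : ∀ z ∈ Subgroup.center Q, ∀ z' ∈ Subgroup.center Q, lam (z * z') = lam z * lam z')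
    (w : W) : D.wtProj lam w ∈ D.wtSpace lam := by
  intro z hz
  have := LinearMap.congr_fun (D.rho_mul_wtProj lam hmul z hz) w
  simpa using this

/-- The projection kills other weight spaces. -/
theorem wtProj_apply_of_ne (D : HHData K Q W o) (lam mu : Q → K)
    (hmul : ∀ z ∈ Subgroup.center Q, ∀ z' ∈ Subgroup.center Q, lam (z * z') = lam z * lam z')
    (z₀ : Q) (hz₀ : z₀ ∈ Subgroup.center Q) (hne : mu z₀ ≠ lam z₀) (w : W)
    (hw : w ∈ D.wtSpace mu) : D.wtProj lam w = 0 := by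
  have h1 := D.wtProj_mem lam hmul w z₀ hz₀
  have h2 := LinearMap.congr_fun (D.wtProj_mul_rho lam z₀) w
  simp only [Module.End.mul_apply] at h2
  rw [hw z₀ hz₀, map_smul, h1] at h2
  have h3 : (mu z₀ - lam z₀) • D.wtProj lam w = 0 := by rw [sub_smul, h2, sub_self]
  rcases smul_eq_zero.mp h3 with h | h
  · exact absurd (sub_eq_zero.mp h) hne
  · exact h

end HHData

end Cfsg.Agent.Helper64
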