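import Mathlib

/-!
# Hall–Higman engine, part 3: Burnside's density theorem for group representations

For an irreducible finite-dimensional representation `ρ` of a group over an algebraically closed
field, the image of the group algebra is all of `End V`.
-/

set_option autoImplicit false

namespace Cfsg.Agent.Helper64

open Module

universe u v w

variable {K : Type u} [Field K] {Q : Type w} [Group Q] {V : Type v} [AddCommGroup V] [Module K V]

/-- Elementary form of irreducibility. -/
def ElemIrred (ρ : Representation K Q V) : Prop :=
  Nontrivial V ∧ ∀ W : Submodule K V, (∀ g : Q, ∀ v ∈ W, ρ g v ∈ W) → W = ⊥ ∨ W = ⊤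

theorem isIrreducible_of_elemIrred {ρ : Representation K Q V} (h : ElemIrred ρ) :
    ρ.IsIrreducible := by
  obtain ⟨hnt, hW⟩ := h
  refine { exists_pair_ne := ⟨⊥, ⊤, ?_⟩, eq_bot_or_eq_top := ?_ }
  · intro hbt
    have h1 : (⊥ : Subrepresentation ρ).toSubmodule = (⊤ : Subrepresentation ρ).toSubmodule := by
      rw [hbt]
    exact bot_ne_top (α := Submodule K V) h1
  · intro σ
    rcases hW σ.toSubmodule (fun g v hv => σ.apply_mem_toSubmodule g hv) with h | h
    · left; exact Subrepresentation.toSubmodule_injective h
    · right; exact Subrepresentation.toSubmodule_injective h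

theorem elemIrred_of_isIrreducible {ρ : Representation K Q V} [hρ : ρ.IsIrreducible] :
    ElemIrred ρ := by
  constructor
  · by_contra hnt
    rw [not_nontrivial_iff_subsingleton] at hnt
    obtain ⟨a, b, hab⟩ := hρ.exists_pair_ne
    apply hab
    apply Subrepresentation.toSubmodule_injective
    exact Subsingleton.elim _ _
  · intro W hW
    rcases hρ.eq_bot_or_eq_top ⟨W, fun g v hv => hW g v hv⟩ with h | h
    · left; exact congrArg Subrepresentation.toSubmodule h
    · right; exact congrArg Subrepresentation.toSubmodule h

/-- **Burnside's theorem.** -/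
theorem burnside_surjective [IsAlgClosed K] [FiniteDimensional K V] (ρ : Representation K Q V)
    [ρ.IsIrreducible] : Function.Surjective ρ.asAlgebraHom := by
  intro S
  have hbij := IsSimpleModule.algebraMap_end_bijective_of_isAlgClosed
    (A := MonoidAlgebra K Q) (V := ρ.asModule) K
  haveI : Module.Finite (Module.End (MonoidAlgebra K Q) ρ.asModule) ρ.asModule :=
    Module.Finite.of_restrictScalars_finite K _ _
  let f : Module.End (Module.End (MonoidAlgebra K Q) ρ.asModule) ρ.asModule :=
    { toFun := fun m => ρ.asModuleEquiv.symm (S (ρ.asModuleEquiv m))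
      map_add' := by intro a b; simp
      map_smul' := by
        intro φ m
        obtain ⟨c, rfl⟩ := hbij.2 φ
        simp only [RingHom.id_apply]
        rw [algebraMap_smul, algebraMap_smul]
        simp }
  obtain ⟨r, hr⟩ := Module.Finite.toModuleEnd_moduleEnd_surjective
    (R := MonoidAlgebra K Q) (M := ρ.asModule) f
  refine ⟨r, ?_⟩
  apply LinearMap.ext
  intro v
  have h : ρ.asModuleEquiv (r • (ρ.asModuleEquiv.symm v))
      = ρ.asModuleEquiv (f (ρ.asModuleEquiv.symm v)) := by
    rw [← hr]; rfl
  rw [Representation.asModuleEquiv_map_smul, LinearEquiv.apply_symm_apply] at h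
  rw [h]
  simp [f]

end Cfsg.Agent.Helper64
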