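import Cfsg.Agent.Helper64.HHCCrit

/-!
# Quadratic pairs of commutators, part 8: the linear theorem

Let `K` be algebraically closed of odd characteristic `p`, `Q` a finite `q`-group (`q ≠ p`), `B` a
finite `p`-group acting on `Q` and compatibly on a finite-dimensional `Q`-module `W`.  If
`(a - 1)(a' - 1) = 0` and `(a - 1)(b - 1)(b' - 1) = 0` on `W` for all `a, a' ∈ B'`, `b, b' ∈ B`,
then `B'` acts trivially on `ρ(Q)`.
-/

set_option autoImplicit false

namespace Cfsg.Agent.Helper64

open Module

universe u v w x

variable {K : Type u} [Field K] {B : Type x} [Group B]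

theorem b_core (p q : ℕ) [hp : Fact p.Prime] [hq : Fact q.Prime] (hp2 : p ≠ 2) (hpq : p ≠ q)
    [CharP K p] [IsAlgClosed K] [Finite B] (hB : IsPGroup p B) :
    ∀ M : ℕ, BHyp.{u, v, w, x} K B q M := by
  intro M
  induction M with
  | zero =>
    intro Q' _ _ W' _ _ _ hQ hM
    exfalso
    have := Nat.card_pos (α := Q')
    omega
  | succ M IH =>
    intro Q _ _ W _ _ _ hQ hM D hquad
    by_cases hW : Nontrivial W
    swap
    · rw [not_nontrivial_iff_subsingleton] at hW
      intro a ha g
      apply LinearMap.ext; intro w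
      exact Subsingleton.elim _ _
    by_cases hirr : D.Irr
    · rcases bstep_weights p q hp2 hpq hQ hB D hquad hirr with h | hsc
      · exact h
      by_cases hinj : Function.Injective D.ρ
      · apply bstep_final p q hp2 hpq hQ hB D hquad hsc hinj
        intro Q₁ h1 h2
        exact bstep_subgroup q M IH hQ hM D hquad Q₁ h1 h2
      · exact bstep_kernel q M IH hQ hM D hquad hinj
    · unfold BData.Irr at hirr
      push Not at hirr
      obtain ⟨U, hU, h0, h1⟩ := hirr
      exact bstep_reducible p q hpq M IH hQ hM D hquad U hU h0 h1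

/-- **Quadratic pairs of commutators, linear form.** -/
theorem b_linear (p q : ℕ) [hp : Fact p.Prime] [hq : Fact q.Prime] (hp2 : p ≠ 2) (hpq : p ≠ q)
    [CharP K p] [IsAlgClosed K] [Finite B] (hB : IsPGroup p B) {Q : Type w} [Group Q] [Finite Q]
    {W : Type v} [AddCommGroup W] [Module K W] [FiniteDimensional K W] (hQ : IsPGroup q Q)
    (D : BData K Q W B) (hquad : QuadRep D.σ) :
    ∀ a ∈ commutator B, ∀ g, D.ρ (D.φ a g) = D.ρ g :=
  b_core p q hp2 hpq hB _ Q W hQ le_rfl D hquad

end Cfsg.Agent.Helper64
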