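import Mathlib
import Cfsg.Agent.Helper64.HHBGroup

/-!
# Quadratic pairs of commutators, part 2: group-theoretic lemmas

* `fix_le_center_family`: the family version of `fix_le_center`.
* `aut_fix_of_mul_inv_mem_center`: an automorphism of order prime to `q` of a `q`-group that fixes
  the centre pointwise fixes every element it moves by a central factor.
-/

set_option autoImplicit false

namespace Cfsg.Agent.Helper64

variable {Q : Type*} [Group Q]

theorem fix_le_center_family [Finite Q] (p q : ℕ) [hp : Fact p.Prime] [hq : Fact q.Prime]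
    (hpq : p ≠ q) (hQ : IsPGroup q Q) (S : Set (MulAut Q)) (β : MulAut Q)
    (hcomm : ∀ α ∈ S, ∀ g, α (β g) = β (α g)) (hβp : β ^ p = 1)
    (hβ : ∃ g, β g ≠ g)
    (hmin : ∀ Q₁ : Subgroup Q, Q₁ ≠ ⊤ → (∀ α ∈ S, ∀ g ∈ Q₁, α g ∈ Q₁) → ∀ g ∈ Q₁, β g = g) :
    ∀ c, β c = c → c ∈ Subgroup.center Q := by
  obtain ⟨C, hC⟩ : ∃ C, C = fixSubgroup β := ⟨_, rfl⟩
  have hCmem : ∀ g, g ∈ C ↔ β g = g := fun g => by rw [hC]; exact Iff.rfl
  have hCα : ∀ α ∈ S, ∀ g, α g ∈ C ↔ g ∈ C := by
    intro α hα g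
    rw [hCmem, hCmem, ← hcomm α hα]
    exact α.injective.eq_iff
  have hCtop : C ≠ ⊤ := by
    intro h
    obtain ⟨g, hg⟩ := hβ
    apply hg
    rw [← hCmem, h]; trivial
  haveI : Group.IsNilpotent Q := hQ.isNilpotent
  -- C is normal
  have hCn : C.Normal := by
    have hN : ∀ α ∈ S, ∀ g ∈ Subgroup.normalizer (C : Set Q),
        α g ∈ Subgroup.normalizer (C : Set Q) := by
      intro α hα g hg
      rw [Subgroup.mem_normalizer_iff] at hg ⊢
      intro h
      obtain ⟨h', rfl⟩ := α.surjective h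
      rw [← map_inv, ← map_mul, ← map_mul, hCα α hα, hCα α hα]
      exact hg h'
    have hNtop : Subgroup.normalizer (C : Set Q) = ⊤ := by
      by_contra hne
      have h1 := hmin _ hne hN
      have h2 : Subgroup.normalizer (C : Set Q) ≤ C := fun g hg => (hCmem g).mpr (h1 g hg)
      have h3 := Group.normalizerCondition_of_isNilpotent (G := Q) C (lt_top_iff_ne_top.mpr hCtop)
      exact absurd h2 (not_le_of_gt h3)
    exact Subgroup.normalizer_eq_top_iff.mp hNtop
  -- the commutator set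
  obtain ⟨T, hT⟩ : ∃ T : Set Q, T = {t | ∃ g, t = g⁻¹ * β g} := ⟨_, rfl⟩
  have hTα : ∀ α ∈ S, (α : Q →* Q) '' T ⊆ T := by
    rintro α hα _ ⟨t, ht, rfl⟩
    rw [hT] at ht ⊢
    obtain ⟨g, rfl⟩ := ht
    refine ⟨α g, ?_⟩
    show α (g⁻¹ * β g) = (α g)⁻¹ * β (α g)
    rw [map_mul, map_inv, hcomm α hα]
  have hQ₀α : ∀ α ∈ S, ∀ g ∈ Subgroup.normalClosure T, α g ∈ Subgroup.normalClosure T := by
    intro α hα g hg
    have h1 : α g ∈ (Subgroup.normalClosure T).map (α : Q →* Q) := ⟨g, hg, rfl⟩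
    rw [Subgroup.map_normalClosure T (α : Q →* Q) α.surjective] at h1
    exact Subgroup.normalClosure_mono (hTα α hα) h1
  have hQ₀top : Subgroup.normalClosure T = ⊤ := by
    by_contra hne
    have h1 := hmin _ hne hQ₀α
    obtain ⟨g, hg⟩ := hβ
    apply hg
    obtain ⟨t, ht⟩ : ∃ t, t = g⁻¹ * β g := ⟨_, rfl⟩
    have htT : t ∈ Subgroup.normalClosure T :=
      Subgroup.subset_normalClosure (by rw [hT]; exact ⟨g, ht⟩)
    have hβt : β t = t := h1 t htT
    have hβg : β g = g * t := by rw [ht, mul_inv_cancel_left]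
    have hpow : ∀ k : ℕ, (β ^ k) g = g * t ^ k := by
      intro k
      induction k with
      | zero => simp
      | succ k ih =>
        rw [pow_succ', MulAut.mul_apply, ih, map_mul, map_pow, hβt, hβg, pow_succ', mul_assoc]
    have h2 := hpow p
    rw [hβp, MulAut.one_apply] at h2
    have htp : t ^ p = 1 := by
      have := h2.symm
      rwa [mul_eq_left] at this
    obtain ⟨k, hk⟩ := hQ t
    have ho1 : orderOf t ∣ p := orderOf_dvd_of_pow_eq_one htp
    have ho2 : orderOf t ∣ q ^ k := orderOf_dvd_of_pow_eq_one hk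
    have hcop : Nat.Coprime p (q ^ k) :=
      Nat.Coprime.pow_right k ((Nat.coprime_primes hp.1 hq.1).mpr hpq)
    have ho3 : orderOf t = 1 := Nat.eq_one_of_dvd_coprimes hcop ho1 ho2
    rw [hβg, orderOf_eq_one_iff.mp ho3, mul_one]
  -- T centralizes C
  haveI := hCn
  haveI : (Subgroup.centralizer (C : Set Q)).Normal := Subgroup.normal_centralizer
  have hTC : T ⊆ (Subgroup.centralizer (C : Set Q) : Set Q) := by
    intro t ht
    rw [hT] at ht
    obtain ⟨g, rfl⟩ := ht
    rw [SetLike.mem_coe, Subgroup.mem_centralizer_iff]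
    intro c hc
    have h1 : g * c * g⁻¹ ∈ C := hCn.conj_mem c hc g
    rw [hCmem, map_mul, map_mul, map_inv, (hCmem c).mp hc] at h1
    have h2 : β g * c = g * c * g⁻¹ * β g := by
      rw [← h1]; group
    calc c * (g⁻¹ * β g) = g⁻¹ * (g * c * g⁻¹ * β g) := by group
      _ = g⁻¹ * (β g * c) := by rw [h2]
      _ = g⁻¹ * β g * c := by group
  have hle := Subgroup.normalClosure_le_normal hTC
  rw [hQ₀top] at hle
  intro c hc
  rw [Subgroup.mem_center_iff]
  intro g
  have hg : g ∈ Subgroup.centralizer (C : Set Q) := hle (Subgroup.mem_top g)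
  rw [Subgroup.mem_centralizer_iff] at hg
  exact (hg c ((hCmem c).mpr hc)).symm

/-- An automorphism `γ` of a `q`-group, of order prime to `q`, fixing the centre pointwise: if
`γ g g⁻¹` is central then `γ g = g`. -/
theorem aut_fix_of_mul_inv_mem_center (q : ℕ) (hQ : IsPGroup q Q) (γ : MulAut Q) (m : ℕ)
    (hm : Nat.Coprime m q) (hγm : γ ^ m = 1) (hγZ : ∀ z ∈ Subgroup.center Q, γ z = z) (g : Q)
    (hg : γ g * g⁻¹ ∈ Subgroup.center Q) : γ g = g := by
  obtain ⟨z, hzdef⟩ : ∃ z, z = γ g * g⁻¹ := ⟨_, rfl⟩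
  rw [← hzdef] at hg
  have hγg : γ g = z * g := by rw [hzdef, inv_mul_cancel_right]
  have hpow : ∀ k : ℕ, (γ ^ k) g = z ^ k * g := by
    intro k
    induction k with
    | zero => simp
    | succ k ih =>
      rw [pow_succ', MulAut.mul_apply, ih, map_mul, map_pow, hγZ z hg, hγg, pow_succ, mul_assoc]
  have h1 := hpow m
  rw [hγm, MulAut.one_apply] at h1
  have hz1 : z ^ m = 1 := by
    have := h1.symm
    rwa [mul_eq_right] at this
  obtain ⟨k, hk⟩ := hQ z
  have ho1 : orderOf z ∣ m := orderOf_dvd_of_pow_eq_one hz1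
  have ho2 : orderOf z ∣ q ^ k := orderOf_dvd_of_pow_eq_one hk
  have ho3 : orderOf z = 1 := Nat.eq_one_of_dvd_coprimes (Nat.Coprime.pow_right k hm) ho1 ho2
  rw [hγg, orderOf_eq_one_iff.mp ho3, one_mul]

/-- In a group whose image under a homomorphism is commutative, the commutator subgroup lies in
the kernel. -/
theorem commutator_le_ker_of_commute {B : Type*} [Group B] {A : Type*} [Group A] (f : B →* A)
    (h : ∀ b b' : B, f b * f b' = f b' * f b) : commutator B ≤ f.ker := by
  rw [commutator_eq_closure, Subgroup.closure_le]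
  rintro _ ⟨b, b', rfl⟩
  rw [SetLike.mem_coe, MonoidHom.mem_ker, commutatorElement_def, map_mul, map_mul, map_mul,
    map_inv, map_inv, h b b']
  group

end Cfsg.Agent.Helper64
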