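import Cfsg.Agent.Helper64.HHCFinal
import Cfsg.Agent.Helper64.HHCGroup

/-!
# Quadratic pairs of commutators, part 6: small linear groups

* `HHData.irr_res_of_min`: the restriction to a minimal invariant subspace is irreducible.
* `card_quotient_center_le`: if the trace vanishes off the centre, `|Q : Z(Q)| ≤ (dim W)²`.
* `aut_eq_pow_of_card_le_four`: if `|Q : Z(Q)| ≤ 4` and `β` is an automorphism of order three
  with `Fix β ≤ Z(Q)`, every automorphism of order prime to `q` commuting with `β` and fixing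
  `Z(Q)` pointwise is a power of `β`.
-/

set_option autoImplicit false

namespace Cfsg.Agent.Helper64

open Module

universe u v w

section irr

variable {K : Type u} [Field K] {Q : Type w} [Group Q] {W : Type v} [AddCommGroup W] [Module K W]
  {o : ℕ}

theorem HHData.irr_res_of_min (E : HHData K Q W o) (U : Submodule K W) (hU : E.Inv U)
    (hmin : ∀ U' : Submodule K W, U' ≠ ⊥ → E.Inv U' → U' ≤ U → U' = U) : (E.res U hU).Irr := by
  intro U' hU'
  by_cases hU0 : U' = ⊥
  · exact Or.inl hU0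
  right
  have h1 : U'.map U.subtype ≠ ⊥ := by
    intro h
    apply hU0
    rw [Submodule.eq_bot_iff]
    intro y hy
    have : (y : W) ∈ U'.map U.subtype := ⟨y, hy, rfl⟩
    rw [h, Submodule.mem_bot] at this
    exact Subtype.ext this
  have h2 : E.Inv (U'.map U.subtype) := by
    refine ⟨?_, ?_, ?_⟩
    · rintro g _ ⟨y, hy, rfl⟩
      exact ⟨(E.res U hU).ρ g y, hU'.1 g y hy, rfl⟩
    · rintro _ ⟨y, hy, rfl⟩
      exact ⟨(E.res U hU).X y, hU'.2.1 y hy, rfl⟩
    · rintro _ ⟨y, hy, rfl⟩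
      exact ⟨(E.res U hU).X' y, hU'.2.2 y hy, rfl⟩
  have h3 := hmin _ h1 h2 (Submodule.map_subtype_le U U')
  rw [eq_top_iff]
  intro y _
  have : (y : W) ∈ U'.map U.subtype := by rw [h3]; exact y.2
  obtain ⟨y', hy', hyy⟩ := this
  have : y' = y := Subtype.ext hyy
  rwa [← this]

end irr

section count

variable {K : Type u} [Field K] {Q : Type w} [Group Q] [Finite Q] {W : Type v} [AddCommGroup W]
  [Module K W] [FiniteDimensional K W]

theorem card_quotient_center_le (ρ : Representation K Q W)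
    (htr : ∀ g, g ∉ Subgroup.center Q → LinearMap.trace K W (ρ g) = 0)
    (hdim : (finrank K W : K) ≠ 0) :
    Nat.card (Q ⧸ Subgroup.center Q) ≤ finrank K W * finrank K W := by
  classical
  haveI : Fintype (Q ⧸ Subgroup.center Q) := Fintype.ofFinite _
  obtain ⟨v, hv⟩ : ∃ v : Q ⧸ Subgroup.center Q → Module.End K W, ∀ c, v c = ρ c.out :=
    ⟨fun c => ρ c.out, fun _ => rfl⟩
  have hli : LinearIndependent K v := by
    rw [linearIndependent_iff']
    intro s f hsum j hj
    have h1 : LinearMap.trace K W ((∑ i ∈ s, f i • v i) * ρ (j.out)⁻¹) = 0 := by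
      rw [hsum, zero_mul, map_zero]
    rw [Finset.sum_mul, map_sum] at h1
    rw [Finset.sum_eq_single j] at h1
    · rw [hv, smul_mul_assoc, ← map_mul, mul_inv_cancel, map_one, map_smul, LinearMap.trace_one,
        smul_eq_mul] at h1
      rcases mul_eq_zero.mp h1 with h | h
      · exact h
      · exact absurd h hdim
    · intro i _ hij
      rw [hv, smul_mul_assoc, ← map_mul, map_smul, htr, smul_zero]
      intro hmem
      apply hij
      have h2 : (j.out)⁻¹ * i.out ∈ Subgroup.center Q := by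
        have h3 := Subgroup.mem_center_iff.mp hmem (j.out)⁻¹
        have h4 : (j.out)⁻¹ * i.out = (j.out)⁻¹ * (i.out * (j.out)⁻¹) * j.out := by group
        rw [h4, h3]
        have : i.out * (j.out)⁻¹ * (j.out)⁻¹ * j.out = i.out * (j.out)⁻¹ := by group
        rw [this]
        exact hmem
      have h5 : (j.out : Q ⧸ Subgroup.center Q) = (i.out : Q ⧸ Subgroup.center Q) :=
        QuotientGroup.eq.mpr h2
      rw [QuotientGroup.out_eq', QuotientGroup.out_eq'] at h5
      exact h5.symm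
    · intro hj'
      exact absurd hj hj'
  have h6 := hli.fintype_card_le_finrank
  rw [Module.finrank_linearMap, ← Nat.card_eq_fintype_card] at h6
  exact h6

end count

section small

variable {Q : Type*} [Group Q] [Finite Q]

theorem aut_eq_pow_of_card_le_four (q : ℕ) (hQ : IsPGroup q Q)
    (β γ₀ : MulAut Q) (hβ3 : β ^ 3 = 1) (hcomm : ∀ g, γ₀ (β g) = β (γ₀ g))
    (hβZ : ∀ z ∈ Subgroup.center Q, β z = z) (hγZ : ∀ z ∈ Subgroup.center Q, γ₀ z = z)
    (hC : ∀ c, β c = c → c ∈ Subgroup.center Q)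
    (hcard : Nat.card (Q ⧸ Subgroup.center Q) ≤ 4)
    (hq3 : Nat.Coprime 3 q)
    (m : ℕ) (hm : Nat.Coprime m q) (hγm : ∀ j : ℕ, ((β ^ j)⁻¹ * γ₀) ^ m = 1)
    (hnc : ∃ g, g ∉ Subgroup.center Q) : ∃ j : ℕ, γ₀ = β ^ j := by
  classical
  haveI : Fintype (Q ⧸ Subgroup.center Q) := Fintype.ofFinite _
  obtain ⟨g, hg⟩ := hnc
  -- automorphisms preserve the centre and its complement
  have hnotZ : ∀ (δ : MulAut Q) (h : Q), h ∉ Subgroup.center Q → δ h ∉ Subgroup.center Q := by
    intro δ h hh hδ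
    apply hh
    have := aut_mem_center δ⁻¹ _ hδ
    rwa [MulAut.inv_apply_self] at this
  have hβpowZ : ∀ (i : ℕ), ∀ z ∈ Subgroup.center Q, (β ^ i) z = z := by
    intro i
    induction i with
    | zero => intro z _; rfl
    | succ i ih =>
      intro z hz
      rw [pow_succ, MulAut.mul_apply, hβZ z hz, ih z hz]
  -- `β` moves every noncentral coset
  have hmove : ∀ h : Q, h ∉ Subgroup.center Q →
      (h : Q ⧸ Subgroup.center Q) ≠ ((β h : Q) : Q ⧸ Subgroup.center Q) := by
    intro h hh heq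
    apply hh
    apply hC
    have h1 : h⁻¹ * β h ∈ Subgroup.center Q := QuotientGroup.eq.mp heq
    apply aut_fix_of_mul_inv_mem_center q hQ β 3 hq3 hβ3 hβZ h
    have h2 := Subgroup.mem_center_iff.mp h1 h
    have h3 : β h * h⁻¹ = h * (h⁻¹ * β h) * h⁻¹ := by group
    rw [h3, h2]
    have : h⁻¹ * β h * h * h⁻¹ = h⁻¹ * β h := by group
    rw [this]
    exact h1
  have hβ3g : β (β (β g)) = g := by
    have := congrArg (fun δ : MulAut Q => δ g) hβ3
    simpa [pow_succ, MulAut.mul_apply] using this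
  obtain ⟨c₁, hc₁⟩ : ∃ c₁ : Q ⧸ Subgroup.center Q, c₁ = (g : Q ⧸ Subgroup.center Q) := ⟨_, rfl⟩
  obtain ⟨c₂, hc₂⟩ : ∃ c₂ : Q ⧸ Subgroup.center Q, c₂ = ((β g : Q) : Q ⧸ Subgroup.center Q) :=
    ⟨_, rfl⟩
  obtain ⟨c₃, hc₃⟩ : ∃ c₃ : Q ⧸ Subgroup.center Q,
      c₃ = ((β (β g) : Q) : Q ⧸ Subgroup.center Q) := ⟨_, rfl⟩
  have hne_one : ∀ h : Q, h ∉ Subgroup.center Q → (h : Q ⧸ Subgroup.center Q) ≠ 1 := by
    intro h hh heq
    exact hh ((QuotientGroup.eq_one_iff h).mp heq)
  have h10 : c₁ ≠ 1 := by rw [hc₁]; exact hne_one g hg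
  have h20 : c₂ ≠ 1 := by rw [hc₂]; exact hne_one _ (hnotZ β g hg)
  have h30 : c₃ ≠ 1 := by rw [hc₃]; exact hne_one _ (hnotZ β _ (hnotZ β g hg))
  have h12 : c₁ ≠ c₂ := by rw [hc₁, hc₂]; exact hmove g hg
  have h23 : c₂ ≠ c₃ := by rw [hc₂, hc₃]; exact hmove _ (hnotZ β g hg)
  have h31 : c₃ ≠ c₁ := by
    rw [hc₃, hc₁]
    have := hmove _ (hnotZ β _ (hnotZ β g hg))
    rwa [hβ3g] at this
  -- the four cosets exhaust the quotient
  have hall : ∀ c : Q ⧸ Subgroup.center Q, c = 1 ∨ c = c₁ ∨ c = c₂ ∨ c = c₃ := by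
    have hcard4 : ({1, c₁, c₂, c₃} : Finset (Q ⧸ Subgroup.center Q)).card = 4 := by
      rw [Finset.card_insert_of_notMem, Finset.card_insert_of_notMem,
        Finset.card_insert_of_notMem, Finset.card_singleton]
      · simp only [Finset.mem_singleton]; exact h23
      · simp only [Finset.mem_insert, Finset.mem_singleton]
        rintro (h | h)
        · exact h12 h
        · exact h31 h.symm
      · simp only [Finset.mem_insert, Finset.mem_singleton]
        rintro (h | h | h)
        · exact h10 h.symm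
        · exact h20 h.symm
        · exact h30 h.symm
    have huniv : ({1, c₁, c₂, c₃} : Finset (Q ⧸ Subgroup.center Q)) = Finset.univ := by
      apply Finset.eq_univ_of_card
      rw [hcard4, ← Nat.card_eq_fintype_card]
      have hle : ({1, c₁, c₂, c₃} : Finset (Q ⧸ Subgroup.center Q)).card
          ≤ Fintype.card (Q ⧸ Subgroup.center Q) := Finset.card_le_univ _
      rw [hcard4, ← Nat.card_eq_fintype_card] at hle
      omega
    intro c
    have : c ∈ ({1, c₁, c₂, c₃} : Finset (Q ⧸ Subgroup.center Q)) := by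
      rw [huniv]; exact Finset.mem_univ c
    simpa only [Finset.mem_insert, Finset.mem_singleton] using this
  -- every noncentral element lies in a coset `β^i g Z`
  have hcos : ∀ h : Q, h ∉ Subgroup.center Q → ∃ i : ℕ, ∃ z ∈ Subgroup.center Q,
      h = (β ^ i) g * z := by
    intro h hh
    have key : ∀ x : Q, (h : Q ⧸ Subgroup.center Q) = (x : Q ⧸ Subgroup.center Q) →
        ∃ z ∈ Subgroup.center Q, h = x * z := by
      intro x hx
      refine ⟨x⁻¹ * h, QuotientGroup.eq.mp hx.symm, by group⟩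
    rcases hall (h : Q ⧸ Subgroup.center Q) with h0 | h1 | h2 | h3
    · exact absurd h0 (hne_one h hh)
    · rw [hc₁] at h1
      obtain ⟨z, hz, e⟩ := key g h1
      exact ⟨0, z, hz, by rw [pow_zero]; exact e⟩
    · rw [hc₂] at h2
      obtain ⟨z, hz, e⟩ := key _ h2
      exact ⟨1, z, hz, by rw [pow_one]; exact e⟩
    · rw [hc₃] at h3
      obtain ⟨z, hz, e⟩ := key _ h3
      exact ⟨2, z, hz, by rw [pow_two, MulAut.mul_apply]; exact e⟩
  obtain ⟨j, z', hz', hj⟩ := hcos (γ₀ g) (hnotZ γ₀ g hg)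
  refine ⟨j, ?_⟩
  obtain ⟨γ, hγ⟩ : ∃ γ : MulAut Q, γ = (β ^ j)⁻¹ * γ₀ := ⟨_, rfl⟩
  have hγZ' : ∀ z ∈ Subgroup.center Q, γ z = z := by
    intro z hz
    rw [hγ, MulAut.mul_apply, hγZ z hz]
    have := hβpowZ j z hz
    nth_rewrite 1 [← this]
    rw [MulAut.inv_apply_self]
  have hcommpow : ∀ (i : ℕ) (h : Q), γ₀ ((β ^ i) h) = (β ^ i) (γ₀ h) := by
    intro i
    induction i with
    | zero => intro h; rfl
    | succ i ih =>
      intro h
      rw [pow_succ, MulAut.mul_apply, MulAut.mul_apply, ih, hcomm]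
  have hγcomm : ∀ (i : ℕ) (h : Q), γ ((β ^ i) h) = (β ^ i) (γ h) := by
    intro i h
    rw [hγ, MulAut.mul_apply, MulAut.mul_apply, hcommpow]
    generalize γ₀ h = y
    have hc : Commute ((β ^ j)⁻¹) (β ^ i) := ((Commute.refl β).pow_pow j i).inv_left
    have := congrArg (fun δ : MulAut Q => δ y) hc.eq
    simpa only [MulAut.mul_apply] using this
  have hγg : γ g = g * z' := by
    rw [hγ, MulAut.mul_apply, hj, map_mul, MulAut.inv_apply_self]
    congr 1
    have := hβpowZ j z' hz'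
    nth_rewrite 1 [← this]
    rw [MulAut.inv_apply_self]
  have hγfix : ∀ h : Q, γ h = h := by
    intro h
    apply aut_fix_of_mul_inv_mem_center q hQ γ m hm (by rw [hγ]; exact hγm j) hγZ' h
    by_cases hh : h ∈ Subgroup.center Q
    · rw [hγZ' h hh, mul_inv_cancel]; exact Subgroup.one_mem _
    obtain ⟨i, z, hz, e⟩ := hcos h hh
    have e2 : γ h * h⁻¹ = (β ^ i) z' := by
      rw [e, map_mul, hγZ' z hz, hγcomm, hγg, map_mul]
      have hzc := Subgroup.mem_center_iff.mp hz
      have h1 : (β ^ i) g * (β ^ i) z' * z * ((β ^ i) g * z)⁻¹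
          = (β ^ i) g * (β ^ i) z' * (z * z⁻¹) * ((β ^ i) g)⁻¹ := by group
      rw [h1, mul_inv_cancel, mul_one]
      have hzc' := Subgroup.mem_center_iff.mp (aut_mem_center (β ^ i) z' hz')
      rw [hzc' ((β ^ i) g), mul_inv_cancel_right]
    rw [e2]
    exact aut_mem_center _ z' hz'
  have hγ1 : γ = 1 := by
    apply MulEquiv.ext; intro h
    rw [hγfix h]; rfl
  rw [hγ] at hγ1
  have := congrArg (fun δ => β ^ j * δ) hγ1
  simpa using this

end small

end Cfsg.Agent.Helper64
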