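import Cfsg.Agent.Helper64.HHCWeights
import Cfsg.Agent.Helper64.HHCSmall
import Cfsg.Agent.Helper63.PGroup

/-!
# Quadratic pairs of commutators, part 7: the critical case
-/

set_option autoImplicit false

namespace Cfsg.Agent.Helper64

open Module

universe u v w x

variable {K : Type u} [Field K] {Q : Type w} [Group Q] {W : Type v} [AddCommGroup W] [Module K W]
  {B : Type x} [Group B]

/-- In a finite `p`-group `B` with a homomorphism `φ` that is nontrivial on the commutator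
subgroup, there is `a ∈ B'` with `φ a` of order `p` and central in `φ(B)`. -/
theorem exists_central_comm (p : ℕ) [hp : Fact p.Prime] [Finite B] (hB : IsPGroup p B)
    {A : Type*} [Group A] (φ : B →* A) (a₀ : B) (ha₀ : a₀ ∈ commutator B) (hne : φ a₀ ≠ 1) :
    ∃ a ∈ commutator B, φ a ≠ 1 ∧ φ a ^ p = 1 ∧ ∀ b, φ b * φ a = φ a * φ b := by
  classical
  obtain ⟨N, hN⟩ : ∃ N : Subgroup (B ⧸ φ.ker),
      N = (commutator B).map (QuotientGroup.mk' φ.ker) := ⟨_, rfl⟩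
  haveI : N.Normal := by
    rw [hN]
    exact Subgroup.Normal.map inferInstance _ (QuotientGroup.mk'_surjective _)
  have hNne : N ≠ ⊥ := by
    intro h
    have h1 : (a₀ : B ⧸ φ.ker) ∈ N := by rw [hN]; exact ⟨a₀, ha₀, rfl⟩
    rw [h, Subgroup.mem_bot, QuotientGroup.eq_one_iff] at h1
    exact hne (MonoidHom.mem_ker.mp h1)
  have hBq : IsPGroup p (B ⧸ φ.ker) := hB.to_quotient _
  have h2 := Cfsg.Agent.Helper63.normal_inf_center_ne_bot hBq N hNne
  rw [Ne, Subgroup.eq_bot_iff_forall] at h2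
  push Not at h2
  obtain ⟨x, hx, hx1⟩ := h2
  obtain ⟨hxN, hxZ⟩ := Subgroup.mem_inf.mp hx
  rw [hN] at hxN
  obtain ⟨a₁, ha₁, rfl⟩ := hxN
  have hφa₁ : φ a₁ ≠ 1 := by
    intro h
    apply hx1
    rw [QuotientGroup.mk'_apply, QuotientGroup.eq_one_iff]
    exact MonoidHom.mem_ker.mpr h
  have hcomm₁ : ∀ b, φ b * φ a₁ = φ a₁ * φ b := by
    intro b
    have h3 := Subgroup.mem_center_iff.mp hxZ (b : B ⧸ φ.ker)
    have h4 := congrArg (QuotientGroup.kerLift φ) h3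
    rw [map_mul, map_mul] at h4
    exact h4
  obtain ⟨k₀, hk₀⟩ := hB a₁
  have hex : ∃ k, φ a₁ ^ p ^ k = 1 := ⟨k₀, by rw [← map_pow, hk₀, map_one]⟩
  have hk1 : Nat.find hex ≠ 0 := by
    intro h0
    have := Nat.find_spec hex
    rw [h0, pow_zero, pow_one] at this
    exact hφa₁ this
  obtain ⟨k, hk⟩ : ∃ k, Nat.find hex = k + 1 := ⟨Nat.find hex - 1, by omega⟩
  refine ⟨a₁ ^ p ^ k, Subgroup.pow_mem _ ha₁ _, ?_, ?_, ?_⟩
  · rw [map_pow]
    exact Nat.find_min hex (by omega)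
  · rw [map_pow, ← pow_mul, ← pow_succ, ← hk]
    exact Nat.find_spec hex
  · intro b
    rw [map_pow]
    have : Commute (φ b) (φ a₁) := hcomm₁ b
    exact (this.pow_right _).eq

section crit

variable (p q : ℕ) [hp : Fact p.Prime] [hq : Fact q.Prime] [CharP K p]
variable [Finite Q] [FiniteDimensional K W]

/-- **The critical case.** -/
theorem bstep_final [IsAlgClosed K] [Nontrivial W] [Finite B] (hp2 : p ≠ 2) (hpq : p ≠ q)
    (hQ : IsPGroup q Q) (hB : IsPGroup p B) (D : BData K Q W B) (hquad : QuadRep D.σ)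
    (hsc : ∀ z ∈ Subgroup.center Q, ∃ c : K, D.ρ z = c • (1 : Module.End K W))
    (hinj : Function.Injective D.ρ)
    (hmin : ∀ Q₁ : Subgroup Q, Q₁ ≠ ⊤ → (∀ b, ∀ g ∈ Q₁, D.φ b g ∈ Q₁) →
      ∀ a ∈ commutator B, ∀ g ∈ Q₁, D.ρ (D.φ a g) = D.ρ g) :
    ∀ a ∈ commutator B, ∀ g, D.ρ (D.φ a g) = D.ρ g := by
  classical
  by_contra hcon
  push Not at hcon
  obtain ⟨a₀, ha₀, g₀, hg₀⟩ := hcon
  have hφa₀ : D.φ a₀ ≠ 1 := by
    intro h
    apply hg₀
    rw [h]; rfl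
  obtain ⟨a, ha, hβne1, hβp, hβcomm⟩ := exists_central_comm p hB D.φ a₀ ha₀ hφa₀
  obtain ⟨β, hβ⟩ : ∃ β, β = D.φ a := ⟨_, rfl⟩
  rw [← hβ] at hβne1 hβp hβcomm
  have hβne : ∃ g, β g ≠ g := by
    by_contra h
    push Not at h
    apply hβne1
    apply MulEquiv.ext; intro g
    rw [h g]; rfl
  -- the centre is fixed by `B`
  have hZφ : ∀ b, ∀ z ∈ Subgroup.center Q, D.φ b z = z := by
    intro b z hz
    apply hinj
    obtain ⟨c, hc⟩ := hsc z hz
    rw [← D.conj, hc, mul_smul_comm, mul_one, smul_mul_assoc, D.sigma_mul_inv]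
  have hcommβ : ∀ α ∈ Set.range D.φ, ∀ g, α (β g) = β (α g) := by
    rintro _ ⟨b, rfl⟩ g
    have := congrArg (fun δ : MulAut Q => δ g) (hβcomm b)
    simpa only [MulAut.mul_apply] using this
  have hmin' : ∀ Q₁ : Subgroup Q, Q₁ ≠ ⊤ → (∀ α ∈ Set.range D.φ, ∀ g ∈ Q₁, α g ∈ Q₁) →
      ∀ g ∈ Q₁, β g = g := by
    intro Q₁ h1 h2 g hg
    apply hinj
    rw [hβ]
    exact hmin Q₁ h1 (fun b => h2 (D.φ b) ⟨b, rfl⟩) a ha g hg
  have hC : ∀ c, β c = c → c ∈ Subgroup.center Q :=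
    fix_le_center_family p q hpq hQ (Set.range D.φ) β hcommβ hβp hβne hmin'
  haveI : Nontrivial Q := by
    obtain ⟨g, hg⟩ := hβne
    exact ⟨⟨β g, g, hg⟩⟩
  haveI : Group.IsNilpotent Q := hQ.isNilpotent
  have hder : commutator Q ≤ Subgroup.center Q := by
    intro g hg
    apply hC
    apply hmin' (commutator Q)
      (ne_of_lt (Group.IsSolvable.commutator_lt_top_of_nontrivial Q)) _ g hg
    intro α _ g hg
    have hchar : (commutator Q).Characteristic := by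
      rw [commutator_def]; exact Subgroup.commutator_characteristic ⊤ ⊤
    have := Subgroup.characteristic_iff_map_eq.mp hchar α
    rw [← this]
    exact ⟨g, hg, rfl⟩
  -- the Hall–Higman datum of `a`
  have hsq : (D.σ a - 1) * (D.σ a - 1) = 0 := hquad.1 a ha a ha
  have hXp : D.σ a ^ p = 1 := by
    have := one_add_pow_of_sq_zero (D.σ a - 1) hsq p
    rw [add_sub_cancel, CharP.cast_eq_zero, zero_smul, add_zero] at this
    exact this
  obtain ⟨E, hEρ, hEα, hEX⟩ : ∃ E : HHData K Q W (p ^ (0 + 1)),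
      E.ρ = D.ρ ∧ E.α = β ∧ E.X = D.σ a :=
    ⟨D.elt a (p ^ (0 + 1)) (by rw [zero_add, pow_one, ← hβ]; exact hβp)
      (by rw [zero_add, pow_one]; exact hXp), rfl, hβ.symm, rfl⟩
  obtain ⟨U, hUne, hUinv, hUmin⟩ := exists_min_submodule (K := K) (W := W) (fun U => E.Inv U)
    ⟨⊤, top_ne_bot, ⟨fun _ _ _ => trivial, fun _ _ => trivial, fun _ _ => trivial⟩⟩
  haveI : Nontrivial U := Submodule.nontrivial_iff_ne_bot.mpr hUne
  obtain ⟨E₁, hE₁ρ, hE₁α, hE₁X, hE₁irr⟩ : ∃ E₁ : HHData K Q U (p ^ (0 + 1)),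
      (∀ g (x : U), ((E₁.ρ g x : U) : W) = D.ρ g (x : W)) ∧ E₁.α = β ∧
      (∀ (r : ℕ) (x : U), ((((E₁.X - 1) ^ r) x : U) : W) = ((D.σ a - 1) ^ r) (x : W)) ∧ E₁.Irr :=
    ⟨E.res U hUinv, fun g x => by rw [E.res_ρ_apply, hEρ], by rw [HHData.res_α, hEα],
      fun r x => by rw [E.res_sub_one_pow, hEX], E.irr_res_of_min U hUinv hUmin⟩
  have hsc₁ : ∀ z ∈ Subgroup.center Q, ∃ c : K, E₁.ρ z = c • (1 : Module.End K U) := by
    intro z hz
    obtain ⟨c, hc⟩ := hsc z hz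
    refine ⟨c, ?_⟩
    apply LinearMap.ext; intro x
    apply Subtype.ext
    rw [hE₁ρ, hc]
    rfl
  have hsc₁' : ∀ z ∈ Subgroup.center Q, z ≠ 1 →
      ∃ c : K, c ≠ 1 ∧ E₁.ρ z = c • (1 : Module.End K U) := by
    intro z hz hz1
    obtain ⟨c, hc⟩ := hsc z hz
    refine ⟨c, ?_, ?_⟩
    · intro h1
      apply hz1
      apply hinj
      rw [hc, h1, one_smul, map_one]
    · apply LinearMap.ext; intro x
      apply Subtype.ext
      rw [hE₁ρ, hc]
      rfl
  have hinj₁ : Function.Injective E₁.ρ := by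
    rw [← MonoidHom.ker_eq_bot_iff]
    by_contra hker
    have h2 := Cfsg.Agent.Helper63.normal_inf_center_ne_bot hQ (MonoidHom.ker E₁.ρ) hker
    rw [Ne, Subgroup.eq_bot_iff_forall] at h2
    push Not at h2
    obtain ⟨z, hz, hz1⟩ := h2
    obtain ⟨hzk, hzZ⟩ := Subgroup.mem_inf.mp hz
    obtain ⟨c, hc1, hc⟩ := hsc₁' z hzZ hz1
    rw [MonoidHom.mem_ker] at hzk
    obtain ⟨x, hx⟩ := exists_ne (0 : U)
    have h3 := LinearMap.congr_fun hzk x
    rw [hc, LinearMap.smul_apply, Module.End.one_apply] at h3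
    have h4 : (c - 1) • x = 0 := by rw [sub_smul, one_smul, h3, sub_self]
    rcases smul_eq_zero.mp h4 with h | h
    · exact hc1 (sub_eq_zero.mp h)
    · exact hx h
  have hmv₁ : E₁.Moves (p ^ 0) := by
    obtain ⟨g, hg⟩ := hβne
    refine ⟨g, fun h => hg ?_⟩
    have := hinj₁ h
    rwa [pow_zero, pow_one, hE₁α] at this
  have hr₁ : (E₁.X - 1) ^ 2 = 0 := by
    apply LinearMap.ext; intro x
    apply Subtype.ext
    rw [hE₁X, sq, hsq]
    rfl
  have hC₁ : ∀ c, (E₁.α ^ p ^ 0) c = c → c ∈ Subgroup.center Q := by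
    rw [pow_zero, pow_one, hE₁α]
    exact hC
  obtain ⟨-, hdim⟩ := step_final_explicit p q hpq hQ 0 E₁ hmv₁ 2 hr₁ hE₁irr hsc₁ hinj₁ hC₁ hder
  have hp3' : 2 < p ^ (0 + 1) := by
    rw [zero_add, pow_one]
    have := hp.1.two_le
    omega
  obtain ⟨hfin, h2⟩ := hdim hp3'
  rw [zero_add, pow_one] at hfin h2
  have hp3 : p = 3 := by omega
  -- the quotient by the centre has order at most four
  have htr : ∀ g, g ∉ Subgroup.center Q → LinearMap.trace K U (E₁.ρ g) = 0 :=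
    fun g hg => trace_eq_zero_of_not_mem_center E₁.ρ hder hsc₁' g hg
  have hdimK : (finrank K U : K) ≠ 0 := by
    rw [hfin]
    intro h
    have := (CharP.cast_eq_zero_iff K p (p - 1)).mp h
    have := Nat.le_of_dvd (by omega) this
    omega
  have hcard : Nat.card (Q ⧸ Subgroup.center Q) ≤ 4 := by
    have := card_quotient_center_le E₁.ρ htr hdimK
    rw [hfin, hp3] at this
    exact this
  have hβ3 : β ^ 3 = 1 := by rw [← hp3]; exact hβp
  have hβZ : ∀ z ∈ Subgroup.center Q, β z = z := by rw [hβ]; exact hZφ a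
  have hq3 : Nat.Coprime 3 q := by
    rw [← hp3]
    exact (Nat.coprime_primes hp.1 hq.1).mpr hpq
  have hcopB : Nat.Coprime (Nat.card B) q := by
    obtain ⟨k, hk⟩ := hB.exists_card_eq
    rw [hk]
    exact Nat.Coprime.pow_left _ ((Nat.coprime_primes hp.1 hq.1).mpr hpq)
  have hnc : ∃ g, g ∉ Subgroup.center Q := by
    obtain ⟨g, hg⟩ := hβne
    exact ⟨g, fun h => hg (hβZ g h)⟩
  have hpowers : ∀ b, ∃ j : ℕ, D.φ b = β ^ j := by
    intro b
    apply aut_eq_pow_of_card_le_four q hQ β (D.φ b) hβ3 (hcommβ (D.φ b) ⟨b, rfl⟩) hβZ (hZφ b) hC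
      hcard hq3 (Nat.card B) hcopB _ hnc
    intro j
    rw [hβ, ← map_pow, ← map_inv, ← map_mul, ← map_pow, pow_card_eq_one', map_one]
  have hab : ∀ b b' : B, D.φ b * D.φ b' = D.φ b' * D.φ b := by
    intro b b'
    obtain ⟨j, hj⟩ := hpowers b
    obtain ⟨j', hj'⟩ := hpowers b'
    rw [hj, hj', ← pow_add, ← pow_add, add_comm]
  have hker := commutator_le_ker_of_commute D.φ hab ha
  apply hβne1
  rw [hβ]
  exact MonoidHom.mem_ker.mp hker

end crit

end Cfsg.Agent.Helper64
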