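import Cfsg.Agent.Helper64.HHBStep3

/-!
# Quadratic pairs of commutators, part 1: the data

`BData K Q W B` packages a representation `ρ` of a group `Q` on `W`, an action `φ` of a group `B`
on `Q` by automorphisms and a representation `σ` of `B` on `W` with
`σ(b) ρ(g) σ(b)⁻¹ = ρ(φ_b g)`.  We define the restriction to an invariant subspace, the quotient
by an invariant subspace, the restriction to an invariant subgroup and the quotient by the kernel
of `ρ`.
-/

set_option autoImplicit false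

namespace Cfsg.Agent.Helper64

open Module

universe u v w x

/-- The data of a group `B` acting compatibly on a group `Q` and on a `Q`-module `W`. -/
structure BData (K : Type u) [Field K] (Q : Type w) [Group Q] (W : Type v) [AddCommGroup W]
    [Module K W] (B : Type x) [Group B] where
  ρ : Representation K Q W
  φ : B →* MulAut Q
  σ : Representation K B W
  hσ : ∀ b g, σ b * ρ g = ρ (φ b g) * σ b

/-- The quadratic hypotheses on the commutator subgroup of `B`. -/
def QuadRep {K : Type u} [Field K] {W : Type v} [AddCommGroup W] [Module K W] {B : Type x}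
    [Group B] (σ : Representation K B W) : Prop :=
  (∀ a ∈ commutator B, ∀ a' ∈ commutator B, (σ a - 1) * (σ a' - 1) = 0) ∧
  (∀ a ∈ commutator B, ∀ b b' : B, (σ a - 1) * (σ b - 1) * (σ b' - 1) = 0)

section quadrep

variable {K : Type u} [Field K] {W : Type v} [AddCommGroup W] [Module K W] {B : Type x} [Group B]

theorem subRep_sub_one_apply (σ : Representation K B W) (U : Submodule K W)
    (hU : ∀ b, ∀ w ∈ U, σ b w ∈ U) (b : B) (x : U) :
    (((HHData.subRep σ U hU b - 1) x : U) : W) = (σ b - 1) (x : W) := rfl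

theorem QuadRep.subRep {σ : Representation K B W} (h : QuadRep σ) (U : Submodule K W)
    (hU : ∀ b, ∀ w ∈ U, σ b w ∈ U) : QuadRep (HHData.subRep σ U hU) := by
  refine ⟨?_, ?_⟩
  · intro a ha a' ha'
    apply LinearMap.ext; intro x
    apply Subtype.ext
    rw [Module.End.mul_apply, subRep_sub_one_apply, subRep_sub_one_apply,
      ← Module.End.mul_apply, h.1 a ha a' ha']
    rfl
  · intro a ha b b'
    apply LinearMap.ext; intro x
    apply Subtype.ext
    rw [Module.End.mul_apply, Module.End.mul_apply, subRep_sub_one_apply, subRep_sub_one_apply,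
      subRep_sub_one_apply, ← Module.End.mul_apply, ← Module.End.mul_apply, h.2 a ha b b']
    rfl

theorem quoRep_sub_one_mk (σ : Representation K B W) (U : Submodule K W)
    (hU : ∀ b, ∀ w ∈ U, σ b w ∈ U) (b : B) (x : W) :
    (HHData.quoRep σ U hU b - 1) (Submodule.Quotient.mk x)
      = Submodule.Quotient.mk ((σ b - 1) x) := rfl

theorem QuadRep.quoRep {σ : Representation K B W} (h : QuadRep σ) (U : Submodule K W)
    (hU : ∀ b, ∀ w ∈ U, σ b w ∈ U) : QuadRep (HHData.quoRep σ U hU) := by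
  refine ⟨?_, ?_⟩
  · intro a ha a' ha'
    apply LinearMap.ext; intro x
    obtain ⟨x, rfl⟩ := Submodule.Quotient.mk_surjective U x
    rw [Module.End.mul_apply, quoRep_sub_one_mk, quoRep_sub_one_mk,
      ← Module.End.mul_apply, h.1 a ha a' ha']
    rfl
  · intro a ha b b'
    apply LinearMap.ext; intro x
    obtain ⟨x, rfl⟩ := Submodule.Quotient.mk_surjective U x
    rw [Module.End.mul_apply, Module.End.mul_apply, quoRep_sub_one_mk, quoRep_sub_one_mk,
      quoRep_sub_one_mk, ← Module.End.mul_apply, ← Module.End.mul_apply, h.2 a ha b b']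
    rfl

end quadrep

namespace BData

variable {K : Type u} [Field K] {Q : Type w} [Group Q] {W : Type v} [AddCommGroup W] [Module K W]
  {B : Type x} [Group B]

theorem sigma_mul_inv (D : BData K Q W B) (b : B) : D.σ b * D.σ b⁻¹ = 1 := by
  rw [← map_mul, mul_inv_cancel, map_one]

theorem sigma_inv_mul (D : BData K Q W B) (b : B) : D.σ b⁻¹ * D.σ b = 1 := by
  rw [← map_mul, inv_mul_cancel, map_one]

theorem conj (D : BData K Q W B) (b : B) (g : Q) : D.σ b * D.ρ g * D.σ b⁻¹ = D.ρ (D.φ b g) := by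
  rw [D.hσ, mul_assoc, D.sigma_mul_inv, mul_one]

theorem hσ_apply (D : BData K Q W B) (b : B) (g : Q) (w : W) :
    D.σ b (D.ρ g w) = D.ρ (D.φ b g) (D.σ b w) := by
  have := LinearMap.congr_fun (D.hσ b g) w
  simpa using this

/-- `ρ(g) σ(b) = σ(b) ρ(φ_b⁻¹ g)`. -/
theorem rho_sigma_apply (D : BData K Q W B) (b : B) (g : Q) (w : W) :
    D.ρ g (D.σ b w) = D.σ b (D.ρ (D.φ b⁻¹ g) w) := by
  rw [D.hσ_apply, ← MulAut.mul_apply, ← map_mul, mul_inv_cancel, map_one, MulAut.one_apply]

/-- The Hall–Higman data of a single element of `B`. -/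
def elt (D : BData K Q W B) (b : B) (o : ℕ) (hα : D.φ b ^ o = 1) (hX : D.σ b ^ o = 1) :
    HHData K Q W o where
  ρ := D.ρ
  α := D.φ b
  X := D.σ b
  X' := D.σ b⁻¹
  hXX' := D.sigma_mul_inv b
  hX'X := D.sigma_inv_mul b
  hα g := D.conj b g
  hαo := hα
  hXo := hX

/-- Invariance of a subspace under `ρ(Q)` and `σ(B)`. -/
def Inv (D : BData K Q W B) (U : Submodule K W) : Prop :=
  (∀ g, ∀ w ∈ U, D.ρ g w ∈ U) ∧ (∀ b, ∀ w ∈ U, D.σ b w ∈ U)

/-- Irreducibility under `ρ(Q)` and `σ(B)`. -/
def Irr (D : BData K Q W B) : Prop := ∀ U : Submodule K W, D.Inv U → U = ⊥ ∨ U = ⊤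

/-- Restriction of the data to an invariant subspace. -/
def res (D : BData K Q W B) (U : Submodule K W) (hU : D.Inv U) : BData K Q U B where
  ρ := HHData.subRep D.ρ U hU.1
  φ := D.φ
  σ := HHData.subRep D.σ U hU.2
  hσ b g := by
    apply LinearMap.ext; intro x
    apply Subtype.ext
    show D.σ b (D.ρ g (x : W)) = D.ρ (D.φ b g) (D.σ b (x : W))
    exact D.hσ_apply b g _

@[simp] theorem res_φ (D : BData K Q W B) (U : Submodule K W) (hU : D.Inv U) :
    (D.res U hU).φ = D.φ := rfl

theorem res_ρ_apply (D : BData K Q W B) (U : Submodule K W) (hU : D.Inv U) (g : Q) (x : U) :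
    (((D.res U hU).ρ g x : U) : W) = D.ρ g (x : W) := rfl

theorem res_σ (D : BData K Q W B) (U : Submodule K W) (hU : D.Inv U) :
    (D.res U hU).σ = HHData.subRep D.σ U hU.2 := rfl

/-- The quotient of the data by an invariant subspace. -/
def quo (D : BData K Q W B) (U : Submodule K W) (hU : D.Inv U) : BData K Q (W ⧸ U) B where
  ρ := HHData.quoRep D.ρ U hU.1
  φ := D.φ
  σ := HHData.quoRep D.σ U hU.2
  hσ b g := by
    apply LinearMap.ext; intro x
    obtain ⟨x, rfl⟩ := Submodule.Quotient.mk_surjective U x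
    show Submodule.Quotient.mk (D.σ b (D.ρ g x)) = Submodule.Quotient.mk (D.ρ (D.φ b g) (D.σ b x))
    rw [D.hσ_apply]

@[simp] theorem quo_φ (D : BData K Q W B) (U : Submodule K W) (hU : D.Inv U) :
    (D.quo U hU).φ = D.φ := rfl

theorem quo_ρ_mk (D : BData K Q W B) (U : Submodule K W) (hU : D.Inv U) (g : Q) (x : W) :
    (D.quo U hU).ρ g (Submodule.Quotient.mk x) = Submodule.Quotient.mk (D.ρ g x) := rfl

theorem quo_σ (D : BData K Q W B) (U : Submodule K W) (hU : D.Inv U) :
    (D.quo U hU).σ = HHData.quoRep D.σ U hU.2 := rfl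

/-! ### Restriction to an invariant subgroup -/

/-- Restriction of the data to a `B`-invariant subgroup. -/
noncomputable def sub [Finite Q] (D : BData K Q W B) (Q₁ : Subgroup Q)
    (h : ∀ b, ∀ g ∈ Q₁, D.φ b g ∈ Q₁) : BData K Q₁ W B where
  ρ := D.ρ.comp Q₁.subtype
  φ :=
    { toFun := fun b => HHData.autRestrict (D.φ b) Q₁ (h b)
      map_one' := by
        apply MulEquiv.ext; intro g
        apply Subtype.ext
        rw [HHData.autRestrict_apply, map_one]; rfl
      map_mul' := fun a b => by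
        apply MulEquiv.ext; intro g
        apply Subtype.ext
        rw [HHData.autRestrict_apply, map_mul, MulAut.mul_apply, MulAut.mul_apply,
          HHData.autRestrict_apply, HHData.autRestrict_apply] }
  σ := D.σ
  hσ b g := by
    show D.σ b * D.ρ (g : Q) = D.ρ ((HHData.autRestrict (D.φ b) Q₁ (h b) g : Q₁) : Q) * D.σ b
    rw [HHData.autRestrict_apply]
    exact D.hσ b g

theorem sub_ρ_apply [Finite Q] (D : BData K Q W B) (Q₁ : Subgroup Q)
    (h : ∀ b, ∀ g ∈ Q₁, D.φ b g ∈ Q₁) (g : Q₁) : (D.sub Q₁ h).ρ g = D.ρ (g : Q) := rfl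

theorem sub_φ_apply [Finite Q] (D : BData K Q W B) (Q₁ : Subgroup Q)
    (h : ∀ b, ∀ g ∈ Q₁, D.φ b g ∈ Q₁) (b : B) (g : Q₁) :
    (((D.sub Q₁ h).φ b g : Q₁) : Q) = D.φ b (g : Q) := rfl

@[simp] theorem sub_σ [Finite Q] (D : BData K Q W B) (Q₁ : Subgroup Q)
    (h : ∀ b, ∀ g ∈ Q₁, D.φ b g ∈ Q₁) : (D.sub Q₁ h).σ = D.σ := rfl

/-! ### Quotient by the kernel -/

/-- The kernel of the representation. -/
def kerρ (D : BData K Q W B) : Subgroup Q := MonoidHom.ker D.ρ

instance (D : BData K Q W B) : D.kerρ.Normal := MonoidHom.normal_ker _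

theorem mem_kerρ (D : BData K Q W B) (g : Q) : g ∈ D.kerρ ↔ D.ρ g = 1 := MonoidHom.mem_ker

theorem φ_mem_kerρ_iff (D : BData K Q W B) (b : B) (g : Q) : D.φ b g ∈ D.kerρ ↔ g ∈ D.kerρ := by
  rw [mem_kerρ, mem_kerρ, ← D.conj]
  constructor
  · intro h
    have h1 : D.σ b⁻¹ * (D.σ b * D.ρ g * D.σ b⁻¹) * D.σ b = D.σ b⁻¹ * 1 * D.σ b := by rw [h]
    rw [mul_one, D.sigma_inv_mul] at h1
    rw [← h1]
    rw [show D.σ b⁻¹ * (D.σ b * D.ρ g * D.σ b⁻¹) * D.σ b
      = (D.σ b⁻¹ * D.σ b) * D.ρ g * (D.σ b⁻¹ * D.σ b) by simp only [mul_assoc],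
      D.sigma_inv_mul, one_mul, mul_one]
  · intro h
    rw [h, mul_one, D.sigma_mul_inv]

theorem map_kerρ (D : BData K Q W B) (b : B) : D.kerρ.map (D.φ b : Q →* Q) = D.kerρ := by
  ext x
  constructor
  · rintro ⟨g, hg, rfl⟩
    exact (D.φ_mem_kerρ_iff b g).mpr hg
  · intro hx
    refine ⟨(D.φ b).symm x, ?_, by simp⟩
    rw [SetLike.mem_coe, ← D.φ_mem_kerρ_iff b]
    simpa using hx

/-- The quotient of the data by the kernel of `ρ`. -/
noncomputable def quotKer (D : BData K Q W B) : BData K (Q ⧸ D.kerρ) W B where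
  ρ := QuotientGroup.lift D.kerρ D.ρ (le_refl _)
  φ :=
    { toFun := fun b => QuotientGroup.congr D.kerρ D.kerρ (D.φ b) (D.map_kerρ b)
      map_one' := by
        apply MulEquiv.ext; intro g
        induction g using QuotientGroup.induction_on with | _ g => ?_
        rw [QuotientGroup.congr_mk, map_one]; rfl
      map_mul' := fun a b => by
        apply MulEquiv.ext; intro g
        induction g using QuotientGroup.induction_on with | _ g => ?_
        rw [QuotientGroup.congr_mk, map_mul, MulAut.mul_apply, MulAut.mul_apply,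
          QuotientGroup.congr_mk, QuotientGroup.congr_mk] }
  σ := D.σ
  hσ b g := by
    induction g using QuotientGroup.induction_on with | _ g => ?_
    show D.σ b * D.ρ g = _
    rw [D.hσ]
    rfl

theorem quotKer_ρ_mk (D : BData K Q W B) (g : Q) : D.quotKer.ρ (g : Q ⧸ D.kerρ) = D.ρ g := rfl

theorem quotKer_φ_mk (D : BData K Q W B) (b : B) (g : Q) :
    D.quotKer.φ b (g : Q ⧸ D.kerρ) = ((D.φ b g : Q) : Q ⧸ D.kerρ) := rfl

@[simp] theorem quotKer_σ (D : BData K Q W B) : D.quotKer.σ = D.σ := rfl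

theorem quotKer_injective (D : BData K Q W B) : Function.Injective D.quotKer.ρ := by
  intro a b hab
  induction a using QuotientGroup.induction_on with | _ a => ?_
  induction b using QuotientGroup.induction_on with | _ b => ?_
  rw [quotKer_ρ_mk, quotKer_ρ_mk] at hab
  rw [QuotientGroup.eq]
  show a⁻¹ * b ∈ D.kerρ
  rw [mem_kerρ, map_mul, ← hab, ← map_mul, inv_mul_cancel, map_one]

end BData

end Cfsg.Agent.Helper64
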