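import Cfsg.Agent.Helper64.HHBStep3

/-!
# Quadratic pairs of commutators, part 3: the critical case of Theorem B in explicit form

The same argument as `step_final`, with the group-theoretic inputs (`Fix β ≤ Z(Q)`, `Q' ≤ Z(Q)`)
as hypotheses and the dimension as output.
-/

set_option autoImplicit false

namespace Cfsg.Agent.Helper64

open Module
open scoped commutatorElement

universe u v w

variable {K : Type u} [Field K] {Q : Type w} [Group Q] {W : Type v} [AddCommGroup W] [Module K W]

/-- If `Q' ≤ Z(Q)` and the nontrivial central elements act by scalars `≠ 1`, the trace vanishes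
off the centre. -/
theorem trace_eq_zero_of_not_mem_center (ρ : Representation K Q W)
    (hder : commutator Q ≤ Subgroup.center Q)
    (hsc : ∀ z ∈ Subgroup.center Q, z ≠ 1 → ∃ c : K, c ≠ 1 ∧ ρ z = c • (1 : Module.End K W))
    (g : Q) (hg : g ∉ Subgroup.center Q) : LinearMap.trace K W (ρ g) = 0 := by
  rw [Subgroup.mem_center_iff] at hg
  push Not at hg
  obtain ⟨h, hh⟩ := hg
  have hcmem : ⁅h, g⁆ ∈ Subgroup.center Q := by
    apply hder
    rw [commutator_def]
    exact Subgroup.commutator_mem_commutator (Subgroup.mem_top h) (Subgroup.mem_top g)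
  have hc1 : ⁅h, g⁆ ≠ 1 := by
    intro h1
    apply hh
    rw [commutatorElement_def] at h1
    calc h * g = (h * g * h⁻¹ * g⁻¹) * (g * h) := by group
      _ = g * h := by rw [h1, one_mul]
  obtain ⟨ζ, hζ1, hζ⟩ := hsc _ hcmem hc1
  have hconj : h * g * h⁻¹ = ⁅h, g⁆ * g := by rw [commutatorElement_def]; group
  have e1 : ρ (h * g * h⁻¹) = ζ • ρ g := by
    rw [hconj, map_mul, hζ, smul_mul_assoc, one_mul]
  have e2 : LinearMap.trace K W (ρ (h * g * h⁻¹)) = LinearMap.trace K W (ρ g) := by
    rw [map_mul ρ, map_mul ρ, LinearMap.trace_mul_cycle, ← map_mul ρ, inv_mul_cancel, map_one,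
      one_mul]
  rw [e1, map_smul, smul_eq_mul] at e2
  have e3 : (ζ - 1) * LinearMap.trace K W (ρ g) = 0 := by
    rw [sub_mul, e2, one_mul, sub_self]
  rcases mul_eq_zero.mp e3 with h | h
  · exact absurd (sub_eq_zero.mp h) hζ1
  · exact h

section final

variable (p q : ℕ) [hp : Fact p.Prime] [hq : Fact q.Prime] [CharP K p]
variable [Finite Q] [FiniteDimensional K W]

/-- **The critical case, explicit form.** -/
theorem step_final_explicit [IsAlgClosed K] [Nontrivial W] (hpq : p ≠ q) (hQ : IsPGroup q Q)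
    (n : ℕ) (D : HHData K Q W (p ^ (n + 1))) (hmv : D.Moves (p ^ n)) (r : ℕ)
    (hr : (D.X - 1) ^ r = 0) (hirr : D.Irr)
    (hsc : ∀ z ∈ Subgroup.center Q, ∃ c : K, D.ρ z = c • (1 : Module.End K W))
    (hinj : Function.Injective D.ρ)
    (hC : ∀ c, (D.α ^ p ^ n) c = c → c ∈ Subgroup.center Q)
    (hder : commutator Q ≤ Subgroup.center Q) :
    ElemIrred D.ρ ∧ (r < p ^ (n + 1) → finrank K W = p ^ (n + 1) - 1 ∧ r = p ^ (n + 1) - 1) := by
  classical
  haveI : Fintype Q := Fintype.ofFinite Q
  have hqK : (q : K) ≠ 0 := natCast_ne_zero_of_ne p q hpq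
  have hopos : 0 < p ^ (n + 1) := Nat.pos_of_ne_zero (pow_ne_zero _ hp.1.ne_zero)
  obtain ⟨β, hβ⟩ : ∃ β, β = D.α ^ p ^ n := ⟨_, rfl⟩
  rw [← hβ] at hC
  have hβne : ∃ g, β g ≠ g := by
    obtain ⟨g, hg⟩ := hmv
    refine ⟨g, fun h => hg ?_⟩
    rw [← hβ, h]
  have hZα : ∀ z ∈ Subgroup.center Q, D.α z = z := by
    intro z hz
    apply hinj
    obtain ⟨c, hc⟩ := hsc z hz
    rw [← D.hα, hc, mul_smul_comm, mul_one, smul_mul_assoc, D.hXX']
  have hαpow : ∀ (k : ℕ), ∀ z ∈ Subgroup.center Q, (D.α ^ k) z = z := by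
    intro k
    induction k with
    | zero => intro z _; rfl
    | succ k ih =>
      intro z hz
      rw [pow_succ, MulAut.mul_apply, hZα z hz, ih z hz]
  -- Q is not abelian
  have hnonab : ∃ g h : Q, g * h ≠ h * g := by
    by_contra hcon
    push Not at hcon
    obtain ⟨g, hg⟩ := hβne
    apply hg
    rw [hβ]
    apply hαpow
    rw [Subgroup.mem_center_iff]
    intro h
    exact hcon h g
  obtain ⟨g₀, h₀, hg₀h₀⟩ := hnonab
  -- scalars of nontrivial central elements
  have hsc' : ∀ z ∈ Subgroup.center Q, z ≠ 1 →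
      ∃ c : K, c ≠ 1 ∧ D.ρ z = c • (1 : Module.End K W) := by
    intro z hz hz1
    obtain ⟨c, hc⟩ := hsc z hz
    refine ⟨c, ?_, hc⟩
    intro h1
    apply hz1
    apply hinj
    rw [hc, h1, one_smul, map_one]
  -- traces vanish off the centre
  have hvan : ∀ (S : Submodule K W) (hS : ∀ g, ∀ x ∈ S, D.ρ g x ∈ S) (g : Q),
      g ∉ Subgroup.center Q → LinearMap.trace K S (HHData.subRep D.ρ S hS g) = 0 := by
    intro S hS g hg
    apply trace_eq_zero_of_not_mem_center _ hder _ g hg
    intro z hz hz1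
    obtain ⟨c, hc1, hc⟩ := hsc' z hz hz1
    refine ⟨c, hc1, ?_⟩
    apply LinearMap.ext; intro x
    apply Subtype.ext
    rw [HHData.subRep_apply, hc]
    rfl
  -- elements `α g * g⁻¹` off the centre
  have hcop : Nat.Coprime (p ^ (n + 1)) q :=
    Nat.Coprime.pow_left _ ((Nat.coprime_primes hp.1 hq.1).mpr hpq)
  have hnc : ∀ g, g ∉ Subgroup.center Q → D.α g * g⁻¹ ∉ Subgroup.center Q := by
    intro g hg hz
    apply hg
    have hαg : D.α g = g := by
      obtain ⟨z, hzdef⟩ : ∃ z, z = D.α g * g⁻¹ := ⟨_, rfl⟩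
      rw [← hzdef] at hz
      have hαg : D.α g = z * g := by rw [hzdef, inv_mul_cancel_right]
      have hpow : ∀ k : ℕ, (D.α ^ k) g = z ^ k * g := by
        intro k
        induction k with
        | zero => simp
        | succ k ih =>
          rw [pow_succ, MulAut.mul_apply, hαg, map_mul, ih, hαpow k z hz, pow_succ']
          group
      have h1 := hpow (p ^ (n + 1))
      rw [D.hαo, MulAut.one_apply] at h1
      have hz1 : z ^ p ^ (n + 1) = 1 := by
        have := h1.symm
        rwa [mul_eq_right] at this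
      obtain ⟨k, hk⟩ := hQ z
      have ho1 : orderOf z ∣ p ^ (n + 1) := orderOf_dvd_of_pow_eq_one hz1
      have ho2 : orderOf z ∣ q ^ k := orderOf_dvd_of_pow_eq_one hk
      have ho3 : orderOf z = 1 :=
        Nat.eq_one_of_dvd_coprimes (Nat.Coprime.pow_right k hcop) ho1 ho2
      rw [hαg, orderOf_eq_one_iff.mp ho3, one_mul]
    apply hC
    rw [hβ]
    have : ∀ k : ℕ, (D.α ^ k) g = g := by
      intro k
      induction k with
      | zero => rfl
      | succ k ih => rw [pow_succ, MulAut.mul_apply, hαg, ih]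
    exact this _
  -- the operator T
  obtain ⟨T, hT⟩ : ∃ T : Module.End K W, T = ∑ g : Q, D.ρ (D.α g * g⁻¹) := ⟨_, rfl⟩
  have hTρ : ∀ h, D.ρ (D.α h) * T = T * D.ρ h := by
    intro h
    rw [hT, Finset.mul_sum, Finset.sum_mul]
    rw [← Equiv.sum_comp (Equiv.mulLeft h) (fun g => D.ρ (D.α g * g⁻¹) * D.ρ h)]
    apply Finset.sum_congr rfl
    intro g _
    rw [Equiv.coe_mulLeft, ← map_mul, ← map_mul]
    congr 1
    rw [map_mul]; group
  have hXT : D.X * T = T * D.X := by
    have h1 : D.X * T * D.X' = T := by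
      rw [hT, Finset.mul_sum, Finset.sum_mul]
      rw [← Equiv.sum_comp D.α.toEquiv (fun g => D.ρ (D.α g * g⁻¹))]
      apply Finset.sum_congr rfl
      intro g _
      rw [D.hα]
      congr 1
      simp
    calc D.X * T = D.X * T * (D.X' * D.X) := by rw [D.hX'X, mul_one]
      _ = (D.X * T * D.X') * D.X := by simp only [mul_assoc]
      _ = T * D.X := by rw [h1]
  obtain ⟨c, hc⟩ := D.schur hirr (D.X' * T)
    (by
      intro h
      rw [mul_assoc, ← hTρ, ← mul_assoc, D.X'_mul_rho, mul_assoc])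
    (by
      rw [mul_assoc, ← hXT, ← mul_assoc, D.hX'X, one_mul, ← mul_assoc, D.hXX', one_mul])
  have hTc : T = c • D.X := by
    calc T = D.X * (D.X' * T) := by rw [← mul_assoc, D.hXX', one_mul]
      _ = c • D.X := by rw [hc, mul_smul_comm, mul_one]
  -- T ≠ 0
  obtain ⟨S, hS, hSne, hSirr⟩ := exists_irr_sub D.ρ
  obtain ⟨b, hb⟩ := exists_finrank_eq_prime_pow q hqK (Nat.card Q) Q hQ le_rfl S
    (HHData.subRep D.ρ S hS) hSirr
  have hTne : T ≠ 0 := by
    intro hT0
    have h1 : (∑ g : Q, HHData.subRep D.ρ S hS (D.α g * g⁻¹)) = 0 := by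
      apply LinearMap.ext; intro x
      apply Subtype.ext
      rw [LinearMap.sum_apply, Submodule.coe_sum]
      have : ∀ g : Q, ((HHData.subRep D.ρ S hS (D.α g * g⁻¹) x : S) : W)
          = D.ρ (D.α g * g⁻¹) (x : W) := fun g => rfl
      rw [Finset.sum_congr rfl (fun g _ => this g), ← LinearMap.sum_apply, ← hT, hT0]
      rfl
    have h2 := congrArg (LinearMap.trace K S) h1
    rw [map_sum, map_zero] at h2
    have h3 : ∀ g : Q, LinearMap.trace K S (HHData.subRep D.ρ S hS (D.α g * g⁻¹))
        = if g ∈ Subgroup.center Q then ((q ^ b : ℕ) : K) else 0 := by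
      intro g
      by_cases hg : g ∈ Subgroup.center Q
      · rw [if_pos hg, hZα g hg, mul_inv_cancel, map_one, LinearMap.trace_one, hb]
      · rw [if_neg hg]
        exact hvan S hS _ (hnc g hg)
    rw [Finset.sum_congr rfl (fun g _ => h3 g), ← Finset.sum_filter, Finset.sum_const,
      nsmul_eq_mul] at h2
    rcases mul_eq_zero.mp h2 with h | h
    · have hcard : (Finset.univ.filter (fun g : Q => g ∈ Subgroup.center Q)).card
          = Nat.card (Subgroup.center Q) := by
        rw [Nat.card_eq_fintype_card, Fintype.card_subtype]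
      rw [hcard] at h
      obtain ⟨k, hk⟩ := (hQ.to_subgroup (Subgroup.center Q)).exists_card_eq
      rw [hk, Nat.cast_pow] at h
      exact pow_ne_zero _ hqK h
    · rw [Nat.cast_pow] at h
      exact pow_ne_zero _ hqK h
  have hc0 : c ≠ 0 := by
    intro h
    apply hTne
    rw [hTc, h, zero_smul]
  -- ρ is irreducible
  have hirrρ : ElemIrred D.ρ := by
    refine ⟨inferInstance, ?_⟩
    intro U hU
    apply hirr
    apply D.inv_of_X hopos U hU
    intro w hw
    have h1 : D.X w = c⁻¹ • T w := by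
      rw [hTc, LinearMap.smul_apply, smul_smul, inv_mul_cancel₀ hc0, one_smul]
    rw [h1, hT, LinearMap.sum_apply]
    apply Submodule.smul_mem
    apply Submodule.sum_mem
    intro g _
    exact hU _ w hw
  refine ⟨hirrρ, ?_⟩
  intro hrlt
  haveI : D.ρ.IsIrreducible := isIrreducible_of_elemIrred hirrρ
  have hQK : (Nat.card Q : K) ≠ 0 := by
    obtain ⟨k, hk⟩ := hQ.exists_card_eq
    rw [hk, Nat.cast_pow]
    exact pow_ne_zero _ hqK
  have hfree : ∀ g i, 0 < i → i < p ^ (n + 1) → (D.α ^ i) g = g →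
      ∃ c : K, D.ρ g = c • (1 : Module.End K W) := by
    intro g i hi0 hilt hfix
    apply hsc
    apply hC
    have hmem : D.α ^ i ∈ MulAction.stabilizer (MulAut Q) g := by
      rw [MulAction.mem_stabilizer_iff, MulAut.smul_def]; exact hfix
    have hndvd : ¬ p ^ (n + 1) ∣ i := Nat.not_dvd_of_pos_of_lt hi0 hilt
    have := cyc_pow_mem (MulAction.stabilizer (MulAut Q) g) D.α p (n + 1) (n + 1) i D.hαo hmem
      hndvd (by omega)
    rw [Nat.add_sub_cancel, MulAction.mem_stabilizer_iff, MulAut.smul_def] at this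
    rw [hβ]; exact this
  have hN : 2 ≤ finrank K W := by
    by_contra hlt
    have hpos : 0 < finrank K W := Module.finrank_pos
    have h1 : finrank K W = 1 := by omega
    apply hg₀h₀
    apply hinj
    rw [map_mul, map_mul]
    exact end_commute_of_finrank_eq_one h1 _ _
  exact critical_linear p (n + 1) D.ρ hQK D.X D.X' D.hXX' D.hX'X D.α D.hα D.hαo
    D.hXo hfree r hr (by omega) hN

end final

end Cfsg.Agent.Helper64
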