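import Cfsg.Agent.Helper64.HHCReduce
import Cfsg.Agent.Helper57.WrSecD0
import Cfsg.Agent.Helper11.PSolvable
import Cfsg.Agent.Helper62.PSolvDual
import Cfsg.Agent.Helper63.Frattini

/-!
# Quadratic pairs of commutators, part 10: the key group-theoretic consequence

Let `G` be a finite `p`-solvable group, `p` odd, with `O_{p'}(G) = 1`, and `B` a `p`-subgroup
normalised by `O_p(G)` whose derived subgroup is abelian.  Then `B' ≤ O_p(G)`.
-/

set_option autoImplicit false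

namespace Cfsg.Agent.Helper64

open Subgroup Cfsg Cfsg.Agent.Lib Cfsg.Agent.Helper70 Cfsg.Agent.Helper57.WrSec
open scoped commutatorElement

section lin

variable {p : ℕ} {A : Type*} [CommGroup A] [Module (ZMod p) (Additive A)] {H : Type*} [Group H]

/-- An action by automorphisms on an elementary abelian group, as a linear action. -/
def linOfAut (ψ : H →* MulAut A) : H →* Module.End (ZMod p) (Additive A) where
  toFun h := AddMonoidHom.toZModLinearMap p (MonoidHom.toAdditive (ψ h).toMonoidHom)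
  map_one' := by
    apply LinearMap.ext; intro a
    show Additive.ofMul (ψ 1 a.toMul) = a
    rw [map_one]; rfl
  map_mul' x y := by
    apply LinearMap.ext; intro a
    show Additive.ofMul (ψ (x * y) a.toMul) = Additive.ofMul (ψ x (ψ y a.toMul))
    rw [map_mul]; rfl

theorem linOfAut_apply (ψ : H →* MulAut A) (h : H) (a : Additive A) :
    linOfAut (p := p) ψ h a = Additive.ofMul (ψ h a.toMul) := rfl

theorem linOfAut_injective (ψ : H →* MulAut A) (hψ : Function.Injective ψ) :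
    Function.Injective (linOfAut (p := p) ψ) := by
  intro x y hxy
  apply hψ
  apply MulEquiv.ext; intro a
  have := LinearMap.congr_fun hxy (Additive.ofMul a)
  rw [linOfAut_apply, linOfAut_apply] at this
  exact Additive.ofMul.injective this

end lin

section key

variable {G : Type*} [Group G] [Finite G] {p : ℕ} [hp : Fact p.Prime]

theorem comm_le_pCore (hp2 : p ≠ 2) (hG : IsPSolvable p G) (hO : pPrimeCore p G = ⊥)
    (B : Subgroup G) (hBp : IsPGroup p B)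
    (hnorm : ∀ r ∈ pCore p G, ∀ b ∈ B, r * b * r⁻¹ ∈ B)
    (hab : ∀ a ∈ ⁅B, B⁆, ∀ a' ∈ ⁅B, B⁆, a * a' = a' * a) : ⁅B, B⁆ ≤ pCore p G := by
  have hRp : IsPGroup p (pCore p G) := isPGroup_pCore p
  have hC : Subgroup.centralizer (pCore p G : Set G) ≤ pCore p G :=
    Cfsg.Agent.Helper11.centralizer_pCore_le_of_isPSolvable hG hO
  have hHsol : IsPSolvable p (G ⧸ pCore p G) := Cfsg.Agent.Helper11.isPSolvable_quotient _ hG
  have hHO : pCore p (G ⧸ pCore p G) = ⊥ := Cfsg.Agent.Helper62.pCore_quotient_pCore_eq_bot p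
  have hV : ∀ v : ↥(pCore p G) ⧸ frattini ↥(pCore p G), v ^ p = 1 := by
    intro v
    induction v using QuotientGroup.induction_on with | _ r => ?_
    rw [← QuotientGroup.mk_pow, QuotientGroup.eq_one_iff]
    exact Cfsg.Agent.Helper63.pow_prime_mem_frattini hRp r
  letI : CommGroup (↥(pCore p G) ⧸ frattini ↥(pCore p G)) := phiCommGroup (pCore p G) hRp
  letI : Module (ZMod p) (Additive (↥(pCore p G) ⧸ frattini ↥(pCore p G))) :=
    AddCommGroup.zmodModule (n := p) (fun a => hV a.toMul)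
  have hψ := phiQuotAct_injective (pCore p G) hRp hC le_rfl
  obtain ⟨ι, hι, hιinj⟩ : ∃ ι : G ⧸ pCore p G →*
      Module.End (ZMod p) (Additive (↥(pCore p G) ⧸ frattini ↥(pCore p G))),
      (∀ (x : G) (r : ↥(pCore p G)) (hr : x * r * x⁻¹ * (r : G)⁻¹ ∈ pCore p G),
        (ι (x : G ⧸ pCore p G) - 1) (Additive.ofMul (r : ↥(pCore p G) ⧸ frattini ↥(pCore p G)))
          = Additive.ofMul (((⟨x * r * x⁻¹ * (r : G)⁻¹, hr⟩ : ↥(pCore p G)) :
              ↥(pCore p G) ⧸ frattini ↥(pCore p G)))) ∧ Function.Injective ι := by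
    refine ⟨linOfAut (phiQuotAct (pCore p G) hRp), ?_, linOfAut_injective _ hψ⟩
    intro x r hr
    rw [LinearMap.sub_apply, Module.End.one_apply, linOfAut_apply, phiQuotAct_mk]
    show Additive.ofMul (frattiniAct (pCore p G) x (r : ↥(pCore p G) ⧸ frattini ↥(pCore p G)))
      - Additive.ofMul (r : ↥(pCore p G) ⧸ frattini ↥(pCore p G)) = _
    rw [frattiniAct_mk, ← ofMul_div, ← QuotientGroup.mk_div]
    congr 2
    apply Subtype.ext
    rw [Subgroup.coe_div, div_eq_mul_inv]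
  -- the subgroup `A = B'` is normalised by `O_p(G)`
  have hnormA : ∀ r ∈ pCore p G, ∀ a ∈ ⁅B, B⁆, r * a * r⁻¹ ∈ ⁅B, B⁆ := by
    intro r hr a ha
    have h1 : (MulAut.conj r) a ∈ (⁅B, B⁆).map (MulAut.conj r).toMonoidHom := ⟨a, ha, rfl⟩
    rw [Subgroup.map_commutator] at h1
    have h2 : B.map (MulAut.conj r).toMonoidHom ≤ B := by
      rintro _ ⟨b, hb, rfl⟩
      exact hnorm r hr b hb
    have h3 := Subgroup.commutator_mono h2 h2 h1
    rwa [MulAut.conj_apply] at h3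
  have hAB : ⁅B, B⁆ ≤ B := Subgroup.commutator_le_self B
  haveI hRn : (pCore p G).Normal := inferInstance
  -- commutators with elements of `O_p(G)`
  have hcR : ∀ (x : G) (r : G), r ∈ pCore p G → x * r * x⁻¹ * r⁻¹ ∈ pCore p G := by
    intro x r hr
    exact Subgroup.mul_mem _ (hRn.conj_mem r hr x) (Subgroup.inv_mem _ hr)
  have hcB : ∀ (x : G) (r : G), x ∈ B → r ∈ pCore p G → x * r * x⁻¹ * r⁻¹ ∈ B := by
    intro x r hx hr
    have h1 : r * x⁻¹ * r⁻¹ ∈ B := hnorm r hr _ (Subgroup.inv_mem _ hx)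
    have h2 : x * r * x⁻¹ * r⁻¹ = x * (r * x⁻¹ * r⁻¹) := by group
    rw [h2]
    exact Subgroup.mul_mem _ hx h1
  have hcA : ∀ (x : G) (r : G), x ∈ ⁅B, B⁆ → r ∈ pCore p G → x * r * x⁻¹ * r⁻¹ ∈ ⁅B, B⁆ := by
    intro x r hx hr
    have h1 : r * x⁻¹ * r⁻¹ ∈ ⁅B, B⁆ := hnormA r hr _ (Subgroup.inv_mem _ hx)
    have h2 : x * r * x⁻¹ * r⁻¹ = x * (r * x⁻¹ * r⁻¹) := by group
    rw [h2]
    exact Subgroup.mul_mem _ hx h1
  have hcAA : ∀ (x r : G), x ∈ ⁅B, B⁆ → r ∈ ⁅B, B⁆ → x * r * x⁻¹ * r⁻¹ = 1 := by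
    intro x r hx hr
    rw [hab x hx r hr]
    group
  have hsurj : ∀ v : Additive (↥(pCore p G) ⧸ frattini ↥(pCore p G)),
      ∃ r : ↥(pCore p G), v = Additive.ofMul (r : ↥(pCore p G) ⧸ frattini ↥(pCore p G)) := by
    intro v
    obtain ⟨r, hr⟩ := QuotientGroup.mk_surjective v.toMul
    exact ⟨r, by rw [hr]; rfl⟩
  have hzero : Additive.ofMul (((⟨1, Subgroup.one_mem _⟩ : ↥(pCore p G)) :
      ↥(pCore p G) ⧸ frattini ↥(pCore p G))) = 0 := rfl
  obtain ⟨Bq, hBq⟩ : ∃ Bq : Subgroup (G ⧸ pCore p G),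
      Bq = B.map (QuotientGroup.mk' (pCore p G)) := ⟨_, rfl⟩
  have hBqp : IsPGroup p Bq := by rw [hBq]; exact hBp.map _
  have hcomm : ⁅Bq, Bq⁆ = (⁅B, B⁆).map (QuotientGroup.mk' (pCore p G)) := by
    rw [hBq, Subgroup.map_commutator]
  have h1 : ∀ a ∈ ⁅Bq, Bq⁆, ∀ a' ∈ ⁅Bq, Bq⁆, (ι a - 1) * (ι a' - 1) = 0 := by
    intro a ha a' ha'
    rw [hcomm] at ha ha'
    obtain ⟨x, hx, rfl⟩ := ha
    obtain ⟨x', hx', rfl⟩ := ha'
    apply LinearMap.ext; intro v
    obtain ⟨r, rfl⟩ := hsurj v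
    rw [Module.End.mul_apply, LinearMap.zero_apply]
    show (ι (x : G ⧸ pCore p G) - 1) ((ι (x' : G ⧸ pCore p G) - 1) _) = 0
    rw [hι x' r (hcR x' r r.2), hι x _ (hcR x _ (hcR x' r r.2))]
    rw [← hzero]
    congr 2
    apply Subtype.ext
    exact hcAA x _ hx (hcA x' r hx' r.2)
  have h2 : ∀ a ∈ ⁅Bq, Bq⁆, ∀ b ∈ Bq, ∀ b' ∈ Bq, (ι a - 1) * (ι b - 1) * (ι b' - 1) = 0 := by
    intro a ha b hb b' hb'
    rw [hcomm] at ha
    rw [hBq] at hb hb'
    obtain ⟨x, hx, rfl⟩ := ha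
    obtain ⟨y, hy, rfl⟩ := hb
    obtain ⟨y', hy', rfl⟩ := hb'
    apply LinearMap.ext; intro v
    obtain ⟨r, rfl⟩ := hsurj v
    rw [Module.End.mul_apply, Module.End.mul_apply, LinearMap.zero_apply]
    show (ι (x : G ⧸ pCore p G) - 1) ((ι (y : G ⧸ pCore p G) - 1)
      ((ι (y' : G ⧸ pCore p G) - 1) _)) = 0
    rw [hι y' r (hcR y' r r.2), hι y _ (hcR y _ (hcR y' r r.2)),
      hι x _ (hcR x _ (hcR y _ (hcR y' r r.2)))]
    rw [← hzero]
    congr 2
    apply Subtype.ext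
    apply hcAA x _ hx
    have h3 : y' * r * y'⁻¹ * (r : G)⁻¹ ∈ B := hcB y' r hy' r.2
    have h4 : y * (y' * r * y'⁻¹ * (r : G)⁻¹) * y⁻¹ * (y' * r * y'⁻¹ * (r : G)⁻¹)⁻¹
        = ⁅y, y' * r * y'⁻¹ * (r : G)⁻¹⁆ := by
      rw [commutatorElement_def]
    show y * (y' * r * y'⁻¹ * (r : G)⁻¹) * y⁻¹ * (y' * r * y'⁻¹ * (r : G)⁻¹)⁻¹ ∈ ⁅B, B⁆
    rw [h4]
    exact Subgroup.commutator_mem_commutator hy h3
  have hbot := comm_eq_bot_of_quad hp2 ι hιinj hHsol hHO Bq hBqp h1 h2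
  rw [hcomm] at hbot
  intro a ha
  have h3 : (QuotientGroup.mk' (pCore p G)) a ∈ (⁅B, B⁆).map (QuotientGroup.mk' (pCore p G)) :=
    ⟨a, ha, rfl⟩
  rw [hbot, Subgroup.mem_bot, QuotientGroup.mk'_apply, QuotientGroup.eq_one_iff] at h3
  exact h3

end key

end Cfsg.Agent.Helper64
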