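import Cfsg.Agent.Helper64.HHCCore
import Cfsg.Agent.Lib.Cores
import Cfsg.Agent.Helper62.PSolvDual
import Cfsg.Agent.Helper48.CoprimeGen

/-!
# Quadratic pairs of commutators, part 9: the group-theoretic reduction

Let `H` be a finite `p`-solvable group (`p` odd) with `O_p(H) = 1` acting faithfully on a
finite-dimensional space `V` in characteristic `p`, and `B` a `p`-subgroup with
`(a - 1)(a' - 1) = 0` and `(a - 1)(b - 1)(b' - 1) = 0` on `V` for `a, a' ∈ B'`, `b, b' ∈ B`.
Then `B' = 1`.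
-/

set_option autoImplicit false

namespace Cfsg.Agent.Helper64

open Module TensorProduct Subgroup Cfsg Cfsg.Agent.Lib

section basechange

variable {F : Type*} [Field F] {V : Type*} [AddCommGroup V] [Module F V]

/-- The base-change homomorphism as a monoid homomorphism. -/
noncomputable def bcMon (F : Type*) [Field F] (K : Type*) [Field K] [Algebra F K] (V : Type*)
    [AddCommGroup V] [Module F V] : Module.End F V →* Module.End K (K ⊗[F] V) :=
  (Module.End.baseChangeHom F K V : Module.End F V →* Module.End K (K ⊗[F] V))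

theorem bcMon_injective (K : Type*) [Field K] [Algebra F K] :
    Function.Injective (bcMon F K V) :=
  LinearMap.baseChangeHom_injective F V K

theorem bcMon_sub_one (K : Type*) [Field K] [Algebra F K] (A : Module.End F V) :
    bcMon F K V A - 1 = Module.End.baseChangeHom F K V (A - 1) := by
  rw [map_sub, map_one]; rfl

theorem bcMon_quad2 (K : Type*) [Field K] [Algebra F K] (A A' : Module.End F V)
    (h : (A - 1) * (A' - 1) = 0) : (bcMon F K V A - 1) * (bcMon F K V A' - 1) = 0 := by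
  rw [bcMon_sub_one, bcMon_sub_one, ← map_mul, h, map_zero]

theorem bcMon_quad3 (K : Type*) [Field K] [Algebra F K] (A A' A'' : Module.End F V)
    (h : (A - 1) * (A' - 1) * (A'' - 1) = 0) :
    (bcMon F K V A - 1) * (bcMon F K V A' - 1) * (bcMon F K V A'' - 1) = 0 := by
  rw [bcMon_sub_one, bcMon_sub_one, bcMon_sub_one, ← map_mul, ← map_mul, h, map_zero]

end basechange

section conj

variable {H : Type*} [Group H] [Finite H]

/-- The conjugation action of a subgroup `B` on a `B`-invariant subgroup `Q₀`. -/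
noncomputable def conjRestrictHom (B Q₀ : Subgroup H)
    (hinv : ∀ b ∈ B, ∀ u ∈ Q₀, b * u * b⁻¹ ∈ Q₀) : ↥B →* MulAut ↥Q₀ where
  toFun b := HHData.autRestrict (MulAut.conj (b : H)) Q₀
    (fun u hu => by rw [MulAut.conj_apply]; exact hinv b b.2 u hu)
  map_one' := by
    apply MulEquiv.ext; intro g
    apply Subtype.ext
    rw [HHData.autRestrict_apply]
    simp
  map_mul' a b := by
    apply MulEquiv.ext; intro g
    apply Subtype.ext
    rw [HHData.autRestrict_apply, MulAut.mul_apply, HHData.autRestrict_apply,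
      HHData.autRestrict_apply]
    simp [mul_assoc]

theorem conjRestrictHom_apply (B Q₀ : Subgroup H)
    (hinv : ∀ b ∈ B, ∀ u ∈ Q₀, b * u * b⁻¹ ∈ Q₀) (b : B) (u : Q₀) :
    ((conjRestrictHom B Q₀ hinv b u : Q₀) : H) = (b : H) * (u : H) * (b : H)⁻¹ := rfl

end conj

section reduce

variable {F : Type*} [Field F] {p : ℕ} [hp : Fact p.Prime] [CharP F p]
  {V : Type*} [AddCommGroup V] [Module F V] [FiniteDimensional F V]
  {H : Type*} [Group H] [Finite H]

theorem comm_centralizes_invariant (hp2 : p ≠ 2) (ι : H →* Module.End F V)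
    (hι : Function.Injective ι) (B : Subgroup H) (hBp : IsPGroup p B)
    (h1 : ∀ a ∈ ⁅B, B⁆, ∀ a' ∈ ⁅B, B⁆, (ι a - 1) * (ι a' - 1) = 0)
    (h2 : ∀ a ∈ ⁅B, B⁆, ∀ b ∈ B, ∀ b' ∈ B, (ι a - 1) * (ι b - 1) * (ι b' - 1) = 0)
    (q : ℕ) [hq : Fact q.Prime] (hpq : p ≠ q) (Q₀ : Subgroup H) (hQ₀ : IsPGroup q Q₀)
    (hinv : ∀ b ∈ B, ∀ u ∈ Q₀, b * u * b⁻¹ ∈ Q₀) :
    ∀ a ∈ ⁅B, B⁆, ∀ u ∈ Q₀, a * u = u * a := by
  haveI : CharP (AlgebraicClosure F) p :=
    charP_of_injective_algebraMap (algebraMap F (AlgebraicClosure F)).injective p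
  have hmemc : ∀ a : B, a ∈ commutator B → (a : H) ∈ ⁅B, B⁆ := by
    intro a ha
    have : (a : H) ∈ (commutator B).map B.subtype := ⟨a, ha, rfl⟩
    rwa [Subgroup.map_subtype_commutator] at this
  obtain ⟨D, hDρ, hDφ, hDσ⟩ : ∃ D : BData (AlgebraicClosure F) Q₀ (AlgebraicClosure F ⊗[F] V) B,
      (∀ g : Q₀, D.ρ g = bcMon F (AlgebraicClosure F) V (ι (g : H))) ∧
      (∀ (b : B) (g : Q₀), ((D.φ b g : Q₀) : H) = (b : H) * (g : H) * (b : H)⁻¹) ∧
      (∀ b : B, D.σ b = bcMon F (AlgebraicClosure F) V (ι (b : H))) := by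
    refine ⟨{ ρ := ((bcMon F (AlgebraicClosure F) V).comp ι).comp Q₀.subtype
              φ := conjRestrictHom B Q₀ hinv
              σ := ((bcMon F (AlgebraicClosure F) V).comp ι).comp B.subtype
              hσ := ?_ }, fun g => rfl, fun b g => rfl, fun b => rfl⟩
    intro b g
    show bcMon F (AlgebraicClosure F) V (ι (b : H)) * bcMon F (AlgebraicClosure F) V (ι (g : H))
      = bcMon F (AlgebraicClosure F) V (ι ((conjRestrictHom B Q₀ hinv b g : Q₀) : H))
        * bcMon F (AlgebraicClosure F) V (ι (b : H))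
    rw [conjRestrictHom_apply, ← map_mul, ← map_mul, ← map_mul, ← map_mul]
    congr 2
    group
  have hquad : QuadRep D.σ := by
    refine ⟨?_, ?_⟩
    · intro a ha a' ha'
      rw [hDσ, hDσ]
      exact bcMon_quad2 _ _ _ (h1 _ (hmemc a ha) _ (hmemc a' ha'))
    · intro a ha b b'
      rw [hDσ, hDσ, hDσ]
      exact bcMon_quad3 _ _ _ _ (h2 _ (hmemc a ha) _ b.2 _ b'.2)
  have hres := b_linear p q hp2 hpq hBp hQ₀ D hquad
  intro a ha u hu
  rw [← Subgroup.map_subtype_commutator] at ha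
  obtain ⟨a', ha', rfl⟩ := ha
  have h3 := hres a' ha' ⟨u, hu⟩
  rw [hDρ, hDρ] at h3
  have h4 := hι (bcMon_injective (AlgebraicClosure F) h3)
  rw [hDφ] at h4
  have h5 : (a' : H) * u * (a' : H)⁻¹ = u := h4
  calc B.subtype a' * u = ((a' : H) * u * (a' : H)⁻¹) * (a' : H) := by
        rw [Subgroup.coe_subtype]; group
    _ = u * B.subtype a' := by rw [h5, Subgroup.coe_subtype]

theorem comm_eq_bot_of_quad (hp2 : p ≠ 2) (ι : H →* Module.End F V)
    (hι : Function.Injective ι) (hsol : IsPSolvable p H) (hOp : pCore p H = ⊥)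
    (B : Subgroup H) (hBp : IsPGroup p B)
    (h1 : ∀ a ∈ ⁅B, B⁆, ∀ a' ∈ ⁅B, B⁆, (ι a - 1) * (ι a' - 1) = 0)
    (h2 : ∀ a ∈ ⁅B, B⁆, ∀ b ∈ B, ∀ b' ∈ B, (ι a - 1) * (ι b - 1) * (ι b' - 1) = 0) :
    ⁅B, B⁆ = ⊥ := by
  obtain ⟨L, hL⟩ : ∃ L : Subgroup H, L = pPrimeCore p H := ⟨_, rfl⟩
  haveI hLchar : L.Characteristic := by rw [hL]; exact pPrimeCore_characteristic p
  haveI hLn : L.Normal := Subgroup.normal_of_characteristic _
  have hLcop : (Nat.card L).Coprime p := by rw [hL]; exact card_pPrimeCore_coprime p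
  have hpL : ¬ p ∣ Nat.card L := by
    intro hd
    have := Nat.Coprime.eq_one_of_dvd hLcop.symm hd
    exact hp.out.one_lt.ne' this
  have hBN : B ≤ normalizer (L : Set H) := by
    rw [Subgroup.normalizer_eq_top]; exact le_top
  have hle : L ≤ L ⊓ centralizer ((⁅B, B⁆ : Subgroup H) : Set H) := by
    apply Cfsg.Agent.Helper48.le_of_forall_sylow_le inf_le_left
    intro q hq
    haveI : Fact q.Prime := hq
    obtain ⟨S, hS⟩ := Cfsg.Agent.Helper48.exists_invariant_sylow L B hBN hBp hpL q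
    refine ⟨S, ?_⟩
    obtain ⟨Q, hQdef⟩ : ∃ Q : Subgroup H, Q = (S : Subgroup L).map L.subtype := ⟨_, rfl⟩
    rw [← hQdef]
    have hQL : Q ≤ L := by
      rw [hQdef]; rintro _ ⟨w, -, rfl⟩; exact w.2
    have hQq : IsPGroup q Q := by rw [hQdef]; exact S.isPGroup'.map _
    have hQn : ∀ b ∈ B, ∀ u ∈ Q, b * u * b⁻¹ ∈ Q := by
      rw [hQdef]
      rintro b hb _ ⟨w, hw, rfl⟩
      exact ⟨⟨b * (w : H) * b⁻¹, hLn.conj_mem w w.2 b⟩,
        hS b hb w hw (hLn.conj_mem w w.2 b), rfl⟩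
    haveI : Finite Q := Finite.of_injective _ (inclusion_injective hQL)
    have hQcop : (Nat.card Q).Coprime p :=
      Nat.Coprime.coprime_dvd_left (card_dvd_of_le hQL) hLcop
    have hcent : ∀ a ∈ ⁅B, B⁆, ∀ u ∈ Q, a * u = u * a := by
      by_cases hqp : q = p
      · intro a _ u hu
        have h1' : orderOf u ∣ Nat.card Q := Subgroup.orderOf_dvd_natCard Q hu
        obtain ⟨k, hk⟩ := hQq ⟨u, hu⟩
        have h2' : u ^ q ^ k = 1 := by simpa using congrArg Subtype.val hk
        have h3 : orderOf u ∣ p ^ k := by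
          rw [← hqp]; exact orderOf_dvd_of_pow_eq_one h2'
        have h4 : orderOf u = 1 :=
          Nat.eq_one_of_dvd_coprimes (Nat.Coprime.pow_right k hQcop) h1' h3
        rw [orderOf_eq_one_iff.mp h4, mul_one, one_mul]
      · exact comm_centralizes_invariant hp2 ι hι B hBp h1 h2 q (Ne.symm hqp) Q hQq hQn
    intro u hu
    refine ⟨hQL hu, ?_⟩
    show u ∈ centralizer ((⁅B, B⁆ : Subgroup H) : Set H)
    rw [mem_centralizer_iff]
    intro a ha
    exact hcent a ha u hu
  have hAC : ⁅B, B⁆ ≤ centralizer (L : Set H) := by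
    intro a ha
    rw [mem_centralizer_iff]
    intro l hl
    have h3 : l ∈ centralizer ((⁅B, B⁆ : Subgroup H) : Set H) := (hle hl).2
    rw [mem_centralizer_iff] at h3
    exact (h3 a ha).symm
  have hAL : ⁅B, B⁆ ≤ L := by
    have := Cfsg.Agent.Helper62.centralizer_pPrimeCore_le_of_isPSolvable hsol hOp
    rw [← hL] at this
    exact hAC.trans this
  rw [eq_bot_iff]
  intro a ha
  rw [Subgroup.mem_bot]
  have ho1 : orderOf a ∣ Nat.card L := Subgroup.orderOf_dvd_natCard L (hAL ha)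
  obtain ⟨k, hk⟩ := hBp ⟨a, Subgroup.commutator_le_self B ha⟩
  have hk' : a ^ p ^ k = 1 := by simpa using congrArg Subtype.val hk
  have ho2 : orderOf a ∣ p ^ k := orderOf_dvd_of_pow_eq_one hk'
  have ho3 : orderOf a = 1 :=
    Nat.eq_one_of_dvd_coprimes (Nat.Coprime.pow_right k hLcop) ho1 ho2
  exact orderOf_eq_one_iff.mp ho3

end reduce

end Cfsg.Agent.Helper64
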