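import Cfsg.Agent.Helper64.HHCData

/-!
# Quadratic pairs of commutators, part 4: the induction hypothesis and the reduction steps
-/

set_option autoImplicit false

namespace Cfsg.Agent.Helper64

open Module

universe u v w x

/-- The induction hypothesis: the commutator subgroup of `B` acts trivially on `ρ(Q)` for all
data of measure at most `M`. -/
def BHyp (K : Type u) [Field K] (B : Type x) [Group B] (q M : ℕ) : Prop :=
  ∀ (Q' : Type w) [Group Q'] [Finite Q'] (W' : Type v) [AddCommGroup W'] [Module K W']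
    [FiniteDimensional K W'], IsPGroup q Q' → finrank K W' + Nat.card Q' ≤ M →
    ∀ D' : BData K Q' W' B, QuadRep D'.σ → ∀ a ∈ commutator B, ∀ g, D'.ρ (D'.φ a g) = D'.ρ g

variable {K : Type u} [Field K] {Q : Type w} [Group Q] {W : Type v} [AddCommGroup W] [Module K W]
  {B : Type x} [Group B]

namespace BData

/-- A Hall–Higman datum with the same `ρ` (used to access the weight-space lemmas). -/
def hh (D : BData K Q W B) : HHData K Q W 1 :=
  D.elt 1 1 (by rw [pow_one, map_one]) (by rw [pow_one, map_one])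

theorem hh_ρ (D : BData K Q W B) : D.hh.ρ = D.ρ := rfl

/-- The elements of `B` fixing the weight `lam` of the centre. -/
def wtStabB (D : BData K Q W B) (lam : Q → K) : Subgroup B := (HHData.wtStab lam).comap D.φ

theorem mem_wtStabB (D : BData K Q W B) (lam : Q → K) (b : B) :
    b ∈ D.wtStabB lam ↔ ∀ z ∈ Subgroup.center Q, lam (D.φ b z) = lam z := Iff.rfl

/-- `σ(b)` maps the `lam`-weight space into the `lam ∘ φ_b⁻¹`-weight space. -/
theorem sigma_mem_wtSpace (D : BData K Q W B) (lam : Q → K) (b : B) (w : W)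
    (hw : w ∈ D.hh.wtSpace lam) : D.σ b w ∈ D.hh.wtSpace (fun z => lam (D.φ b⁻¹ z)) := by
  intro z hz
  show D.ρ z (D.σ b w) = lam (D.φ b⁻¹ z) • D.σ b w
  rw [D.rho_sigma_apply]
  have := hw _ (aut_mem_center (D.φ b⁻¹) z hz)
  rw [D.hh_ρ] at this
  rw [this, map_smul]

theorem sigma_mem_wtSpace_of_mem (D : BData K Q W B) (lam : Q → K) (b : B)
    (hb : b ∈ D.wtStabB lam) (w : W) (hw : w ∈ D.hh.wtSpace lam) :
    D.σ b w ∈ D.hh.wtSpace lam := by
  have h1 := D.sigma_mem_wtSpace lam b w hw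
  have h2 : b⁻¹ ∈ D.wtStabB lam := Subgroup.inv_mem _ hb
  intro z hz
  rw [h1 z hz]
  congr 1
  exact (D.mem_wtStabB lam b⁻¹).mp h2 z hz

/-- Being a multiplicative weight. -/
def IsWt (lam : Q → K) : Prop :=
  lam 1 = 1 ∧ ∀ z ∈ Subgroup.center Q, ∀ z' ∈ Subgroup.center Q, lam (z * z') = lam z * lam z'

theorem IsWt.comp {lam : Q → K} (h : IsWt lam) (γ : MulAut Q) : IsWt (fun z => lam (γ z)) := by
  refine ⟨?_, ?_⟩
  · show lam (γ 1) = 1
    rw [map_one, h.1]
  · intro z hz z' hz'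
    show lam (γ (z * z')) = lam (γ z) * lam (γ z')
    rw [map_mul, h.2 _ (aut_mem_center γ z hz) _ (aut_mem_center γ z' hz')]

end BData

section oddorder

variable (p : ℕ) [hp : Fact p.Prime]

theorem mem_of_sq_mem (hp2 : p ≠ 2) (hB : IsPGroup p B) (S : Subgroup B) (b : B)
    (h : b ^ 2 ∈ S) : b ∈ S := by
  obtain ⟨k, hk⟩ := hB b
  have hodd : Odd (p ^ k) := (hp.1.eq_two_or_odd'.resolve_left hp2).pow
  obtain ⟨m, hm⟩ := hodd
  have h1 : b = (b ^ 2) ^ (m + 1) := by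
    rw [← pow_mul, show 2 * (m + 1) = p ^ k + 1 by omega, pow_succ, hk, one_mul]
  rw [h1]
  exact Subgroup.pow_mem _ h _

end oddorder

section steps

variable (p q : ℕ) [hp : Fact p.Prime] [hq : Fact q.Prime] [CharP K p]

theorem rep_eq_of_eq_on_sub_quo (hpq : p ≠ q) (hQ : IsPGroup q Q) (ρ : Representation K Q W)
    (U : Submodule K W) (hU : ∀ g, ∀ w ∈ U, ρ g w ∈ U) (b g : Q)
    (h1g : ∀ w ∈ U, ρ b w = ρ g w) (h2g : ∀ w, ρ b w - ρ g w ∈ U) : ρ b = ρ g := by
  obtain ⟨u, hu⟩ : ∃ u, u = ρ (g⁻¹ * b) := ⟨_, rfl⟩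
  have hu1 : ∀ w ∈ U, u w = w := by
    intro w hw
    rw [hu, map_mul, Module.End.mul_apply, h1g w hw, ← Module.End.mul_apply, ← map_mul,
      inv_mul_cancel, map_one, Module.End.one_apply]
  have hu2 : ∀ w, u w - w ∈ U := by
    intro w
    have h3 : u w - w = ρ g⁻¹ (ρ b w - ρ g w) := by
      rw [map_sub, hu, map_mul, Module.End.mul_apply, ← Module.End.mul_apply (ρ g⁻¹) (ρ g),
        ← map_mul, inv_mul_cancel, map_one, Module.End.one_apply]
    rw [h3]
    exact hU _ _ (h2g w)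
  have husq : (u - 1) * (u - 1) = 0 := by
    apply LinearMap.ext; intro w
    rw [Module.End.mul_apply, LinearMap.sub_apply, LinearMap.sub_apply, Module.End.one_apply,
      Module.End.one_apply, LinearMap.zero_apply, hu1 _ (hu2 w), sub_self]
  obtain ⟨k, hk⟩ := hQ (g⁻¹ * b)
  have hupow : u ^ (q ^ k) = 1 := by rw [hu, ← map_pow, hk, map_one]
  have hqK : ((q ^ k : ℕ) : K) ≠ 0 := by
    rw [Nat.cast_pow]; exact pow_ne_zero _ (natCast_ne_zero_of_ne p q hpq)
  have hu1' := eq_one_of_sq_zero u husq (q ^ k) hqK hupow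
  rw [hu, map_mul] at hu1'
  calc ρ b = ρ g * (ρ g⁻¹ * ρ b) := by
        rw [← mul_assoc, ← map_mul, mul_inv_cancel, map_one, one_mul]
    _ = ρ g := by rw [hu1', mul_one]

variable [Finite Q] [FiniteDimensional K W]

/-- **Reducible case.** -/
theorem bstep_reducible (hpq : p ≠ q) (M : ℕ) (IH : BHyp.{u, v, w, x} K B q M)
    (hQ : IsPGroup q Q) (hM : finrank K W + Nat.card Q ≤ M + 1) (D : BData K Q W B)
    (hquad : QuadRep D.σ) (U : Submodule K W) (hU : D.Inv U) (hU0 : U ≠ ⊥) (hU1 : U ≠ ⊤) :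
    ∀ a ∈ commutator B, ∀ g, D.ρ (D.φ a g) = D.ρ g := by
  intro a ha g
  have hlt1 : finrank K U < finrank K W := Submodule.finrank_lt hU1
  have hlt2 : finrank K (W ⧸ U) < finrank K W := by
    have h1 := Submodule.finrank_quotient_add_finrank U
    have h2 : finrank K U ≠ 0 := fun h => hU0 (Submodule.finrank_eq_zero.mp h)
    omega
  have e1 := IH Q U hQ (by omega) (D.res U hU) (hquad.subRep U hU.2) a ha g
  have e2 := IH Q (W ⧸ U) hQ (by omega) (D.quo U hU) (hquad.quoRep U hU.2) a ha g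
  apply rep_eq_of_eq_on_sub_quo p q hpq hQ D.ρ U hU.1
  · intro w hw
    have := LinearMap.congr_fun e1 ⟨w, hw⟩
    exact congrArg Subtype.val this
  · intro w
    have := LinearMap.congr_fun e2 (Submodule.Quotient.mk w)
    rw [D.quo_ρ_mk, D.quo_ρ_mk, Submodule.Quotient.eq] at this
    exact this

/-- **Non-faithful case.** -/
theorem bstep_kernel (M : ℕ) (IH : BHyp.{u, v, w, x} K B q M) (hQ : IsPGroup q Q)
    (hM : finrank K W + Nat.card Q ≤ M + 1) (D : BData K Q W B) (hquad : QuadRep D.σ)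
    (hker : ¬ Function.Injective D.ρ) : ∀ a ∈ commutator B, ∀ g, D.ρ (D.φ a g) = D.ρ g := by
  intro a ha g
  have hne : D.kerρ ≠ ⊥ := by
    intro h
    apply hker
    exact (MonoidHom.ker_eq_bot_iff (D.ρ : Q →* Module.End K W)).mp h
  have hcard : Nat.card (Q ⧸ D.kerρ) < Nat.card Q := by
    have h1 := Subgroup.card_eq_card_quotient_mul_card_subgroup D.kerρ
    have h2 := (Subgroup.one_lt_card_iff_ne_bot D.kerρ).mpr hne
    have h3 : 0 < Nat.card (Q ⧸ D.kerρ) := Nat.card_pos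
    nlinarith
  have := IH (Q ⧸ D.kerρ) W (hQ.to_quotient _) (by omega) D.quotKer hquad a ha (g : Q ⧸ D.kerρ)
  rw [D.quotKer_φ_mk, D.quotKer_ρ_mk, D.quotKer_ρ_mk] at this
  exact this

/-- **Proper invariant subgroups.** -/
theorem bstep_subgroup (M : ℕ) (IH : BHyp.{u, v, w, x} K B q M) (hQ : IsPGroup q Q)
    (hM : finrank K W + Nat.card Q ≤ M + 1) (D : BData K Q W B) (hquad : QuadRep D.σ)
    (Q₁ : Subgroup Q) (hQ₁ : Q₁ ≠ ⊤) (hinv : ∀ b, ∀ g ∈ Q₁, D.φ b g ∈ Q₁) :
    ∀ a ∈ commutator B, ∀ g ∈ Q₁, D.ρ (D.φ a g) = D.ρ g := by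
  intro a ha g hg
  have hcard : Nat.card Q₁ < Nat.card Q := by
    have h1 := Subgroup.card_le_card_group Q₁
    have h2 : Nat.card Q₁ ≠ Nat.card Q := fun h => hQ₁ (Subgroup.eq_top_of_card_eq Q₁ h)
    omega
  have := IH Q₁ W (hQ.to_subgroup Q₁) (by omega) (D.sub Q₁ hinv) hquad a ha ⟨g, hg⟩
  rw [D.sub_ρ_apply, D.sub_ρ_apply, D.sub_φ_apply] at this
  exact this

end steps

end Cfsg.Agent.Helper64
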