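import Cfsg.Agent.Helper64.HHCSteps

/-!
# Quadratic pairs of commutators, part 5: the weight step

If the data is irreducible, then either the commutator subgroup of `B` acts trivially on `W`, or
the centre of `Q` acts by scalars.
-/

set_option autoImplicit false

namespace Cfsg.Agent.Helper64

open Module

universe u v w x

variable {K : Type u} [Field K] {Q : Type w} [Group Q] {W : Type v} [AddCommGroup W] [Module K W]
  {B : Type x} [Group B]

section wt

variable (p q : ℕ) [hp : Fact p.Prime] [hq : Fact q.Prime] [CharP K p]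
variable [Finite Q]

/-- The projection onto the `lam`-weight space kills the weight spaces of the translates of `lam`
by elements outside the stabiliser. -/
theorem wtProj_eq_zero_of_not_mem [Fintype (Subgroup.center Q)] (D : BData K Q W B)
    (lam : Q → K) (hlam : BData.IsWt lam) (c : B) (hc : c ∉ D.wtStabB lam) (w : W)
    (hw : w ∈ D.hh.wtSpace (fun z => lam (D.φ c⁻¹ z))) : D.hh.wtProj lam w = 0 := by
  have hc' : c⁻¹ ∉ D.wtStabB lam := by
    intro h
    apply hc
    have := Subgroup.inv_mem _ h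
    rwa [inv_inv] at this
  rw [BData.mem_wtStabB] at hc'
  push Not at hc'
  obtain ⟨z₀, hz₀, hne⟩ := hc'
  exact D.hh.wtProj_apply_of_ne lam _ hlam.2 z₀ hz₀ hne w hw

theorem card_center_ne_zero (hpq : p ≠ q) (hQ : IsPGroup q Q) :
    (Nat.card (Subgroup.center Q) : K) ≠ 0 := by
  obtain ⟨k, hk⟩ := (hQ.to_subgroup (Subgroup.center Q)).exists_card_eq
  rw [hk, Nat.cast_pow]
  exact pow_ne_zero _ (natCast_ne_zero_of_ne p q hpq)

/-- **Claim 1.** The commutator subgroup of `B` preserves every weight space. -/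
theorem comm_mem_wtSpace [Fintype (Subgroup.center Q)] (hp2 : p ≠ 2) (hpq : p ≠ q)
    (hQ : IsPGroup q Q) (hB : IsPGroup p B) (D : BData K Q W B) (hquad : QuadRep D.σ)
    (a : B) (ha : a ∈ commutator B) (mu : Q → K) (hmu : BData.IsWt mu) (w : W)
    (hw : w ∈ D.hh.wtSpace mu) : D.σ a w ∈ D.hh.wtSpace mu := by
  by_cases hw0 : w = 0
  · rw [hw0, map_zero]; exact Submodule.zero_mem _
  apply D.sigma_mem_wtSpace_of_mem mu a _ w hw
  by_contra hnot
  have hnot2 : a * a ∉ D.wtStabB mu := by
    intro h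
    apply hnot
    apply mem_of_sq_mem p hp2 hB
    rwa [sq]
  apply hw0
  have e := LinearMap.congr_fun (hquad.1 a ha a ha) w
  rw [Module.End.mul_apply, LinearMap.zero_apply] at e
  simp only [LinearMap.sub_apply, Module.End.one_apply, map_sub] at e
  rw [← Module.End.mul_apply, ← map_mul] at e
  have e2 := congrArg (D.hh.wtProj mu) e
  rw [map_sub, map_sub, map_sub, map_zero,
    wtProj_eq_zero_of_not_mem D mu hmu (a * a) hnot2 _ (D.sigma_mem_wtSpace mu (a * a) w hw),
    wtProj_eq_zero_of_not_mem D mu hmu a hnot _ (D.sigma_mem_wtSpace mu a w hw),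
    D.hh.wtProj_apply_of_mem mu hmu.1 hmu.2 w hw] at e2
  simp only [sub_zero, zero_sub, neg_neg] at e2
  rcases smul_eq_zero.mp e2 with h | h
  · exact absurd h (card_center_ne_zero p q hpq hQ)
  · exact h

/-- **Claim 2.** If some element of `B` moves the weight `mu`, the commutator subgroup of `B`
acts trivially on the `mu`-weight space. -/
theorem comm_fix_wtSpace [Fintype (Subgroup.center Q)] (hp2 : p ≠ 2) (hpq : p ≠ q)
    (hQ : IsPGroup q Q) (hB : IsPGroup p B) (D : BData K Q W B) (hquad : QuadRep D.σ)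
    (mu : Q → K) (hmu : BData.IsWt mu) (b : B) (hb : b ∉ D.wtStabB mu)
    (a : B) (ha : a ∈ commutator B) (w : W) (hw : w ∈ D.hh.wtSpace mu) : D.σ a w = w := by
  have hb2 : b * b ∉ D.wtStabB mu := by
    intro h
    apply hb
    apply mem_of_sq_mem p hp2 hB
    rwa [sq]
  have e := LinearMap.congr_fun (hquad.2 a ha b b) w
  rw [Module.End.mul_apply, Module.End.mul_apply, LinearMap.zero_apply] at e
  -- the three components
  have m2 : (D.σ a - 1) (D.σ (b * b) w) ∈ D.hh.wtSpace (fun z => mu (D.φ (b * b)⁻¹ z)) := by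
    have h1 := D.sigma_mem_wtSpace mu (b * b) w hw
    rw [LinearMap.sub_apply, Module.End.one_apply]
    exact Submodule.sub_mem _
      (comm_mem_wtSpace p q hp2 hpq hQ hB D hquad a ha _ (hmu.comp _) _ h1) h1
  have m1 : (D.σ a - 1) (D.σ b w) ∈ D.hh.wtSpace (fun z => mu (D.φ b⁻¹ z)) := by
    have h1 := D.sigma_mem_wtSpace mu b w hw
    rw [LinearMap.sub_apply, Module.End.one_apply]
    exact Submodule.sub_mem _
      (comm_mem_wtSpace p q hp2 hpq hQ hB D hquad a ha _ (hmu.comp _) _ h1) h1
  have m0 : (D.σ a - 1) w ∈ D.hh.wtSpace mu := by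
    rw [LinearMap.sub_apply, Module.End.one_apply]
    exact Submodule.sub_mem _ (comm_mem_wtSpace p q hp2 hpq hQ hB D hquad a ha _ hmu _ hw) hw
  have e' : (D.σ a - 1) (D.σ (b * b) w) - (D.σ a - 1) (D.σ b w)
      - ((D.σ a - 1) (D.σ b w) - (D.σ a - 1) w) = 0 := by
    rw [← e]
    simp only [LinearMap.sub_apply, Module.End.one_apply, map_sub, map_mul, Module.End.mul_apply]
  have e2 := congrArg (D.hh.wtProj mu) e'
  rw [map_sub, map_sub, map_sub, map_zero,
    wtProj_eq_zero_of_not_mem D mu hmu (b * b) hb2 _ m2,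
    wtProj_eq_zero_of_not_mem D mu hmu b hb _ m1,
    D.hh.wtProj_apply_of_mem mu hmu.1 hmu.2 _ m0] at e2
  simp only [sub_zero, zero_sub, neg_neg] at e2
  rcases smul_eq_zero.mp e2 with h | h
  · exact absurd h (card_center_ne_zero p q hpq hQ)
  · rw [LinearMap.sub_apply, Module.End.one_apply] at h
    exact sub_eq_zero.mp h

variable [FiniteDimensional K W]

/-- **The weight step.** -/
theorem bstep_weights [IsAlgClosed K] [Nontrivial W] (hp2 : p ≠ 2) (hpq : p ≠ q)
    (hQ : IsPGroup q Q) (hB : IsPGroup p B) (D : BData K Q W B) (hquad : QuadRep D.σ)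
    (hirr : D.Irr) :
    (∀ a ∈ commutator B, ∀ g, D.ρ (D.φ a g) = D.ρ g) ∨
      ∀ z ∈ Subgroup.center Q, ∃ c : K, D.ρ z = c • (1 : Module.End K W) := by
  classical
  haveI : Fintype (Subgroup.center Q) := Fintype.ofFinite _
  obtain ⟨lam, w₀, hw₀, h1, hmul, hlam⟩ := exists_weight D.ρ
  have hwt : BData.IsWt lam := ⟨h1, hmul⟩
  have hw₀W : w₀ ∈ D.hh.wtSpace lam := hlam
  have hW₀ne : D.hh.wtSpace lam ≠ ⊥ := fun h => hw₀ (by
    rw [h] at hw₀W; exact (Submodule.mem_bot K).mp hw₀W)
  by_cases hall : ∀ b : B, b ∈ D.wtStabB lam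
  · right
    have hinv : D.Inv (D.hh.wtSpace lam) :=
      ⟨fun g w hw => D.hh.rho_mem_wtSpace lam g w hw,
        fun b w hw => D.sigma_mem_wtSpace_of_mem lam b (hall b) w hw⟩
    rcases hirr _ hinv with h | h
    · exact absurd h hW₀ne
    · intro z hz
      refine ⟨lam z, ?_⟩
      apply LinearMap.ext; intro w
      have hw : w ∈ D.hh.wtSpace lam := by rw [h]; trivial
      have := hw z hz
      rw [D.hh_ρ] at this
      rw [this, LinearMap.smul_apply, Module.End.one_apply]
  left
  push Not at hall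
  obtain ⟨b, hb⟩ := hall
  have hfix : ∀ a ∈ commutator B, ∀ w ∈ D.hh.wtSpace lam, D.σ a w = w :=
    fun a ha w hw => comm_fix_wtSpace p q hp2 hpq hQ hB D hquad lam hwt b hb a ha w hw
  obtain ⟨F, hF⟩ : ∃ F : Submodule K W,
      ∀ w, w ∈ F ↔ ∀ a ∈ commutator B, ∀ g, D.σ a (D.ρ g w) = D.ρ g w := by
    refine ⟨{ carrier := {w | ∀ a ∈ commutator B, ∀ g, D.σ a (D.ρ g w) = D.ρ g w}
              add_mem' := ?_, zero_mem' := ?_, smul_mem' := ?_ }, fun w => Iff.rfl⟩
    · intro x y hx hy a ha g
      rw [map_add, map_add, hx a ha g, hy a ha g]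
    · intro a _ g
      rw [map_zero, map_zero]
    · intro c x hx a ha g
      rw [map_smul, map_smul, hx a ha g]
  have hFinv : D.Inv F := by
    refine ⟨?_, ?_⟩
    · intro h w hw
      rw [hF] at hw ⊢
      intro a ha g
      have e : D.ρ g (D.ρ h w) = D.ρ (g * h) w := by rw [map_mul, Module.End.mul_apply]
      rw [e]
      exact hw a ha (g * h)
    · intro c w hw
      rw [hF] at hw ⊢
      intro a ha g
      have hconj : c⁻¹ * a * c ∈ commutator B := by
        have hn : (commutator B).Normal := inferInstance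
        have := hn.conj_mem a ha c⁻¹
        rwa [inv_inv] at this
      rw [D.rho_sigma_apply c g w]
      have e : D.σ a (D.σ c (D.ρ (D.φ c⁻¹ g) w))
          = D.σ c (D.σ (c⁻¹ * a * c) (D.ρ (D.φ c⁻¹ g) w)) := by
        generalize D.ρ (D.φ c⁻¹ g) w = y
        rw [← Module.End.mul_apply, ← map_mul, ← Module.End.mul_apply, ← map_mul]
        congr 2
        group
      rw [e, hw _ hconj]
  have hFne : F ≠ ⊥ := by
    intro h
    apply hw₀
    have : w₀ ∈ F := by
      rw [hF]
      intro a ha g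
      exact hfix a ha _ (D.hh.rho_mem_wtSpace lam g w₀ hw₀W)
    rw [h] at this
    exact (Submodule.mem_bot K).mp this
  have hFtop : F = ⊤ := by
    rcases hirr F hFinv with h | h
    · exact absurd h hFne
    · exact h
  have hσ1 : ∀ a ∈ commutator B, D.σ a = 1 := by
    intro a ha
    apply LinearMap.ext; intro w
    have hw : w ∈ F := by rw [hFtop]; trivial
    have := (hF w).mp hw a ha 1
    rw [map_one, Module.End.one_apply] at this
    rw [this, Module.End.one_apply]
  intro a ha g
  rw [← D.conj, hσ1 a ha, hσ1 a⁻¹ (Subgroup.inv_mem _ ha), one_mul, mul_one]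

end wt

end Cfsg.Agent.Helper64
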