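import Mathlib

/-!
# Hall–Higman engine, part 1: the commutant of a nilpotent endomorphism is large

If `ε ^ D = 0` on an `N`-dimensional space then `N ^ 2 ≤ D * dim {S | S ε = ε S}`.
No Jordan form: induction through the restriction of `ε` to its range.
-/

set_option autoImplicit false

namespace Cfsg.Agent.Helper64

open Module

universe u v

variable {K : Type u} [Field K]

/-- The commutant of an endomorphism, as a submodule of `End`. -/
def commutantSub {V : Type v} [AddCommGroup V] [Module K V] (ε : Module.End K V) :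
    Submodule K (Module.End K V) where
  carrier := {S | S * ε = ε * S}
  add_mem' := by
    intro a b ha hb
    simp only [Set.mem_ofPred_eq] at ha hb ⊢
    rw [add_mul, mul_add, ha, hb]
  zero_mem' := by simp
  smul_mem' := by
    intro c a ha
    simp only [Set.mem_ofPred_eq] at ha ⊢
    rw [smul_mul_assoc, mul_smul_comm, ha]

theorem mem_commutantSub {V : Type v} [AddCommGroup V] [Module K V] (ε S : Module.End K V) :
    S ∈ commutantSub ε ↔ S * ε = ε * S := Iff.rfl

section step

variable {V : Type v} [AddCommGroup V] [Module K V] [FiniteDimensional K V]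
  {W : Type v} [AddCommGroup W] [Module K W] [FiniteDimensional K W]
  (r : V →ₗ[K] W) (ιW : W →ₗ[K] V)

/-- The main dimension inequality for one step, in abstract form: `ε = ιW ∘ r` with `r` onto and
`ιW` injective; the restriction of `ε` to its range is `r ∘ ιW`. -/
theorem finrank_commutant_step_aux (hr : Function.Surjective r) (hι : Function.Injective ιW) :
    finrank K (LinearMap.ker (ιW ∘ₗ r)) * finrank K (LinearMap.ker (ιW ∘ₗ r))
        + finrank K (commutantSub (r ∘ₗ ιW))
      ≤ finrank K (commutantSub (ιW ∘ₗ r)) := by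
  classical
  obtain ⟨s, hs⟩ := r.exists_rightInverse_of_surjective (LinearMap.range_eq_top.mpr hr)
  obtain ⟨PW, hPW⟩ := ιW.exists_leftInverse_of_injective (LinearMap.ker_eq_bot.mpr hι)
  obtain ⟨ε, hε⟩ : ∃ ε : Module.End K V, ε = ιW ∘ₗ r := ⟨_, rfl⟩
  obtain ⟨ε', hε'⟩ : ∃ ε' : Module.End K W, ε' = r ∘ₗ ιW := ⟨_, rfl⟩
  rw [← hε, ← hε']
  have hεa : ∀ v, ε v = ιW (r v) := fun v => by rw [hε]; rfl
  have hε'a : ∀ w, ε' w = r (ιW w) := fun w => by rw [hε']; rfl
  let q : V →ₗ[K] V := LinearMap.id - ιW ∘ₗ PW
  let ι : LinearMap.ker ε →ₗ[K] V := (LinearMap.ker ε).subtype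
  let π : V →ₗ[K] V ⧸ LinearMap.range ε := (LinearMap.range ε).mkQ
  have hPWι : ∀ w, PW (ιW w) = w := fun w => LinearMap.congr_fun hPW w
  have hqι : ∀ w, q (ιW w) = 0 := by
    intro w
    simp only [q, LinearMap.sub_apply, LinearMap.id_coe, id_eq, LinearMap.coe_comp,
      Function.comp_apply, hPWι, sub_self]
  have hq_add : ∀ v, ιW (PW v) + q v = v := by
    intro v
    simp only [q, LinearMap.sub_apply, LinearMap.id_coe, id_eq, LinearMap.coe_comp,
      Function.comp_apply]
    abel
  have hrs : ∀ w, r (s w) = w := fun w => LinearMap.congr_fun hs w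
  have hπε : ∀ v, π (ε v) = 0 := by
    intro v
    simp only [π, Submodule.mkQ_apply, Submodule.Quotient.mk_eq_zero]
    exact LinearMap.mem_range_self ε v
  have hπι : ∀ w, π (ιW w) = 0 := by
    intro w
    obtain ⟨v, rfl⟩ := hr w
    rw [← hεa]; exact hπε v
  have hει : ∀ k : LinearMap.ker ε, ε (ι k) = 0 := fun k => k.2
  -- the linear map
  let Φ : ((V ⧸ LinearMap.range ε) →ₗ[K] LinearMap.ker ε) × (commutantSub ε') →ₗ[K]
      Module.End K V :=
    { toFun := fun x => ι ∘ₗ x.1 ∘ₗ π + (ιW ∘ₗ (x.2 : Module.End K W) ∘ₗ PW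
        + s ∘ₗ (x.2 : Module.End K W) ∘ₗ r ∘ₗ q)
      map_add' := by
        intro x y
        apply LinearMap.ext; intro v
        simp only [Prod.fst_add, Prod.snd_add, Submodule.coe_add, LinearMap.add_apply,
          LinearMap.coe_comp, Function.comp_apply, map_add]
        abel
      map_smul' := by
        intro c x
        apply LinearMap.ext; intro v
        simp only [Prod.smul_fst, Prod.smul_snd, Submodule.coe_smul, LinearMap.add_apply,
          LinearMap.coe_comp, Function.comp_apply, LinearMap.smul_apply, map_smul,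
          RingHom.id_apply, smul_add] }
  have hΦ_apply : ∀ x v, Φ x v = ι (x.1 (π v)) + (ιW ((x.2 : Module.End K W) (PW v))
      + s ((x.2 : Module.End K W) (r (q v)))) := fun x v => rfl
  have hΦinj : Function.Injective Φ := by
    rw [injective_iff_map_eq_zero]
    intro x hx
    have h2 : (x.2 : Module.End K W) = 0 := by
      apply LinearMap.ext; intro w
      have h := congrArg (fun f => f (ιW w)) hx
      simp only [hΦ_apply, LinearMap.zero_apply] at h
      rw [hπι, hPWι, hqι] at h
      simp only [map_zero, zero_add, add_zero] at h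
      exact hι (by rw [h, LinearMap.zero_apply, map_zero])
    have h1 : x.1 = 0 := by
      apply LinearMap.ext; intro y
      obtain ⟨v, rfl⟩ := (LinearMap.range ε).mkQ_surjective y
      have h := congrArg (fun f => f v) hx
      simp only [hΦ_apply, LinearMap.zero_apply, h2, map_zero, add_zero] at h
      have h' : ι (x.1 (π v)) = 0 := h
      have h'' : x.1 (π v) = 0 := Subtype.ext (by simpa [ι] using h')
      exact h''
    exact Prod.ext h1 (Subtype.ext h2)
  have hΦmem : LinearMap.range Φ ≤ commutantSub ε := by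
    rintro _ ⟨x, rfl⟩
    rw [mem_commutantSub]
    have hx2 : (x.2 : Module.End K W) * ε' = ε' * (x.2 : Module.End K W) := x.2.2
    have hx2a : ∀ w, (x.2 : Module.End K W) (ε' w) = ε' ((x.2 : Module.End K W) w) := fun w => by
      have h := congrArg (fun f => f w) hx2
      simpa only [Module.End.mul_apply] using h
    apply LinearMap.ext; intro v
    rw [Module.End.mul_apply, Module.End.mul_apply, hΦ_apply, hΦ_apply]
    -- left side
    have e2 : PW (ε v) = r v := by rw [hεa, hPWι]
    have e3 : q (ε v) = 0 := by rw [hεa, hqι]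
    rw [hπε, e2, e3]
    simp only [map_zero, zero_add, add_zero]
    -- right side
    rw [map_add, map_add, hει, zero_add]
    have e4 : ε (ιW ((x.2 : Module.End K W) (PW v)))
        = ιW ((x.2 : Module.End K W) (ε' (PW v))) := by
      rw [hx2a, hεa, hε'a]
    have e5 : ε (s ((x.2 : Module.End K W) (r (q v)))) = ιW ((x.2 : Module.End K W) (r (q v))) := by
      rw [hεa, hrs]
    rw [e4, e5, ← map_add, ← map_add, hε'a, ← map_add, hq_add]
  have hfin : finrank K (((V ⧸ LinearMap.range ε) →ₗ[K] LinearMap.ker ε) × (commutantSub ε'))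
      = finrank K (LinearMap.range Φ) := (LinearMap.finrank_range_of_inj hΦinj).symm
  have hle := Submodule.finrank_mono hΦmem
  have e1 : finrank K (((V ⧸ LinearMap.range ε) →ₗ[K] LinearMap.ker ε) × (commutantSub ε'))
      = finrank K ((V ⧸ LinearMap.range ε) →ₗ[K] LinearMap.ker ε)
        + finrank K (commutantSub ε') := Module.finrank_prod
  have e2 : finrank K ((V ⧸ LinearMap.range ε) →ₗ[K] LinearMap.ker ε)
      = finrank K (V ⧸ LinearMap.range ε) * finrank K (LinearMap.ker ε) :=
    Module.finrank_linearMap _ _ _ _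
  rw [← hfin, e1, e2] at hle
  have hq : finrank K (V ⧸ LinearMap.range ε) = finrank K (LinearMap.ker ε) := by
    have h1 := Submodule.finrank_quotient_add_finrank (LinearMap.range ε)
    have h2 := LinearMap.finrank_range_add_finrank_ker ε
    omega
  rw [hq] at hle
  exact hle

variable (ε : Module.End K V)

/-- The restriction of `ε` to its range. -/
noncomputable def rangeEnd : Module.End K (LinearMap.range ε) :=
  ε.rangeRestrict ∘ₗ (LinearMap.range ε).subtype

theorem rangeEnd_apply (w : LinearMap.range ε) : ((rangeEnd ε) w : V) = ε (w : V) := rfl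

theorem rangeEnd_pow_apply (k : ℕ) (w : LinearMap.range ε) :
    (((rangeEnd ε) ^ k) w : V) = (ε ^ k) (w : V) := by
  induction k generalizing w with
  | zero => simp
  | succ k ih =>
    rw [pow_succ, pow_succ, Module.End.mul_apply, Module.End.mul_apply, ih, rangeEnd_apply]

theorem rangeEnd_pow_eq_zero {D : ℕ} (h : ε ^ (D + 1) = 0) : (rangeEnd ε) ^ D = 0 := by
  apply LinearMap.ext
  intro w
  apply Subtype.ext
  rw [rangeEnd_pow_apply]
  obtain ⟨v, hv⟩ := w.2
  rw [← hv, ← Module.End.mul_apply, ← pow_succ, h]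
  simp

theorem finrank_commutant_step :
    finrank K (LinearMap.ker ε) * finrank K (LinearMap.ker ε) + finrank K (commutantSub (rangeEnd ε))
      ≤ finrank K (commutantSub ε) := by
  have h := finrank_commutant_step_aux (K := K) ε.rangeRestrict (LinearMap.range ε).subtype
    (LinearMap.surjective_rangeRestrict ε) (Submodule.injective_subtype _)
  have he : (LinearMap.range ε).subtype ∘ₗ ε.rangeRestrict = ε := by
    apply LinearMap.ext; intro v; rfl
  rw [he] at h
  exact h

end step

/-- **Commutant inequality.**  If `ε ^ D = 0` on a finite-dimensional space `V` then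
`(dim V)^2 ≤ D * dim (commutant of ε)`. -/
theorem sq_finrank_le_mul_commutant (D : ℕ) :
    ∀ {V : Type v} [AddCommGroup V] [Module K V] [FiniteDimensional K V]
      (ε : Module.End K V), ε ^ D = 0 →
      (finrank K V) ^ 2 ≤ D * finrank K (commutantSub ε) := by
  induction D with
  | zero =>
    intro V _ _ _ ε h
    rw [pow_zero] at h
    have : Subsingleton V := by
      constructor
      intro a b
      have ha : a = (1 : Module.End K V) a := rfl
      have hb : b = (1 : Module.End K V) b := rfl
      rw [ha, hb, h]; simp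
    rw [Module.finrank_zero_of_subsingleton]
    simp
  | succ d ih =>
    intro V _ _ _ ε h
    have h1 := ih (rangeEnd ε) (rangeEnd_pow_eq_zero ε h)
    have h2 := finrank_commutant_step ε
    have h3 := LinearMap.finrank_range_add_finrank_ker ε
    obtain ⟨n0, hn0⟩ : ∃ n, n = finrank K (LinearMap.ker ε) := ⟨_, rfl⟩
    obtain ⟨N', hN'⟩ : ∃ n, n = finrank K (LinearMap.range ε) := ⟨_, rfl⟩
    obtain ⟨c', hc'⟩ : ∃ n, n = finrank K (commutantSub (rangeEnd ε)) := ⟨_, rfl⟩
    obtain ⟨c, hc⟩ : ∃ n, n = finrank K (commutantSub ε) := ⟨_, rfl⟩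
    rw [← hn0, ← hc', ← hc] at h2
    rw [← hN', ← hc'] at h1
    rw [← hN', ← hn0] at h3
    rw [← hc, ← h3]
    -- (N' + n0)^2 ≤ (d+1) * c,  N'^2 ≤ d * c',  n0*n0 + c' ≤ c
    have key : (N' + n0) ^ 2 ≤ (d + 1) * (n0 * n0 + c') := by
      rcases Nat.eq_zero_or_pos d with hd | hd
      · subst hd
        have : N' = 0 := by
          have : N' ^ 2 ≤ 0 := by simpa using h1
          exact pow_eq_zero_iff (by norm_num) |>.mp (Nat.le_zero.mp this)
        subst this
        nlinarith
      · have h4 : d * (2 * (n0 * N')) ≤ d * (d * (n0 * n0) + c') := by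
          have : (2 * (d * n0) * N' : ℤ) ≤ (d * n0) ^ 2 + N' ^ 2 := by nlinarith [sq_nonneg ((d * n0 : ℤ) - N')]
          have h1' : (N' : ℤ) ^ 2 ≤ d * c' := by exact_mod_cast h1
          have : (d * (2 * (n0 * N')) : ℤ) ≤ d * (d * (n0 * n0) + c') := by nlinarith
          exact_mod_cast this
        have h5 : 2 * (n0 * N') ≤ d * (n0 * n0) + c' := Nat.le_of_mul_le_mul_left h4 hd
        nlinarith
    calc (N' + n0) ^ 2 ≤ (d + 1) * (n0 * n0 + c') := key
      _ ≤ (d + 1) * c := Nat.mul_le_mul_left _ h2

end Cfsg.Agent.Helper64
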