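import Mathlib

/-!
# Hall–Higman engine, part 4a: fundamental domain for a free cyclic action
-/

set_option autoImplicit false

namespace Cfsg.Agent.Helper64

variable {Ω : Type*}

theorem perm_pow_apply_mod (f : Equiv.Perm Ω) {o : ℕ} (hfo : f ^ o = 1) (n : ℕ) (w : Ω) :
    (f ^ n) w = (f ^ (n % o)) w := by
  rw [pow_eq_pow_mod n hfo]

/-- Fundamental domain for a cyclic action that is free on an invariant part `P`. -/
theorem exists_fundamental_domain [Finite Ω] (f : Equiv.Perm Ω) (o : ℕ) (ho : 0 < o)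
    (hfo : f ^ o = 1) (P : Ω → Prop) (hP : ∀ w, P w → P (f w))
    (hfree : ∀ w, P w → ∀ i, 0 < i → i < o → (f ^ i) w ≠ w) :
    ∃ D : Set Ω, (∀ w ∈ D, P w) ∧
      ∀ w, P w → ∃ i, i < o ∧ (f ^ i) w ∈ D ∧ ∀ j, j < o → (f ^ j) w ∈ D → j = i := by
  classical
  haveI := Fintype.ofFinite Ω
  let e : Ω → ℕ := fun w => (Fintype.equivFin Ω w : ℕ)
  have he : Function.Injective e := fun a b h =>
    (Fintype.equivFin Ω).injective (Fin.ext h)
  have hPpow : ∀ i w, P w → P ((f ^ i) w) := by
    intro i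
    induction i with
    | zero => intro w hw; simpa using hw
    | succ i ih =>
      intro w hw
      rw [pow_succ', Equiv.Perm.mul_apply]
      exact hP _ (ih w hw)
  have hinj : ∀ w, P w → ∀ i j, i < o → j < o → (f ^ i) w = (f ^ j) w → i = j := by
    have aux : ∀ w, P w → ∀ i j, i < j → j < o → (f ^ i) w ≠ (f ^ j) w := by
      intro w hw i j hij hj h
      have : (f ^ (j - i)) w = w := by
        have h2 : (f ^ j) w = (f ^ i) ((f ^ (j - i)) w) := by
          rw [← Equiv.Perm.mul_apply, ← pow_add, Nat.add_sub_cancel' hij.le]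
        rw [h2] at h
        exact ((f ^ i).injective h).symm
      exact hfree w hw (j - i) (by omega) (by omega) this
    intro w hw i j hi hj h
    rcases lt_trichotomy i j with hlt | heq | hgt
    · exact absurd h (aux w hw i j hlt hj)
    · exact heq
    · exact absurd h.symm (aux w hw j i hgt hi)
  refine ⟨{w | P w ∧ ∀ i, i < o → e w ≤ e ((f ^ i) w)}, fun w hw => hw.1, ?_⟩
  intro w hw
  -- minimal index
  obtain ⟨i0, hi0mem, hi0min⟩ := Finset.exists_min_image (Finset.range o)
    (fun i => e ((f ^ i) w)) ⟨0, Finset.mem_range.mpr ho⟩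
  have hi0 : i0 < o := Finset.mem_range.mp hi0mem
  have hmin : ∀ i, i < o → e ((f ^ i0) w) ≤ e ((f ^ i) w) :=
    fun i hi => hi0min i (Finset.mem_range.mpr hi)
  have hminall : ∀ n, e ((f ^ i0) w) ≤ e ((f ^ n) w) := by
    intro n
    rw [perm_pow_apply_mod f hfo n w]
    exact hmin _ (Nat.mod_lt _ ho)
  refine ⟨i0, hi0, ⟨hPpow i0 w hw, ?_⟩, ?_⟩
  · intro j _
    rw [← Equiv.Perm.mul_apply, ← pow_add]
    exact hminall _
  · intro j hj hjD
    obtain ⟨_, hjmin⟩ := hjD
    -- e (f^j w) ≤ e (f^k (f^j w)) for all k < o; choose k with j + k ≡ i0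
    have h1 : e ((f ^ j) w) ≤ e ((f ^ i0) w) := by
      have hk := hjmin ((i0 + o - j) % o) (Nat.mod_lt _ ho)
      rw [← perm_pow_apply_mod f hfo, ← Equiv.Perm.mul_apply, ← pow_add] at hk
      have e1 : i0 + o - j + j = i0 + o := by omega
      rw [e1, pow_add, hfo, mul_one] at hk
      exact hk
    have h2 : e ((f ^ i0) w) ≤ e ((f ^ j) w) := hmin j hj
    have h3 : (f ^ j) w = (f ^ i0) w := he (le_antisymm h1 h2)
    exact hinj w hw j i0 hj hi0 h3

end Cfsg.Agent.Helper64
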