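import Cfsg.Agent.Helper64.HHSection
import Cfsg.Agent.Helper64.HHDomain

/-!
# Hall–Higman engine, part 4b: `End V = K ⊕ free` in rank form

If `X` normalizes `ρ(Q)` through an automorphism `α` of `Q` of order dividing `o` that acts freely
off the elements acting as scalars, then every `S` commuting with `X` lies in
`K • 1 + range (B ↦ ∑_{i<o} X'^i B X^i)`.
-/

set_option autoImplicit false

namespace Cfsg.Agent.Helper64

open Module

universe u v w

variable {K : Type u} [Field K] {Q : Type w} [Group Q] [Fintype Q]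
  {V : Type v} [AddCommGroup V] [Module K V]

section conj

variable (ρ : Representation K Q V) (X X' : Module.End K V) (α : MulAut Q)

theorem rho_pow_conj (hXX' : X * X' = 1) (hX'X : X' * X = 1)
    (hα : ∀ g, X * ρ g * X' = ρ (α g)) (i : ℕ) (g : Q) :
    X' ^ i * ρ ((α ^ i) g) * X ^ i = ρ g := by
  induction i generalizing g with
  | zero => simp
  | succ i ih =>
    have hcomm : (α ^ (i + 1)) g = α ((α ^ i) g) := by
      rw [pow_succ', MulAut.mul_apply]
    rw [pow_succ X', pow_succ' X, hcomm]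
    have h1 : X' ^ i * X' * ρ (α ((α ^ i) g)) * (X * X ^ i)
        = X' ^ i * (X' * ρ (α ((α ^ i) g)) * X) * X ^ i := by simp only [mul_assoc]
    have h2 : X' * ρ (α ((α ^ i) g)) * X = ρ ((α ^ i) g) := by
      rw [← hα, ← mul_assoc, ← mul_assoc, hX'X, one_mul, mul_assoc, hX'X, mul_one]
    rw [h1, h2, ih]

/-- `piMap` of a function precomposed with `α ^ i` is the conjugate by `X' ^ i`. -/
theorem piMap_comp_pow (hXX' : X * X' = 1) (hX'X : X' * X = 1)
    (hα : ∀ g, X * ρ g * X' = ρ (α g)) (i : ℕ) (b : Q → K) :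
    piMap ρ (fun g => b ((α ^ i) g)) = X' ^ i * piMap ρ b * X ^ i := by
  unfold piMap
  rw [Finset.mul_sum, Finset.sum_mul]
  rw [← Equiv.sum_comp ((α ^ i : MulAut Q).toEquiv) (fun g => X' ^ i * (b g • ρ g) * X ^ i)]
  apply Finset.sum_congr rfl
  intro g _
  simp only [MulEquiv.toEquiv_eq_coe, EquivLike.coe_coe, mul_smul_comm, smul_mul_assoc]
  rw [rho_pow_conj ρ X X' α hXX' hX'X hα]

end conj

variable [IsAlgClosed K] [FiniteDimensional K V]

/-- **`End V = K ⊕ free` in rank form.** -/
theorem exists_eq_smul_one_add_norm (ρ : Representation K Q V) [ρ.IsIrreducible]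
    (hQ : (Nat.card Q : K) ≠ 0) (X X' : Module.End K V) (hXX' : X * X' = 1) (hX'X : X' * X = 1)
    (α : MulAut Q) (hα : ∀ g, X * ρ g * X' = ρ (α g)) (o : ℕ) (ho : 0 < o) (hαo : α ^ o = 1)
    (hfree : ∀ g i, 0 < i → i < o → (α ^ i) g = g → ∃ c : K, ρ g = c • (1 : Module.End K V))
    (S : Module.End K V) (hS : X * S * X' = S) :
    ∃ (c : K) (B : Module.End K V),
      S = c • (1 : Module.End K V) + ∑ i ∈ Finset.range o, X' ^ i * B * X ^ i := by
  classical
  obtain ⟨c0, hc0, hΦ⟩ := exists_fourierComp_eq_smul ρ hQ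
  -- the preimage
  obtain ⟨a, ha⟩ : ∃ a : Q → K, a = c0⁻¹ • sigmaFun ρ S := ⟨_, rfl⟩
  have hpa : piMap ρ a = S := by
    rw [ha, piMap_smul]
    have := hΦ S
    unfold fourierComp at this
    rw [this, smul_smul, inv_mul_cancel₀ hc0, one_smul]
  have hS' : X' * S * X = S := by
    have h1 : X' * (X * S * X') * X = S := by
      rw [show X' * (X * S * X') * X = (X' * X) * S * (X' * X) by simp only [mul_assoc], hX'X,
        one_mul, mul_one]
    rw [hS] at h1; exact h1
  -- invariance of a
  have hainv : ∀ g, a (α g) = a g := by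
    intro g
    rw [ha]
    simp only [Pi.smul_apply, sigmaFun]
    congr 1
    have e1 : ρ (α g)⁻¹ = X * ρ g⁻¹ * X' := by rw [← map_inv, hα]
    rw [e1, show S * (X * ρ g⁻¹ * X') = (S * X * ρ g⁻¹) * X' by simp only [mul_assoc],
      LinearMap.trace_mul_comm, ← mul_assoc, ← mul_assoc, hS']
  -- the scalar part
  let Z0 : Set Q := {g | ∃ c : K, ρ g = c • (1 : Module.End K V)}
  have hZ0α : ∀ g, α g ∈ Z0 → g ∈ Z0 := by
    rintro g ⟨c, hc⟩
    refine ⟨c, ?_⟩
    have : ρ g = X' * ρ (α g) * X := by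
      rw [← hα, show X' * (X * ρ g * X') * X = (X' * X) * ρ g * (X' * X) by simp only [mul_assoc],
        hX'X, one_mul, mul_one]
    rw [this, hc, mul_smul_comm, mul_one, smul_mul_assoc, hX'X]
  have hZ0α' : ∀ g, g ∈ Z0 → α g ∈ Z0 := by
    rintro g ⟨c, hc⟩
    refine ⟨c, ?_⟩
    rw [← hα, hc, mul_smul_comm, mul_one, smul_mul_assoc, hXX']
  have hZ0pow : ∀ i g, g ∈ Z0 → (α ^ i) g ∈ Z0 := by
    intro i
    induction i with
    | zero => intro g hg; simpa using hg
    | succ i ih =>
      intro g hg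
      rw [pow_succ', MulAut.mul_apply]
      exact hZ0α' _ (ih g hg)
  -- fundamental domain
  have htp : ∀ (n : ℕ) (g : Q), ((MulAut.toPerm Q α) ^ n) g = (α ^ n) g := by
    intro n g
    rw [← map_pow]; rfl
  obtain ⟨D, hDP, hD⟩ := exists_fundamental_domain (MulAut.toPerm Q α) o ho
    (by rw [← map_pow, hαo, map_one])
    (fun g => g ∉ Z0) (fun g hg h => hg (hZ0α g h))
    (by
      intro g hg i hi0 hio h
      rw [htp] at h
      exact hg (hfree g i hi0 hio h))
  have hainvpow : ∀ (i : ℕ) (g : Q), a ((α ^ i) g) = a g := by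
    intro i
    induction i with
    | zero => intro g; rfl
    | succ i ih =>
      intro g
      rw [pow_succ', MulAut.mul_apply, hainv, ih]
  obtain ⟨b, hb⟩ : ∃ b : Q → K, b = fun g => if g ∈ D then a g else 0 := ⟨_, rfl⟩
  obtain ⟨a0, ha0⟩ : ∃ a0 : Q → K, a0 = fun g => if g ∈ Z0 then a g else 0 := ⟨_, rfl⟩
  have hdecomp : a = a0 + ∑ i ∈ Finset.range o, (fun g => b ((α ^ i) g)) := by
    funext g
    rw [Pi.add_apply, Finset.sum_apply]
    by_cases hg : g ∈ Z0
    · have h1 : a0 g = a g := by rw [ha0]; simp only [if_pos hg]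
      have h2 : ∀ i ∈ Finset.range o, b ((α ^ i) g) = 0 := by
        intro i _
        rw [hb]
        have : (α ^ i) g ∉ D := fun hD' => hDP _ hD' (hZ0pow i g hg)
        simp only [if_neg this]
      rw [h1, Finset.sum_eq_zero h2, add_zero]
    · have h1 : a0 g = 0 := by rw [ha0]; simp only [if_neg hg]
      obtain ⟨i0, hi0, hi0D, huniq⟩ := hD g hg
      rw [htp] at hi0D
      have h2 : ∑ i ∈ Finset.range o, b ((α ^ i) g) = b ((α ^ i0) g) := by
        apply Finset.sum_eq_single i0
        · intro i hi hne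
          rw [hb]
          have : (α ^ i) g ∉ D := by
            intro hD'
            apply hne
            apply huniq i (Finset.mem_range.mp hi)
            rw [htp]; exact hD'
          simp only [if_neg this]
        · intro h; exact absurd (Finset.mem_range.mpr hi0) h
      rw [h1, h2, zero_add, hb]
      simp only [if_pos hi0D]
      rw [hainvpow]
  -- the scalar part
  have hscal : ∃ c : K, piMap ρ a0 = c • (1 : Module.End K V) := by
    have hex : ∀ g : Q, ∃ c : K, a0 g • ρ g = c • (1 : Module.End K V) := by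
      intro g
      by_cases hg : g ∈ Z0
      · obtain ⟨c, hc⟩ := hg
        exact ⟨a0 g * c, by rw [hc, smul_smul]⟩
      · refine ⟨0, ?_⟩
        rw [ha0]; simp only [if_neg hg, zero_smul]
    choose cf hcf using hex
    refine ⟨∑ g, cf g, ?_⟩
    unfold piMap
    rw [Finset.sum_smul]
    exact Finset.sum_congr rfl (fun g _ => hcf g)
  obtain ⟨c, hc⟩ := hscal
  refine ⟨c, piMap ρ b, ?_⟩
  rw [← hpa, hdecomp, piMap_add, piMap_sum, hc]
  congr 1
  apply Finset.sum_congr rfl
  intro i _
  exact piMap_comp_pow ρ X X' α hXX' hX'X hα i b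

end Cfsg.Agent.Helper64
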