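import Mathlib

/-!
# Hall–Higman engine, part 2: rank filtration of a nilpotent endomorphism

If `ε ^ o = 0` then `dim ker ε + (o - 1) * rank (ε ^ (o - 1)) ≤ dim M`.
In characteristic `p` with `o = p ^ n`, `T ^ o = 1`, `ε = T - 1`, one has `ε ^ (o - 1) = ∑_{i<o} T^i`.
-/

set_option autoImplicit false

namespace Cfsg.Agent.Helper64

open Module

universe u v

variable {K : Type u} [Field K] {M : Type v} [AddCommGroup M] [Module K M] [FiniteDimensional K M]

theorem finrank_range_pow_succ (ε : Module.End K M) (j : ℕ) :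
    finrank K (LinearMap.range (ε ^ j))
      = finrank K (LinearMap.range (ε ^ (j + 1)))
        + finrank K ↥(LinearMap.ker ε ⊓ LinearMap.range (ε ^ j)) := by
  have h := LinearMap.finrank_range_add_finrank_ker (ε.domRestrict (LinearMap.range (ε ^ j)))
  rw [LinearMap.range_domRestrict, LinearMap.ker_domRestrict] at h
  have e1 : (LinearMap.range (ε ^ j)).map ε = LinearMap.range (ε ^ (j + 1)) := by
    rw [pow_succ', Module.End.mul_eq_comp, LinearMap.range_comp]
  have e2 : finrank K ((LinearMap.ker ε).comap (LinearMap.range (ε ^ j)).subtype)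
      = finrank K ↥(LinearMap.ker ε ⊓ LinearMap.range (ε ^ j)) := by
    have : (LinearMap.ker ε).comap (LinearMap.range (ε ^ j)).subtype
        = (LinearMap.ker ε ⊓ LinearMap.range (ε ^ j)).comap (LinearMap.range (ε ^ j)).subtype := by
      ext x
      simp
    rw [this]
    exact (Submodule.comapSubtypeEquivOfLe inf_le_right).finrank_eq
  rw [e1, e2] at h
  omega

theorem range_pow_le_of_le (ε : Module.End K M) {i j : ℕ} (h : i ≤ j) :
    LinearMap.range (ε ^ j) ≤ LinearMap.range (ε ^ i) := by
  obtain ⟨k, rfl⟩ := Nat.exists_eq_add_of_le h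
  rw [pow_add, Module.End.mul_eq_comp, LinearMap.range_comp]
  exact LinearMap.map_le_range

theorem finrank_eq_range_pow_add_sum (ε : Module.End K M) (k : ℕ) :
    finrank K M = finrank K (LinearMap.range (ε ^ k))
      + ∑ j ∈ Finset.range k, finrank K ↥(LinearMap.ker ε ⊓ LinearMap.range (ε ^ j)) := by
  induction k with
  | zero =>
    simp only [Finset.range_zero, Finset.sum_empty, add_zero]
    rw [pow_zero, Module.End.one_eq_id, LinearMap.range_id, finrank_top]
  | succ k ih =>
    rw [Finset.sum_range_succ, ih, finrank_range_pow_succ ε k]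
    ring

/-- **Rank filtration inequality.** -/
theorem finrank_ker_add_mul_rank_le (ε : Module.End K M) (o : ℕ) (ho : 1 ≤ o) (hε : ε ^ o = 0) :
    finrank K (LinearMap.ker ε) + (o - 1) * finrank K (LinearMap.range (ε ^ (o - 1)))
      ≤ finrank K M := by
  obtain ⟨m, rfl⟩ : ∃ m, o = m + 1 := ⟨o - 1, by omega⟩
  rw [Nat.add_one_sub_one]
  have h := finrank_eq_range_pow_add_sum ε (m + 1)
  rw [hε, LinearMap.range_zero, finrank_bot, zero_add, Finset.sum_range_succ'] at h
  have h0 : finrank K ↥(LinearMap.ker ε ⊓ LinearMap.range (ε ^ 0)) = finrank K (LinearMap.ker ε) := by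
    rw [pow_zero, Module.End.one_eq_id, LinearMap.range_id, inf_top_eq]
  rw [h0] at h
  have hle : LinearMap.range (ε ^ m) ≤ LinearMap.ker ε := by
    rintro _ ⟨v, rfl⟩
    rw [LinearMap.mem_ker, ← Module.End.mul_apply, ← pow_succ', hε]
    simp
  have h1 : ∀ j ∈ Finset.range m, finrank K (LinearMap.range (ε ^ m))
      ≤ finrank K ↥(LinearMap.ker ε ⊓ LinearMap.range (ε ^ (j + 1))) := by
    intro j hj
    apply Submodule.finrank_mono
    refine le_inf hle (range_pow_le_of_le ε ?_)
    have := Finset.mem_range.mp hj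
    omega
  have h2 := Finset.sum_le_sum h1
  rw [Finset.sum_const, Finset.card_range, smul_eq_mul] at h2
  omega

/-- In an algebra over a field of characteristic `p`:
`∑ i < p ^ n, a ^ i = (a - 1) ^ (p ^ n - 1)`. -/
theorem geom_sum_eq_sub_one_pow_pow {E : Type*} [Ring E] [Algebra K E] (p : ℕ) [hp : Fact p.Prime]
    [CharP K p] (n : ℕ) (a : E) :
    ∑ i ∈ Finset.range (p ^ n), a ^ i = (a - 1) ^ (p ^ n - 1) := by
  have hpoly : (∑ i ∈ Finset.range (p ^ n), (Polynomial.X : Polynomial K) ^ i)
      = (Polynomial.X - 1) ^ (p ^ n - 1) := by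
    have hX : (Polynomial.X - 1 : Polynomial K) ≠ 0 := by
      have := Polynomial.X_sub_C_ne_zero (1 : K)
      simpa using this
    apply mul_left_cancel₀ hX
    have hpos : 1 ≤ p ^ n := Nat.one_le_pow _ _ hp.1.pos
    rw [← pow_succ', Nat.sub_add_cancel hpos, mul_geom_sum, sub_pow_char_pow, one_pow]
  have := congrArg (Polynomial.aeval a) hpoly
  simpa using this

/-- The form used for group actions: `T ^ (p^n) = 1` in characteristic `p`. -/
theorem finrank_fix_add_mul_rank_norm_le (p : ℕ) [hp : Fact p.Prime] [CharP K p] (n : ℕ)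
    (T : Module.End K M) (hT : T ^ (p ^ n) = 1) :
    finrank K (LinearMap.ker (T - 1))
      + (p ^ n - 1) * finrank K (LinearMap.range (∑ i ∈ Finset.range (p ^ n), T ^ i))
      ≤ finrank K M := by
  rw [geom_sum_eq_sub_one_pow_pow (K := K) p n T]
  apply finrank_ker_add_mul_rank_le (T - 1) (p ^ n) (Nat.one_le_pow _ _ hp.1.pos)
  have hpoly : ((Polynomial.X : Polynomial K) - 1) ^ (p ^ n) = Polynomial.X ^ (p ^ n) - 1 := by
    rw [sub_pow_char_pow, one_pow]
  have := congrArg (Polynomial.aeval T) hpoly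
  simp only [map_sub, map_pow, Polynomial.aeval_X, map_one] at this
  rw [this, hT, sub_self]

end Cfsg.Agent.Helper64
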