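import Cfsg.Agent.Helper64.HHComm
import Cfsg.Agent.Helper64.HHRank
import Cfsg.Agent.Helper64.HHFix

/-!
# Hall–Higman engine, part 5: the critical case in linear form
-/

set_option autoImplicit false

namespace Cfsg.Agent.Helper64

open Module

universe u v w

variable {K : Type u} [Field K] {V : Type v} [AddCommGroup V] [Module K V]

/-- Conjugation `B ↦ X' * B * X` as a linear endomorphism of `End V`. -/
noncomputable def conjOp (X X' : Module.End K V) : Module.End K (Module.End K V) :=
  LinearMap.mulLeft K X' ∘ₗ LinearMap.mulRight K X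

theorem conjOp_apply (X X' B : Module.End K V) : conjOp X X' B = X' * B * X := by
  simp [conjOp, mul_assoc]

theorem conjOp_pow_apply (X X' : Module.End K V) (i : ℕ) (B : Module.End K V) :
    ((conjOp X X') ^ i) B = X' ^ i * B * X ^ i := by
  induction i generalizing B with
  | zero => simp
  | succ i ih =>
    rw [pow_succ, Module.End.mul_apply, ih, conjOp_apply, pow_succ, pow_succ']
    simp only [mul_assoc]

theorem conjOp_pow_eq_one (X X' : Module.End K V) (o : ℕ) (hX : X ^ o = 1) (hX' : X' ^ o = 1) :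
    (conjOp X X') ^ o = 1 := by
  apply LinearMap.ext; intro B
  rw [conjOp_pow_apply, hX, hX', one_mul, mul_one]; rfl

theorem ker_conjOp_sub_one (X X' : Module.End K V) (hXX' : X * X' = 1) (hX'X : X' * X = 1) :
    LinearMap.ker (conjOp X X' - 1) = commutantSub (X - 1) := by
  ext B
  rw [LinearMap.mem_ker, LinearMap.sub_apply, conjOp_apply, Module.End.one_apply, sub_eq_zero,
    mem_commutantSub, mul_sub, sub_mul, mul_one, one_mul, sub_left_inj]
  constructor
  · intro h
    have : X * (X' * B * X) = X * B := by rw [h]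
    rw [← mul_assoc, ← mul_assoc, hXX', one_mul] at this
    exact this
  · intro h
    rw [mul_assoc, h, ← mul_assoc, hX'X, one_mul]

theorem pow_finrank_eq_zero_of_pow_eq_zero [FiniteDimensional K V] (ε : Module.End K V) (D : ℕ)
    (h : ε ^ D = 0) : ε ^ finrank K V = 0 := by
  have hn : IsNilpotent ε := ⟨D, h⟩
  have hc := hn.charpoly_eq_X_pow_finrank
  have := ε.aeval_self_charpoly
  rw [hc] at this
  simpa using this

variable {Q : Type w} [Group Q] [Fintype Q] [IsAlgClosed K] [FiniteDimensional K V]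

/-- **Critical case, linear form.** -/
theorem critical_linear (p : ℕ) [hp : Fact p.Prime] [CharP K p] (n : ℕ)
    (ρ : Representation K Q V) [ρ.IsIrreducible]
    (hQ : (Nat.card Q : K) ≠ 0) (X X' : Module.End K V) (hXX' : X * X' = 1) (hX'X : X' * X = 1)
    (α : MulAut Q) (hα : ∀ g, X * ρ g * X' = ρ (α g)) (hαo : α ^ (p ^ n) = 1)
    (hXo : X ^ (p ^ n) = 1)
    (hfree : ∀ g i, 0 < i → i < p ^ n → (α ^ i) g = g → ∃ c : K, ρ g = c • (1 : Module.End K V))
    (D : ℕ) (hD : (X - 1) ^ D = 0) (hDo : D ≤ p ^ n - 1) (hN : 2 ≤ finrank K V) :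
    finrank K V = p ^ n - 1 ∧ D = p ^ n - 1 := by
  obtain ⟨o, ho⟩ : ∃ o, o = p ^ n := ⟨_, rfl⟩
  have hopos : 0 < o := by rw [ho]; exact Nat.pos_of_ne_zero (pow_ne_zero _ hp.1.ne_zero)
  rw [← ho] at hαo hXo hfree hDo ⊢
  have hX'o : X' ^ o = 1 := by
    have h1 : ∀ k : ℕ, X' ^ k * X ^ k = 1 := by
      intro k
      induction k with
      | zero => simp
      | succ k ih =>
        rw [pow_succ, pow_succ', show X' ^ k * X' * (X * X ^ k) = X' ^ k * (X' * X) * X ^ k by
          simp only [mul_assoc], hX'X, mul_one, ih]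
    have := h1 o
    rwa [hXo, mul_one] at this
  obtain ⟨T, hT⟩ : ∃ T, T = conjOp X X' := ⟨_, rfl⟩
  have hTo : T ^ (p ^ n) = 1 := by rw [hT, ← ho]; exact conjOp_pow_eq_one X X' o hXo hX'o
  -- HH2
  have h2 := finrank_fix_add_mul_rank_norm_le (K := K) p n T hTo
  rw [← ho] at h2
  -- dimension of End V
  have hdimE : finrank K (Module.End K V) = finrank K V * finrank K V :=
    Module.finrank_linearMap K K V V
  -- HH1
  have h1 := sq_finrank_le_mul_commutant (K := K) D (X - 1) hD
  rw [← ker_conjOp_sub_one X X' hXX' hX'X, ← hT] at h1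
  -- HH4
  have h4 : LinearMap.ker (T - 1) ≤ Submodule.span K {(1 : Module.End K V)}
      ⊔ LinearMap.range (∑ i ∈ Finset.range o, T ^ i) := by
    intro S hS
    have hS1 : X' * S * X = S := by
      rw [LinearMap.mem_ker, LinearMap.sub_apply, hT, conjOp_apply, Module.End.one_apply,
        sub_eq_zero] at hS
      exact hS
    have hS2 : X * S * X' = S := by
      have : X * (X' * S * X) * X' = S := by
        rw [show X * (X' * S * X) * X' = (X * X') * S * (X * X') by simp only [mul_assoc], hXX',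
          one_mul, mul_one]
      rwa [hS1] at this
    obtain ⟨c, B, hcB⟩ := exists_eq_smul_one_add_norm ρ hQ X X' hXX' hX'X α hα o hopos hαo hfree
      S hS2
    rw [hcB]
    apply Submodule.add_mem_sup
    · exact Submodule.smul_mem _ _ (Submodule.mem_span_singleton_self _)
    · refine ⟨B, ?_⟩
      rw [LinearMap.sum_apply]
      apply Finset.sum_congr rfl
      intro i _
      rw [hT, conjOp_pow_apply]
  have h4' : finrank K (LinearMap.ker (T - 1))
      ≤ 1 + finrank K (LinearMap.range (∑ i ∈ Finset.range o, T ^ i)) := by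
    calc finrank K (LinearMap.ker (T - 1))
        ≤ finrank K ↥(Submodule.span K {(1 : Module.End K V)}
            ⊔ LinearMap.range (∑ i ∈ Finset.range o, T ^ i)) := Submodule.finrank_mono h4
      _ ≤ finrank K ↥(Submodule.span K {(1 : Module.End K V)})
            + finrank K (LinearMap.range (∑ i ∈ Finset.range o, T ^ i)) :=
          Submodule.finrank_add_le_finrank_add_finrank _ _
      _ ≤ 1 + finrank K (LinearMap.range (∑ i ∈ Finset.range o, T ^ i)) := by
          apply Nat.add_le_add_right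
          exact (finrank_span_le_card _).trans (by simp)
  -- numerics
  obtain ⟨N, hNdef⟩ : ∃ N, N = finrank K V := ⟨_, rfl⟩
  obtain ⟨f, hf⟩ : ∃ f, f = finrank K (LinearMap.ker (T - 1)) := ⟨_, rfl⟩
  obtain ⟨R, hR⟩ : ∃ R, R = finrank K (LinearMap.range (∑ i ∈ Finset.range o, T ^ i)) := ⟨_, rfl⟩
  rw [← hNdef] at hN h1 hdimE ⊢
  rw [← hf, ← hR, hdimE] at h2
  rw [← hf] at h1 h4'
  rw [← hR] at h4'
  -- h2 : f + (o - 1) * R ≤ N * N ; h4' : f ≤ 1 + R ; h1 : N ^ 2 ≤ D * f ; hDo : D ≤ o - 1
  obtain ⟨m, rfl⟩ : ∃ m, o = m + 1 := ⟨o - 1, by omega⟩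
  simp only [Nat.add_sub_cancel] at h2 hDo ⊢
  -- o f ≤ N² + m
  have e1 : (m + 1) * f ≤ N * N + m := by nlinarith
  -- N² ≤ m f  ⇒  N ≤ m
  have e2 : N * N ≤ m * f := by
    calc N * N = N ^ 2 := by ring
      _ ≤ D * f := h1
      _ ≤ m * f := Nat.mul_le_mul_right _ hDo
  have e3 : N ≤ m := by
    by_contra hlt
    push Not at hlt
    have : (m + 1) * (N * N) ≤ m * (N * N + m) := by nlinarith
    nlinarith
  -- D ≤ N needed? use N² ≤ D f ≤ ... we show N ≤ f using D ≤ m and then m ≤ N
  have h1' := sq_finrank_le_mul_commutant (K := K) (finrank K V) (X - 1)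
    (pow_finrank_eq_zero_of_pow_eq_zero (X - 1) D hD)
  rw [← ker_conjOp_sub_one X X' hXX' hX'X, ← hT, ← hNdef, ← hf] at h1'
  have e4 : N ≤ f := by
    have : N * N ≤ N * f := by
      calc N * N = N ^ 2 := by ring
        _ ≤ N * f := h1'
    exact Nat.le_of_mul_le_mul_left this (by omega)
  have e5 : m ≤ N := by
    by_contra hlt
    push Not at hlt
    have h6 : (m + 1) * N ≤ N * N + m := le_trans (Nat.mul_le_mul_left _ e4) e1
    nlinarith
  have e6 : N = m := le_antisymm e3 e5
  subst e6
  have e7 : f ≤ N := by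
    have : (N + 1) * f ≤ (N + 1) * N := by nlinarith
    exact Nat.le_of_mul_le_mul_left this (by omega)
  have e8 : N ≤ D := by
    have : N * N ≤ N * D := by
      calc N * N = N ^ 2 := by ring
        _ ≤ D * f := h1
        _ ≤ D * N := Nat.mul_le_mul_left _ e7
        _ = N * D := by ring
    exact Nat.le_of_mul_le_mul_left this (by omega)
  exact ⟨rfl, le_antisymm hDo e8⟩

end Cfsg.Agent.Helper64
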