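import Cfsg.Agent.Helper64.HHBurnside

/-!
# Hall–Higman engine, part 3b: Fourier section of the group-algebra map

`piMap ρ a = ∑ g, a g • ρ g`.  For irreducible `ρ` over an algebraically closed field in which
`|Q|` is invertible, `S ↦ (g ↦ tr (S * ρ g⁻¹))` is, up to a nonzero scalar, a section of `piMap ρ`.
-/

set_option autoImplicit false

namespace Cfsg.Agent.Helper64

open Module

universe u v w

variable {K : Type u} [Field K] {Q : Type w} [Group Q] [Fintype Q]
  {V : Type v} [AddCommGroup V] [Module K V]

/-- The group algebra map, on plain functions. -/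
def piMap (ρ : Representation K Q V) (a : Q → K) : Module.End K V := ∑ g, a g • ρ g

theorem piMap_add (ρ : Representation K Q V) (a b : Q → K) :
    piMap ρ (a + b) = piMap ρ a + piMap ρ b := by
  simp only [piMap, Pi.add_apply, add_smul, Finset.sum_add_distrib]

theorem piMap_smul (ρ : Representation K Q V) (c : K) (a : Q → K) :
    piMap ρ (c • a) = c • piMap ρ a := by
  simp only [piMap, Pi.smul_apply, smul_eq_mul, mul_smul, Finset.smul_sum]

theorem piMap_sum (ρ : Representation K Q V) {ι : Type*} (s : Finset ι) (a : ι → Q → K) :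
    piMap ρ (∑ i ∈ s, a i) = ∑ i ∈ s, piMap ρ (a i) := by
  classical
  induction s using Finset.induction_on with
  | empty => simp [piMap]
  | insert i s hi ih => rw [Finset.sum_insert hi, Finset.sum_insert hi, piMap_add, ih]

theorem piMap_single [DecidableEq Q] (ρ : Representation K Q V) (h : Q) (c : K) :
    piMap ρ (Pi.single h c) = c • ρ h := by
  unfold piMap
  rw [Finset.sum_eq_single h]
  · simp
  · intro g _ hg
    simp [Pi.single_eq_of_ne hg]
  · intro hh; exact absurd (Finset.mem_univ h) hh

/-- Burnside in function form. -/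
theorem exists_piMap_eq [IsAlgClosed K] [FiniteDimensional K V] (ρ : Representation K Q V)
    [ρ.IsIrreducible] (S : Module.End K V) : ∃ a : Q → K, piMap ρ a = S := by
  obtain ⟨r, hr⟩ := burnside_surjective ρ S
  refine ⟨fun g => r.coeff g, ?_⟩
  rw [← hr, Representation.asAlgebraHom_def, MonoidAlgebra.lift_apply, piMap]
  rw [Finsupp.sum_fintype]
  · intro g; simp

/-- Schur's lemma in elementary form. -/
theorem exists_eq_smul_one_of_commute [IsAlgClosed K] [FiniteDimensional K V]
    (ρ : Representation K Q V) [ρ.IsIrreducible] (A : Module.End K V)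
    (hA : ∀ g, A * ρ g = ρ g * A) : ∃ c : K, A = c • (1 : Module.End K V) := by
  have hall : ∀ B : Module.End K V, B * A = A * B := by
    intro B
    obtain ⟨b, rfl⟩ := exists_piMap_eq ρ B
    simp only [piMap, Finset.sum_mul, Finset.mul_sum, smul_mul_assoc, mul_smul_comm, hA]
  have h1 : A ∈ Subalgebra.center K (Module.End K V) := Subalgebra.mem_center_iff.mpr hall
  rw [Algebra.IsCentral.center_eq_bot] at h1
  obtain ⟨c, hc⟩ := Algebra.mem_bot.mp h1
  exact ⟨c, by rw [← hc, Algebra.algebraMap_eq_smul_one]⟩

/-- The Fourier coefficient function of an endomorphism. -/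
noncomputable def sigmaFun (ρ : Representation K Q V) (S : Module.End K V) : Q → K :=
  fun g => LinearMap.trace K V (S * ρ g⁻¹)

theorem sigmaFun_add (ρ : Representation K Q V) (S T : Module.End K V) :
    sigmaFun ρ (S + T) = sigmaFun ρ S + sigmaFun ρ T := by
  funext g; simp [sigmaFun, add_mul]

theorem sigmaFun_smul (ρ : Representation K Q V) (c : K) (S : Module.End K V) :
    sigmaFun ρ (c • S) = c • sigmaFun ρ S := by
  funext g; simp [sigmaFun]

/-- `Φ = piMap ∘ sigmaFun`. -/
noncomputable def fourierComp (ρ : Representation K Q V) (S : Module.End K V) : Module.End K V :=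
  piMap ρ (sigmaFun ρ S)

theorem fourierComp_add (ρ : Representation K Q V) (S T : Module.End K V) :
    fourierComp ρ (S + T) = fourierComp ρ S + fourierComp ρ T := by
  rw [fourierComp, sigmaFun_add, piMap_add]; rfl

theorem fourierComp_smul (ρ : Representation K Q V) (c : K) (S : Module.End K V) :
    fourierComp ρ (c • S) = c • fourierComp ρ S := by
  rw [fourierComp, sigmaFun_smul, piMap_smul]; rfl

theorem fourierComp_sum (ρ : Representation K Q V) {ι : Type*} (s : Finset ι)
    (S : ι → Module.End K V) :
    fourierComp ρ (∑ i ∈ s, S i) = ∑ i ∈ s, fourierComp ρ (S i) := by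
  classical
  induction s using Finset.induction_on with
  | empty =>
    simp only [Finset.sum_empty]
    have : fourierComp ρ (0 : Module.End K V) = fourierComp ρ ((0 : K) • (0 : Module.End K V)) := by
      rw [smul_zero]
    rw [this, fourierComp_smul, zero_smul]
  | insert i s hi ih => rw [Finset.sum_insert hi, Finset.sum_insert hi, fourierComp_add, ih]

theorem fourierComp_rho_mul (ρ : Representation K Q V) (h : Q) (S : Module.End K V) :
    fourierComp ρ (ρ h * S) = ρ h * fourierComp ρ S := by
  have key : ∀ g, LinearMap.trace K V ((ρ h * S) * ρ (h * g)⁻¹)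
      = LinearMap.trace K V (S * ρ g⁻¹) := by
    intro g
    have e : ρ (h * g)⁻¹ = ρ g⁻¹ * ρ h⁻¹ := by rw [mul_inv_rev, map_mul]
    rw [e, show (ρ h * S) * (ρ g⁻¹ * ρ h⁻¹) = ρ h * (S * ρ g⁻¹ * ρ h⁻¹) by
      simp only [mul_assoc], LinearMap.trace_mul_comm, mul_assoc (S * ρ g⁻¹), ← map_mul ρ,
      inv_mul_cancel, map_one, mul_one]
  unfold fourierComp piMap sigmaFun
  rw [Finset.mul_sum, ← Equiv.sum_comp (Equiv.mulLeft h)]
  apply Finset.sum_congr rfl
  intro g _
  simp only [Equiv.coe_mulLeft, mul_smul_comm]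
  rw [key, map_mul ρ]

theorem fourierComp_mul_rho (ρ : Representation K Q V) (h : Q) (S : Module.End K V) :
    fourierComp ρ (S * ρ h) = fourierComp ρ S * ρ h := by
  have key : ∀ g, LinearMap.trace K V ((S * ρ h) * ρ (g * h)⁻¹)
      = LinearMap.trace K V (S * ρ g⁻¹) := by
    intro g
    have e : ρ (g * h)⁻¹ = ρ h⁻¹ * ρ g⁻¹ := by rw [mul_inv_rev, map_mul]
    rw [e, show (S * ρ h) * (ρ h⁻¹ * ρ g⁻¹) = S * ((ρ h * ρ h⁻¹) * ρ g⁻¹) by
      simp only [mul_assoc], ← map_mul ρ, mul_inv_cancel, map_one, one_mul]
  unfold fourierComp piMap sigmaFun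
  rw [Finset.sum_mul, ← Equiv.sum_comp (Equiv.mulRight h)]
  apply Finset.sum_congr rfl
  intro g _
  simp only [Equiv.coe_mulRight, smul_mul_assoc]
  rw [key, map_mul ρ]

variable [IsAlgClosed K] [FiniteDimensional K V]

theorem fourierComp_mul_left (ρ : Representation K Q V) [ρ.IsIrreducible] (A S : Module.End K V) :
    fourierComp ρ (A * S) = A * fourierComp ρ S := by
  obtain ⟨b, rfl⟩ := exists_piMap_eq ρ A
  unfold piMap
  rw [Finset.sum_mul, fourierComp_sum, Finset.sum_mul]
  apply Finset.sum_congr rfl
  intro g _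
  rw [smul_mul_assoc, fourierComp_smul, fourierComp_rho_mul, smul_mul_assoc]

theorem fourierComp_one_commute (ρ : Representation K Q V) (h : Q) :
    fourierComp ρ 1 * ρ h = ρ h * fourierComp ρ 1 := by
  rw [← fourierComp_mul_rho, ← fourierComp_rho_mul, one_mul, mul_one]

/-- `Φ(S) = c • S` with `c * dim V = |Q|`. -/
theorem exists_fourierComp_eq_smul (ρ : Representation K Q V) [ρ.IsIrreducible]
    (hQ : (Nat.card Q : K) ≠ 0) :
    ∃ c : K, c ≠ 0 ∧ ∀ S : Module.End K V, fourierComp ρ S = c • S := by
  obtain ⟨c, hc⟩ := exists_eq_smul_one_of_commute ρ (fourierComp ρ 1)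
    (fun g => fourierComp_one_commute ρ g)
  refine ⟨c, ?_, ?_⟩
  · -- trace
    intro hc0
    rw [hc0, zero_smul] at hc
    have htr : LinearMap.trace K V (fourierComp ρ 1) = 0 := by rw [hc, map_zero]
    haveI : Invertible (Nat.card Q : K) := invertibleOfNonzero hQ
    have horth := Representation.char_orthonormal ρ ρ
    rw [if_pos ⟨Representation.Equiv.refl ρ⟩] at horth
    have hsum : ∑ g : Q, ρ.character g * ρ.character g⁻¹ = LinearMap.trace K V (fourierComp ρ 1) := by
      unfold fourierComp piMap sigmaFun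
      rw [map_sum]
      apply Finset.sum_congr rfl
      intro g _
      rw [map_smul, smul_eq_mul, one_mul, mul_comm]
      rfl
    rw [hsum, htr, mul_zero] at horth
    exact zero_ne_one horth
  · intro S
    have := fourierComp_mul_left ρ S 1
    rw [mul_one] at this
    rw [this, hc, mul_smul_comm, mul_one]

end Cfsg.Agent.Helper64
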