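import Cfsg.Agent.Helper95.Hig.Basic

set_option autoImplicit false

namespace Cfsg.Agent.Helper64.Hig

open Cfsg.Agent.Helper95.Hig

universe u w

variable {K : Type u} [Field K] {C : Type w} [AddCommGroup C]

theorem RNG_exists_sq [Finite K] [CharP K 2] (x : K) : ∃ μ : K, μ ^ 2 = x := by
  have hb : Function.Bijective (frobenius K 2) := by
    have : Fact (Nat.Prime 2) := ⟨Nat.prime_two⟩
    exact (Finite.injective_iff_bijective).1 (frobenius_inj K 2)
  obtain ⟨μ, hμ⟩ := hb.2 x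
  exact ⟨μ, by simpa [frobenius_def] using hμ⟩

/-- (RNG) `A = 0` implies that `B` is a ring homomorphism. -/
theorem rng [Finite K] [CharP K 2] (h2 : ∀ c : C, c + c = 0) (D : HData K C)
    (hA : ∀ γ c, D.A γ c = 0) : ∃ R : K →+* AddMonoid.End C, ∀ γ c, R γ c = D.B γ c := by
  have hadd : ∀ γ δ c, D.B (γ + δ) c = D.B γ c + D.B δ c := by
    intro γ δ c
    rw [D.B_add, hA, hA, map_zero, add_zero, add_zero]
  have hneg : ∀ c : C, -c = c := fun c => by
    rw [neg_eq_iff_add_eq_zero]; exact h2 c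
  -- `B μ ∘ B δ ∘ B μ = B (μ² δ)`
  have h3 : ∀ μ δ c, D.B μ (D.B δ (D.B μ c)) = D.B (μ ^ 2 * δ) c := by
    intro μ δ c
    by_cases hμ : μ = 0
    · subst hμ
      rw [D.B_zero]
      simp [D.B_zero]
    · have h := D.rel21 μ⁻¹ δ (inv_ne_zero hμ) c
      simp only [hA, map_zero, add_zero, zero_add, inv_inv] at h
      rw [h]
      congr 1
      field_simp
  have hsq : ∀ μ c, D.B μ (D.B μ c) = D.B (μ ^ 2) c := by
    intro μ c
    have h := h3 μ 1 c
    rw [mul_one] at h
    rw [← h, D.B_one]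
  have hcomm : ∀ μ ν c, D.B μ (D.B ν c) = D.B ν (D.B μ c) := by
    intro μ ν c
    have h := hsq (μ + ν) c
    have e : (μ + ν) ^ 2 = μ ^ 2 + ν ^ 2 := by
      have : Fact (Nat.Prime 2) := ⟨Nat.prime_two⟩
      exact add_pow_char μ ν 2
    rw [e, hadd, hadd, hadd, map_add, map_add, ← hsq μ c, ← hsq ν c] at h
    -- h : Bμ Bμ c + Bμ Bν c + (Bν Bμ c + Bν Bν c) = BμBμ c + BνBν c
    have h' : D.B μ (D.B ν c) + D.B ν (D.B μ c) = 0 := by
      have h5 := sub_eq_zero.2 h
      rw [← h5]; abel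
    have := eq_neg_of_add_eq_zero_left h'
    rw [this, hneg]
  have hmul : ∀ x δ c, D.B (x * δ) c = D.B x (D.B δ c) := by
    intro x δ c
    obtain ⟨μ, rfl⟩ := RNG_exists_sq x
    rw [← h3 μ δ c, hcomm δ μ c, hsq]
  refine ⟨{ toFun := fun γ => D.B γ
            map_one' := ?_
            map_mul' := ?_
            map_zero' := ?_
            map_add' := ?_ }, fun γ c => rfl⟩
  · ext c; exact D.B_one c
  · intro x y; ext c; exact hmul x y c
  · ext c; exact D.B_zero c
  · intro x y; ext c; exact hadd x y c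

end Cfsg.Agent.Helper64.Hig
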