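import Mathlib

set_option autoImplicit false
open Polynomial

namespace Cfsg.Agent.Helper64

/-- An irreducible nontrivial action of an automorphism of prime order `p` on a finite elementary abelian
`q`-group `V` forces `|V| = q ^ ord_p(q)`. -/
theorem card_eq_pow_orderOf_of_irreducible {V : Type*} [AddCommGroup V] [Finite V] {p q : ℕ}
    [hp : Fact p.Prime] [hq : Fact q.Prime] (hpq : q ≠ p)
    (hV : ∀ v : V, q • v = 0) (σ : V →+ V) (hσp : ∀ v, (σ^[p]) v = v) (hσ1 : ∃ v, σ v ≠ v)
    (hirr : ∀ B : AddSubgroup V, (∀ v ∈ B, σ v ∈ B) → B = ⊥ ∨ B = ⊤)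
    (d : ℕ) (hcard : Nat.card V = q ^ d) :
    Nat.card V = q ^ orderOf (q : ZMod p) := by
  classical
  set e := orderOf (q : ZMod p) with he
  have : Fintype V := Fintype.ofFinite V
  -- arithmetic
  have hqp : (q : ZMod p) ≠ 0 := by
    rw [Ne, ZMod.natCast_eq_zero_iff]
    intro h
    exact hpq ((Nat.prime_dvd_prime_iff_eq hp.out hq.out).mp h).symm
  have hqe : (q : ZMod p) ^ e = 1 := pow_orderOf_eq_one _
  have he_pos : 0 < e := by
    apply orderOf_pos_iff.mpr
    rw [isOfFinOrder_iff_pow_eq_one]
    exact ⟨p - 1, Nat.sub_pos_of_lt hp.out.one_lt, ZMod.pow_card_sub_one_eq_one hqp⟩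
  obtain ⟨k, hk⟩ : ∃ k, q ^ e = 1 + p * k := by
    have h1 : ((q ^ e : ℕ) : ZMod p) = ((1 : ℕ) : ZMod p) := by push_cast; exact hqe
    rw [ZMod.natCast_eq_natCast_iff] at h1
    have h2 : p ∣ q ^ e - 1 := (Nat.modEq_iff_dvd' (Nat.one_le_pow _ _ hq.out.pos)).mp h1.symm
    obtain ⟨k, hk⟩ := h2
    refine ⟨k, ?_⟩
    have := Nat.one_le_pow e q hq.out.pos
    omega
  -- the ring E
  have hEfin : Finite (AddMonoid.End V) :=
    Finite.of_injective (fun f : AddMonoid.End V => (f : V → V)) DFunLike.coe_injective
  let s : AddMonoid.End V := σ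
  have hs_apply : ∀ v, s v = σ v := fun v => rfl
  have hsp : s ^ p = 1 := by
    ext v
    rw [AddMonoid.End.coe_pow]
    exact hσp v
  have hsN : s ^ (q ^ e) = s := by
    rw [hk, pow_add, pow_mul, hsp, one_pow, pow_one, mul_one]
  -- kernel dichotomy for elements commuting with s
  have hker : ∀ u : AddMonoid.End V, u * s = s * u → u ≠ 0 → Function.Injective u := by
    intro u hus hu0
    let B : AddSubgroup V :=
      { carrier := {v | u v = 0}
        zero_mem' := map_zero u
        add_mem' := fun {a b} ha hb => by
          simp only [Set.mem_ofPred_eq] at ha hb ⊢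
          rw [map_add, ha, hb, add_zero]
        neg_mem' := fun {a} ha => by
          simp only [Set.mem_ofPred_eq] at ha ⊢
          rw [map_neg, ha, neg_zero] }
    have hB : ∀ v ∈ B, σ v ∈ B := by
      intro v hv
      change u v = 0 at hv
      change u (σ v) = 0
      have : u (s v) = s (u v) := by
        have := DFunLike.congr_fun hus v
        simpa using this
      rw [← hs_apply, this, hv, map_zero]
    rcases hirr _ hB with h | h
    · rw [injective_iff_map_eq_zero]
      intro v hv
      have : v ∈ B := hv
      rw [h] at this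
      exact this
    · exfalso
      apply hu0
      ext v
      have : v ∈ B := by rw [h]; trivial
      exact this
  -- the subring R generated by s
  let R : Subring (AddMonoid.End V) := Subring.closure {s}
  have hsR : s ∈ R := Subring.subset_closure rfl
  have hRcomm_s : ∀ u ∈ R, u * s = s * u := by
    intro u hu
    have hle : R ≤ Subring.centralizer {s} := by
      apply Subring.closure_le.mpr
      rintro x rfl
      rw [SetLike.mem_coe, Subring.mem_centralizer_iff]
      rintro g rfl
      rfl
    have := hle hu
    rw [Subring.mem_centralizer_iff] at this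
    exact (this s rfl).symm
  let instComm : CommRing R :=
    { (inferInstance : Ring R) with
      mul_comm := by
        have := Subring.isMulCommutative_closure (s := {s}) (by rintro x rfl y rfl; rfl)
        exact fun a b => isMulCommutative_iff.mp this a b }
  have hRfin : Finite R := Finite.of_injective (fun u : R => (u : AddMonoid.End V)) Subtype.coe_injective
  have : Fintype R := Fintype.ofFinite R
  -- V nontrivial
  obtain ⟨v₁, hv₁⟩ := hσ1
  have hVnt : Nontrivial V := ⟨⟨σ v₁, v₁, hv₁⟩⟩
  have hRnt : Nontrivial R := by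
    refine ⟨⟨0, 1, ?_⟩⟩
    intro h
    have h' : (0 : AddMonoid.End V) = 1 := congrArg Subtype.val h
    have := DFunLike.congr_fun h' v₁
    have h2 : v₁ = 0 := by simpa using this.symm
    apply hv₁
    rw [h2, map_zero]
  have hRnzd : NoZeroDivisors R := by
    refine ⟨fun {a b} hab => ?_⟩
    by_contra hcon
    push Not at hcon
    have ha0 : (a : AddMonoid.End V) ≠ 0 := fun h => hcon.1 (Subtype.ext h)
    have hinj := hker a (hRcomm_s a a.2) ha0
    apply hcon.2
    apply Subtype.ext
    ext v
    have h1 : ((a * b : R) : AddMonoid.End V) v = 0 := by rw [hab]; rfl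
    have h2 : (a : AddMonoid.End V) ((b : AddMonoid.End V) v) = 0 := h1
    have := hinj (h2.trans (map_zero (a : AddMonoid.End V)).symm)
    simpa using this
  have hRdom : IsDomain R := NoZeroDivisors.to_isDomain R
  have hRchar : CharP R q := by
    refine ⟨fun n => ?_⟩
    constructor
    · intro h
      by_contra hnd
      have hcop : Nat.Coprime n q := (Nat.Coprime.symm ((Nat.Prime.coprime_iff_not_dvd hq.out).mpr hnd))
      -- n • v₁' = 0 and q • = 0 → v = 0
      obtain ⟨v₂, hv₂⟩ := exists_ne (0 : V)
      have h1 : n • v₂ = 0 := by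
        have h' : ((n : R) : AddMonoid.End V) = 0 := by rw [h]; rfl
        have := DFunLike.congr_fun h' v₂
        simpa using this
      have h2 : q • v₂ = 0 := hV v₂
      have h3 : addOrderOf v₂ ∣ n := addOrderOf_dvd_of_nsmul_eq_zero h1
      have h4 : addOrderOf v₂ ∣ q := addOrderOf_dvd_of_nsmul_eq_zero h2
      have h5 : addOrderOf v₂ ∣ 1 := by
        have := Nat.dvd_gcd h3 h4
        rwa [hcop] at this
      exact hv₂ (AddMonoid.addOrderOf_eq_one_iff.mp (Nat.dvd_one.mp h5))
    · rintro ⟨m, rfl⟩
      apply Subtype.ext
      ext v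
      simp [hV]
  have hRexp : ExpChar R q := ExpChar.prime hq.out
  -- Frobenius^e is the identity on R
  have hfrob : ∀ u : R, u ^ (q ^ e) = u := by
    have key : ∀ (u : AddMonoid.End V) (hu : u ∈ R), iterateFrobenius R q e ⟨u, hu⟩ = ⟨u, hu⟩ := by
      intro u hu
      induction hu using Subring.closure_induction with
      | mem x hx =>
        rw [iterateFrobenius_def]
        apply Subtype.ext
        have hx' : x = s := hx
        subst hx'
        exact hsN
      | zero => exact map_zero _
      | one => exact map_one _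
      | add x y hx hy ihx ihy =>
        have : (⟨x + y, Subring.add_mem _ hx hy⟩ : R) = ⟨x, hx⟩ + ⟨y, hy⟩ := rfl
        rw [this, map_add, ihx, ihy]
      | neg x hx ihx =>
        have : (⟨-x, Subring.neg_mem _ hx⟩ : R) = -⟨x, hx⟩ := rfl
        rw [this, map_neg, ihx]
      | mul x y hx hy ihx ihy =>
        have : (⟨x * y, Subring.mul_mem _ hx hy⟩ : R) = ⟨x, hx⟩ * ⟨y, hy⟩ := rfl
        rw [this, map_mul, ihx, ihy]
    intro u
    have := key u.1 u.2
    rwa [iterateFrobenius_def] at this
  -- counting roots
  have hN1 : 1 < q ^ e := Nat.one_lt_pow he_pos.ne' hq.out.one_lt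
  have hcardR : Fintype.card R ≤ q ^ e := by
    have hlt : (X : R[X]).degree < (X ^ (q ^ e) : R[X]).degree := by
      rw [degree_X_pow, degree_X]
      exact mod_cast hN1
    have hdeg : (X ^ (q ^ e) - X : R[X]).natDegree = q ^ e := by
      rw [natDegree_eq_of_degree_eq (degree_sub_eq_left_of_degree_lt hlt), natDegree_X_pow]
    have hne : (X ^ (q ^ e) - X : R[X]) ≠ 0 := by
      apply ne_zero_of_natDegree_gt (n := 1)
      rw [hdeg]; exact hN1
    have := Polynomial.card_le_degree_of_subset_roots (p := (X ^ (q ^ e) - X : R[X])) (Z := Finset.univ)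
      (by
        intro u _
        rw [mem_roots hne, IsRoot.def, eval_sub, eval_pow, eval_X, hfrob, sub_self])
    rwa [hdeg, Finset.card_univ] at this
  -- V is a cyclic R-module
  obtain ⟨v₂, hv₂⟩ := exists_ne (0 : V)
  let φ : R →+ V :=
    { toFun := fun u => (u : AddMonoid.End V) v₂
      map_zero' := rfl
      map_add' := fun a b => rfl }
  have hφinv : ∀ v ∈ φ.range, σ v ∈ φ.range := by
    rintro _ ⟨u, rfl⟩
    exact ⟨⟨s, hsR⟩ * u, rfl⟩
  have hφsurj : Function.Surjective φ := by
    rcases hirr _ hφinv with h | h
    · exfalso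
      have : v₂ ∈ φ.range := ⟨1, rfl⟩
      rw [h] at this
      exact hv₂ this
    · exact AddMonoidHom.range_eq_top.mp h
  have hVR : Nat.card V ≤ q ^ e := by
    have := Nat.card_le_card_of_surjective φ hφsurj
    rw [Nat.card_eq_fintype_card (α := R)] at this
    exact this.trans hcardR
  -- e ∣ d via fixed points
  have hed : e ∣ d := by
    rw [he, orderOf_dvd_iff_pow_eq_one]
    have hfix : Function.fixedPoints (σ : V → V) = {0} := by
      let B : AddSubgroup V :=
        { carrier := {v | σ v = v}
          zero_mem' := map_zero σ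
          add_mem' := fun {a b} ha hb => by
            simp only [Set.mem_ofPred_eq] at ha hb ⊢
            rw [map_add, ha, hb]
          neg_mem' := fun {a} ha => by
            simp only [Set.mem_ofPred_eq] at ha ⊢
            rw [map_neg, ha] }
      have hB : ∀ v ∈ B, σ v ∈ B := by
        intro v hv
        change σ v = v at hv
        change σ (σ v) = σ v
        exact congrArg σ hv
      rcases hirr _ hB with h | h
      · ext v
        constructor
        · intro hv
          have : v ∈ B := hv
          rw [h] at this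
          exact this
        · rintro rfl
          exact map_zero σ
      · exfalso
        have : v₁ ∈ B := by rw [h]; trivial
        exact hv₁ this
    let f : Function.End V := (σ : V → V)
    have hfpow : ∀ (n : ℕ) (v : V), (f ^ n) v = (σ : V → V)^[n] v := by
      intro n
      induction n with
      | zero => intro v; rfl
      | succ n ih =>
        intro v
        rw [pow_succ, Function.iterate_succ_apply]
        exact ih (σ v)
    have hmod := Equiv.Perm.card_fixedPoints_modEq (f := f) (p := p) (n := 1) (by
      rw [pow_one]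
      funext v
      rw [hfpow]
      exact hσp v)
    have hfix' : Function.fixedPoints f = {0} := hfix
    have hc1 : Fintype.card ↑(Function.fixedPoints f) = 1 := by
      rw [Fintype.card_eq_one_iff]
      refine ⟨⟨0, map_zero σ⟩, ?_⟩
      rintro ⟨y, hy⟩
      apply Subtype.ext
      have : y ∈ ({0} : Set V) := hfix' ▸ hy
      simpa using this
    rw [hc1] at hmod
    have hmod' : q ^ d ≡ 1 [MOD p] := by
      rw [← hcard, Nat.card_eq_fintype_card]
      exact hmod
    have h1 : ((q ^ d : ℕ) : ZMod p) = ((1 : ℕ) : ZMod p) := (ZMod.natCast_eq_natCast_iff _ _ _).mpr hmod'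
    push_cast at h1
    exact h1
  -- conclusion
  have hdpos : 0 < d := by
    by_contra h
    have hd0 : d = 0 := by omega
    rw [hd0, pow_zero] at hcard
    have : Subsingleton V := (Nat.card_eq_one_iff_unique.mp hcard).1
    exact hv₂ (Subsingleton.elim _ _)
  have hde : d ≤ e := by
    rw [hcard] at hVR
    exact (Nat.pow_le_pow_iff_right hq.out.one_lt).mp hVR
  have : d = e := le_antisymm hde (Nat.le_of_dvd hdpos hed)
  rw [hcard, this]

/-- Multiplicative version of `card_eq_pow_orderOf_of_irreducible`. -/
theorem card_eq_pow_orderOf_of_irreducible_mul {A : Type*} [CommGroup A] [Finite A] {p q : ℕ}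
    [hp : Fact p.Prime] [hq : Fact q.Prime] (hpq : q ≠ p)
    (hA : ∀ a : A, a ^ q = 1) (σ : A →* A) (hσp : ∀ a, (σ^[p]) a = a) (hσ1 : ∃ a, σ a ≠ a)
    (hirr : ∀ B : Subgroup A, (∀ b ∈ B, σ b ∈ B) → B = ⊥ ∨ B = ⊤)
    (d : ℕ) (hcard : Nat.card A = q ^ d) :
    Nat.card A = q ^ orderOf (q : ZMod p) := by
  have hiter : ∀ (n : ℕ) (v : Additive A), ((MonoidHom.toAdditive σ)^[n]) v = Additive.ofMul ((σ^[n]) v.toMul) := by
    intro n
    induction n with
    | zero => intro v; rfl
    | succ n ih =>
      intro v
      rw [Function.iterate_succ_apply, Function.iterate_succ_apply, ih]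
      rfl
  have h := card_eq_pow_orderOf_of_irreducible (V := Additive A) (p := p) (q := q) hpq
    (fun v => by
      have := hA v.toMul
      exact congrArg Additive.ofMul this)
    (MonoidHom.toAdditive σ)
    (fun v => by rw [hiter, hσp]; rfl)
    (by
      obtain ⟨a, ha⟩ := hσ1
      exact ⟨Additive.ofMul a, fun h => ha (congrArg Additive.toMul h)⟩)
    (by
      intro B hB
      have := hirr (AddSubgroup.toSubgroup' B) (fun b hb => hB (Additive.ofMul b) hb)
      rcases this with h | h
      · left
        have := congrArg AddSubgroup.toSubgroup'.symm h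
        simpa using this
      · right
        have := congrArg AddSubgroup.toSubgroup'.symm h
        simpa using this)
    d
    (by rw [← hcard]; exact Nat.card_congr Additive.toMul)
  rw [← h]
  exact Nat.card_congr Additive.ofMul

end Cfsg.Agent.Helper64
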