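import Mathlib
import Cfsg.Prelude.Def_LocalStructure
import Cfsg.Prelude.Def_Transfer
import Cfsg.Agent.Helper64.IrredCyclic

set_option autoImplicit false

namespace Cfsg.Agent.Helper64

/-- If `G = A⟨x⟩`, `A` is abelian and `x` centralizes `A` then `G` is abelian. -/
lemma isMulCommutative_of_sup_zpowers {G : Type*} [Group G] (A : Subgroup G) (x : G)
    (hgen : A ⊔ Subgroup.zpowers x = ⊤) (hA : ∀ a ∈ A, ∀ b ∈ A, a * b = b * a)
    (hx : ∀ a ∈ A, x * a = a * x) : IsMulCommutative G := by
  have hxcen : x ∈ Subgroup.center G := by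
    have hle : A ⊔ Subgroup.zpowers x ≤ Subgroup.centralizer {x} := by
      rw [sup_le_iff]
      constructor
      · intro a ha
        rw [Subgroup.mem_centralizer_singleton_iff]
        exact (hx a ha).symm
      · rw [Subgroup.zpowers_le, Subgroup.mem_centralizer_singleton_iff]
    rw [Subgroup.mem_center_iff]
    intro g
    have hg : g ∈ A ⊔ Subgroup.zpowers x := by rw [hgen]; trivial
    have := hle hg
    rw [Subgroup.mem_centralizer_singleton_iff] at this
    exact this
  have hAcen : ∀ a ∈ A, a ∈ Subgroup.center G := by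
    intro a ha
    have hle : A ⊔ Subgroup.zpowers x ≤ Subgroup.centralizer {a} := by
      rw [sup_le_iff]
      constructor
      · intro b hb
        rw [Subgroup.mem_centralizer_singleton_iff]
        exact hA b hb a ha
      · rw [Subgroup.zpowers_le, Subgroup.mem_centralizer_singleton_iff]
        exact hx a ha
    rw [Subgroup.mem_center_iff]
    intro g
    have hg : g ∈ A ⊔ Subgroup.zpowers x := by rw [hgen]; trivial
    have := hle hg
    rw [Subgroup.mem_centralizer_singleton_iff] at this
    exact this
  have hcen : Subgroup.center G = ⊤ := by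
    rw [eq_top_iff, ← hgen, sup_le_iff]
    exact ⟨hAcen, by rw [Subgroup.zpowers_le]; exact hxcen⟩
  rw [isMulCommutative_iff]
  intro a b
  have : a ∈ Subgroup.center G := by rw [hcen]; trivial
  exact ((Subgroup.mem_center_iff.mp this) b).symm

/-- In a finite group, `x H x⁻¹ ⊆ H` implies `x ∈ N(H)`. -/
lemma mem_normalizer_of_conj_mem {G : Type*} [Group G] [Finite G] (H : Subgroup G) (x : G)
    (h : ∀ y ∈ H, x * y * x⁻¹ ∈ H) : x ∈ Subgroup.normalizer (H : Set G) := by
  rw [Subgroup.mem_normalizer_iff_map_conj_eq]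
  have hle : H.map (MulAut.conj x).toMonoidHom ≤ H := by
    rintro _ ⟨y, hy, rfl⟩
    exact h y hy
  apply Subgroup.eq_of_le_of_card_ge hle
  exact (Nat.card_congr (Subgroup.equivMapOfInjective H (MulAut.conj x).toMonoidHom (MulAut.conj x).injective).toEquiv).le

/-- A subgroup of prime index together with an outside element generates the group. -/
lemma sup_zpowers_eq_top_of_index_prime {G : Type*} [Group G] [Finite G] (A : Subgroup G) {p : ℕ}
    (hp : p.Prime) (hidx : A.index = p) (x : G) (hx : x ∉ A) : A ⊔ Subgroup.zpowers x = ⊤ := by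
  have h1 : (A ⊔ Subgroup.zpowers x).index ∣ p := hidx ▸ Subgroup.index_dvd_of_le le_sup_left
  rcases (Nat.dvd_prime hp).mp h1 with h | h
  · exact Subgroup.index_eq_one.mp h
  · exfalso
    have h2 := Subgroup.relIndex_mul_index (le_sup_left : A ≤ A ⊔ Subgroup.zpowers x)
    rw [h, hidx] at h2
    have h3 : A.relIndex (A ⊔ Subgroup.zpowers x) = 1 := by
      have hp0 : 0 < p := hp.pos
      exact Nat.eq_of_mul_eq_mul_right hp0 (by rw [h2, one_mul])
    rw [Subgroup.relIndex_eq_one] at h3
    exact hx (h3 (le_sup_right (a := A) (Subgroup.mem_zpowers x)))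

/-- The order of a minimal normal elementary abelian `q`-subgroup of index `p` in a non-abelian group. -/
theorem card_of_minimal_normal_index_prime {G : Type*} [Group G] [Finite G] {p q : ℕ} [Fact p.Prime]
    (hq : q.Prime) (hpq : q ≠ p) (hna : ¬ IsMulCommutative G) (A : Subgroup G) [A.Normal]
    (hA : Cfsg.IsElementaryAbelian q A) (hidx : A.index = p)
    (hmin : ∀ B : Subgroup G, B.Normal → B ≤ A → B = ⊥ ∨ B = A)
    (x : G) (hxp : x ^ p = 1) (hxA : x ∉ A) :
    Nat.card ↥A = q ^ orderOf (q : ZMod p) := by
  classical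
  have hqf : Fact q.Prime := ⟨hq⟩
  have hgen := sup_zpowers_eq_top_of_index_prime A (Fact.out : p.Prime) hidx x hxA
  have hAcomm : ∀ a ∈ A, ∀ b ∈ A, a * b = b * a := by
    intro a ha b hb
    have := isMulCommutative_iff.mp hA.1 (⟨a, ha⟩ : A) ⟨b, hb⟩
    exact congrArg Subtype.val this
  let _instA : CommGroup A := { (inferInstance : Group A) with
    mul_comm := fun a b => isMulCommutative_iff.mp hA.1 a b }
  -- conjugation by x on A
  let τ : MulAut A := MulAut.conjNormal x
  have hτ : ∀ a : A, ((τ a : A) : G) = x * a * x⁻¹ := fun a => by simp [τ]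
  let σ : A →* A := τ.toMonoidHom
  have hσ : ∀ a : A, ((σ a : A) : G) = x * a * x⁻¹ := hτ
  have hτpow : ∀ n : ℕ, τ ^ n = MulAut.conjNormal (x ^ n) := fun n => (map_pow _ _ _).symm
  have hiter : ∀ (n : ℕ) (a : A), (σ^[n]) a = (τ ^ n) a := by
    intro n
    induction n with
    | zero => intro a; rfl
    | succ n ih =>
      intro a
      rw [Function.iterate_succ_apply', ih, pow_succ', MulAut.mul_apply]
      rfl
  -- pow of q card
  obtain ⟨d, hd⟩ : ∃ d, Nat.card A = q ^ d := by
    have hAp : IsPGroup q A := by
      intro a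
      refine ⟨1, ?_⟩
      rw [pow_one]
      apply Subtype.ext
      simpa using hA.2 a a.2
    exact (IsPGroup.iff_card.mp hAp)
  refine card_eq_pow_orderOf_of_irreducible_mul (A := A) (p := p) (q := q) hpq ?_ σ ?_ ?_ ?_ d hd
  · intro a
    apply Subtype.ext
    simpa using hA.2 a a.2
  · intro a
    rw [hiter, hτpow, hxp]
    simp
  · by_contra hcon
    push Not at hcon
    apply hna
    apply isMulCommutative_of_sup_zpowers A x hgen hAcomm
    intro a ha
    have := congrArg Subtype.val (hcon ⟨a, ha⟩)
    rw [hσ] at this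
    simp only at this
    calc x * a = (x * a * x⁻¹) * x := by simp [mul_assoc]
      _ = a * x := by rw [this]
  · intro B hB
    have hBn : (B.map A.subtype).Normal := by
      rw [← Subgroup.normalizer_eq_top_iff, eq_top_iff, ← hgen, sup_le_iff]
      constructor
      · intro a ha
        apply mem_normalizer_of_conj_mem
        rintro _ ⟨b, hb, rfl⟩
        have : a * (b : G) * a⁻¹ = b := by
          rw [hAcomm a ha b b.2]; simp
        rw [Subgroup.subtype_apply, this]
        exact ⟨b, hb, rfl⟩
      · rw [Subgroup.zpowers_le]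
        apply mem_normalizer_of_conj_mem
        rintro _ ⟨b, hb, rfl⟩
        exact ⟨σ b, hB b hb, hσ b⟩
    have hBle : B.map A.subtype ≤ A := by
      rintro _ ⟨b, _, rfl⟩
      exact b.2
    rcases hmin _ hBn hBle with h | h
    · left
      rw [eq_bot_iff]
      intro b hb
      have : (b : G) ∈ B.map A.subtype := ⟨b, hb, rfl⟩
      rw [h, Subgroup.mem_bot] at this
      rw [Subgroup.mem_bot]
      exact Subtype.ext this
    · right
      rw [eq_top_iff]
      intro b _
      have : (b : G) ∈ B.map A.subtype := by rw [h]; exact b.2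
      obtain ⟨b', hb', hbb'⟩ := this
      have : b' = b := Subtype.ext hbb'
      rwa [← this]

end Cfsg.Agent.Helper64
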