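import Mathlib
import Cfsg.Prelude.Def_LocalStructure

set_option autoImplicit false

namespace Cfsg.Agent.Helper64

/-- Normalizers grow in `p`-groups. -/
lemma exists_mem_normalizer_not_mem {G : Type*} [Group G] [Finite G] {p : ℕ} [Fact p.Prime]
    (P D : Subgroup G) (hP : IsPGroup p P) (hD : D < P) :
    ∃ x ∈ P, x ∈ Subgroup.normalizer (D : Set G) ∧ x ∉ D := by
  have hnil : Group.IsNilpotent P := hP.isNilpotent
  have hnc : NormalizerCondition P := Group.normalizerCondition_of_isNilpotent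
  have hlt : D.subgroupOf P < ⊤ := by
    rw [lt_top_iff_ne_top, Ne, Subgroup.subgroupOf_eq_top]
    exact not_le_of_gt hD
  have h := hnc _ hlt
  rw [← Subgroup.subgroupOf_normalizer_eq hD.le] at h
  obtain ⟨x, hx1, hx2⟩ := SetLike.exists_of_lt h
  exact ⟨x, x.2, hx1, hx2⟩

/-- A `p`-closed subgroup `N` has a largest `p`-subgroup, normalized by `N`. -/
lemma exists_normal_sylow_of_isPClosed {G : Type*} [Group G] [Finite G] {p : ℕ} [Fact p.Prime]
    (N : Subgroup G) (hN : Cfsg.IsPClosed p N) :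
    ∃ S : Subgroup G, S ≤ N ∧ IsPGroup p S ∧ N ≤ Subgroup.normalizer (S : Set G) ∧
      ∀ X : Subgroup G, X ≤ N → IsPGroup p X → X ≤ S := by
  let S₀ : Sylow p N := default
  have hS₀n : (S₀ : Subgroup N).Normal := hN S₀
  refine ⟨(S₀ : Subgroup N).map N.subtype, ?_, ?_, ?_, ?_⟩
  · rintro _ ⟨y, _, rfl⟩
    exact y.2
  · exact S₀.2.map N.subtype
  · intro n hn
    rw [Subgroup.mem_normalizer_iff]
    intro y
    constructor
    · rintro ⟨z, hz, rfl⟩
      refine ⟨⟨n, hn⟩ * z * ⟨n, hn⟩⁻¹, hS₀n.conj_mem z hz ⟨n, hn⟩, rfl⟩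
    · rintro ⟨z, hz, hzy⟩
      refine ⟨⟨n, hn⟩⁻¹ * z * ⟨n, hn⟩, ?_, ?_⟩
      · have := hS₀n.conj_mem z hz ⟨n, hn⟩⁻¹
        rw [inv_inv] at this
        exact this
      · simp only [Subgroup.subtype_apply, Subgroup.coe_mul, Subgroup.coe_inv] at hzy ⊢
        rw [hzy]; simp [mul_assoc]
  · intro X hXN hX
    have hXp : IsPGroup p (X.subgroupOf N) := hX.comap_subtype
    obtain ⟨Q, hQ⟩ := hXp.exists_le_sylow
    have hQS : Q = S₀ := by
      have : Subsingleton (Sylow p N) := (Sylow.unique_of_normal S₀ hS₀n).instSubsingleton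
      exact Subsingleton.elim _ _
    intro x hx
    have : (⟨x, hXN hx⟩ : N) ∈ (Q : Subgroup N) := hQ (Subgroup.mem_subgroupOf.mpr hx)
    rw [hQS] at this
    exact ⟨⟨x, hXN hx⟩, this, rfl⟩

end Cfsg.Agent.Helper64
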