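import Mathlib
import Cfsg.Prelude.Def_LocalStructure
import Cfsg.Agent.Helper64.Basic
import Cfsg.Agent.Helper64.PClosed
import Cfsg.Agent.Helper64.MinNonPClosed

set_option autoImplicit false

namespace Cfsg.Agent.Helper64

/-- A `p`-closed subgroup containing a Sylow `p`-subgroup `P` of `G` normalizes `P`. -/
lemma le_normalizer_of_isPClosed {G : Type*} [Group G] [Finite G] {p : ℕ} [Fact p.Prime]
    (P : Sylow p G) (K : Subgroup G) (hPK : (P : Subgroup G) ≤ K) (hK : Cfsg.IsPClosed p K) :
    K ≤ Subgroup.normalizer ((P : Subgroup G) : Set G) := by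
  obtain ⟨S, _, hSp, hKS, hall⟩ := exists_normal_sylow_of_isPClosed K hK
  have hPS : (P : Subgroup G) ≤ S := hall _ hPK P.2
  have : S = P := P.is_maximal' hSp hPS
  rwa [this] at hKS

/-- If a normal `p`-closed subgroup contains a Sylow `p`-subgroup `P` of `G`, then `P` is normal. -/
lemma sylow_normal_of_le_normal_isPClosed {G : Type*} [Group G] [Finite G] {p : ℕ} [Fact p.Prime]
    (P : Sylow p G) (K : Subgroup G) [K.Normal] (hPK : (P : Subgroup G) ≤ K) (hK : Cfsg.IsPClosed p K) :
    (P : Subgroup G).Normal := by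
  obtain ⟨S, _, hSp, _, hall⟩ := exists_normal_sylow_of_isPClosed K hK
  have hPS : (P : Subgroup G) ≤ S := hall _ hPK P.2
  have hS : S = P := P.is_maximal' hSp hPS
  rw [← Subgroup.normalizer_eq_top_iff, eq_top_iff]
  intro g _
  apply mem_normalizer_of_conj_mem
  intro y hy
  have hle : (P : Subgroup G).map (MulAut.conj g).toMonoidHom ≤ K := by
    rintro _ ⟨z, hz, rfl⟩
    exact Subgroup.Normal.conj_mem inferInstance z (hPK hz) g
  have := hall _ hle (P.2.map _)
  rw [hS] at this
  exact this ⟨y, hy, rfl⟩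

/-- If `G/N` is `p`-closed then `PN` is normal in `G`. -/
lemma sup_normal_of_isPClosed_quotient {G : Type*} [Group G] [Finite G] {p : ℕ} [Fact p.Prime]
    (P : Sylow p G) (N : Subgroup G) [N.Normal] (h : Cfsg.IsPClosed p (G ⧸ N)) :
    ((P : Subgroup G) ⊔ N).Normal := by
  have hn : ((P : Subgroup G).map (QuotientGroup.mk' N)).Normal :=
    h (P.mapSurjective (QuotientGroup.mk'_surjective N))
  have := hn.comap (QuotientGroup.mk' N)
  rwa [Subgroup.comap_map_eq, QuotientGroup.ker_mk'] at this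

/-- A normal `p`-closed subgroup `N` of `G` has a largest `p`-subgroup, which is normal in `G`. -/
lemma exists_normal_pSubgroup_of_isPClosed_normal {G : Type*} [Group G] [Finite G] {p : ℕ} [Fact p.Prime]
    (N : Subgroup G) [N.Normal] (hN : Cfsg.IsPClosed p N) :
    ∃ S : Subgroup G, S.Normal ∧ IsPGroup p S ∧ S ≤ N ∧ ∀ X : Subgroup G, X ≤ N → IsPGroup p X → X ≤ S := by
  obtain ⟨S, hSN, hSp, _, hall⟩ := exists_normal_sylow_of_isPClosed N hN
  refine ⟨S, ?_, hSp, hSN, hall⟩
  rw [← Subgroup.normalizer_eq_top_iff, eq_top_iff]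
  intro g _
  apply mem_normalizer_of_conj_mem
  intro y hy
  have hle : S.map (MulAut.conj g).toMonoidHom ≤ N := by
    rintro _ ⟨z, hz, rfl⟩
    exact Subgroup.Normal.conj_mem inferInstance z (hSN hz) g
  exact hall _ hle (hSp.map _) ⟨y, hy, rfl⟩

/-- `|PN| = |P||N|` if `P ∩ N = 1` and `N` is normal. -/
lemma card_sup_of_disjoint_normal {G : Type*} [Group G] [Finite G] (P N : Subgroup G) [N.Normal]
    (h : P ⊓ N = ⊥) : Nat.card (P ⊔ N : Subgroup G) = Nat.card P * Nat.card N := by
  have e3 : Nat.card N * N.relIndex (P ⊔ N) = Nat.card (P ⊔ N : Subgroup G) := by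
    have := Subgroup.relIndex_mul_relIndex (H := ⊥) (K := N) (L := P ⊔ N) bot_le le_sup_right
    simpa using this
  rw [Subgroup.relIndex_sup_right] at e3
  have e4 : N.relIndex P = Nat.card P := by
    have hbot : N.subgroupOf P = ⊥ := by
      rw [Subgroup.subgroupOf_eq_bot, disjoint_iff, inf_comm]
      exact h
    change (N.subgroupOf P).index = _
    rw [hbot, Subgroup.index_bot]
  rw [← e3, e4, mul_comm]

end Cfsg.Agent.Helper64
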