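import Mathlib
import Cfsg.Prelude.Def_HallClasses
import Cfsg.Agent.Helper64.Basic

set_option autoImplicit false

namespace Cfsg.Agent.Helper64

open Equiv Equiv.Perm MulAction Subgroup

/-- A subgroup of `S_n` whose index is prime to `p ≤ n` contains a `p`-cycle. -/
theorem exists_cycle_mem_of_not_dvd_index {n p : ℕ} [hp : Fact p.Prime] (hpn : p ≤ n)
    (H : Subgroup (Perm (Fin n))) (hH : ¬ p ∣ H.index) :
    ∃ c ∈ H, c.IsCycle ∧ c.support.card = p := by
  have hp2 : 2 ≤ p := hp.out.two_le
  have : NeZero n := ⟨by omega⟩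
  set i : Fin n := ⟨p - 1, by omega⟩ with hi
  have hi0 : i ≠ 0 := by
    intro h
    have h1 := congrArg Fin.val h
    simp only [hi, Fin.val_zero] at h1
    omega
  have hcyc : (Fin.cycleRange i).IsCycle := Fin.isCycle_cycleRange hi0
  have hsupp : (Fin.cycleRange i).support.card = p := by
    rw [← sum_cycleType, Fin.cycleType_cycleRange hi0]
    simp only [hi, Multiset.sum_singleton]
    omega
  have hord : orderOf (Fin.cycleRange i) = p := by rw [hcyc.orderOf, hsupp]
  have hpg : IsPGroup p (zpowers (Fin.cycleRange i)) := by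
    apply IsPGroup.of_card (n := 1)
    rw [Nat.card_zpowers, hord, pow_one]
  obtain ⟨g, hg⟩ := exists_le_map_conj_of_not_dvd_index _ hpg H hH
  have h1 := (mem_map_conj _ _ _).mp (hg (mem_zpowers _))
  refine ⟨g⁻¹ * Fin.cycleRange i * g, h1, ?_, ?_⟩
  · have := hcyc.conj (g := g⁻¹)
    simpa using this
  · have := card_support_conj (σ := g⁻¹) (τ := Fin.cycleRange i)
    rw [inv_inv, hsupp] at this
    exact this

/-- A subgroup of `S_n` containing an `n`-cycle is transitive. -/
theorem isPretransitive_of_cycle_mem {n : ℕ} (H : Subgroup (Perm (Fin n))) {c : Perm (Fin n)}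
    (hc : c ∈ H) (hcyc : c.IsCycle) (hsupp : c.support.card = n) :
    IsPretransitive H (Fin n) := by
  have hall : ∀ x, c x ≠ x := by
    have h1 : c.support = Finset.univ := Finset.eq_univ_of_card _ (by simpa using hsupp)
    intro x
    rw [← mem_support, h1]
    exact Finset.mem_univ _
  constructor
  intro x y
  obtain ⟨k, hk⟩ := hcyc.sameCycle (hall x) (hall y)
  refine ⟨⟨c, hc⟩ ^ k, ?_⟩
  change ((⟨c, hc⟩ ^ k : H) : Perm (Fin n)) x = y
  rw [SubgroupClass.coe_zpow]
  exact hk

/-- An element interchanging two distinct points has even order. -/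
theorem two_dvd_orderOf_of_swap {G α : Type*} [Group G] [MulAction G α] {g : G} {a b : α}
    (hab : a ≠ b) (h1 : g • a = b) (h2 : g • b = a) : 2 ∣ orderOf g := by
  by_contra hodd
  have hodd' : Odd (orderOf g) := Nat.odd_iff.mpr (by omega)
  obtain ⟨k, hk⟩ := hodd'
  have hsq : ∀ j : ℕ, (g ^ (2 * j)) • a = a := by
    intro j
    induction j with
    | zero => simp
    | succ j ih =>
      rw [show 2 * (j + 1) = 2 * j + 2 by ring, pow_add, mul_smul, pow_two, mul_smul, h1, h2, ih]
  have h3 : (g ^ orderOf g) • a = b := by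
    rw [hk, pow_succ', mul_smul, hsq k, h1]
  rw [pow_orderOf_eq_one, one_smul] at h3
  exact hab h3


/-- A Hall `π`-subgroup of `S_q` (`q ∈ π` prime) is primitive. -/
theorem isPreprimitive_of_isPiHall {π : Set ℕ} {q : ℕ} (hq : q.Prime) (hqπ : q ∈ π)
    (H : Subgroup (Perm (Fin q))) (hH : Cfsg.IsPiHall π H) : IsPreprimitive H (Fin q) := by
  have : Fact q.Prime := ⟨hq⟩
  obtain ⟨c, hcH, hcyc, hcs⟩ := exists_cycle_mem_of_not_dvd_index (le_refl q) H (hH.2 q hq hqπ)
  have := isPretransitive_of_cycle_mem H hcH hcyc hcs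
  exact IsPreprimitive.of_prime_card (by simpa using hq)

/-- If `2 ∉ π` and `p < q` are primes in `π`, then `S_q` has no Hall `π`-subgroup. -/
theorem not_isEPiGroup_perm_of_two_not_mem {π : Set ℕ} {p q : ℕ} (hp : p.Prime) (hq : q.Prime)
    (hpq : p < q) (hpπ : p ∈ π) (hqπ : q ∈ π) (h2 : 2 ∉ π) :
    ¬ Cfsg.IsEPiGroup π (Perm (Fin q)) := by
  rintro ⟨H, hH⟩
  have : Fact p.Prime := ⟨hp⟩
  have hprim := isPreprimitive_of_isPiHall hq hqπ H hH
  obtain ⟨d, hdH, hdcyc, hds⟩ := exists_cycle_mem_of_not_dvd_index hpq.le H (hH.2 p hp hpπ)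
  have htr := isPretransitive_of_isCycle_mem hdcyc hdH
  have hsn : ((d.support : Set (Fin q))ᶜ).ncard = (q - p - 1) + 1 := by
    have h1 := Set.ncard_add_ncard_compl (d.support : Set (Fin q))
    rw [Set.ncard_coe_finset, hds, Nat.card_fin] at h1
    omega
  have hp2 := hp.two_le
  have h2t : IsMultiplyPretransitive H (Fin q) 2 :=
    hprim.is_two_pretransitive hsn (by rw [Nat.card_fin]; omega) htr
  rw [is_two_pretransitive_iff] at h2t
  have h01 : (⟨0, hq.pos⟩ : Fin q) ≠ ⟨1, hq.one_lt⟩ := by simp [Fin.ext_iff]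
  obtain ⟨g, hg1, hg2⟩ := h2t h01 h01.symm
  have h2dvd : 2 ∣ Nat.card H :=
    (two_dvd_orderOf_of_swap h01 hg1 hg2).trans (orderOf_dvd_natCard g)
  exact h2 (hH.1 2 Nat.prime_two h2dvd)

/-- If `2 ∈ π`, `q ∈ π` is a prime and some prime `r < q` is not in `π`, then `S_q` has no
Hall `π`-subgroup. -/
theorem not_isEPiGroup_perm_of_two_mem {π : Set ℕ} {q r : ℕ} (hq : q.Prime) (hr : r.Prime)
    (hrq : r < q) (h2 : 2 ∈ π) (hqπ : q ∈ π) (hrπ : r ∉ π) :
    ¬ Cfsg.IsEPiGroup π (Perm (Fin q)) := by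
  rintro ⟨H, hH⟩
  have : Fact (Nat.Prime 2) := ⟨Nat.prime_two⟩
  have hprim := isPreprimitive_of_isPiHall hq hqπ H hH
  obtain ⟨d, hdH, hdcyc, hds⟩ :=
    exists_cycle_mem_of_not_dvd_index hq.two_le H (hH.2 2 Nat.prime_two h2)
  have hswap : IsSwap d := card_support_eq_two.mp hds
  have htop : H = ⊤ := subgroup_eq_top_of_isPreprimitive_of_isSwap_mem hprim d hswap hdH
  have hdvd : r ∣ Nat.card H := by
    rw [htop, Subgroup.card_top, Nat.card_perm, Nat.card_fin]
    exact (Nat.Prime.dvd_factorial hr).mpr hrq.le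
  exact hrπ (hH.1 r hr hdvd)


theorem sq_not_dvd_factorial_succ {r : ℕ} (hr : r.Prime) : ¬ r ^ 2 ∣ (r + 1).factorial := by
  intro h
  have hr2 := hr.two_le
  have h1 : (r + 1).factorial = r * ((r + 1) * (r - 1).factorial) := by
    obtain ⟨k, rfl⟩ : ∃ k, r = k + 1 := ⟨r - 1, by omega⟩
    rw [Nat.factorial_succ, Nat.factorial_succ]
    simp only [Nat.add_sub_cancel]
    ring
  rw [h1, pow_two] at h
  have h2 : r ∣ (r + 1) * (r - 1).factorial := Nat.dvd_of_mul_dvd_mul_left hr.pos h
  rcases hr.dvd_mul.mp h2 with h3 | h3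
  · have : r ∣ 1 := (Nat.dvd_add_right (dvd_refl r)).mp h3
    have := Nat.le_of_dvd one_pos this
    omega
  · have := (Nat.Prime.dvd_factorial hr).mp h3
    omega

/-- If `r ≥ 5` is a prime not in `π` and all smaller primes are in `π`, then `S_{r+1}` has no
Hall `π`-subgroup (it would have index `r < r + 1`). -/
theorem not_isEPiGroup_perm_succ {π : Set ℕ} {r : ℕ} (hr : r.Prime) (hr5 : 5 ≤ r) (hrπ : r ∉ π)
    (hlt : ∀ s : ℕ, s.Prime → s < r → s ∈ π) : ¬ Cfsg.IsEPiGroup π (Perm (Fin (r + 1))) := by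
  rintro ⟨H, hH⟩
  have hcard : Nat.card H * H.index = (r + 1).factorial := by
    rw [Subgroup.card_mul_index, Nat.card_perm, Nat.card_fin]
  have hrH : ¬ r ∣ Nat.card H := fun h => hrπ (hH.1 r hr h)
  have hridx : r ∣ H.index := by
    have h1 : r ∣ Nat.card H * H.index := by
      rw [hcard]; exact (Nat.Prime.dvd_factorial hr).mpr (by omega)
    exact (hr.dvd_mul.mp h1).resolve_left hrH
  have hprimes : ∀ {s : ℕ}, s.Prime → s ∣ H.index → s = r := by
    intro s hs hsd
    have h1 : s ∣ (r + 1).factorial := by rw [← hcard]; exact hsd.mul_left _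
    have h2 : s ≤ r + 1 := (Nat.Prime.dvd_factorial hs).mp h1
    by_contra hne
    have h3 : s ≠ r + 1 := by
      intro h
      have hodd : Odd r := hr.odd_of_ne_two (by omega)
      have heven : Even (r + 1) := hodd.add_one
      rw [← h] at heven
      have := (Nat.Prime.even_iff hs).mp heven
      omega
    have h4 : s < r := by omega
    exact hH.2 s hs (hlt s hs h4) hsd
  have hidxpos : H.index ≠ 0 := Subgroup.index_ne_zero_of_finite
  have hpow := Nat.eq_prime_pow_of_unique_prime_dvd hidxpos hprimes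
  have hidx : H.index = r := by
    rcases Nat.lt_or_ge H.index.primeFactorsList.length 2 with ha | ha
    · have h01 : H.index.primeFactorsList.length = 0 ∨ H.index.primeFactorsList.length = 1 := by
        omega
      rcases h01 with h0 | h1
      · rw [h0, pow_zero] at hpow
        rw [hpow] at hridx
        have := Nat.le_of_dvd one_pos hridx
        omega
      · rw [h1, pow_one] at hpow
        exact hpow
    · exfalso
      apply sq_not_dvd_factorial_succ hr
      have h1 : r ^ 2 ∣ H.index := by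
        rw [hpow]; exact pow_dvd_pow r ha
      exact h1.trans (hcard ▸ dvd_mul_left _ _)
  by_cases hKb : H.normalCore = ⊥
  · have hinj : Function.Injective
        (MulAction.toPermHom (Perm (Fin (r + 1))) (Perm (Fin (r + 1)) ⧸ H)) := by
      rw [← MonoidHom.ker_eq_bot_iff, ← Subgroup.normalCore_eq_ker]
      exact hKb
    have h1 := Nat.card_le_card_of_injective _ hinj
    rw [Nat.card_perm, Nat.card_perm, Nat.card_fin, ← Subgroup.index_eq_card, hidx] at h1
    have h2 := (Nat.factorial_lt (n := r) (m := r + 1) hr.pos).mpr (by omega)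
    omega
  · have hnt : Nontrivial H.normalCore := (Subgroup.nontrivial_iff_ne_bot _).mpr hKb
    have hA := alternatingGroup_le_of_normal (α := Fin (r + 1))
      (by rw [Nat.card_fin]; omega) hnt
    have hAH : alternatingGroup (Fin (r + 1)) ≤ H := hA.trans (Subgroup.normalCore_le H)
    have h2 := Subgroup.index_dvd_of_le hAH
    have : Nontrivial (Fin (r + 1)) := Fin.nontrivial_iff_two_le.mpr (by omega)
    rw [alternatingGroup.index_eq_two, hidx] at h2
    have := Nat.le_of_dvd two_pos h2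
    omega

end Cfsg.Agent.Helper64
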