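import Mathlib

/-!
# S5514 piece (C) for helper91: small group-counting lemmas (generic)
-/

set_option autoImplicit false

namespace Cfsg.Agent.Helper64.O7

/-- `m` elements of `H` in pairwise distinct left cosets of `K ≤ H` -/
theorem card_mul_le_of_cosets {G : Type*} [Group G] (H K : Subgroup G) [Finite H] (hKH : K ≤ H)
    {m : ℕ} (g : Fin m → G) (hg : ∀ i, g i ∈ H)
    (hne : ∀ i j, (g i)⁻¹ * g j ∈ K → i = j) : m * Nat.card K ≤ Nat.card H := by
  let f : Fin m × K → H := fun p => ⟨g p.1 * p.2.1, H.mul_mem (hg p.1) (hKH p.2.2)⟩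
  have hf : Function.Injective f := by
    rintro ⟨i, k⟩ ⟨j, k'⟩ h
    have h1 : g i * k.1 = g j * k'.1 := congrArg Subtype.val h
    have h2 : (g i)⁻¹ * g j = k.1 * (k'.1)⁻¹ := by
      have : g j = g i * k.1 * (k'.1)⁻¹ := by rw [h1]; group
      rw [this]; group
    have hij : i = j := hne i j (by rw [h2]; exact K.mul_mem k.2 (K.inv_mem k'.2))
    subst hij
    have h3 : k.1 = k'.1 := mul_left_cancel h1
    have h4 : k = k' := Subtype.ext h3
    rw [h4]
  have h := Nat.card_le_card_of_injective f hf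
  rwa [Nat.card_prod, Nat.card_eq_fintype_card, Fintype.card_fin] at h

/-- `|H| |K ⊓ N| ≤ |K| |N|` when `H = K N` -/
theorem card_mul_inf_le {G : Type*} [Group G] (H K N : Subgroup G) [Finite K] [Finite N]
    (hH : ∀ h ∈ H, ∃ k ∈ K, ∃ n ∈ N, h = k * n) :
    Nat.card H * Nat.card (K ⊓ N : Subgroup G) ≤ Nat.card K * Nat.card N := by
  classical
  choose kk hkk nn hnn hkn using hH
  let f : H × (K ⊓ N : Subgroup G) → K × N := fun p =>
    (⟨kk p.1.1 p.1.2 * p.2.1, K.mul_mem (hkk p.1.1 p.1.2) (Subgroup.mem_inf.1 p.2.2).1⟩,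
     ⟨(p.2.1)⁻¹ * nn p.1.1 p.1.2, N.mul_mem (N.inv_mem (Subgroup.mem_inf.1 p.2.2).2) (hnn p.1.1 p.1.2)⟩)
  have hf : Function.Injective f := by
    rintro ⟨⟨h, hh⟩, ⟨x, hx⟩⟩ ⟨⟨h', hh'⟩, ⟨x', hx'⟩⟩ he
    have e1 : kk h hh * x = kk h' hh' * x' := congrArg (fun p => (p.1 : G)) he
    have e2 : x⁻¹ * nn h hh = x'⁻¹ * nn h' hh' := congrArg (fun p => (p.2 : G)) he
    have e3 : h = h' := by
      rw [hkn h hh, hkn h' hh']
      calc kk h hh * nn h hh = (kk h hh * x) * (x⁻¹ * nn h hh) := by group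
        _ = (kk h' hh' * x') * (x'⁻¹ * nn h' hh') := by rw [e1, e2]
        _ = kk h' hh' * nn h' hh' := by group
    subst e3
    have e4 : x = x' := mul_left_cancel e1
    subst e4
    rfl
  have h := Nat.card_le_card_of_injective f hf
  rwa [Nat.card_prod, Nat.card_prod] at h

/-- a subgroup of a group of order `3 ^ a` with at least `3 ^ b` elements has order divisible by
`3 ^ b` -/
theorem three_pow_dvd_card {G : Type*} [Group G] (P R : Subgroup G) {a b : ℕ}
    (hP : Nat.card P = 3 ^ a) (hRP : R ≤ P) (hR : 3 ^ b ≤ Nat.card R) : 3 ^ b ∣ Nat.card R := by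
  have h1 : Nat.card R ∣ 3 ^ a := hP ▸ Subgroup.card_dvd_of_le hRP
  obtain ⟨c, _, hc⟩ := (Nat.dvd_prime_pow Nat.prime_three).1 h1
  rw [hc] at hR ⊢
  exact pow_dvd_pow 3 ((Nat.pow_le_pow_iff_right (by norm_num)).1 hR)

/-- a nonempty list of elements of a finite group closed under multiplication is a subgroup -/
theorem exists_subgroup_of_closed_list {G : Type*} [Group G] [Finite G] (L : List G)
    (hnd : L.Nodup) (hne : L ≠ []) (hmul : ∀ x ∈ L, ∀ y ∈ L, x * y ∈ L) :
    ∃ S : Subgroup G, (∀ x, x ∈ S ↔ x ∈ L) ∧ Nat.card S = L.length := by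
  classical
  have hpow : ∀ x ∈ L, ∀ n : ℕ, x ^ (n + 1) ∈ L := by
    intro x hx n
    induction n with
    | zero => simpa using hx
    | succ n ih => rw [pow_succ]; exact hmul _ ih _ hx
  obtain ⟨x0, hx0⟩ := List.exists_mem_of_ne_nil L hne
  have hone : (1 : G) ∈ L := by
    have hpos : 0 < orderOf x0 := orderOf_pos x0
    have := hpow x0 hx0 (orderOf x0 - 1)
    rwa [Nat.sub_add_cancel hpos, pow_orderOf_eq_one] at this
  have hinv : ∀ x ∈ L, x⁻¹ ∈ L := by
    intro x hx
    have hpos : 0 < orderOf x := orderOf_pos x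
    rcases Nat.lt_or_ge 1 (orderOf x) with h1 | h1
    · have h2 := hpow x hx (orderOf x - 2)
      have e : x ^ (orderOf x - 2 + 1) = x⁻¹ := by
        rw [eq_inv_iff_mul_eq_one, ← pow_succ]
        have : orderOf x - 2 + 1 + 1 = orderOf x := by omega
        rw [this, pow_orderOf_eq_one]
      rwa [e] at h2
    · have h2 : orderOf x = 1 := by omega
      rw [orderOf_eq_one_iff] at h2
      rw [h2, inv_one]; exact hone
  let S : Subgroup G :=
    { carrier := {x | x ∈ L}
      mul_mem' := fun {a b} ha hb => hmul a ha b hb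
      one_mem' := hone
      inv_mem' := fun {a} ha => hinv a ha }
  refine ⟨S, fun x => Iff.rfl, ?_⟩
  have e : Nat.card S = Nat.card {x // x ∈ L.toFinset} :=
    Nat.card_congr (Equiv.subtypeEquivRight
      (fun x => ⟨fun h => List.mem_toFinset.2 h, fun h => List.mem_toFinset.1 h⟩))
  rw [e, Nat.card_eq_fintype_card, Fintype.card_coe, List.toFinset_card_of_nodup hnd]

theorem card_ge_of_subgroups {G : Type*} [Group G] (N R S : Subgroup G) [Finite N] (hR : R ≤ N)
    (hS : S ≤ N) (hcR : 3 ^ 7 ∣ Nat.card R) (hcS : Nat.card S = 16) : 34992 ≤ Nat.card N := by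
  have h1 : 3 ^ 7 ∣ Nat.card N := dvd_trans hcR (Subgroup.card_dvd_of_le hR)
  have h2 : 16 ∣ Nat.card N := hcS ▸ Subgroup.card_dvd_of_le hS
  have hco : Nat.Coprime (3 ^ 7) 16 := by norm_num
  have h3 : 3 ^ 7 * 16 ∣ Nat.card N := hco.mul_dvd_of_dvd_of_dvd h1 h2
  have hpos : 0 < Nat.card N := Nat.card_pos
  have := Nat.le_of_dvd hpos h3
  norm_num at this
  exact this

end Cfsg.Agent.Helper64.O7
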