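import Mathlib

/-!
# S5514 piece (S) for helper91: Sylow conjugacy into a subgroup of order `3 ^ 9`
-/

set_option autoImplicit false

namespace Cfsg.Agent.Helper64.O7

/-- elements of order `3` are conjugate into a subgroup of order `3 ^ 9` -/
theorem exists_conj_mem_of_card {G : Type*} [Group G] (K P : Subgroup G) (hPK : P ≤ K)
    (hK : Nat.card K = 4585351680) (hP : Nat.card P = 3 ^ 9) {x : G} (hxK : x ∈ K)
    (hx : x ^ 3 = 1) : ∃ k ∈ K, k * x * k⁻¹ ∈ P := by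
  have : Fact (Nat.Prime 3) := ⟨Nat.prime_three⟩
  have : Finite K := Nat.finite_of_card_ne_zero (by rw [hK]; norm_num)
  -- `P` inside `K`
  set P' : Subgroup K := P.subgroupOf K with hP'
  have hP'card : Nat.card P' = 3 ^ 9 := by
    rw [← hP]
    exact Nat.card_congr (Subgroup.subgroupOfEquivOfLe hPK).toEquiv
  have hP'p : IsPGroup 3 P' := IsPGroup.of_card hP'card
  obtain ⟨Q', hQ'⟩ := hP'p.exists_le_sylow
  -- `P' = Q'`
  obtain ⟨n, hn⟩ := IsPGroup.iff_card.1 Q'.isPGroup'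
  have hdvd : 3 ^ n ∣ 4585351680 := by
    rw [← hn, ← hK]
    exact Subgroup.card_subgroup_dvd_card _
  have hn9 : n ≤ 9 := by
    by_contra hlt
    push Not at hlt
    have h10 : 3 ^ 10 ∣ 4585351680 := dvd_trans (pow_dvd_pow 3 hlt) hdvd
    norm_num at h10
  have hle : Nat.card (Q' : Subgroup K) ≤ Nat.card P' := by
    rw [hn, hP'card]
    exact Nat.pow_le_pow_right (by norm_num) hn9
  have hEq : P' = (Q' : Subgroup K) := Subgroup.eq_of_le_of_card_ge hQ' hle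
  -- the cyclic group of `x` is a 3-group
  have hx' : (⟨x, hxK⟩ : K) ^ 3 = 1 := Subtype.ext hx
  have hZ : IsPGroup 3 (Subgroup.zpowers (⟨x, hxK⟩ : K)) := by
    rintro ⟨y, hy⟩
    refine ⟨1, ?_⟩
    obtain ⟨m, rfl⟩ := Subgroup.mem_zpowers_iff.mp hy
    apply Subtype.ext
    show ((⟨x, hxK⟩ : K) ^ m) ^ 3 ^ 1 = 1
    rw [pow_one, ← zpow_natCast, ← zpow_mul, mul_comm, zpow_mul, zpow_natCast, hx', one_zpow]
  obtain ⟨Q, hQ⟩ := hZ.exists_le_sylow
  obtain ⟨k, hk⟩ := MulAction.exists_smul_eq K Q Q'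
  refine ⟨k.1, k.2, ?_⟩
  have h1 : (⟨x, hxK⟩ : K) ∈ (Q : Subgroup K) := hQ (Subgroup.mem_zpowers _)
  have h3 : k * ⟨x, hxK⟩ * k⁻¹ ∈ (Q' : Subgroup K) := by
    rw [← hk, Sylow.coe_subgroup_smul]
    have := Subgroup.smul_mem_pointwise_smul _ (MulAut.conj k) _ h1
    simpa [MulAut.smul_def] using this
  rw [← hEq, hP', Subgroup.mem_subgroupOf] at h3
  simpa using h3

end Cfsg.Agent.Helper64.O7
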