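import Mathlib
import Cfsg.Prelude.Def_PLocal
import Cfsg.Agent.Helper64.OddStable

/-!
# `p`-stability on sections, for solvable groups of odd order

* `isPStableOnSection_of_odd_solvable`: `Cfsg.IsPStableOnSection p K N` for a normal `p`-subgroup `K`
  and a normal subgroup `N` of a finite solvable group of odd order.
* `exists_pow_eq_of_lt_of_isCyclic`: elements of a proper subgroup of a cyclic `p`-group are `p`-th
  powers.
-/

namespace Cfsg.Agent.Helper64

open Subgroup
open scoped commutatorElement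

section Section

variable {G : Type*} [Group G] [Finite G]

theorem isPStableOnSection_of_odd_solvable [Group.IsSolvable G] (hodd : Odd (Nat.card G)) {p : ℕ}
    [hp : Fact p.Prime] (K N : Subgroup G) [hKn : K.Normal] [hNn : N.Normal] (hK : IsPGroup p K) :
    Cfsg.IsPStableOnSection p K N := by
  intro a hq
  set π := QuotientGroup.mk' N with hπ
  have hπs : Function.Surjective π := QuotientGroup.mk'_surjective N
  set V := K.map π with hV
  have hVn : V.Normal := Subgroup.Normal.map hKn _ hπs
  have hVp : IsPGroup p V := hK.map π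
  have hodd' : Odd (Nat.card (G ⧸ N)) := Odd.of_dvd_nat hodd (Subgroup.card_quotient_dvd_card N)
  have hq' : ⁅⁅V, zpowers (π a)⁆, zpowers (π a)⁆ = ⊥ := by
    rw [hV, ← MonoidHom.map_zpowers, ← Subgroup.map_commutator, ← Subgroup.map_commutator,
      eq_bot_iff]
    refine (Subgroup.map_mono hq).trans ?_
    rw [hπ, Subgroup.map_le_iff_le_comap, MonoidHom.comap_bot, QuotientGroup.ker_mk']
  have hst := isPStableOn_of_odd_solvable hodd' V hVp (π a) hq'
  set C := centralizer (V : Set (G ⧸ N)) with hC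
  set f : G →* (G ⧸ N) ⧸ C := (QuotientGroup.mk' C).comp π with hf
  have hfs : Function.Surjective f := (QuotientGroup.mk'_surjective C).comp hπs
  have hn : (Cfsg.pCore p ((G ⧸ N) ⧸ C)).Normal := by
    have := Cfsg.Agent.Lib.pCore_characteristic (G := (G ⧸ N) ⧸ C) p
    infer_instance
  have hker : f.ker = Cfsg.sectionKernel K N := by
    ext x
    rw [MonoidHom.mem_ker, hf, MonoidHom.comp_apply, QuotientGroup.mk'_apply,
      QuotientGroup.eq_one_iff]
    rfl
  refine ⟨(Cfsg.pCore p ((G ⧸ N) ⧸ C)).comap f, hn.comap f, ?_, ?_, hst⟩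
  · rw [← hker]
    intro x hx
    rw [Subgroup.mem_comap, MonoidHom.mem_ker.mp hx]
    exact Subgroup.one_mem _
  · obtain ⟨k, hk⟩ := IsPGroup.iff_card.mp (Cfsg.Agent.Lib.isPGroup_pCore (G := (G ⧸ N) ⧸ C) p)
    refine ⟨k, ?_⟩
    rw [← hker, Subgroup.relIndex_ker, Subgroup.map_comap_eq_self_of_surjective hfs, hk]

end Section

section Cyclic

variable {G : Type*} [Group G]

/-- Elements of a proper subgroup of a finite cyclic `p`-group are `p`-th powers. -/
theorem exists_pow_eq_of_lt_of_isCyclic {p : ℕ} [hp : Fact p.Prime] (D E : Subgroup G) [Finite D]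
    [hc : IsCyclic D] (hD : IsPGroup p D) (hlt : E < D) :
    ∀ e ∈ E, ∃ d ∈ D, d ^ p = e := by
  obtain ⟨g, hg⟩ := hc.exists_generator
  intro e he
  have heD : e ∈ D := hlt.le he
  obtain ⟨i, hi⟩ : ∃ i : ℕ, (g : G) ^ i = e := by
    have h1 : (⟨e, heD⟩ : D) ∈ Submonoid.powers g := by
      rw [mem_powers_iff_mem_zpowers]; exact hg _
    obtain ⟨i, hi⟩ := h1
    exact ⟨i, by simpa using congrArg Subtype.val hi⟩
  by_cases hpi : p ∣ i
  · obtain ⟨j, rfl⟩ := hpi
    refine ⟨(g : G) ^ j, D.pow_mem g.2 j, ?_⟩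
    rw [← pow_mul, mul_comm, hi]
  · exfalso
    -- then `e` generates `D`
    obtain ⟨n, hn⟩ := hD.exists_card_eq
    have hord : orderOf g ∣ p ^ n := by
      rw [← hn]; exact orderOf_dvd_natCard g
    obtain ⟨m, -, hm⟩ := (Nat.dvd_prime_pow hp.out).mp hord
    have hcop : (orderOf g).Coprime i := by
      rw [hm]
      exact Nat.Coprime.pow_left m ((Nat.Prime.coprime_iff_not_dvd hp.out).mpr hpi)
    have h1 : orderOf (g ^ i) = orderOf g := Nat.Coprime.orderOf_pow hcop
    have h2 : zpowers (g ^ i) = zpowers g := by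
      apply Subgroup.eq_of_le_of_card_ge
      · rw [Subgroup.zpowers_le]; exact Subgroup.pow_mem _ (Subgroup.mem_zpowers g) i
      · rw [Nat.card_zpowers, Nat.card_zpowers, h1]
    have h3 : g ∈ zpowers (g ^ i) := h2 ▸ Subgroup.mem_zpowers g
    obtain ⟨k, hk⟩ := Subgroup.mem_zpowers_iff.mp h3
    have h4 : (g : G) ∈ E := by
      have h5 : ((g : G) ^ i) ^ k = (g : G) := by
        have := congrArg Subtype.val hk
        simpa using this
      rw [← h5, hi]
      exact E.zpow_mem he k
    apply hlt.ne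
    apply le_antisymm hlt.le
    intro d hd
    obtain ⟨k, hk⟩ := Subgroup.mem_zpowers_iff.mp (hg ⟨d, hd⟩)
    have h6 : (g : G) ^ k = d := by
      have := congrArg Subtype.val hk
      simpa using this
    rw [← h6]
    exact E.zpow_mem h4 k

end Cyclic

end Cfsg.Agent.Helper64
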