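import Mathlib
import Cfsg.Agent.Helper99.P4Defs
import Cfsg.Agent.Helper76.P4U2

/-!
# (N3) `σ` is additive and `λ` is a twisted character
-/

set_option autoImplicit false
open scoped MatrixGroups

namespace Cfsg.Agent.Helper64.P4

open Matrix Polynomial Cfsg.Agent.Helper99.P4 Cfsg.Geo

variable {F : Type*} [Field F]

/-- the multipliers `λ` do not vanish -/
theorem lam_ne_zero (g : GL (Fin 4) F) (σ : V4 → V4) (lam : V4 → F)
    (hrel : ∀ v, (g : Matrix (Fin 4) (Fin 4) F) * pw v =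
      lam v • (pw (σ v) * (g : Matrix (Fin 4) (Fin 4) F))) (w : V4) : lam w ≠ 0 := by
  intro h0
  have h1 := hrel w
  rw [h0, zero_smul] at h1
  have h2 : (pw w : Matrix (Fin 4) (Fin 4) F) = 0 := by
    have h3 : ((g⁻¹ : GL (Fin 4) F) : Matrix (Fin 4) (Fin 4) F) *
        ((g : Matrix (Fin 4) (Fin 4) F) * pw w) = 0 := by rw [h1, Matrix.mul_zero]
    rwa [← Matrix.mul_assoc, ← Units.val_mul, inv_mul_cancel, Units.val_one,
      Matrix.one_mul] at h3
  have h3 := pw_mul_inv (F := F) w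
  rw [h2, Matrix.zero_mul] at h3
  exact zero_ne_one h3

/-- cancel an invertible matrix on the right of a scalar multiple -/
theorem cancel_right_GL (g : GL (Fin 4) F) (a b : F) (A B : Matrix (Fin 4) (Fin 4) F)
    (h : a • (A * (g : Matrix (Fin 4) (Fin 4) F)) = b • (B * (g : Matrix (Fin 4) (Fin 4) F))) :
    a • A = b • B := by
  have h1 := congrArg (· * ((g⁻¹ : GL (Fin 4) F) : Matrix (Fin 4) (Fin 4) F)) h
  simp only [Matrix.smul_mul, Matrix.mul_assoc] at h1
  rwa [← Units.val_mul, mul_inv_cancel, Units.val_one, Matrix.mul_one, Matrix.mul_one] at h1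

/-- (N3) -/
theorem sigma_add (h2 : (2 : F) ≠ 0) (g : GL (Fin 4) F) (σ : V4 → V4) (lam : V4 → F)
    (hrel : ∀ v, (g : Matrix (Fin 4) (Fin 4) F) * pw v =
      lam v • (pw (σ v) * (g : Matrix (Fin 4) (Fin 4) F))) (u v : V4) :
    σ (u + v) = σ u + σ v ∧
      lam (u + v) * sg (eps u v) = lam u * lam v * sg (eps (σ u) (σ v)) := by
  have e1 : (g : Matrix (Fin 4) (Fin 4) F) * (pw u * pw v) =
      (sg (eps u v) * lam (u + v)) • (pw (σ (u + v)) * (g : Matrix (Fin 4) (Fin 4) F)) := by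
    rw [pw_mul, Matrix.mul_smul, hrel, smul_smul]
  have e2 : (g : Matrix (Fin 4) (Fin 4) F) * (pw u * pw v) =
      (lam u * lam v * sg (eps (σ u) (σ v))) •
        (pw (σ u + σ v) * (g : Matrix (Fin 4) (Fin 4) F)) := by
    rw [← Matrix.mul_assoc, hrel u, Matrix.smul_mul, Matrix.mul_assoc, hrel v, Matrix.mul_smul,
      smul_smul, ← Matrix.mul_assoc, pw_mul, Matrix.smul_mul, smul_smul]
  have e3 := cancel_right_GL g _ _ _ _ (e1.symm.trans e2)
  have hc : sg (eps u v) * lam (u + v) ≠ 0 :=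
    mul_ne_zero (Cfsg.Agent.Helper76.P4.sg_ne_zero _) (lam_ne_zero g σ lam hrel _)
  obtain ⟨h3, h4⟩ := Cfsg.Agent.Helper76.P4.pw_unique h2 _ _ _ _ hc e3
  refine ⟨h3, ?_⟩
  rw [mul_comm]
  exact h4

end Cfsg.Agent.Helper64.P4
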