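import Mathlib
import Cfsg.Agent.Helper99.P4Defs
import Cfsg.Agent.Helper76.P4U2
import Cfsg.Agent.Helper82.P4U5
import Cfsg.Agent.Helper64.P4N3

/-!
# (N10) an element of `N0` inducing the trivial permutation is a scalar multiple of a Pauli word
-/

set_option autoImplicit false
open scoped MatrixGroups

namespace Cfsg.Agent.Helper64.P4

open Matrix Polynomial Cfsg.Agent.Helper99.P4 Cfsg.Geo

variable {F : Type*} [Field F]

/-- (U4, direct proof) a matrix commuting with all the Pauli words is a scalar -/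
theorem commutant_pw_scalar (h2 : (2 : F) ≠ 0) (M : Matrix (Fin 4) (Fin 4) F)
    (h : ∀ v : V4, M * pw v = pw v * M) : ∃ c : F, M = c • 1 := by
  have hX1 : M * mX1 = mX1 * M := by simpa [pw, z2_v1, z2_v0] using h (1,0,0,0)
  have hZ1 : M * mZ1 = mZ1 * M := by simpa [pw, z2_v1, z2_v0] using h (0,1,0,0)
  have hX2 : M * mX2 = mX2 * M := by simpa [pw, z2_v1, z2_v0] using h (0,0,1,0)
  have hZ2 : M * mZ2 = mZ2 * M := by simpa [pw, z2_v1, z2_v0] using h (0,0,0,1)
  have kZ1 : ∀ i j : Fin 4, (M * (mZ1 : Matrix (Fin 4) (Fin 4) F)) i j =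
      ((mZ1 : Matrix (Fin 4) (Fin 4) F) * M) i j := fun i j => by rw [hZ1]
  have kZ2 : ∀ i j : Fin 4, (M * (mZ2 : Matrix (Fin 4) (Fin 4) F)) i j =
      ((mZ2 : Matrix (Fin 4) (Fin 4) F) * M) i j := fun i j => by rw [hZ2]
  have kX1 : ∀ i j : Fin 4, (M * (mX1 : Matrix (Fin 4) (Fin 4) F)) i j =
      ((mX1 : Matrix (Fin 4) (Fin 4) F) * M) i j := fun i j => by rw [hX1]
  have kX2 : ∀ i j : Fin 4, (M * (mX2 : Matrix (Fin 4) (Fin 4) F)) i j =
      ((mX2 : Matrix (Fin 4) (Fin 4) F) * M) i j := fun i j => by rw [hX2]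
  refine ⟨M 0 0, ?_⟩
  have d1 := kX2 0 1
  have d2 := kX1 0 2
  have d3 := kX1 1 3
  simp [mX1, mX2, Matrix.mul_apply, Fin.sum_univ_four] at d1 d2 d3
  ext i j
  have e1 := kZ1 i j
  have e2 := kZ2 i j
  fin_cases i <;> fin_cases j <;>
    simp [mZ1, mZ2, Matrix.mul_apply, Fin.sum_univ_four] at e1 e2 ⊢ <;> grind

/-- (N10) -/
theorem scalar_mul_pw_of_sigma_id (h2 : (2 : F) ≠ 0) (g : GL (Fin 4) F) (lam : V4 → F)
    (hrel : ∀ v, (g : Matrix (Fin 4) (Fin 4) F) * pw v =
      lam v • (pw v * (g : Matrix (Fin 4) (Fin 4) F))) :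
    ∃ (s : F) (u : V4), (g : Matrix (Fin 4) (Fin 4) F) = s • pw u := by
  have hrel' : ∀ v, (g : Matrix (Fin 4) (Fin 4) F) * pw v =
      lam v • (pw ((id : V4 → V4) v) * (g : Matrix (Fin 4) (Fin 4) F)) := hrel
  have hne : ∀ v, lam v ≠ 0 := lam_ne_zero g id lam hrel'
  -- `lam` is multiplicative
  have hmul : ∀ u v, lam (u + v) = lam u * lam v := by
    intro u v
    have h1 := (sigma_add h2 g id lam hrel' u v).2
    exact mul_right_cancel₀ (Cfsg.Agent.Helper76.P4.sg_ne_zero (eps u v)) h1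
  have h0 : lam 0 = 1 := by
    have h1 := hmul 0 0
    rw [add_zero] at h1
    have h3 : lam 0 * 1 = lam 0 * lam 0 := by rw [mul_one]; exact h1
    exact (mul_left_cancel₀ (hne 0) h3).symm
  have hsq : ∀ v, lam v * lam v = 1 := by
    intro v
    rw [← hmul, add_self_V4, h0]
  have hpm : ∀ v, lam v = 1 ∨ lam v = -1 := fun v => mul_self_eq_one_iff.mp (hsq v)
  have h1ne : (1 : F) ≠ -1 := by
    intro h
    apply h2
    have : (2 : F) = 1 + 1 := by norm_num
    rw [this]
    nth_rewrite 2 [h]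
    ring
  -- the additive character `chi`
  classical
  let chi : V4 → ZMod 2 := fun v => if lam v = 1 then 0 else 1
  have hchi : ∀ v, (sg (chi v) : F) = lam v := by
    intro v
    rcases hpm v with h | h
    · simp only [chi, h, if_true, sg_zero]
    · have hne1 : ¬ ((-1 : F) = 1) := fun e => h1ne e.symm
      simp only [chi, h, if_neg hne1, sg_one]
  have hsg_inj : ∀ a b : ZMod 2, (sg a : F) = sg b → a = b := by
    intro a b hab
    rcases zmod2_cases a with rfl | rfl <;> rcases zmod2_cases b with rfl | rfl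
    · rfl
    · rw [sg_zero, sg_one] at hab; exact absurd hab h1ne
    · rw [sg_zero, sg_one] at hab; exact absurd hab.symm h1ne
    · rfl
  have hadd : ∀ u v, chi (u + v) = chi u + chi v := by
    intro u v
    apply hsg_inj
    rw [sg_add, hchi, hchi, hchi, hmul]
  obtain ⟨w, hw⟩ := Cfsg.Agent.Helper82.P4.exists_bil chi hadd
  -- `g * pw w` commutes with all Pauli words
  have hcomm : ∀ v : V4, ((g : Matrix (Fin 4) (Fin 4) F) * pw w) * pw v =
      pw v * ((g : Matrix (Fin 4) (Fin 4) F) * pw w) := by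
    intro v
    rw [Matrix.mul_assoc, pw_comm w v, Matrix.mul_smul, ← Matrix.mul_assoc, hrel v,
      Matrix.smul_mul, smul_smul, ← hw, hchi, hsq, one_smul, Matrix.mul_assoc]
  obtain ⟨c, hc⟩ := commutant_pw_scalar h2 _ hcomm
  refine ⟨c * sg (eps w w), w, ?_⟩
  have h3 : (g : Matrix (Fin 4) (Fin 4) F) =
      ((g : Matrix (Fin 4) (Fin 4) F) * pw w) * ((sg (eps w w) : F) • pw w) := by
    rw [Matrix.mul_assoc, pw_mul_inv, Matrix.mul_one]
  rw [h3, hc, Matrix.smul_mul, Matrix.one_mul, smul_smul]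

end Cfsg.Agent.Helper64.P4
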