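import Mathlib
import Cfsg.Agent.Helper8.G24S
import Cfsg.Agent.Helper5.SpCard

/-!
# (LB) centralizers of elements of order `13` in `Sp(6,3)` have exponent dividing `26`

`x0 = diag(A, A⁻ᵀ)`, `A` the companion matrix of `X³ - X - 1` over `F₃`, has order `13` and the
cyclic vector `e = e₃ + e₆`; a matrix commuting with `x0` is a polynomial in `x0`, and the
Frobenius of `F₃[x0]` gives `g ^ 27 = g`.
-/

set_option autoImplicit false
set_option maxRecDepth 100000

namespace Cfsg.Agent.Helper64.PG63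

open Matrix Polynomial

/-- the index type of `Sp(6, 3)` -/
abbrev I6 : Type := Fin 3 ⊕ Fin 3

/-- `6 × 6` matrices over `F₃` -/
abbrev M6 : Type := Matrix I6 I6 (ZMod 3)

/-- the element of order `13` -/
def X0m : M6 := fromBlocks !![0,0,1;1,0,1;0,1,0] 0 0 !![2,0,1;1,0,0;0,1,0]
def X2m : M6 := fromBlocks !![0,1,0;0,1,1;1,0,1] 0 0 !![1,1,2;2,0,1;1,0,0]
def X4m : M6 := fromBlocks !![0,1,1;1,1,2;1,1,1] 0 0 !![2,1,0;0,2,1;1,1,2]
def X8m : M6 := fromBlocks !![2,2,0;0,1,2;2,0,1] 0 0 !![1,1,1;1,2,1;1,2,2]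
def X12m : M6 := fromBlocks !![2,1,0;0,0,1;1,0,0] 0 0 !![0,1,0;0,0,1;1,1,0]

theorem X0m_mul_X0m : X0m * X0m = X2m := by decide
theorem X2m_mul_X2m : X2m * X2m = X4m := by decide
theorem X4m_mul_X4m : X4m * X4m = X8m := by decide
theorem X8m_mul_X4m : X8m * X4m = X12m := by decide
theorem X12m_mul_X0m : X12m * X0m = 1 := by decide

theorem X0m_pow_13 : X0m ^ 13 = 1 := by
  have h2 : X0m ^ 2 = X2m := by rw [pow_two, X0m_mul_X0m]
  have h4 : X0m ^ 4 = X4m := by
    rw [show 4 = 2 * 2 from rfl, pow_mul, h2, pow_two, X2m_mul_X2m]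
  have h8 : X0m ^ 8 = X8m := by
    rw [show 8 = 4 * 2 from rfl, pow_mul, h4, pow_two, X4m_mul_X4m]
  rw [show 13 = 8 + 4 + 1 from rfl, pow_add, pow_add, pow_one, h8, h4, X8m_mul_X4m, X12m_mul_X0m]

theorem X0m_pow_27 : X0m ^ 27 = X0m := by
  rw [show 27 = 13 * 2 + 1 from rfl, pow_add, pow_mul, X0m_pow_13, one_pow, one_mul, pow_one]

theorem X0m_mem : X0m ∈ Matrix.symplecticGroup (Fin 3) (ZMod 3) := by
  rw [SymplecticGroup.mem_iff]
  decide

/-- the element of order `13` of `Sp(6,3)` -/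
def x0 : Matrix.symplecticGroup (Fin 3) (ZMod 3) := ⟨X0m, X0m_mem⟩

theorem X0m_ne_one : X0m ≠ 1 := by decide

theorem orderOf_x0 : orderOf x0 = 13 := by
  haveI : Fact (Nat.Prime 13) := ⟨by norm_num⟩
  apply orderOf_eq_prime
  · apply Subtype.ext
    rw [SubmonoidClass.coe_pow]
    exact X0m_pow_13
  · intro h
    exact X0m_ne_one (congrArg Subtype.val h)

/-! ### the cyclic vector -/

/-- the vectors `x0 ^ i e` -/
def vv : Fin 6 → I6 → ZMod 3 :=
  ![Sum.elim ![0,0,1] ![0,0,1], Sum.elim ![1,1,0] ![1,0,0], Sum.elim ![0,1,1] ![2,1,0],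
    Sum.elim ![1,1,1] ![1,2,1], Sum.elim ![1,2,1] ![0,1,2], Sum.elim ![1,2,2] ![2,0,1]]

/-- the matrix with columns `vv i` -/
def Vm : Matrix I6 (Fin 6) (ZMod 3) := Matrix.of (fun r i => vv i r)

/-- the inverse of `Vm` -/
def Vi : Matrix (Fin 6) I6 (ZMod 3) :=
  Matrix.of ![Sum.elim ![2,1,1] ![0,1,0], Sum.elim ![1,0,2] ![0,1,1], Sum.elim ![2,0,2] ![1,0,1],
    Sum.elim ![0,2,0] ![1,2,0], Sum.elim ![1,2,1] ![0,0,2], Sum.elim ![2,2,0] ![2,0,0]]

theorem Vm_mul_Vi : Vm * Vi = 1 := by decide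

theorem X0m_mulVec_vv (i : Fin 5) : X0m *ᵥ vv i.castSucc = vv i.succ := by
  revert i
  decide

theorem pow_mulVec_vv (i : Fin 6) : (X0m ^ (i : ℕ)) *ᵥ vv 0 = vv i := by
  have key : ∀ k : ℕ, ∀ hk : k < 6, (X0m ^ k) *ᵥ vv 0 = vv ⟨k, hk⟩ := by
    intro k
    induction k with
    | zero => intro _; rw [pow_zero, Matrix.one_mulVec]; rfl
    | succ k ih =>
      intro hk
      rw [pow_succ', ← Matrix.mulVec_mulVec, ih (by omega)]
      exact X0m_mulVec_vv ⟨k, by omega⟩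
  exact key i i.2

/-- a matrix commuting with `x0` and killing the cyclic vector is zero -/
theorem eq_zero_of_commute (N : M6) (hN : N * X0m = X0m * N) (h0 : N *ᵥ vv 0 = 0) : N = 0 := by
  have h1 : ∀ i : Fin 6, N *ᵥ vv i = 0 := by
    intro i
    rw [← pow_mulVec_vv i, Matrix.mulVec_mulVec]
    have hc : Commute N X0m := hN
    rw [(hc.pow_right (i : ℕ)).eq, ← Matrix.mulVec_mulVec, h0, Matrix.mulVec_zero]
  have h2 : N * Vm = 0 := by
    ext r i
    have := congrFun (h1 i) r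
    simpa [Matrix.mul_apply, Matrix.mulVec, dotProduct, Vm] using this
  calc N = N * (Vm * Vi) := by rw [Vm_mul_Vi, Matrix.mul_one]
    _ = (N * Vm) * Vi := (Matrix.mul_assoc _ _ _).symm
    _ = 0 := by rw [h2, Matrix.zero_mul]

/-- a matrix commuting with `x0` is a polynomial in `x0` -/
theorem exists_poly_of_commute (M : M6) (hM : M * X0m = X0m * M) :
    ∃ p : (ZMod 3)[X], M = aeval X0m p := by
  let c : Fin 6 → ZMod 3 := Vi *ᵥ (M *ᵥ vv 0)
  refine ⟨∑ i : Fin 6, Polynomial.C (c i) * Polynomial.X ^ (i : ℕ), ?_⟩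
  have hP : aeval X0m (∑ i : Fin 6, Polynomial.C (c i) * Polynomial.X ^ (i : ℕ)) =
      ∑ i : Fin 6, c i • X0m ^ (i : ℕ) := by
    rw [map_sum]
    refine Finset.sum_congr rfl fun i _ => ?_
    rw [map_mul, Polynomial.aeval_C, map_pow, Polynomial.aeval_X, Algebra.algebraMap_eq_smul_one,
      smul_mul_assoc, one_mul]
  rw [hP]
  have hcomm : (∑ i : Fin 6, c i • X0m ^ (i : ℕ)) * X0m = X0m * ∑ i : Fin 6, c i • X0m ^ (i : ℕ) := by
    have : Commute (∑ i : Fin 6, c i • X0m ^ (i : ℕ)) X0m :=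
      Commute.sum_left _ _ _ fun i _ => ((Commute.refl X0m).pow_left (i : ℕ)).smul_left (c i)
    exact this.eq
  have hsub : M - ∑ i : Fin 6, c i • X0m ^ (i : ℕ) = 0 := by
    apply eq_zero_of_commute
    · rw [Matrix.sub_mul, Matrix.mul_sub, hM, hcomm]
    · rw [Matrix.sub_mulVec, sub_eq_zero, Matrix.sum_mulVec]
      have h1 : ∀ i : Fin 6, (c i • X0m ^ (i : ℕ)) *ᵥ vv 0 = c i • vv i := by
        intro i
        rw [Matrix.smul_mulVec, pow_mulVec_vv]
      rw [Finset.sum_congr rfl fun i _ => h1 i]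
      -- `∑ c i • vv i = Vm *ᵥ c`
      have h2 : ∑ i : Fin 6, c i • vv i = Vm *ᵥ c := by
        ext r
        simp only [Finset.sum_apply, Pi.smul_apply, smul_eq_mul, Matrix.mulVec, dotProduct, Vm,
          Matrix.of_apply]
        exact Finset.sum_congr rfl fun i _ => mul_comm _ _
      rw [h2]
      show M *ᵥ vv 0 = Vm *ᵥ (Vi *ᵥ (M *ᵥ vv 0))
      rw [Matrix.mulVec_mulVec, Vm_mul_Vi, Matrix.one_mulVec]
  exact sub_eq_zero.mp hsub

/-- the Frobenius of a commutative subalgebra -/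
theorem aeval_pow_three (Y : M6) (p : (ZMod 3)[X]) : (aeval Y p) ^ 3 = aeval (Y ^ 3) p := by
  rw [← map_pow, ← ZMod.expand_card, Polynomial.expand_aeval]

/-- a matrix commuting with `x0` is fixed by the third power of the Frobenius -/
theorem pow_27_of_commute (M : M6) (hM : M * X0m = X0m * M) : M ^ 27 = M := by
  obtain ⟨p, hp⟩ := exists_poly_of_commute M hM
  rw [hp, show 27 = 3 * 3 * 3 from rfl, pow_mul, pow_mul, aeval_pow_three, aeval_pow_three,
    aeval_pow_three, ← pow_mul, ← pow_mul, show 3 * 3 * 3 = 27 from rfl, X0m_pow_27]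

/-- the centralizer of `x0` has exponent dividing `26` -/
theorem pow_26_of_commute_x0 (g : Matrix.symplecticGroup (Fin 3) (ZMod 3))
    (hc : g * x0 = x0 * g) : g ^ 26 = 1 := by
  have h1 : (g : M6) * X0m = X0m * (g : M6) := congrArg Subtype.val hc
  have h2 : g ^ 27 = g := by
    apply Subtype.ext
    rw [SubmonoidClass.coe_pow]
    exact pow_27_of_commute _ h1
  have h3 : g ^ 26 * g = 1 * g := by
    rw [← pow_succ, one_mul]
    exact h2
  exact mul_right_cancel h3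

/-- (LB) centralizers of elements of order `13` in `Sp(6,3)` have exponent dividing `26` -/
theorem cent13 (x g : Matrix.symplecticGroup (Fin 3) (ZMod 3)) (hx : orderOf x = 13)
    (hc : g * x = x * g) : g ^ 26 = 1 := by
  haveI : Fact (Nat.Prime 13) := ⟨by norm_num⟩
  have hcard : ¬ 13 ^ 2 ∣ Nat.card (Matrix.symplecticGroup (Fin 3) (ZMod 3)) := by
    rw [Cfsg.Agent.Helper5.card_sp]
    simp only [ZMod.card, Finset.prod_range_succ, Finset.prod_range_zero]
    norm_num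
  obtain ⟨k, hk⟩ := Cfsg.Agent.Helper8.G24.exists_conj_zpowers 13 x0 x orderOf_x0 hx hcard
  have h1 : x0 ∈ Subgroup.zpowers (k * x * k⁻¹) := hk ▸ Subgroup.mem_zpowers x0
  obtain ⟨j, hj⟩ := Subgroup.mem_zpowers_iff.mp h1
  have hc' : Commute (k * g * k⁻¹) (k * x * k⁻¹) := by
    show k * g * k⁻¹ * (k * x * k⁻¹) = k * x * k⁻¹ * (k * g * k⁻¹)
    have e1 : k * g * k⁻¹ * (k * x * k⁻¹) = k * (g * x) * k⁻¹ := by group
    have e2 : k * x * k⁻¹ * (k * g * k⁻¹) = k * (x * g) * k⁻¹ := by group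
    rw [e1, e2, hc]
  have hc0 : Commute (k * g * k⁻¹) x0 := hj ▸ hc'.zpow_right j
  have h2 := pow_26_of_commute_x0 (k * g * k⁻¹) hc0.eq
  rw [conj_pow] at h2
  have h3 := congrArg (fun z => k⁻¹ * z * k) h2
  simpa [mul_assoc] using h3

end Cfsg.Agent.Helper64.PG63
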