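import Cfsg.Agent.Helper86.PG63.Defs
import Cfsg.Agent.Helper6.Sz10
import Cfsg.Agent.S0333
import Cfsg.Agent.Helper8.G24S

/-!
# (N2) no elements of order `35, 26, 65, 91` in `Sz(8)`
-/

set_option autoImplicit false

namespace Cfsg.Agent.Helper64.PG63

open Cfsg Cfsg.Agent.Helper86.PG63 Cfsg.Agent.Helper6

/-- a self-centralizing subgroup of prime order `r`, `r ^ 2 ∤ |G|`, excludes the orders `r s` -/
theorem false_of_order_mul {G : Type*} [Group G] [Finite G] (r : ℕ) [Fact r.Prime]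
    (hr2 : ¬ r ^ 2 ∣ Nat.card G) (U : Subgroup G) (hU : Nat.card U = r)
    (hcent : ∀ u ∈ U, u ≠ 1 → Subgroup.centralizer {u} = U)
    (n : G) (s : ℕ) (hs : 1 < s) (hn : orderOf n = r * s) : False := by
  have hr : r.Prime := Fact.out
  -- a generator of `U`
  haveI : Fact (Nat.card U).Prime := ⟨hU ▸ hr⟩
  have hne : ∃ u0 : U, u0 ≠ 1 := by
    have h1 : 1 < Nat.card U := by rw [hU]; exact hr.one_lt
    haveI : Nontrivial U := (Finite.one_lt_card_iff_nontrivial).mp h1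
    exact exists_ne 1
  obtain ⟨u0, hu0⟩ := hne
  have hu0o : orderOf (u0 : G) = r := by
    rw [Subgroup.orderOf_coe]
    have h1 : orderOf u0 ∣ r := hU ▸ orderOf_dvd_natCard u0
    rcases (Nat.dvd_prime hr).mp h1 with h | h
    · exact absurd (orderOf_eq_one_iff.mp h) hu0
    · exact h
  -- `x = n ^ s` has order `r`
  have hxo : orderOf (n ^ s) = r := by
    rw [orderOf_pow' n (by omega : s ≠ 0), hn, Nat.gcd_mul_left_left, Nat.mul_div_cancel _ (by omega)]
  obtain ⟨k, hk⟩ := Cfsg.Agent.Helper8.G24.exists_conj_zpowers r (u0 : G) (n ^ s) hu0o hxo hr2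
  have hyU : k * n ^ s * k⁻¹ ∈ U := by
    have h1 : k * n ^ s * k⁻¹ ∈ Subgroup.zpowers (u0 : G) := hk ▸ Subgroup.mem_zpowers _
    exact (Subgroup.zpowers_le.mpr u0.2) h1
  have hy1 : k * n ^ s * k⁻¹ ≠ 1 := by
    intro h
    have h1 : n ^ s = 1 := by
      have := congrArg (fun z => k⁻¹ * z * k) h
      simpa [mul_assoc] using this
    rw [h1, orderOf_one] at hxo
    exact hr.one_lt.ne hxo
  have hconj : k * n ^ s * k⁻¹ = (k * n * k⁻¹) ^ s := (conj_pow).symm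
  have hmem : k * n * k⁻¹ ∈ U := by
    rw [← hcent _ hyU hy1, Subgroup.mem_centralizer_iff]
    intro h hh
    rw [Set.mem_singleton_iff] at hh
    rw [hh, hconj, ← pow_succ, ← pow_succ']
  have hpow : (k * n * k⁻¹) ^ r = 1 := by
    have h1 : (⟨k * n * k⁻¹, hmem⟩ : U) ^ Nat.card U = 1 := pow_card_eq_one'
    rw [hU] at h1
    exact congrArg Subtype.val h1
  have hnr : n ^ r = 1 := by
    rw [conj_pow] at hpow
    have := congrArg (fun z => k⁻¹ * z * k) hpow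
    simpa [mul_assoc] using this
  have hdvd : r * s ∣ r := hn ▸ orderOf_dvd_of_pow_eq_one hnr
  have : r * s ≤ r := Nat.le_of_dvd hr.pos hdvd
  have : r * 2 ≤ r * s := Nat.mul_le_mul_left _ hs
  have := hr.pos
  omega

/-- the order of `Sz(8)` -/
theorem card_SzG : Nat.card SzG = 29120 := by
  have h := card_Sz (F := F8) (m := 1) le_rfl F8.card_eq'
  rw [h, F8.card_eq']
  norm_num

/-- (N2) no elements of order `35, 26, 65, 91` in `Sz(8)` -/
theorem szG_noBad (n : SzG) :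
    orderOf n ≠ 35 ∧ orderOf n ≠ 26 ∧ orderOf n ≠ 65 ∧ orderOf n ≠ 91 := by
  haveI : Finite SzG := Nat.finite_of_card_ne_zero (by rw [card_SzG]; norm_num)
  have hres := Cfsg.Agent.S0333.result (F := F8) (m := 1) le_rfl F8.card_eq'
  obtain ⟨U13, -, hU13, hc13, -⟩ := hres (2 ^ (2 * 1 + 1) + 2 ^ (1 + 1) + 1) (Or.inl rfl)
  obtain ⟨U5, -, hU5, hc5, -⟩ := hres (2 ^ (2 * 1 + 1) - 2 ^ (1 + 1) + 1) (Or.inr rfl)
  have e13 : 2 ^ (2 * 1 + 1) + 2 ^ (1 + 1) + 1 = 13 := by norm_num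
  have e5 : 2 ^ (2 * 1 + 1) - 2 ^ (1 + 1) + 1 = 5 := by norm_num
  rw [e13] at hU13
  rw [e5] at hU5
  haveI : Fact (Nat.Prime 13) := ⟨by norm_num⟩
  haveI : Fact (Nat.Prime 5) := ⟨by norm_num⟩
  have h13 : ¬ 13 ^ 2 ∣ Nat.card SzG := by rw [card_SzG]; norm_num
  have h5 : ¬ 5 ^ 2 ∣ Nat.card SzG := by rw [card_SzG]; norm_num
  refine ⟨?_, ?_, ?_, ?_⟩
  · intro h
    exact false_of_order_mul 5 h5 U5 hU5 hc5 n 7 (by norm_num) (by rw [h])
  · intro h
    exact false_of_order_mul 13 h13 U13 hU13 hc13 n 2 (by norm_num) (by rw [h])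
  · intro h
    exact false_of_order_mul 5 h5 U5 hU5 hc5 n 13 (by norm_num) (by rw [h])
  · intro h
    exact false_of_order_mul 13 h13 U13 hU13 hc13 n 7 (by norm_num) (by rw [h])

end Cfsg.Agent.Helper64.PG63
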