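import Mathlib

/-!
# S4489 (helper75), piece (C) of board #7718: the Galois step

If the sum of the linear characters `ν i` of a finite group `A` has its values in `E`, then for
every `E`-embedding `τ` of `E(ζ)`, `ζ = ν i0 k0` generating the values of `ν i0`, the conjugate
`τ ∘ ν i0` is again one of the `ν i`.
-/

set_option autoImplicit false

namespace Cfsg.Agent.Helper64.PGF

open IntermediateField

universe u

/-- orthogonality of linear characters -/
theorem sum_mul_inv_hom {A : Type u} [Group A] [Fintype A] (α β : A →* ℂˣ)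
    [Decidable (α = β)] :
    ∑ k : A, ((α k : ℂˣ) : ℂ) * (((β k)⁻¹ : ℂˣ) : ℂ) =
      if α = β then (Fintype.card A : ℂ) else 0 := by
  classical
  have h := sum_hom_units ((Units.coeHom ℂ).comp (α * β⁻¹))
  have e1 : ∀ k : A, ((Units.coeHom ℂ).comp (α * β⁻¹)) k =
      ((α k : ℂˣ) : ℂ) * (((β k)⁻¹ : ℂˣ) : ℂ) := by
    intro k
    simp
  have e2 : ((Units.coeHom ℂ).comp (α * β⁻¹) = 1) ↔ α = β := by
    constructor
    · intro hh
      apply MonoidHom.ext
      intro k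
      have h1 := DFunLike.congr_fun hh k
      rw [e1, MonoidHom.one_apply, ← Units.val_mul, Units.val_eq_one, mul_inv_eq_one] at h1
      exact h1
    · rintro rfl
      apply MonoidHom.ext
      intro k
      rw [e1, MonoidHom.one_apply, ← Units.val_mul, mul_inv_cancel, Units.val_one]
  have h' : ∑ k : A, ((α k : ℂˣ) : ℂ) * (((β k)⁻¹ : ℂˣ) : ℂ) =
      ∑ k : A, ((Units.coeHom ℂ).comp (α * β⁻¹)) k :=
    Finset.sum_congr rfl fun k _ => (e1 k).symm
  rw [h', h]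
  by_cases hab : α = β
  · rw [if_pos hab, if_pos (e2.mpr hab)]
  · rw [if_neg hab, if_neg (fun hh => hab (e2.mp hh))]
    exact Nat.cast_zero

/-- the sum over `A` of `(∑ i, ν i) * γ⁻¹` counts the `i` with `ν i = γ` -/
theorem sum_sum_mul_inv {A : Type u} [Group A] [Fintype A] {ι : Type*} [Fintype ι]
    [DecidableEq (A →* ℂˣ)] (ν : ι → (A →* ℂˣ)) (γ : A →* ℂˣ) :
    ∑ k : A, (∑ i, ((ν i k : ℂˣ) : ℂ)) * (((γ k)⁻¹ : ℂˣ) : ℂ) =
      ((Fintype.card A * (Finset.univ.filter fun i => ν i = γ).card : ℕ) : ℂ) := by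
  have h1 : ∑ k : A, (∑ i, ((ν i k : ℂˣ) : ℂ)) * (((γ k)⁻¹ : ℂˣ) : ℂ) =
      ∑ i, ∑ k : A, ((ν i k : ℂˣ) : ℂ) * (((γ k)⁻¹ : ℂˣ) : ℂ) := by
    rw [Finset.sum_comm]
    apply Finset.sum_congr rfl
    intro k _
    rw [Finset.sum_mul]
  rw [h1]
  have h2 : ∀ i, ∑ k : A, ((ν i k : ℂˣ) : ℂ) * (((γ k)⁻¹ : ℂˣ) : ℂ) =
      if ν i = γ then (Fintype.card A : ℂ) else 0 := fun i => sum_mul_inv_hom (ν i) γ
  simp only [h2]
  rw [Finset.sum_ite, Finset.sum_const_zero, add_zero, Finset.sum_const, nsmul_eq_mul]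
  push_cast
  ring

/-- (C) the Galois step -/
theorem exists_conj_constituent {A : Type u} [Group A] [Finite A] (E : IntermediateField ℚ ℂ)
    {ι : Type*} [Fintype ι] (ν : ι → (A →* ℂˣ))
    (hE : ∀ k : A, (∑ i, ((ν i k : ℂˣ) : ℂ)) ∈ E) (i0 : ι) (k0 : A)
    (hgen : ∀ k : A, ∃ s : ℕ, ν i0 k = ν i0 k0 ^ s)
    (τ : ↥(IntermediateField.adjoin E {((ν i0 k0 : ℂˣ) : ℂ)}) →ₐ[↥E] ℂ) :
    ∃ i : ι, ∀ (k : A) (s : ℕ), ν i0 k = ν i0 k0 ^ s →
      ((ν i k : ℂˣ) : ℂ) =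
        τ ⟨((ν i0 k0 : ℂˣ) : ℂ), IntermediateField.mem_adjoin_simple_self (↥E) _⟩ ^ s := by
  classical
  have : Fintype A := Fintype.ofFinite A
  have hmem : ∀ k : A, ((ν i0 k : ℂˣ) : ℂ) ∈
      IntermediateField.adjoin E {((ν i0 k0 : ℂˣ) : ℂ)} := by
    intro k
    obtain ⟨s, hs⟩ := hgen k
    rw [hs, Units.val_pow_eq_pow_val]
    exact pow_mem (IntermediateField.mem_adjoin_simple_self (↥E) _) s
  -- the character `ν i0` with values in `E(ζ)`
  let μL : A →* (↥(IntermediateField.adjoin E {((ν i0 k0 : ℂˣ) : ℂ)}))ˣ :=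
    { toFun := fun k => Units.mk0 ⟨((ν i0 k : ℂˣ) : ℂ), hmem k⟩ (by
        intro h
        have h1 := congrArg Subtype.val h
        exact (ν i0 k).ne_zero h1)
      map_one' := by
        apply Units.ext
        apply Subtype.ext
        simp
      map_mul' := by
        intro a b
        apply Units.ext
        apply Subtype.ext
        simp }
  have hμL : ∀ k : A, (((μL k : (↥(IntermediateField.adjoin E {((ν i0 k0 : ℂˣ) : ℂ)}))ˣ) :
      ↥(IntermediateField.adjoin E {((ν i0 k0 : ℂˣ) : ℂ)})) : ℂ) = ((ν i0 k : ℂˣ) : ℂ) :=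
    fun k => rfl
  let μ' : A →* ℂˣ := (Units.map (MonoidHomClass.toMonoidHom τ)).comp μL
  have hμ' : ∀ k : A, ((μ' k : ℂˣ) : ℂ) = τ ⟨((ν i0 k : ℂˣ) : ℂ), hmem k⟩ := fun k => rfl
  -- it suffices to find `i` with `ν i = μ'`
  suffices hex : ∃ i, ν i = μ' by
    obtain ⟨i, hi⟩ := hex
    refine ⟨i, fun k s hs => ?_⟩
    rw [hi, hμ', ← map_pow]
    congr 1
    apply Subtype.ext
    show ((ν i0 k : ℂˣ) : ℂ) = ((ν i0 k0 : ℂˣ) : ℂ) ^ s
    rw [hs, Units.val_pow_eq_pow_val]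
  -- the sum in `E(ζ)`
  set n0 : ℕ := Fintype.card A * (Finset.univ.filter fun i => ν i = ν i0).card with hn0
  have hn0pos : n0 ≠ 0 := by
    apply Nat.mul_ne_zero Fintype.card_ne_zero
    rw [Finset.card_ne_zero]
    exact ⟨i0, Finset.mem_filter.mpr ⟨Finset.mem_univ _, rfl⟩⟩
  set SL : ↥(IntermediateField.adjoin E {((ν i0 k0 : ℂˣ) : ℂ)}) :=
    ∑ k : A, algebraMap ↥E ↥(IntermediateField.adjoin E {((ν i0 k0 : ℂˣ) : ℂ)})
      ⟨∑ i, ((ν i k : ℂˣ) : ℂ), hE k⟩ * (((μL k)⁻¹ : (↥(IntermediateField.adjoin E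
        {((ν i0 k0 : ℂˣ) : ℂ)}))ˣ) : ↥(IntermediateField.adjoin E {((ν i0 k0 : ℂˣ) : ℂ)}))
    with hSL
  -- (a) its value in `ℂ`
  have ha : (SL : ℂ) = (n0 : ℂ) := by
    rw [hn0, ← sum_sum_mul_inv ν (ν i0), hSL]
    rw [← IntermediateField.algebraMap_apply, map_sum]
    apply Finset.sum_congr rfl
    intro k _
    rw [map_mul]
    congr 1
    have h1 : ((μL k)⁻¹ : (↥(IntermediateField.adjoin E {((ν i0 k0 : ℂˣ) : ℂ)}))ˣ) =
        μL k⁻¹ := (map_inv μL k).symm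
    rw [h1, IntermediateField.algebraMap_apply, hμL, map_inv]
  have hc : SL = (n0 : ↥(IntermediateField.adjoin E {((ν i0 k0 : ℂˣ) : ℂ)})) := by
    apply Subtype.ext
    rw [ha]
    simp
  -- (b) its image under `τ`
  have hb : τ SL = ((Fintype.card A * (Finset.univ.filter fun i => ν i = μ').card : ℕ) : ℂ) := by
    rw [← sum_sum_mul_inv ν μ', hSL, map_sum]
    apply Finset.sum_congr rfl
    intro k _
    rw [map_mul, AlgHom.commutes]
    congr 1
  rw [hc, map_natCast] at hb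
  have hb' : n0 = Fintype.card A * (Finset.univ.filter fun i => ν i = μ').card := by
    exact_mod_cast hb
  have hne : (Finset.univ.filter fun i => ν i = μ').card ≠ 0 := by
    intro h0
    rw [h0, mul_zero] at hb'
    exact hn0pos hb'
  rw [Finset.card_ne_zero] at hne
  obtain ⟨i, hi⟩ := hne
  exact ⟨i, (Finset.mem_filter.mp hi).2⟩

end Cfsg.Agent.Helper64.PGF
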