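import Mathlib
import Cfsg.Agent.Helper68.PronBU1.Defs

/-!
helper64 for helper68 (S2225/S2226 block BU1, farm #15487): piece (FR) `exists_root`, verbatim from
`tools/helper68_pronbu1/Skel.lean.txt`.
-/

set_option autoImplicit false
set_option linter.unusedVariables false
set_option linter.unusedSectionVars false

namespace Cfsg.Agent.Helper64.PronBU1

open Matrix Cfsg.Agent.Helper99.Pron Cfsg.Agent.Helper68.PronBU1

variable {F : Type*} [Field F]

/-- (FR) the norm `μ ↦ μ^(q+1)` maps `Lam2 F` ONTO `{l ∈ Lam2 F : l^(q-1) = 1}`. -/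
theorem exists_root [Fintype F] (q : ℕ) (hF : Fintype.card F = q ^ 2) (h2 : (2 : F) ≠ 0)
    (hq : q % 4 = 1) (l : Fˣ) (hl : l ∈ Lam2 F) (h1 : l ^ (q - 1) = 1) :
    ∃ μ : Fˣ, μ ∈ Lam2 F ∧ μ ^ (q + 1) = l := by
  classical
  have hq2 : 2 ≤ q := by
    have hc := Fintype.one_lt_card (α := F)
    rw [hF] at hc
    by_contra hlt
    have hq1 : q = 1 := by omega
    rw [hq1] at hc
    norm_num at hc
  have hN : Fintype.card Fˣ = q ^ 2 - 1 := by rw [Fintype.card_units, hF]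
  have hNfac : q ^ 2 - 1 = (q - 1) * (q + 1) := by
    obtain ⟨j, rfl⟩ : ∃ j, q = j + 1 := ⟨q - 1, by omega⟩
    have : (j + 1) ^ 2 - 1 = j * (j + 1 + 1) := by
      have h : (j + 1) ^ 2 = j * (j + 1 + 1) + 1 := by ring
      rw [h, Nat.add_sub_cancel]
    rw [this, Nat.add_sub_cancel]
  have hqm1 : 0 < q - 1 := by omega
  obtain ⟨g, hg⟩ := IsCyclic.exists_generator (α := Fˣ)
  have hog : orderOf g = q ^ 2 - 1 := by
    rw [← hN, ← Nat.card_eq_fintype_card]
    exact orderOf_eq_card_of_forall_mem_zpowers hg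
  -- `l = g ^ t`
  obtain ⟨t, ht⟩ : ∃ t : ℕ, g ^ t = l := by
    have hmem : l ∈ Submonoid.powers g := mem_powers_iff_mem_zpowers.2 (hg l)
    exact (Submonoid.mem_powers_iff _ _).1 hmem
  -- `(q + 1) ∣ t`
  have hdvd : (q + 1) ∣ t := by
    have h3 : g ^ (t * (q - 1)) = 1 := by rw [pow_mul, ht, h1]
    have h4 : orderOf g ∣ t * (q - 1) := orderOf_dvd_of_pow_eq_one h3
    rw [hog, hNfac, mul_comm (q - 1) (q + 1)] at h4
    exact Nat.dvd_of_mul_dvd_mul_right hqm1 h4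
  obtain ⟨t', rfl⟩ := hdvd
  set ν : Fˣ := g ^ t' with hν
  have hνl : ν ^ (q + 1) = l := by
    rw [hν, ← pow_mul, mul_comm t' (q + 1)]; exact ht
  -- the `2`-part and the odd part of `q² - 1`
  have hNne : q ^ 2 - 1 ≠ 0 := by
    rw [hNfac]; positivity
  obtain ⟨k, m, hm, hkm⟩ := Nat.exists_eq_two_pow_mul_odd hNne
  have hk1 : 1 < 2 ^ k := by
    rcases Nat.eq_zero_or_pos k with hk0 | hk0
    · exfalso
      rw [hk0, pow_zero, one_mul] at hkm
      have heven : Even (q ^ 2 - 1) := by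
        rw [hNfac]
        apply Even.mul_right
        rw [Nat.even_iff]; omega
      rw [hkm] at heven
      exact (Nat.not_even_iff_odd.2 hm) heven
    · exact Nat.one_lt_two_pow hk0.ne'
  have hcop : Nat.Coprime m (2 ^ k) := Nat.Coprime.pow_right k (Nat.coprime_two_right.2 hm)
  obtain ⟨m', -, hm'⟩ := Nat.exists_mul_mod_eq_one_of_coprime hcop hk1
  have hdecomp : m * m' = 2 ^ k * (m * m' / 2 ^ k) + 1 := by
    have := Nat.div_add_mod (m * m') (2 ^ k)
    rw [hm'] at this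
    exact this.symm
  -- `l ^ (2 ^ k) = 1`
  have hl2k : l ^ (2 ^ k) = 1 := by
    obtain ⟨j, hj⟩ := mem_Lam2.1 hl
    have ho1 : orderOf l ∣ 2 ^ j := orderOf_dvd_of_pow_eq_one hj
    have ho2 : orderOf l ∣ 2 ^ k * m := by
      rw [← hkm, ← hN]; exact orderOf_dvd_card
    obtain ⟨i, -, hi⟩ := (Nat.dvd_prime_pow Nat.prime_two).1 ho1
    have hcop' : Nat.Coprime (orderOf l) m := by
      rw [hi]; exact Nat.Coprime.pow_left i (Nat.coprime_two_left.2 hm)
    have ho3 : orderOf l ∣ 2 ^ k := hcop'.dvd_of_dvd_mul_right ho2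
    exact orderOf_dvd_iff_pow_eq_one.1 ho3
  refine ⟨ν ^ (m * m'), mem_Lam2.2 ⟨k, ?_⟩, ?_⟩
  · have hνN : ν ^ (2 ^ k * m) = 1 := by
      rw [← hkm, ← hN]; exact pow_card_eq_one
    rw [← pow_mul, show m * m' * 2 ^ k = (2 ^ k * m) * m' by ring, pow_mul, hνN, one_pow]
  · rw [← pow_mul, mul_comm (m * m') (q + 1), pow_mul, hνl, hdecomp, pow_succ, pow_mul, hl2k,
      one_pow, one_mul]

end Cfsg.Agent.Helper64.PronBU1
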