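import Mathlib
import Cfsg.Agent.Helper68.PronBU1.Defs

/-!
helper64 for helper68 (S2225/S2226 block BU1, farm #15487): piece (MN3) `diag_normalizer`, verbatim from
`tools/helper68_pronbu1/Skel.lean.txt`.
-/

set_option autoImplicit false
set_option linter.unusedVariables false
set_option linter.unusedSectionVars false

namespace Cfsg.Agent.Helper64.PronBU1

open Matrix Cfsg.Agent.Helper99.Pron Cfsg.Agent.Helper68.PronBU1

variable {F : Type*} [Field F]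

/-- (MN3) a diagonal matrix normalising `Pp q` lies in scalars · `Pp q`. -/
theorem diag_normalizer (q : ℕ) (hq1 : 1 ≤ q) (hP : ∀ l : Fˣ, l ^ (q ^ 2) = l)
    (hroot : ∀ l : Fˣ, l ∈ Lam2 F → l ^ (q - 1) = 1 → ∃ μ : Fˣ, μ ∈ Lam2 F ∧ μ ^ (q + 1) = l)
    (u v : Fˣ) (h : dgl u v * tau * (dgl u v)⁻¹ ∈ Pp (F := F) q) :
    ∃ s : Fˣ, ∃ p ∈ Pp (F := F) q, dgl u v = sc s * p := by
  have hconj : dgl u v * tau * (dgl u v)⁻¹ = tau * dgl (v * u⁻¹) (u * v⁻¹) := by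
    rw [dgl_mul_tau, dgl_inv, mul_assoc, dgl_mul]
  rw [hconj] at h
  obtain ⟨l, m, hD, hg | hg⟩ := mem_Pp.1 h
  · exact absurd hg.symm (dgl_ne_tau_mul _ _ _ _)
  · have hd : dgl (v * u⁻¹) (u * v⁻¹) = dgl l m := mul_left_cancel hg
    obtain ⟨hl, hm⟩ := dgl_injective hd
    -- `m = l⁻¹`
    have hml : m = l⁻¹ := by
      rw [← hl, ← hm, _root_.mul_inv_rev, inv_inv]
    obtain ⟨hlL, hmL, h1, h2⟩ := hD
    -- `l ^ (q - 1) = 1`
    have hlq : l ^ (q - 1) = 1 := by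
      rw [hml] at h1
      have h3 : l ^ q = l := by
        have := congrArg (fun x => l * x) h1
        simpa [← mul_assoc] using this
      have h4 : l ^ (q - 1) * l = 1 * l := by
        rw [← pow_succ, Nat.sub_add_cancel hq1, h3, one_mul]
      exact mul_right_cancel h4
    have hlq' : (l⁻¹) ^ (q - 1) = 1 := by rw [inv_pow, hlq, inv_one]
    obtain ⟨μ, hμL, hμ⟩ := hroot l⁻¹ ((Lam2 F).inv_mem hlL) hlq'
    have hDμ : Dc q μ (μ ^ q)⁻¹ := by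
      refine ⟨hμL, (Lam2 F).inv_mem ((Lam2 F).pow_mem hμL q), ?_, ?_⟩
      · rw [inv_mul_cancel]
      · rw [inv_pow, ← pow_mul, ← pow_two, hP, mul_inv_cancel]
    refine ⟨u * μ⁻¹, dgl μ (μ ^ q)⁻¹, dgl_mem_Pp hDμ, ?_⟩
    rw [sc_eq_dgl, dgl_mul, inv_mul_cancel_right]
    congr 1
    -- `v = u * μ⁻¹ * (μ ^ q)⁻¹`
    have h5 : μ⁻¹ * (μ ^ q)⁻¹ = l := by
      rw [← _root_.mul_inv_rev, ← pow_succ, hμ, inv_inv]
    rw [mul_assoc, h5, ← hl, mul_comm v, mul_inv_cancel_left]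

end Cfsg.Agent.Helper64.PronBU1
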