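import Mathlib
import Cfsg.Agent.S4269

/-!
helper64 for helper95 (S2225 block C2, farm #15695): piece (A5c) `eq_of_le_cyclic_of_card_eq`, verbatim from
`tools/helper95_pronc2/Skel.lean.txt`.
-/

set_option autoImplicit false

namespace Cfsg.Agent.Helper64.PronC2

open Cfsg.Agent.S4269 (cj mem_cj cj_mul cj_of_mem cj_of_mem_normalizer)

section abstract
variable {G : Type*} [Group G] [Finite G]

/-- in a finite cyclic group a subgroup of order `d` is the set of solutions of `a ^ d = 1` -/
theorem A5c_aux {α : Type*} [Group α] [Finite α] [IsCyclic α] (X : Subgroup α) (a : α)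
    (ha : a ^ Nat.card X = 1) : a ∈ X := by
  classical
  letI : Fintype α := Fintype.ofFinite α
  set d := Nat.card X with hd
  have hdpos : 0 < d := Nat.card_pos
  have hle : (Finset.univ.filter (fun b : α => b ^ d = 1)).card ≤ d :=
    IsCyclic.card_pow_eq_one_le hdpos
  have hXF : (Finset.univ.filter (fun b : α => b ∈ X)).card = d := by
    rw [hd, Nat.card_eq_fintype_card, Fintype.card_subtype]
  have hsub : Finset.univ.filter (fun b : α => b ∈ X) ⊆ Finset.univ.filter (fun b : α => b ^ d = 1) := by
    intro b hb
    simp only [Finset.mem_filter, Finset.mem_univ, true_and] at hb ⊢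
    have := pow_card_eq_one' (G := X) (x := ⟨b, hb⟩)
    exact congrArg Subtype.val this
  have heq := Finset.eq_of_subset_of_card_le hsub (by rw [hXF]; exact hle)
  have : a ∈ Finset.univ.filter (fun b : α => b ∈ X) := by
    rw [heq]
    simp [ha]
  simpa using this

/-- (A5c) a cyclic group has at most one subgroup of each order. -/
theorem eq_of_le_cyclic_of_card_eq (Y X X' : Subgroup G) (hY : IsCyclic Y) (hX : X ≤ Y) (hX' : X' ≤ Y)
    (hc : Nat.card X = Nat.card X') : X = X' := by
  have key : ∀ A B : Subgroup G, A ≤ Y → B ≤ Y → Nat.card A = Nat.card B → A ≤ B := by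
    intro A B hA hB hAB g hg
    have hcard : Nat.card (B.subgroupOf Y) = Nat.card B :=
      Nat.card_congr (Subgroup.subgroupOfEquivOfLe hB).toEquiv
    have hpow : (⟨g, hA hg⟩ : Y) ^ Nat.card (B.subgroupOf Y) = 1 := by
      rw [hcard, ← hAB]
      apply Subtype.ext
      have h1 : (⟨g, hg⟩ : A) ^ Nat.card A = 1 := pow_card_eq_one'
      have h2 : g ^ Nat.card A = 1 := by
        have := congrArg Subtype.val h1
        rwa [Subgroup.coe_pow, Subgroup.coe_one] at this
      rw [Subgroup.coe_pow]
      exact h2
    have := A5c_aux (B.subgroupOf Y) ⟨g, hA hg⟩ hpow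
    exact Subgroup.mem_subgroupOf.1 this
  exact le_antisymm (key X X' hX hX' hc) (key X' X hX' hX hc.symm)

end abstract

end Cfsg.Agent.Helper64.PronC2
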