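import Mathlib
import Cfsg.Agent.S4269

/-!
helper64 for helper95 (S2225 block C2, farm #15695): piece (A5d) `commutator_comm_of_cyclic`, verbatim from
`tools/helper95_pronc2/Skel.lean.txt`.
-/

set_option autoImplicit false
set_option linter.unusedSectionVars false

namespace Cfsg.Agent.Helper64.PronC2

open Cfsg.Agent.S4269 (cj mem_cj cj_mul cj_of_mem cj_of_mem_normalizer)

section abstract
variable {G : Type*} [Group G] [Finite G]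

omit [Finite G] in
/-- conjugation preserving a cyclic subgroup is a power map on it -/
theorem A5d_pow (X : Subgroup G) (hX : IsCyclic X) (u : G) (hu : ∀ x ∈ X, u * x * u⁻¹ ∈ X) :
    ∃ i : ℤ, ∀ x ∈ X, u * x * u⁻¹ = x ^ i := by
  obtain ⟨⟨g₀, hg₀X⟩, hgen⟩ := hX.exists_generator
  have h1 : (⟨u * g₀ * u⁻¹, hu g₀ hg₀X⟩ : X) ∈ Subgroup.zpowers (⟨g₀, hg₀X⟩ : X) := hgen _
  obtain ⟨i, hi⟩ := Subgroup.mem_zpowers_iff.1 h1
  have hi' : g₀ ^ i = u * g₀ * u⁻¹ := by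
    have := congrArg Subtype.val hi
    simpa using this
  refine ⟨i, fun x hx => ?_⟩
  obtain ⟨k, hk⟩ := Subgroup.mem_zpowers_iff.1 (hgen ⟨x, hx⟩)
  have hk' : g₀ ^ k = x := by
    have := congrArg Subtype.val hk
    simpa using this
  rw [← hk', ← conj_zpow, ← hi', ← zpow_mul, ← zpow_mul, mul_comm]

omit [Finite G] in
/-- two conjugations preserving a cyclic subgroup commute on it -/
theorem A5d_comm (X : Subgroup G) (hX : IsCyclic X) (u v : G) (hu : ∀ x ∈ X, u * x * u⁻¹ ∈ X)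
    (hv : ∀ x ∈ X, v * x * v⁻¹ ∈ X) (x : G) (hx : x ∈ X) :
    u * (v * x * v⁻¹) * u⁻¹ = v * (u * x * u⁻¹) * v⁻¹ := by
  obtain ⟨i, hi⟩ := A5d_pow X hX u hu
  obtain ⟨j, hj⟩ := A5d_pow X hX v hv
  rw [hi _ (hv x hx), hj _ (hu x hx), hi x hx, hj x hx, ← zpow_mul, ← zpow_mul, mul_comm]

omit [Finite G] in
theorem A5d_inv_mem (X : Subgroup G) (n : G) (hn : cj n X = X) :
    ∀ x ∈ X, n⁻¹ * x * (n⁻¹)⁻¹ ∈ X := by
  intro x hx
  have hx' : x ∈ cj n X := by rw [hn]; exact hx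
  obtain ⟨y, hy, hyx⟩ := mem_cj.1 hx'
  have : n⁻¹ * x * (n⁻¹)⁻¹ = y := by
    rw [← hyx]; group
  rw [this]
  exact hy

/-- (A5d) conjugation by `n` and by `a` are automorphisms of the cyclic group `X`; `MulAut X` is commutative
(an automorphism of a cyclic group is a power map), so the commutator acts trivially. -/
theorem commutator_comm_of_cyclic (X : Subgroup G) (hX : IsCyclic X) (n a : G)
    (hn : cj n X = X) (ha : cj a X = X) (x : G) (hx : x ∈ X) :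
    (n * a * n⁻¹ * a⁻¹) * x = x * (n * a * n⁻¹ * a⁻¹) := by
  have h := A5d_comm X hX n⁻¹ a⁻¹ (A5d_inv_mem X n hn) (A5d_inv_mem X a ha) x hx
  -- `n⁻¹ a⁻¹ x a n = a⁻¹ n⁻¹ x n a`
  have h2 : n * a * (n⁻¹ * (a⁻¹ * x * (a⁻¹)⁻¹) * (n⁻¹)⁻¹) * (n * a)⁻¹ =
      n * a * (a⁻¹ * (n⁻¹ * x * (n⁻¹)⁻¹) * (a⁻¹)⁻¹) * (n * a)⁻¹ := by rw [h]
  have h3 : n * a * (n⁻¹ * (a⁻¹ * x * (a⁻¹)⁻¹) * (n⁻¹)⁻¹) * (n * a)⁻¹ =
      (n * a * n⁻¹ * a⁻¹) * x * (n * a * n⁻¹ * a⁻¹)⁻¹ := by group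
  have h4 : n * a * (a⁻¹ * (n⁻¹ * x * (n⁻¹)⁻¹) * (a⁻¹)⁻¹) * (n * a)⁻¹ = x := by group
  rw [h3, h4] at h2
  calc (n * a * n⁻¹ * a⁻¹) * x
      = ((n * a * n⁻¹ * a⁻¹) * x * (n * a * n⁻¹ * a⁻¹)⁻¹) * (n * a * n⁻¹ * a⁻¹) := by group
    _ = x * (n * a * n⁻¹ * a⁻¹) := by rw [h2]

end abstract

end Cfsg.Agent.Helper64.PronC2
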