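import Mathlib
import Cfsg.Agent.Helper46.MxKlein

/-!
helper64 for helper95 (S2225 block C2, farm #15695): pieces (D2) `not_A4` (this file) and the generic Sylow
conjugacy lemma `D_conj_four` used also by (D3).
-/

set_option autoImplicit false
set_option linter.unusedSectionVars false
set_option linter.style.haveILetI false

namespace Cfsg.Agent.Helper64.PronC2

open Cfsg.Agent.Helper41 Cfsg.Agent.Helper46.Mx

section generic
variable {G : Type*} [Group G]

theorem D_fact12 : (12 : ℕ).factorization 2 = 2 := by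
  have : (12 : ℕ) = 2 ^ 2 * 3 := by norm_num
  rw [this, Nat.factorization_mul (by norm_num) (by norm_num),
    Nat.Prime.factorization_pow Nat.prime_two]
  simp
  exact Nat.factorization_eq_zero_of_not_dvd (by norm_num)

theorem D_fact60 : (60 : ℕ).factorization 2 = 2 := by
  have : (60 : ℕ) = 2 ^ 2 * 15 := by norm_num
  rw [this, Nat.factorization_mul (by norm_num) (by norm_num),
    Nat.Prime.factorization_pow Nat.prime_two]
  simp
  exact Nat.factorization_eq_zero_of_not_dvd (by norm_num)

theorem D_card_A4 : Nat.card (alternatingGroup (Fin 4)) = 12 := by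
  rw [Nat.card_eq_fintype_card]
  have := two_mul_card_alternatingGroup (α := Fin 4)
  rw [Fintype.card_perm, Fintype.card_fin] at this
  have h24 : (4 : ℕ).factorial = 24 := by decide
  omega

theorem D_card_A5 : Nat.card (alternatingGroup (Fin 5)) = 60 := by
  rw [Nat.card_eq_fintype_card]
  have := two_mul_card_alternatingGroup (α := Fin 5)
  rw [Fintype.card_perm, Fintype.card_fin] at this
  have h24 : (5 : ℕ).factorial = 120 := by decide
  omega

/-- two subgroups of order four of a finite group `K` with `|K|_2 = 4` are conjugate in `K` -/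
theorem D_conj_four (K S V : Subgroup G) [Finite K] (hS : S ≤ K) (hV : V ≤ K)
    (hS4 : Nat.card S = 4) (hV4 : Nat.card V = 4) (hK : (Nat.card K).factorization 2 = 2) :
    ∃ k ∈ K, ∀ x : G, x ∈ S ↔ k⁻¹ * x * k ∈ V := by
  haveI : Fact (Nat.Prime 2) := ⟨Nat.prime_two⟩
  have hS' : Nat.card (S.subgroupOf K) = 2 ^ (Nat.card K).factorization 2 := by
    rw [hK, Nat.card_congr (Subgroup.subgroupOfEquivOfLe hS).toEquiv, hS4]; norm_num
  have hV' : Nat.card (V.subgroupOf K) = 2 ^ (Nat.card K).factorization 2 := by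
    rw [hK, Nat.card_congr (Subgroup.subgroupOfEquivOfLe hV).toEquiv, hV4]; norm_num
  set PS : Sylow 2 K := Sylow.ofCard (S.subgroupOf K) hS' with hPS
  set PV : Sylow 2 K := Sylow.ofCard (V.subgroupOf K) hV' with hPV
  obtain ⟨g, hg⟩ := MulAction.exists_smul_eq K PV PS
  have hmem : ∀ y : K, y ∈ S.subgroupOf K ↔ g⁻¹ * y * g ∈ V.subgroupOf K := by
    intro y
    have h1 : y ∈ S.subgroupOf K ↔ y ∈ ((g • PV : Sylow 2 K) : Subgroup K) := by
      rw [hg]; rfl
    rw [h1, Sylow.coe_subgroup_smul, Subgroup.mem_pointwise_smul_iff_inv_smul_mem]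
    have h2 : (MulAut.conj g)⁻¹ • y = g⁻¹ * y * g := by
      rw [MulAut.smul_def, MulAut.conj_inv_apply]
    rw [h2]
    rfl
  refine ⟨g.1, g.2, fun x => ?_⟩
  constructor
  · intro hx
    have := (hmem ⟨x, hS hx⟩).1 (Subgroup.mem_subgroupOf.2 hx)
    exact Subgroup.mem_subgroupOf.1 this
  · intro hx
    have hxK : x ∈ K := by
      have h3 : (g.1)⁻¹ * x * g.1 ∈ K := hV hx
      have : x = g.1 * ((g.1)⁻¹ * x * g.1) * (g.1)⁻¹ := by group
      rw [this]
      exact K.mul_mem (K.mul_mem g.2 h3) (K.inv_mem g.2)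
    have := (hmem ⟨x, hxK⟩).2 (Subgroup.mem_subgroupOf.2 hx)
    exact Subgroup.mem_subgroupOf.1 this

/-- (D2), generic -/
theorem D2_generic (S K : Subgroup G) (hS4 : Nat.card S = 4) (hSK : S ≤ K)
    (hN : Subgroup.normalizer (S : Set G) ⊓ K = S) (e : K ≃* alternatingGroup (Fin 4)) : False := by
  have hK12 : Nat.card K = 12 := by rw [Nat.card_congr e.toEquiv, D_card_A4]
  haveI : Finite K := Nat.finite_of_card_ne_zero (by rw [hK12]; norm_num)
  obtain ⟨V, hV4, hVK, hKN⟩ := klein_of_A4 K e
  have hVcard : Nat.card V = 4 := hV4.card_four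
  obtain ⟨k, hk, hkS⟩ := D_conj_four K S V hSK hVK hS4 hVcard (by rw [hK12]; exact D_fact12)
  -- `S = V`
  have hSV : S = V := by
    ext x
    rw [hkS x]
    have hkN : k⁻¹ ∈ Subgroup.normalizer (V : Set G) := hKN (K.inv_mem hk)
    have := (Subgroup.mem_normalizer_iff.1 hkN) x
    rw [inv_inv] at this
    exact this.symm
  have hKS : K ≤ S := by
    rw [← hN, hSV]
    exact le_inf hKN le_rfl
  haveI : Finite S := Nat.finite_of_card_ne_zero (by rw [hS4]; norm_num)
  have : Nat.card K ≤ Nat.card S := Nat.card_le_card_of_injective (Subgroup.inclusion hKS)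
    (Subgroup.inclusion_injective hKS)
  rw [hK12, hS4] at this
  omega

end generic

section psl
variable {F : Type*} [Field F] [Fintype F]

local notation "SL2F" => Matrix.SpecialLinearGroup (Fin 2) F
local notation "M2F" => Matrix (Fin 2) (Fin 2) F
local notation "PSL2F" => Matrix.ProjectiveSpecialLinearGroup (Fin 2) F

/-- (D2) `klein_of_A4 K e` gives a Klein four-group `V ≤ K` with `K ≤ N(V)`. `S` and `V` are Sylow
2-subgroups of `K` (`card K = 12`), conjugate in `K`, and `V` is normal in `K`: `S = V`, so `K ≤ N(S)`,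
`N(S) ⊓ K = K`, `card K = 12 ≠ 4`. -/
theorem not_A4 (S K : Subgroup PSL2F) (hS4 : Nat.card S = 4) (hSK : S ≤ K)
    (hN : Subgroup.normalizer (S : Set PSL2F) ⊓ K = S) (e : K ≃* alternatingGroup (Fin 4)) : False :=
  D2_generic S K hS4 hSK hN e

end psl

end Cfsg.Agent.Helper64.PronC2
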