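import Mathlib
import Cfsg.Agent.Helper46.MxKlein
import Cfsg.Agent.Helper64.PronC2_D2

/-!
helper64 for helper95 (S2225 block C2, farm #15695): piece (D3) `not_A5`, verbatim from
`tools/helper95_pronc2/Skel.lean.txt`.
-/

set_option autoImplicit false
set_option linter.unusedSectionVars false
set_option linter.style.haveILetI false

namespace Cfsg.Agent.Helper64.PronC2

open Cfsg.Agent.Helper41 Cfsg.Agent.Helper46.Mx

section generic
variable {G : Type*} [Group G]

/-- (D3), generic -/
theorem D3_generic (S K : Subgroup G) (hS4 : Nat.card S = 4) (hSK : S ≤ K)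
    (hN : Subgroup.normalizer (S : Set G) ⊓ K = S) (e : K ≃* alternatingGroup (Fin 5)) : False := by
  have hK60 : Nat.card K = 60 := by rw [Nat.card_congr e.toEquiv, D_card_A5]
  haveI : Finite K := Nat.finite_of_card_ne_zero (by rw [hK60]; norm_num)
  haveI : Finite S := Nat.finite_of_card_ne_zero (by rw [hS4]; norm_num)
  obtain ⟨V, w, hV4, hVK, hwK, hwN, hw3⟩ := klein_of_A5 K e
  have hVcard : Nat.card V = 4 := hV4.card_four
  obtain ⟨k, hk, hkS⟩ := D_conj_four K S V hSK hVK hS4 hVcard (by rw [hK60]; exact D_fact60)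
  -- `w' = k w k⁻¹` normalises `S`
  set w' : G := k * w * k⁻¹ with hw'
  have hw'K : w' ∈ K := K.mul_mem (K.mul_mem hk hwK) (K.inv_mem hk)
  have hw'N : w' ∈ Subgroup.normalizer (S : Set G) := by
    rw [Subgroup.mem_normalizer_iff]
    intro h
    rw [hkS h, hkS (w' * h * w'⁻¹)]
    have := (Subgroup.mem_normalizer_iff.1 hwN) (k⁻¹ * h * k)
    rw [this]
    have e1 : k⁻¹ * (w' * h * w'⁻¹) * k = w * (k⁻¹ * h * k) * w⁻¹ := by
      rw [hw']; group
    rw [e1]
  have hw'S : w' ∈ S := by
    rw [← hN]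
    exact ⟨hw'N, hw'K⟩
  have ho : orderOf w' = 3 := by
    have h := MulEquiv.orderOf_eq (MulAut.conj k) w
    rw [MulAut.conj_apply] at h
    rw [hw', h, hw3]
  have hdvd : orderOf w' ∣ Nat.card S := by
    have := orderOf_dvd_natCard (⟨w', hw'S⟩ : S)
    rwa [Subgroup.orderOf_mk] at this
  rw [ho, hS4] at hdvd
  omega

end generic

section psl
variable {F : Type*} [Field F] [Fintype F]

local notation "SL2F" => Matrix.SpecialLinearGroup (Fin 2) F
local notation "M2F" => Matrix (Fin 2) (Fin 2) F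
local notation "PSL2F" => Matrix.ProjectiveSpecialLinearGroup (Fin 2) F

/-- (D3) `klein_of_A5 K e`: a Klein four-group `V ≤ K` and `w ∈ K ⊓ N(V)` of order 3. `S = cj k V` for some
`k ∈ K` (Sylow 2-subgroups of `K`, `card K = 60`); `k w k⁻¹ ∈ N(S) ⊓ K = S` has order 3 in a group of order 4. -/
theorem not_A5 (S K : Subgroup PSL2F) (hS4 : Nat.card S = 4) (hSK : S ≤ K)
    (hN : Subgroup.normalizer (S : Set PSL2F) ⊓ K = S) (e : K ≃* alternatingGroup (Fin 5)) : False :=
  D3_generic S K hS4 hSK hN e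

end psl

end Cfsg.Agent.Helper64.PronC2
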