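import Mathlib
import Cfsg.Agent.Helper99.Pron.Defs

/-!
helper64 for helper99 (S2225/S2226 block I, farm #15213): piece (I1) `two_Wr`, verbatim from
`tools/helper99_s2225/SkelI.lean.txt`.
-/

set_option autoImplicit false

namespace Cfsg.Agent.Helper64.Pron

open Matrix Cfsg.Agent.Helper99.Pron

variable {F : Type*} [Field F] {ι : Type*} [Fintype ι] [DecidableEq ι]

theorem I1_bd_pow (a b : GL ι F) (n : ℕ) : (bd a b) ^ n = bd (a ^ n) (b ^ n) := by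
  induction n with
  | zero => simp [bd_one]
  | succ n ih => rw [pow_succ, ih, bd_mul_bd, pow_succ, pow_succ]

/-- (I1) `Wr P` is a `2`-group: `(bd a b)^n = bd (a^n) (b^n)`, `(ad a b)^2 = bd (a b) (b a)`. -/
theorem two_Wr (P : Subgroup (GL ι F)) (h : ∀ a ∈ P, ∃ k : ℕ, a ^ (2 ^ k) = 1) :
    ∀ g ∈ Wr P, ∃ k : ℕ, g ^ (2 ^ k) = 1 := by
  have hbd : ∀ a ∈ P, ∀ b ∈ P, ∃ k : ℕ, (bd a b) ^ (2 ^ k) = 1 := by
    intro a ha b hb
    obtain ⟨k1, hk1⟩ := h a ha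
    obtain ⟨k2, hk2⟩ := h b hb
    refine ⟨k1 + k2, ?_⟩
    rw [I1_bd_pow]
    have e1 : a ^ (2 ^ (k1 + k2)) = 1 := by
      rw [pow_add, pow_mul, hk1, one_pow]
    have e2 : b ^ (2 ^ (k1 + k2)) = 1 := by
      rw [pow_add, mul_comm, pow_mul, hk2, one_pow]
    rw [e1, e2, bd_one]
  rintro g ⟨a, ha, b, hb, rfl | rfl⟩
  · exact hbd a ha b hb
  · obtain ⟨k, hk⟩ := hbd (a * b) (P.mul_mem ha hb) (b * a) (P.mul_mem hb ha)
    refine ⟨k + 1, ?_⟩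
    rw [pow_succ, mul_comm, pow_mul, pow_two, ad_mul_ad]
    exact hk

end Cfsg.Agent.Helper64.Pron
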