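import Mathlib
import Cfsg.Agent.Helper99.Pron.Defs

/-!
helper64 for helper99 (S2225/S2226 block I, farm #15213): piece (NEG) `neg1_Wr`, verbatim from
`tools/helper99_s2225/SkelI.lean.txt`.
-/

set_option autoImplicit false

namespace Cfsg.Agent.Helper64.Pron

open Matrix Cfsg.Agent.Helper99.Pron

variable {F : Type*} [Field F] {ι : Type*} [Fintype ι] [DecidableEq ι]

/-- (NEG) `bd c c⁻¹` is a square root of `-1` of determinant one in `Wr P` (det_bd). -/
theorem neg1_Wr (P : Subgroup (GL ι F))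
    (h : ∃ c ∈ P, (c : Matrix ι ι F) * (c : Matrix ι ι F) = -1) :
    ∃ c ∈ Wr P, (c : Matrix (ι ⊕ ι) (ι ⊕ ι) F) * (c : Matrix (ι ⊕ ι) (ι ⊕ ι) F) = -1 ∧
      (c : Matrix (ι ⊕ ι) (ι ⊕ ι) F).det = 1 := by
  obtain ⟨c, hc, hcc⟩ := h
  have hinv : ((c⁻¹ : GL ι F) : Matrix ι ι F) = -(c : Matrix ι ι F) := by
    have h1 : (c : Matrix ι ι F) * (-(c : Matrix ι ι F)) = 1 := by
      rw [mul_neg, hcc, neg_neg]
    calc ((c⁻¹ : GL ι F) : Matrix ι ι F)
        = ((c⁻¹ : GL ι F) : Matrix ι ι F) * ((c : Matrix ι ι F) * (-(c : Matrix ι ι F))) := by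
          rw [h1, mul_one]
      _ = (((c⁻¹ : GL ι F) : Matrix ι ι F) * (c : Matrix ι ι F)) * (-(c : Matrix ι ι F)) := by
          rw [mul_assoc]
      _ = -(c : Matrix ι ι F) := by
          rw [← Units.val_mul, inv_mul_cancel, Units.val_one, one_mul]
  refine ⟨bd c c⁻¹, bd_mem_Wr hc (P.inv_mem hc), ?_, ?_⟩
  · rw [bd_val, fromBlocks_multiply, hinv]
    simp only [mul_zero, zero_mul, add_zero, zero_add, neg_mul_neg, hcc]
    rw [← fromBlocks_one, fromBlocks_neg, neg_zero]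
  · rw [bd_val, det_fromBlocks_zero₂₁, ← det_mul, ← Units.val_mul, mul_inv_cancel, Units.val_one,
      det_one]

end Cfsg.Agent.Helper64.Pron
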