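import Mathlib

/-!
helper64 for helper71 (S2089 block A', farm #15135): piece (CYCQ) `exists_gen_mod_ker`, verbatim.
-/

set_option autoImplicit false

namespace Cfsg.Agent.Helper64.PsuA

/-- (CYCQ) Proof: `φ.range` is cyclic, generated by `φ h₀`; `φ h = (φ h₀) ^ k` with `k : ℕ` (finite order), so
`h * (h₀ ^ k)⁻¹ ∈ φ.ker`. -/
theorem exists_gen_mod_ker {H C : Type*} [Group H] [Finite H] [CommGroup C] [IsCyclic C]
    (φ : H →* C) : ∃ h₀ : H, ∀ h : H, ∃ k : ℕ, ∃ l ∈ φ.ker, h = l * h₀ ^ k := by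
  have : IsCyclic φ.range := Subgroup.isCyclic φ.range
  obtain ⟨⟨c, h₀, rfl⟩, hgen⟩ := IsCyclic.exists_generator (α := φ.range)
  refine ⟨h₀, fun h => ?_⟩
  have hmem : (⟨φ h, h, rfl⟩ : φ.range) ∈ Subgroup.zpowers (⟨φ h₀, h₀, rfl⟩ : φ.range) := hgen _
  obtain ⟨n, hn⟩ := Subgroup.mem_zpowers_iff.1 hmem
  have hn' : φ h₀ ^ n = φ h := by
    have := congrArg (fun x : φ.range => (x : C)) hn
    simpa using this
  -- replace the integer exponent by a natural one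
  have hfin : IsOfFinOrder h₀ := isOfFinOrder_of_finite h₀
  obtain ⟨k, hk⟩ : ∃ k : ℕ, h₀ ^ n = h₀ ^ k := by
    have hpos : 0 < orderOf h₀ := hfin.orderOf_pos
    refine ⟨(n % (orderOf h₀ : ℤ)).toNat, ?_⟩
    have hnn : 0 ≤ n % (orderOf h₀ : ℤ) := Int.emod_nonneg _ (by exact_mod_cast hpos.ne')
    rw [← zpow_natCast, Int.toNat_of_nonneg hnn, zpow_mod_orderOf]
  refine ⟨k, h * (h₀ ^ k)⁻¹, ?_, ?_⟩
  · rw [MonoidHom.mem_ker, map_mul, map_inv, ← hk, map_zpow, hn', mul_inv_cancel]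
  · rw [inv_mul_cancel_right]

end Cfsg.Agent.Helper64.PsuA
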