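import Mathlib

/-!
helper64 for helper71 (S2089 block A', farm #15135): piece (M3) `comm_lifts_of_sq` of
`tools/helper71_psua/Skel.lean.txt`, verbatim (with the section variables of the Skel).
-/

set_option autoImplicit false

namespace Cfsg.Agent.Helper64.PsuA

section central

variable {Γ G : Type*} [Group Γ] [Group G] [Finite Γ] (τ : Γ →* G) (hτ : Function.Surjective τ)
  (hc : τ.ker ≤ Subgroup.center Γ)

include hτ hc

omit [Finite Γ] hτ in
/-- (M3) Proof: `c := a b a⁻¹ b⁻¹ ∈ A` central, `a b a⁻¹ = c b`, so `a b² a⁻¹ = c² b²`; `b² ∈ A` is central, so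
`c² = 1`, `c = 1`. -/
theorem comm_lifts_of_sq (t w : G) (htw : t * w = w * t) (hw : w ^ 2 = 1)
    (h2 : ∀ a ∈ τ.ker, a ^ 2 = 1 → a = 1) (a b : Γ) (ha : τ a = t) (hb : τ b = w) :
    a * b = b * a := by
  set c : Γ := a * b * a⁻¹ * b⁻¹ with hcdef
  have hcker : c ∈ τ.ker := by
    rw [MonoidHom.mem_ker, hcdef]
    simp only [map_mul, map_inv, ha, hb]
    rw [htw]
    group
  have hccen : ∀ g : Γ, g * c = c * g := fun g => Subgroup.mem_center_iff.1 (hc hcker) g
  have hb2ker : b ^ 2 ∈ τ.ker := by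
    rw [MonoidHom.mem_ker, map_pow, hb, hw]
  have hb2cen : ∀ g : Γ, g * b ^ 2 = b ^ 2 * g := fun g => Subgroup.mem_center_iff.1 (hc hb2ker) g
  have hab : a * b = c * b * a := by
    rw [hcdef]; group
  -- `a b² = c² b² a`
  have h1 : a * b ^ 2 = c ^ 2 * b ^ 2 * a := by
    calc a * b ^ 2 = (a * b) * b := by rw [pow_two, mul_assoc]
      _ = c * b * a * b := by rw [hab]
      _ = c * b * (a * b) := by simp only [mul_assoc]
      _ = c * b * (c * b * a) := by rw [hab]
      _ = c * (b * c) * b * a := by simp only [mul_assoc]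
      _ = c * (c * b) * b * a := by rw [hccen b]
      _ = c ^ 2 * b ^ 2 * a := by simp only [pow_two, mul_assoc]
  have h3 : c ^ 2 = 1 := by
    have h4 : b ^ 2 * a = c ^ 2 * (b ^ 2 * a) := by
      calc b ^ 2 * a = a * b ^ 2 := (hb2cen a).symm
        _ = c ^ 2 * b ^ 2 * a := h1
        _ = c ^ 2 * (b ^ 2 * a) := mul_assoc _ _ _
    have h5 : (1 : Γ) * (b ^ 2 * a) = c ^ 2 * (b ^ 2 * a) := by rw [one_mul]; exact h4
    exact (mul_right_cancel h5).symm
  have hc1 : c = 1 := h2 c hcker h3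
  rw [hab, hc1, one_mul]

end central

end Cfsg.Agent.Helper64.PsuA
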