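import Mathlib
import Cfsg.Agent.Helper5.SLn

/-!
helper64 for helper71 (S2089 block A', farm #15135): piece (SL2AB) `pow_mem_commutator_of_equiv_SL2`, verbatim.
-/

set_option autoImplicit false

namespace Cfsg.Agent.Helper64.PsuA

open scoped commutatorElement
open Matrix

/-- a transvection has order dividing the characteristic -/
theorem SL2AB_transvection_pow {ι K : Type*} [DecidableEq ι] [Fintype ι] [Field K] (p : ℕ) [CharP K p]
    {i j : ι} (hij : i ≠ j) (a : K) :
    (Matrix.SpecialLinearGroup.transvection hij a) ^ p = 1 := by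
  apply Subtype.ext
  rw [Matrix.SpecialLinearGroup.coe_pow, Matrix.SpecialLinearGroup.transvection_coe,
    Matrix.SpecialLinearGroup.coe_one]
  have h : ∀ n : ℕ, (Matrix.transvection i j a) ^ n = Matrix.transvection i j (n • a) := by
    intro n
    induction n with
    | zero => simp
    | succ n ih =>
      rw [pow_succ, ih, Matrix.transvection_mul_transvection_same i j hij, add_smul, one_smul]
  have h' := h p
  have : (p • a : K) = 0 := by
    rw [nsmul_eq_mul, CharP.cast_eq_zero, zero_mul]
  rw [this, Matrix.transvection_zero] at h'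
  exact h'

/-- every `p`-th power in `SL_n(K)`, `char K = p`, is a product of commutators -/
theorem SL2AB_pow_mem_commutator {ι K : Type*} [DecidableEq ι] [Fintype ι] [Nontrivial ι] [Field K] (p : ℕ)
    [CharP K p] (x : Matrix.SpecialLinearGroup ι K) :
    x ^ p ∈ commutator (Matrix.SpecialLinearGroup ι K) := by
  -- the `p`-th power map of the abelianization kills a generating set
  let f : Matrix.SpecialLinearGroup ι K →* Abelianization (Matrix.SpecialLinearGroup ι K) :=
    (powMonoidHom p).comp Abelianization.of
  have hker : f.ker = ⊤ := by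
    rw [eq_top_iff, ← Cfsg.Agent.Helper5.closure_transvection_eq_top, Subgroup.closure_le]
    rintro M ⟨i, j, hij, a, rfl⟩
    show f _ = 1
    show (Abelianization.of _) ^ p = 1
    rw [← map_pow, SL2AB_transvection_pow p hij a, map_one]
  have hx : f x = 1 := by
    have : x ∈ f.ker := by rw [hker]; trivial
    exact this
  have hx' : Abelianization.of (x ^ p) = 1 := by
    rw [map_pow]; exact hx
  rwa [← MonoidHom.mem_ker, Abelianization.ker_of] at hx'

/-- (SL2AB) Proof: `SL_2(K)` is generated by the transvections (`Cfsg.Agent.Helper5.closure_transvection_eq_top`), each of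
order dividing `p`; so the `p`-th power map of the commutative group `Abelianization (SL_2(K))` kills a generating set:
`x ^ p ∈ commutator` for every `x`; transport along `e` (`Subgroup.map_subtype_commutator`). -/
theorem pow_mem_commutator_of_equiv_SL2 {G : Type*} [Group G] (L : Subgroup G) {K : Type*} [Field K]
    (p : ℕ) [Fact p.Prime] [CharP K p] (e : ↥L ≃* Matrix.SpecialLinearGroup (Fin 2) K) :
    ∀ l ∈ L, l ^ p ∈ ⁅L, L⁆ := by
  intro l hl
  have h1 : (e ⟨l, hl⟩) ^ p ∈ commutator (Matrix.SpecialLinearGroup (Fin 2) K) :=
    SL2AB_pow_mem_commutator p _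
  -- transport to `↥L`
  have h2 : (⟨l, hl⟩ : ↥L) ^ p ∈ commutator ↥L := by
    have h3 : e.symm ((e ⟨l, hl⟩) ^ p) ∈ (commutator (Matrix.SpecialLinearGroup (Fin 2) K)).map
        e.symm.toMonoidHom := Subgroup.mem_map_of_mem _ h1
    rw [commutator_def, Subgroup.map_commutator, ← MonoidHom.range_eq_map] at h3
    have hr : e.symm.toMonoidHom.range = ⊤ :=
      MonoidHom.range_eq_top.2 e.symm.surjective
    rw [hr, ← commutator_def, map_pow, MulEquiv.symm_apply_apply] at h3
    exact h3
  rw [← Subgroup.map_subtype_commutator]
  exact ⟨_, h2, by simp⟩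

end Cfsg.Agent.Helper64.PsuA
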