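import Cfsg.Agent.Helper23.PsuOs.Q2Defs

/-!
helper64 for helper23 (S2089 OSQ2, farm #15666): piece (QCMAP) `Cq_map`, verbatim from
`tools/helper23_psuos/Q2Skel.lean.txt`.
-/

set_option autoImplicit false
set_option linter.unusedSectionVars false
set_option linter.unusedVariables false

namespace Cfsg.Agent.Helper64.PsuOs

open scoped commutatorElement
open Cfsg.Agent.Helper96.StLift
open Cfsg.Agent.Helper5.PsuE2 (F4Facts f4Facts)
open Cfsg.Agent.Helper23.PsuOs

universe u

section group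

variable {K : Type u} [Field K] {σ : K →+* K} {G : Type u} [Group G] {m : ℕ} (D : RootData G K m)
  {Γ : Type u} [Group Γ] [Finite Γ] (τ : Γ →* G) (hτ : Function.Surjective τ)

/-- (CMAP) `≤`: (CLE).  `≥`: `R.Q_le`; `D.z i 1 = τ (zT i)`, `D.c i j u = τ (cT D τ i j u)` (`map_cT`, `cT_mem`). -/
theorem Cq_map (E : Ext2 D τ hτ) (F : F4Facts σ) (R : RootFacts σ D) (hm : 2 ≤ m)
    (L : LiftFacts D τ hτ) (zT : Fin m → Γ) (Z : ZFacts D τ hτ zT) :
    (Cq D τ zT).map τ = D.Q := by
  apply le_antisymm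
  · rw [Subgroup.map_le_iff_le_comap]
    unfold Cq
    apply sup_le
    · exact csh_le D τ R.T_norm
    · rw [Subgroup.closure_le]
      rintro _ ⟨a, rfl⟩
      show zT a ∈ (D.Q).comap τ
      rw [Subgroup.mem_comap, Z.map_zT]
      exact R.z_mem a
  · refine le_trans R.Q_le ?_
    rw [Subgroup.closure_le]
    rintro g (⟨i, rfl⟩ | ⟨i, j, hij, u, rfl⟩)
    · refine ⟨zT i, ?_, Z.map_zT i⟩
      unfold Cq
      exact (le_sup_right : Subgroup.closure (Set.range zT) ≤ _)
        (Subgroup.subset_closure ⟨i, rfl⟩)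
    · refine ⟨cT D τ i j u, ?_, map_cT D τ hτ R hij u⟩
      unfold Cq
      exact (le_sup_left : Csh D τ ≤ _) (cT_mem D τ hτ R hij u)

end group

end Cfsg.Agent.Helper64.PsuOs
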