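-- helper64: piece (P3) of helper46's S2281 (n ≥ 3): all pure `E(w, t f_3, 0)` from all pure `E(w, t e_2, 0)`.
import Mathlib
import Cfsg.Agent.Helper46.RSp.Defs

set_option autoImplicit false
set_option linter.unusedSectionVars false
set_option linter.unusedVariables false

namespace Cfsg.Agent.Helper64.RSp

open Matrix Cfsg.Agent.Helper13 Cfsg.Agent.Helper46.RSp

variable {K : Type*} [Field K] {j : ℕ}

local notation "Vec" => (Fin (j + 3) ⊕ Fin (j + 3) → K)
local notation "Mat" => Matrix (Fin (j + 3) ⊕ Fin (j + 3)) (Fin (j + 3) ⊕ Fin (j + 3)) K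
local notation "Mk" => Matrix (Fin (j + 3)) (Fin (j + 3)) K
local notation "SpG" => Matrix.symplecticGroup (Fin (j + 3)) K
local notation "B" => Cfsg.sympForm (j + 3) K

theorem p3_i1_ne_i2 : (i1 : Fin (j + 3)) ≠ i2 := by
  intro h
  have := congrArg Fin.val h
  simp [i1, i2] at this

theorem p3_i1_ne_i3 : (i1 : Fin (j + 3)) ≠ i3 := by
  intro h
  have := congrArg Fin.val h
  simp [i1, i3] at this

theorem p3_i2_ne_i3 : (i2 : Fin (j + 3)) ≠ i3 := by
  intro h
  have := congrArg Fin.val h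
  simp [i2, i3] at this

/-- the action of `k_2` on a vector -/
theorem p3_k2M_mulVec (x : Vec) :
    (k2M : Mat) *ᵥ x = x + x (Sum.inl i2) • bF i3 + x (Sum.inl i3) • bF i2 := by
  rw [k2M, eichS_mulVec, sympForm_neg_right, form_bF_right, form_bF_right, neg_neg, zero_mul, zero_smul,
    add_zero, smul_neg, neg_smul, neg_neg]

theorem p3_k2M_fix {w : Vec} (hw : w = bE i1 ∨ w = bF i1) : (k2M : Mat) *ᵥ w = w := by
  rw [p3_k2M_mulVec]
  rcases hw with rfl | rfl
  · rw [bE_apply_inl, bE_apply_inl, if_neg p3_i1_ne_i2.symm, if_neg p3_i1_ne_i3.symm, zero_smul, zero_smul,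
      add_zero, add_zero]
  · rw [bF_apply_inl, bF_apply_inl, zero_smul, zero_smul, add_zero, add_zero]

theorem p3_k2M_smul_bE2 (t : K) : (k2M : Mat) *ᵥ (t • bE i2 : Vec) = t • bE i2 + t • bF i3 := by
  rw [p3_k2M_mulVec, Pi.smul_apply, Pi.smul_apply, bE_apply_inl, bE_apply_inl, if_pos rfl,
    if_neg p3_i2_ne_i3.symm, smul_eq_mul, smul_eq_mul, mul_one, mul_zero, zero_smul, add_zero]

theorem p3_form_w {w y : Vec} (hw : w = bE i1 ∨ w = bF i1) (hy : InV' y) : B y w = 0 := by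
  rcases hw with rfl | rfl
  · rw [form_bE_right]; exact hy.2
  · rw [form_bF_right, hy.1, neg_zero]

theorem p3_inV'_smul_bE (l : Fin (j + 3)) (hl : i1 ≠ l) (t : K) : InV' (t • bE l : Vec) := by
  refine ⟨?_, ?_⟩
  · rw [Pi.smul_apply, bE_apply_inl, if_neg hl, smul_zero]
  · rw [Pi.smul_apply, bE_apply_inr, smul_zero]

theorem p3_inV'_smul_bF (l : Fin (j + 3)) (hl : i1 ≠ l) (t : K) : InV' (t • bF l : Vec) := by
  refine ⟨?_, ?_⟩
  · rw [Pi.smul_apply, bF_apply_inl, smul_zero]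
  · rw [Pi.smul_apply, bF_apply_inr, if_neg hl, smul_zero]

theorem p3_inV'_add {x y : Vec} (hx : InV' x) (hy : InV' y) : InV' (x + y) := by
  refine ⟨?_, ?_⟩
  · rw [Pi.add_apply, hx.1, hy.1, add_zero]
  · rw [Pi.add_apply, hx.2, hy.2, add_zero]

/-- (P3) all pure `E(w, t f_3, 0)` -/
theorem pure_f3_all {H : Subgroup SpG} (hk2 : HasM H k2M) {w : Vec} (hw : w = bE i1 ∨ w = bF i1)
    (h : ∀ t : K, HasM H (eichS w (t • bE i2) 0)) : ∀ t : K, HasM H (eichS w (t • bF i3) 0) := by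
  intro t
  have h1 := hasM_conj_eichS hk2 (h t)
  rw [p3_k2M_fix hw, p3_k2M_smul_bE2] at h1
  have h2 := h (-t)
  have hy : B (t • bE i2 + t • bF i3 : Vec) w = 0 :=
    p3_form_w hw (p3_inV'_add (p3_inV'_smul_bE i2 p3_i1_ne_i2 t) (p3_inV'_smul_bF i3 p3_i1_ne_i3 t))
  have hy' : B ((-t) • bE i2 : Vec) w = 0 := p3_form_w hw (p3_inV'_smul_bE i2 p3_i1_ne_i2 (-t))
  have h3 := h1.mul h2
  rw [eichS_mul 0 0 hy hy'] at h3
  refine h3.of_eq ?_
  have e1 : (t • bE i2 + t • bF i3 + (-t) • bE i2 : Vec) = t • bF i3 := by module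
  have e2 : (0 : K) + 0 + B ((-t) • bE i2 : Vec) (t • bE i2 + t • bF i3) = 0 := by
    rw [sympForm_smul_left, sympForm_add_right, sympForm_smul_right, sympForm_smul_right, sympForm_self,
      form_bF_right, bE_apply_inl, if_neg p3_i2_ne_i3.symm]
    ring
  rw [e1, e2]

end Cfsg.Agent.Helper64.RSp
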