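import Mathlib
import Cfsg.Agent.Helper77.Res.Defs

/-!
# S5289 swarm (architect helper77), piece (GS): `PClosed` ⇒ `Aut_F(Q)` has a normal Sylow `p`-subgroup
-/

set_option autoImplicit false

universe u

namespace Cfsg.Agent.Helper64.Res

open Subgroup Cfsg.Agent.Helper77.Res

variable {Ω : Type u} [Group Ω] {p : ℕ} [hp : Fact p.Prime]

section glue
variable {S : Subgroup Ω} [Finite S]

open Cfsg Cfsg.FusionSystem

/-- an automorphism of `Q` induced by conjugation with `g` forces `g` to normalize `Q` -/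
theorem GS_mem_normalizer (Q : Subgroup Ω) (α : MulAut Q) (g : Ω)
    (hg : ∀ x : Q, ((α x : Q) : Ω) = g * (x : Ω) * g⁻¹) : g ∈ Subgroup.normalizer (Q : Set Ω) := by
  rw [Subgroup.mem_normalizer_iff]
  intro h
  constructor
  · intro hh
    have := hg ⟨h, hh⟩
    rw [← this]
    exact (α ⟨h, hh⟩).2
  · intro hh
    obtain ⟨y, hy⟩ := α.surjective ⟨g * h * g⁻¹, hh⟩
    have h1 := hg y
    rw [hy] at h1
    have h2 : h = (y : Ω) := by
      have h3 : g * h * g⁻¹ = g * (y : Ω) * g⁻¹ := h1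
      have h4 : g * h = g * (y : Ω) := mul_right_cancel h3
      exact mul_left_cancel h4
    rw [h2]
    exact y.2

theorem GS_conjBy_iff (S Q : Subgroup Ω) (α : MulAut Q) :
    ConjBy S Q α ↔ ConjBy (normalizerIn S Q) Q α := by
  constructor
  · rintro ⟨g, hgS, hg⟩
    exact ⟨g, ⟨hgS, GS_mem_normalizer Q α g hg⟩, hg⟩
  · rintro ⟨g, hgN, hg⟩
    exact ⟨g, hgN.1, hg⟩

/-- (GS) `PClosed` ⇒ `Aut_F(Q)` has a normal Sylow `p`-subgroup (namely `Aut_S(Q)`, for `Q` fully automized). -/
theorem normal_sylow_of_pclosed (hS : IsPGroup p S) (F : FusionSystem S) (Q : Subgroup Ω)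
    (hQa : F.IsFullyAutomized p Q) (hpc : PClosed (normalizerIn S Q) Q (F.autGroup Q)) :
    ∃ R : Sylow p ↥(F.autGroup Q), (R : Subgroup ↥(F.autGroup Q)).Normal := by
  obtain ⟨-, R, hR⟩ := hQa
  refine ⟨R, ⟨?_⟩⟩
  intro n hn g
  rw [hR, Subgroup.mem_subgroupOf] at hn ⊢
  have key : ∀ x : MulAut Q, x ∈ autInducedBy S Q →
      (g : MulAut Q) * x * (g : MulAut Q)⁻¹ ∈ autInducedBy S Q := by
    intro x hx
    unfold autInducedBy at hx ⊢
    induction hx using Subgroup.closure_induction with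
    | mem x hx =>
      have h1 : ConjBy S Q x := hx
      have h2 := hpc g.1 g.2 x ((GS_conjBy_iff S Q x).1 h1)
      exact Subgroup.subset_closure ((GS_conjBy_iff S Q _).2 h2)
    | one =>
      rw [mul_one, mul_inv_cancel]
      exact Subgroup.one_mem _
    | mul x y _ _ hx hy =>
      have e : (g : MulAut Q) * (x * y) * (g : MulAut Q)⁻¹ =
          ((g : MulAut Q) * x * (g : MulAut Q)⁻¹) * ((g : MulAut Q) * y * (g : MulAut Q)⁻¹) := by
        group
      rw [e]
      exact Subgroup.mul_mem _ hx hy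
    | inv x _ hx =>
      have e : (g : MulAut Q) * x⁻¹ * (g : MulAut Q)⁻¹ =
          ((g : MulAut Q) * x * (g : MulAut Q)⁻¹)⁻¹ := by
        group
      rw [e]
      exact Subgroup.inv_mem _ hx
  have := key n.1 hn
  simpa using this

end glue

end Cfsg.Agent.Helper64.Res
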