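import Cfsg.Agent.Helper21.SC3C.Defs

/-!
helper64 for helper21 (S3331 block C, farm #15586): piece (SYL) `isConj_of_orderOf_three`, verbatim from
`tools/helper21_sc3c/Skel.lean.txt`.
-/

set_option autoImplicit false

namespace Cfsg.Agent.Helper64.SC3C

open Cfsg Cfsg.Agent Cfsg.Agent.Helper62.SC3 Cfsg.Agent.Helper21.SC3C
open scoped ComplexConjugate

universe u

variable {G : Type u} [Group G]

/-- the elements of a group of order three -/
theorem SYL_mem_zpowers {x z : G} (hx : orderOf x = 3) (hz : z ∈ Subgroup.zpowers x) :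
    z = 1 ∨ z = x ∨ z = x⁻¹ := by
  obtain ⟨k, rfl⟩ := Subgroup.mem_zpowers_iff.1 hz
  have h3 : x ^ 3 = 1 := by rw [← hx]; exact pow_orderOf_eq_one x
  have hmod := zpow_mod_orderOf x k
  rw [hx] at hmod
  simp only [Nat.cast_ofNat] at hmod
  rw [← hmod]
  have h0 := Int.emod_nonneg k (by norm_num : (3 : ℤ) ≠ 0)
  have h1 := Int.emod_lt_of_pos k (by norm_num : (0 : ℤ) < 3)
  obtain h | h | h : k % 3 = 0 ∨ k % 3 = 1 ∨ k % 3 = 2 := by omega
  · left; rw [h, zpow_zero]
  · right; left; rw [h, zpow_one]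
  · right; right
    rw [h]
    have : x ^ (2 : ℤ) * x = 1 := by
      rw [← zpow_add_one]
      norm_num
      exact_mod_cast h3
    exact eq_inv_of_mul_eq_one_left this

/-- an element of a `p`-subgroup is conjugate into any Sylow `p`-subgroup -/
theorem SYL_conj_mem [Finite G] {p : ℕ} [Fact p.Prime] (P : Sylow p G) (H : Subgroup G)
    (hH : IsPGroup p H) (s : G) (hs : s ∈ H) : ∃ c : G, c * s * c⁻¹ ∈ P := by
  obtain ⟨Q, hQ⟩ := hH.exists_le_sylow
  obtain ⟨g, hg⟩ := MulAction.exists_smul_eq G Q P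
  refine ⟨g, ?_⟩
  have hsQ : s ∈ Q := hQ hs
  rw [← hg]
  show g * s * g⁻¹ ∈ ((g • Q : Sylow p G) : Subgroup G)
  rw [Sylow.coe_subgroup_smul, Subgroup.mem_pointwise_smul_iff_inv_smul_mem]
  have : (MulAut.conj g)⁻¹ • (g * s * g⁻¹) = s := by
    rw [MulAut.smul_def, MulAut.conj_inv_apply]; group
  rw [this]
  exact hsQ

/-- (SYL) `⟨x⟩` is a Sylow 3-subgroup (a 3-group `P > ⟨x⟩` has `Z(P) ≤ C(x) = ⟨x⟩`, so
`x ∈ Z(P)` and `P ≤ C(x)`); so every element of order 3 is conjugate to `x` or `x⁻¹ = t x t⁻¹`. -/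
theorem isConj_of_orderOf_three [Finite G] (S : Setup G) : HSyl S := by
  classical
  intro y hy
  have : Fact (Nat.Prime 3) := ⟨Nat.prime_three⟩
  have hx1 : S.x ≠ 1 := by
    intro h
    have := S.hx
    rw [h, orderOf_one] at this
    omega
  have hy1 : y ≠ 1 := by
    intro h
    rw [h, orderOf_one] at hy
    omega
  have hp : ∀ z : G, orderOf z = 3 → IsPGroup 3 (Subgroup.zpowers z) := by
    intro z hz
    apply IsPGroup.of_card (n := 1)
    rw [Nat.card_zpowers, hz, pow_one]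
  obtain ⟨P, hP⟩ := (hp S.x S.hx).exists_le_sylow
  have hxP : S.x ∈ P := hP (Subgroup.mem_zpowers _)
  -- `P ≤ ⟨x⟩`
  have hPle : ∀ g ∈ P, g ∈ Subgroup.zpowers S.x := by
    have : Nontrivial (P : Subgroup G) :=
      ⟨⟨⟨S.x, hxP⟩, 1, fun h => hx1 (congrArg Subtype.val h)⟩⟩
    have : Nontrivial (Subgroup.center (P : Subgroup G)) := IsPGroup.center_nontrivial P.isPGroup'
    obtain ⟨⟨z, hzc⟩, hz1⟩ := exists_ne (1 : Subgroup.center (P : Subgroup G))
    have hzne : (z : G) ≠ 1 := by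
      intro h
      apply hz1
      apply Subtype.ext
      apply Subtype.ext
      exact h
    have hzcomm : ∀ g : (P : Subgroup G), (g : G) * (z : G) = (z : G) * (g : G) := by
      intro g
      have := Subgroup.mem_center_iff.1 hzc g
      exact congrArg Subtype.val this
    have hzC : (z : G) ∈ Subgroup.centralizer ({S.x} : Set G) := by
      rw [Subgroup.mem_centralizer_singleton_iff]
      exact (hzcomm ⟨S.x, hxP⟩).symm
    rw [S.hC] at hzC
    have hxcomm : ∀ g ∈ P, g * S.x = S.x * g := by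
      intro g hg
      rcases SYL_mem_zpowers S.hx hzC with h | h | h
      · exact absurd h hzne
      · have := hzcomm ⟨g, hg⟩
        rw [h] at this
        exact this
      · have := hzcomm ⟨g, hg⟩
        rw [h] at this
        -- `g * x⁻¹ = x⁻¹ * g`
        have h2 : S.x * (g * S.x⁻¹) * S.x = S.x * (S.x⁻¹ * g) * S.x := by rw [this]
        simp only [mul_assoc, inv_mul_cancel, mul_one, mul_inv_cancel_left] at h2
        exact h2.symm
    intro g hg
    rw [← S.hC, Subgroup.mem_centralizer_singleton_iff]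
    exact hxcomm g hg
  -- conjugate `y` into `P`
  obtain ⟨c, hc⟩ := SYL_conj_mem P (Subgroup.zpowers y) (hp y hy) y (Subgroup.mem_zpowers y)
  rcases SYL_mem_zpowers S.hx (hPle _ hc) with h | h | h
  · exfalso
    apply hy1
    have : y = c⁻¹ * (c * y * c⁻¹) * c := by group
    rw [this, h]; group
  · rw [isConj_iff]
    refine ⟨c⁻¹, ?_⟩
    rw [← h]; group
  · rw [isConj_iff]
    refine ⟨c⁻¹ * S.t, ?_⟩
    have h2 : c⁻¹ * S.t * S.x * (c⁻¹ * S.t)⁻¹ = c⁻¹ * (S.t * S.x * S.t⁻¹) * c := by group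
    rw [h2, S.htx, ← h]; group

end Cfsg.Agent.Helper64.SC3C
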