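import Cfsg.Agent.Helper47.SGDefs

set_option autoImplicit false

/-! Piece (W9) of helper47's Shult–Gross proof (S3793): the key lemma inside `MulAut W` from the
reduced configuration, by passing to a minimal `x`-invariant subgroup not centralized by
`x ^ (p ^ n)`. -/

namespace Cfsg.Agent.Helper64.SG

open Cfsg.Agent.Helper47.SG
open scoped commutatorElement

universe uW

theorem conj_pow_mem {G : Type*} [Group G] (U : Subgroup G) (x : G)
    (hx : ∀ a ∈ U, x * a * x⁻¹ ∈ U) (k : ℕ) : ∀ a ∈ U, x ^ k * a * (x ^ k)⁻¹ ∈ U := by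
  induction k with
  | zero => intro a ha; simpa using ha
  | succ k ih =>
    intro a ha
    have := hx _ (ih a ha)
    have e : x ^ (k + 1) * a * (x ^ (k + 1))⁻¹ = x * (x ^ k * a * (x ^ k)⁻¹) * x⁻¹ := by
      rw [pow_succ']; group
    rw [e]; exact this

theorem mem_normalizer_of_pow_eq_one {G : Type*} [Group G] (U : Subgroup G) (x : G) (m : ℕ)
    (hm : x ^ (m + 1) = 1) (hx : ∀ a ∈ U, x * a * x⁻¹ ∈ U) :
    x ∈ Subgroup.normalizer (U : Set G) := by
  rw [Subgroup.mem_normalizer_iff]
  intro a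
  refine ⟨hx a, fun ha => ?_⟩
  have h1 := conj_pow_mem U x hx m _ ha
  have hinv : x ^ m = x⁻¹ := by
    rw [pow_succ] at hm
    exact eq_inv_of_mul_eq_one_left hm
  rw [hinv] at h1
  simpa [mul_assoc] using h1

theorem kl_core_of (h : KLReducedStmt.{uW, uW}) : KLCoreStmt.{uW} := by
  intro W _ _ p q r n Q x hp hq hr hp2 hpq hpr hqr hW hQ hxQ hxp hQfix hWfix
  by_contra hcon
  push Not at hcon
  obtain ⟨a0, ha0Q, ha0⟩ := hcon
  haveI : Finite (MulAut W) := Finite.of_injective (fun f : MulAut W => (f : W → W))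
    (fun f g hfg => MulEquiv.ext (fun w => congrFun hfg w))
  obtain ⟨pm, hpm⟩ : ∃ m, p ^ (n + 1) = m + 1 :=
    ⟨p ^ (n + 1) - 1, (Nat.succ_pred_eq_of_pos (pow_pos hp.pos _)).symm⟩
  let S : Set (Subgroup (MulAut W)) :=
    {U | U ≤ Q ∧ (∀ a ∈ U, x * a * x⁻¹ ∈ U) ∧ ∃ a ∈ U, x ^ (p ^ n) * a ≠ a * x ^ (p ^ n)}
  have hne : S.Nonempty := ⟨Q, le_rfl, hxQ, a0, ha0Q, ha0⟩
  obtain ⟨Q1, hQ1S, hmin⟩ := wellFounded_lt.has_min S hne
  obtain ⟨hQ1Q, hxQ1, a1, ha1, ha1ne⟩ := hQ1S
  have hxN : x ∈ Subgroup.normalizer (Q1 : Set (MulAut W)) :=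
    mem_normalizer_of_pow_eq_one Q1 x pm (hpm ▸ hxp) hxQ1
  have hQ1N : Q1 ≤ Subgroup.normalizer (Q1 : Set (MulAut W)) := Subgroup.le_normalizer
  -- the reduced configuration
  have key := h ↥(Subgroup.normalizer (Q1 : Set (MulAut W))) W p q r n
    (Subgroup.normalizer (Q1 : Set (MulAut W))).subtype
    (Q1.subgroupOf (Subgroup.normalizer (Q1 : Set (MulAut W)))) ⟨x, hxN⟩
    hp hq hr hp2 hpq hpr hqr hW
    ((hQ.to_le hQ1Q).comap_subtype)
    (by
      apply Subtype.ext
      simp only [Subgroup.coe_pow, Subgroup.coe_one]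
      exact hxp)
    (by
      intro a _ ha1'
      apply Subtype.ext
      simpa using ha1')
    (by
      intro a ha hcomm
      apply Subtype.ext
      have ha' : (a : MulAut W) ∈ Q1 := Subgroup.mem_subgroupOf.mp ha
      have hc : x * (a : MulAut W) = (a : MulAut W) * x := by
        have := congrArg Subtype.val hcomm
        simpa using this
      simpa using hQfix _ (hQ1Q ha') hc)
    (by
      intro w hw
      exact hWfix w hw)
    (by
      intro U hU hUx a ha
      -- push `U` forward to `MulAut W`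
      have hU0lt : U.map (Subgroup.normalizer (Q1 : Set (MulAut W))).subtype < Q1 := by
        have h1 : U.map (Subgroup.normalizer (Q1 : Set (MulAut W))).subtype <
            (Q1.subgroupOf (Subgroup.normalizer (Q1 : Set (MulAut W)))).map
              (Subgroup.normalizer (Q1 : Set (MulAut W))).subtype :=
          (Subgroup.map_lt_map_iff_of_injective
            (Subgroup.subtype_injective _)).mpr hU
        rw [Subgroup.subgroupOf_map_subtype, inf_of_le_left hQ1N] at h1
        exact h1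
      by_contra hne'
      have hmem : U.map (Subgroup.normalizer (Q1 : Set (MulAut W))).subtype ∈ S := by
        refine ⟨hU0lt.le.trans hQ1Q, ?_, (a : MulAut W), ⟨a, ha, rfl⟩, ?_⟩
        · rintro b ⟨u, hu, rfl⟩
          have hxU : (⟨x, hxN⟩ : ↥(Subgroup.normalizer (Q1 : Set (MulAut W)))) ∈
              Subgroup.normalizer (U : Set ↥(Subgroup.normalizer (Q1 : Set (MulAut W)))) :=
            hUx (Subgroup.mem_zpowers _)
          have := (Subgroup.mem_normalizer_iff.mp hxU u).mp hu
          exact ⟨_, this, by simp⟩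
        · intro hc
          apply hne'
          apply Subtype.ext
          simpa using hc
      exact hmin _ hmem hU0lt)
  have := key ⟨a1, hQ1N ha1⟩ (Subgroup.mem_subgroupOf.mpr ha1)
  apply ha1ne
  have := congrArg Subtype.val this
  simpa using this

end Cfsg.Agent.Helper64.SG
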