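import Mathlib

/-!
# Commutation from a commutator relation and an inverting involution  (helper64, for S2287)

If `⁅x, y⁆ = w` and also `⁅x, y⁻¹⁆ = w⁻¹`, then `y` commutes with `w`; if `⁅x⁻¹, y⁆ = w⁻¹`,
then `x` commutes with `w`.  In `SL₃(q)` (`x = X₁₂(1)`, `y = X₂₃(1)`, `w = X₁₃(1)`) the extra
hypotheses come from conjugating `⁅x, y⁆ = w` by the torus elements `diag(-1,-1,1)` and
`diag(1,-1,-1)`: so the relators `[X₁₂(1), X₁₃(1)] = 1` and `[X₂₃(1), X₁₃(1)] = 1` are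
consequences of the single relator `⁅X₁₂(1), X₂₃(1)⁆ = X₁₃(1)` and the torus action.
-/

set_option autoImplicit false
set_option linter.unusedSimpArgs false

namespace Cfsg.Agent.Helper64.SL3Comm

open scoped commutatorElement

variable {G : Type*} [Group G]

/-- `⁅x, y⁻¹⁆ = y⁻¹ ⁅x, y⁆⁻¹ y`. -/
theorem comm_inv_right (x y : G) : ⁅x, y⁻¹⁆ = y⁻¹ * ⁅x, y⁆⁻¹ * y := by
  simp only [commutatorElement_def, pow_succ, pow_zero, one_mul, mul_one, mul_assoc, mul_inv_rev, inv_inv, mul_inv_cancel_left, inv_mul_cancel_left, mul_inv_cancel, inv_mul_cancel, inv_one]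

/-- `⁅x⁻¹, y⁆ = x⁻¹ ⁅x, y⁆⁻¹ x`. -/
theorem comm_inv_left (x y : G) : ⁅x⁻¹, y⁆ = x⁻¹ * ⁅x, y⁆⁻¹ * x := by
  simp only [commutatorElement_def, pow_succ, pow_zero, one_mul, mul_one, mul_assoc, mul_inv_rev, inv_inv, mul_inv_cancel_left, inv_mul_cancel_left, mul_inv_cancel, inv_mul_cancel, inv_one]

/-- If `⁅x, y⁆ = w` and `⁅x, y⁻¹⁆ = w⁻¹` then `y` commutes with `w`. -/
theorem right_commute (x y w : G) (h : ⁅x, y⁆ = w) (h' : ⁅x, y⁻¹⁆ = w⁻¹) : y * w = w * y := by
  rw [comm_inv_right, h] at h'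
  -- h' : y⁻¹ * w⁻¹ * y = w⁻¹
  have h1 : w⁻¹ * y = y * w⁻¹ := by
    calc w⁻¹ * y = y * (y⁻¹ * w⁻¹ * y) := by simp only [commutatorElement_def, pow_succ, pow_zero, one_mul, mul_one, mul_assoc, mul_inv_rev, inv_inv, mul_inv_cancel_left, inv_mul_cancel_left, mul_inv_cancel, inv_mul_cancel, inv_one]
      _ = y * w⁻¹ := by rw [h']
  calc y * w = w * (w⁻¹ * y) * w := by simp only [commutatorElement_def, pow_succ, pow_zero, one_mul, mul_one, mul_assoc, mul_inv_rev, inv_inv, mul_inv_cancel_left, inv_mul_cancel_left, mul_inv_cancel, inv_mul_cancel, inv_one]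
    _ = w * (y * w⁻¹) * w := by rw [h1]
    _ = w * y := by simp only [commutatorElement_def, pow_succ, pow_zero, one_mul, mul_one, mul_assoc, mul_inv_rev, inv_inv, mul_inv_cancel_left, inv_mul_cancel_left, mul_inv_cancel, inv_mul_cancel, inv_one]

/-- If `⁅x, y⁆ = w` and `⁅x⁻¹, y⁆ = w⁻¹` then `x` commutes with `w`. -/
theorem left_commute (x y w : G) (h : ⁅x, y⁆ = w) (h' : ⁅x⁻¹, y⁆ = w⁻¹) : x * w = w * x := by
  rw [comm_inv_left, h] at h'
  have h1 : w⁻¹ * x = x * w⁻¹ := by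
    calc w⁻¹ * x = x * (x⁻¹ * w⁻¹ * x) := by simp only [commutatorElement_def, pow_succ, pow_zero, one_mul, mul_one, mul_assoc, mul_inv_rev, inv_inv, mul_inv_cancel_left, inv_mul_cancel_left, mul_inv_cancel, inv_mul_cancel, inv_one]
      _ = x * w⁻¹ := by rw [h']
  calc x * w = w * (w⁻¹ * x) * w := by simp only [commutatorElement_def, pow_succ, pow_zero, one_mul, mul_one, mul_assoc, mul_inv_rev, inv_inv, mul_inv_cancel_left, inv_mul_cancel_left, mul_inv_cancel, inv_mul_cancel, inv_one]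
    _ = w * (x * w⁻¹) * w := by rw [h1]
    _ = w * x := by simp only [commutatorElement_def, pow_succ, pow_zero, one_mul, mul_one, mul_assoc, mul_inv_rev, inv_inv, mul_inv_cancel_left, inv_mul_cancel_left, mul_inv_cancel, inv_mul_cancel, inv_one]

/-- Conjugating a commutator relation. -/
theorem conj_comm (e x y : G) : e * ⁅x, y⁆ * e⁻¹ = ⁅e * x * e⁻¹, e * y * e⁻¹⁆ := by
  simp only [commutatorElement_def, pow_succ, pow_zero, one_mul, mul_one, mul_assoc, mul_inv_rev, inv_inv, mul_inv_cancel_left, inv_mul_cancel_left, mul_inv_cancel, inv_mul_cancel, inv_one]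

/-- If `e` centralizes `x` and inverts `y` and `w = ⁅x, y⁆`, then `y` commutes with `w`. -/
theorem right_commute_of_conj (e x y w : G) (h : ⁅x, y⁆ = w)
    (hx : e * x * e⁻¹ = x) (hy : e * y * e⁻¹ = y⁻¹) (hw : e * w * e⁻¹ = w⁻¹) :
    y * w = w * y := by
  refine right_commute x y w h ?_
  rw [← hw, ← h, conj_comm, hx, hy]

/-- If `e` inverts `x` and centralizes `y` and inverts `w = ⁅x, y⁆`, then `x` commutes with `w`. -/
theorem left_commute_of_conj (e x y w : G) (h : ⁅x, y⁆ = w)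
    (hx : e * x * e⁻¹ = x⁻¹) (hy : e * y * e⁻¹ = y) (hw : e * w * e⁻¹ = w⁻¹) :
    x * w = w * x := by
  refine left_commute x y w h ?_
  rw [← hw, ← h, conj_comm, hx, hy]

end Cfsg.Agent.Helper64.SL3Comm
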