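import Mathlib

/-!
# A Weyl-group lemma for short presentations of `SL₃(q)`  (helper64, for S2287)

In a group, let `t` satisfy `t⁴ = 1` and let `c` satisfy the single relation
`t⁻¹ c t = c² t²`.  If moreover `t² · (c t² c⁻¹) · (c² t² c⁻²) = 1` (in `SL₃` this is
`h₁(-1) h₂(-1) h₃(-1) = 1`), then `c³ = 1` and `(t⁻¹ c)² = 1`, so `⟨t, c⟩` is a quotient
of the monomial group `2².S₃ ≅ S₄`.
-/

set_option autoImplicit false
set_option linter.unusedSimpArgs false

namespace Cfsg.Agent.Helper64.SL3Weyl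

variable {G : Type*} [Group G]

/-- Core computation with `a = t²` abstracted: `a² = 1`, `t⁻¹ a t = a`,
`t⁻¹ c t = c² a` and `a (c a c⁻¹)(c² a c⁻²) = 1` give `c³ = 1`. -/
theorem cube_eq_one_aux (t c a : G) (haa : a * a = 1) (hta : t⁻¹ * a * t = a)
    (hW : t⁻¹ * c * t = c ^ 2 * a) (hta2 : t⁻¹ * (t⁻¹ * c * t) * t = a⁻¹ * c * a)
    (he : a * (c * a * c⁻¹) * (c ^ 2 * a * (c ^ 2)⁻¹) = 1) : c ^ 3 = 1 := by
  have hainv : a⁻¹ = a := inv_eq_of_mul_eq_one_right haa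
  -- (*)  a c a = c² a c²
  have hstar : a * c * a = c ^ 2 * a * c ^ 2 := by
    have h2 : t⁻¹ * (c ^ 2 * a) * t = (t⁻¹ * c * t) ^ 2 * (t⁻¹ * a * t) := by simp only [pow_succ, pow_zero, one_mul, mul_one, mul_assoc, mul_inv_rev, inv_inv, mul_inv_cancel_left, inv_mul_cancel_left, mul_inv_cancel, inv_mul_cancel, inv_one]
    rw [hW, hta] at h2
    rw [hW, h2, hainv] at hta2
    rw [← hta2]
    calc (c ^ 2 * a) ^ 2 * a = c ^ 2 * a * c ^ 2 * (a * a) := by simp only [pow_succ, pow_zero, one_mul, mul_one, mul_assoc, mul_inv_rev, inv_inv, mul_inv_cancel_left, inv_mul_cancel_left, mul_inv_cancel, inv_mul_cancel, inv_one]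
      _ = c ^ 2 * a * c ^ 2 := by rw [haa, mul_one]
  -- a c² a = (a c a)²
  have hsq : a * c ^ 2 * a = (a * c * a) ^ 2 := by
    calc a * c ^ 2 * a = a * c * 1 * c * a := by simp only [pow_succ, pow_zero, one_mul, mul_one, mul_assoc, mul_inv_rev, inv_inv, mul_inv_cancel_left, inv_mul_cancel_left, mul_inv_cancel, inv_mul_cancel, inv_one]
      _ = a * c * (a * a) * c * a := by rw [haa]
      _ = (a * c * a) ^ 2 := by simp only [pow_succ, pow_zero, one_mul, mul_one, mul_assoc, mul_inv_rev, inv_inv, mul_inv_cancel_left, inv_mul_cancel_left, mul_inv_cancel, inv_mul_cancel, inv_one]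
  -- c = c² a c⁴ a c⁴ a
  have h4 : c = c ^ 2 * (a * c ^ 4 * a * c ^ 4 * a) := by
    calc c = (a * a) * c * (a * a) := by rw [haa]; simp only [pow_succ, pow_zero, one_mul, mul_one, mul_assoc, mul_inv_rev, inv_inv, mul_inv_cancel_left, inv_mul_cancel_left, mul_inv_cancel, inv_mul_cancel, inv_one]
      _ = a * (a * c * a) * a := by simp only [pow_succ, pow_zero, one_mul, mul_one, mul_assoc, mul_inv_rev, inv_inv, mul_inv_cancel_left, inv_mul_cancel_left, mul_inv_cancel, inv_mul_cancel, inv_one]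
      _ = a * (c ^ 2 * a * c ^ 2) * a := by rw [hstar]
      _ = (a * c ^ 2 * a) * c ^ 2 * a := by simp only [pow_succ, pow_zero, one_mul, mul_one, mul_assoc, mul_inv_rev, inv_inv, mul_inv_cancel_left, inv_mul_cancel_left, mul_inv_cancel, inv_mul_cancel, inv_one]
      _ = (c ^ 2 * a * c ^ 2) ^ 2 * c ^ 2 * a := by rw [hsq, hstar]
      _ = c ^ 2 * (a * c ^ 4 * a * c ^ 4 * a) := by simp only [pow_succ, pow_zero, one_mul, mul_one, mul_assoc, mul_inv_rev, inv_inv, mul_inv_cancel_left, inv_mul_cancel_left, mul_inv_cancel, inv_mul_cancel, inv_one]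
  have h5 : a * c ^ 4 * a * c ^ 4 * a = c⁻¹ := by
    have : c ^ 2 * (a * c ^ 4 * a * c ^ 4 * a) = c ^ 2 * c⁻¹ := by
      rw [← h4]; simp only [pow_succ, pow_zero, one_mul, mul_one, mul_assoc, mul_inv_rev, inv_inv, mul_inv_cancel_left, inv_mul_cancel_left, mul_inv_cancel, inv_mul_cancel, inv_one]
    exact mul_left_cancel this
  -- a c³ a = c³
  have h6 : a * c ^ 3 * a = c ^ 3 := by
    calc a * c ^ 3 * a = a * c * 1 * c * 1 * c * a := by simp only [pow_succ, pow_zero, one_mul, mul_one, mul_assoc, mul_inv_rev, inv_inv, mul_inv_cancel_left, inv_mul_cancel_left, mul_inv_cancel, inv_mul_cancel, inv_one]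
      _ = a * c * (a * a) * c * (a * a) * c * a := by rw [haa]
      _ = (a * c * a) ^ 3 := by simp only [pow_succ, pow_zero, one_mul, mul_one, mul_assoc, mul_inv_rev, inv_inv, mul_inv_cancel_left, inv_mul_cancel_left, mul_inv_cancel, inv_mul_cancel, inv_one]
      _ = (c ^ 2 * a * c ^ 2) ^ 3 := by rw [hstar]
      _ = c ^ 2 * (a * c ^ 4 * a * c ^ 4 * a) * c ^ 2 := by simp only [pow_succ, pow_zero, one_mul, mul_one, mul_assoc, mul_inv_rev, inv_inv, mul_inv_cancel_left, inv_mul_cancel_left, mul_inv_cancel, inv_mul_cancel, inv_one]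
      _ = c ^ 2 * c⁻¹ * c ^ 2 := by rw [h5]
      _ = c ^ 3 := by simp only [pow_succ, pow_zero, one_mul, mul_one, mul_assoc, mul_inv_rev, inv_inv, mul_inv_cancel_left, inv_mul_cancel_left, mul_inv_cancel, inv_mul_cancel, inv_one]
  -- (a c)³ = c⁶
  have h7 : (a * c) ^ 3 = c ^ 6 := by
    calc (a * c) ^ 3 = (a * c * a) * c * a * c := by simp only [pow_succ, pow_zero, one_mul, mul_one, mul_assoc, mul_inv_rev, inv_inv, mul_inv_cancel_left, inv_mul_cancel_left, mul_inv_cancel, inv_mul_cancel, inv_one]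
      _ = (c ^ 2 * a * c ^ 2) * c * a * c := by rw [hstar]
      _ = c ^ 2 * (a * c ^ 3 * a) * c := by simp only [pow_succ, pow_zero, one_mul, mul_one, mul_assoc, mul_inv_rev, inv_inv, mul_inv_cancel_left, inv_mul_cancel_left, mul_inv_cancel, inv_mul_cancel, inv_one]
      _ = c ^ 2 * c ^ 3 * c := by rw [h6]
      _ = c ^ 6 := by simp only [pow_succ, pow_zero, one_mul, mul_one, mul_assoc, mul_inv_rev, inv_inv, mul_inv_cancel_left, inv_mul_cancel_left, mul_inv_cancel, inv_mul_cancel, inv_one]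
  -- (a c)³ = c³
  have h8 : (a * c) ^ 3 = c ^ 3 := by
    calc (a * c) ^ 3 = (a * (c * a * c⁻¹) * (c ^ 2 * a * (c ^ 2)⁻¹)) * c ^ 3 := by simp only [pow_succ, pow_zero, one_mul, mul_one, mul_assoc, mul_inv_rev, inv_inv, mul_inv_cancel_left, inv_mul_cancel_left, mul_inv_cancel, inv_mul_cancel, inv_one]
      _ = c ^ 3 := by rw [he, one_mul]
  have h9 : c ^ 3 * c ^ 3 = c ^ 3 * 1 := by
    calc c ^ 3 * c ^ 3 = c ^ 6 := by simp only [pow_succ, pow_zero, one_mul, mul_one, mul_assoc, mul_inv_rev, inv_inv, mul_inv_cancel_left, inv_mul_cancel_left, mul_inv_cancel, inv_mul_cancel, inv_one]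
      _ = (a * c) ^ 3 := h7.symm
      _ = c ^ 3 := h8
      _ = c ^ 3 * 1 := (mul_one _).symm
  exact mul_left_cancel h9

/-- **Weyl lemma.**  `t⁴ = 1`, `t⁻¹ c t = c² t²` and
`t² (c t² c⁻¹)(c² t² c⁻²) = 1` imply `c³ = 1` and `(t⁻¹ c)² = 1`. -/
theorem weyl_rel (t c : G) (ht4 : t ^ 4 = 1)
    (hW : t⁻¹ * c * t = c ^ 2 * t ^ 2)
    (he : t ^ 2 * (c * t ^ 2 * c⁻¹) * (c ^ 2 * t ^ 2 * (c ^ 2)⁻¹) = 1) :
    c ^ 3 = 1 ∧ (t⁻¹ * c) ^ 2 = 1 := by
  have hc3 : c ^ 3 = 1 := by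
    refine cube_eq_one_aux t c (t ^ 2) ?_ ?_ hW ?_ he
    · rw [← pow_add]; exact ht4
    · simp only [pow_succ, pow_zero, one_mul, mul_one, mul_assoc, mul_inv_rev, inv_inv, mul_inv_cancel_left, inv_mul_cancel_left, mul_inv_cancel, inv_mul_cancel, inv_one]
    · simp only [pow_succ, pow_zero, one_mul, mul_one, mul_assoc, mul_inv_rev, inv_inv, mul_inv_cancel_left, inv_mul_cancel_left, mul_inv_cancel, inv_mul_cancel, inv_one]
  refine ⟨hc3, ?_⟩
  have h1 : t⁻¹ * c = c ^ 2 * t := by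
    calc t⁻¹ * c = (t⁻¹ * c * t) * t⁻¹ := by simp only [pow_succ, pow_zero, one_mul, mul_one, mul_assoc, mul_inv_rev, inv_inv, mul_inv_cancel_left, inv_mul_cancel_left, mul_inv_cancel, inv_mul_cancel, inv_one]
      _ = c ^ 2 * t ^ 2 * t⁻¹ := by rw [hW]
      _ = c ^ 2 * t := by simp only [pow_succ, pow_zero, one_mul, mul_one, mul_assoc, mul_inv_rev, inv_inv, mul_inv_cancel_left, inv_mul_cancel_left, mul_inv_cancel, inv_mul_cancel, inv_one]
  calc (t⁻¹ * c) ^ 2 = (t⁻¹ * c) * (t⁻¹ * c) := by simp only [pow_succ, pow_zero, one_mul, mul_one, mul_assoc, mul_inv_rev, inv_inv, mul_inv_cancel_left, inv_mul_cancel_left, mul_inv_cancel, inv_mul_cancel, inv_one]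
    _ = (c ^ 2 * t) * (t⁻¹ * c) := by rw [h1]
    _ = c ^ 3 := by simp only [pow_succ, pow_zero, one_mul, mul_one, mul_assoc, mul_inv_rev, inv_inv, mul_inv_cancel_left, inv_mul_cancel_left, mul_inv_cancel, inv_mul_cancel, inv_one]
    _ = 1 := hc3

/-- The same conclusion in the forms `c⁻¹ = c²` and `t⁻¹ c t⁻¹ = c⁻¹`. -/
theorem weyl_rel' (t c : G) (ht4 : t ^ 4 = 1)
    (hW : t⁻¹ * c * t = c ^ 2 * t ^ 2)
    (he : t ^ 2 * (c * t ^ 2 * c⁻¹) * (c ^ 2 * t ^ 2 * (c ^ 2)⁻¹) = 1) :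
    c⁻¹ = c ^ 2 ∧ t⁻¹ * c * t⁻¹ = c⁻¹ := by
  obtain ⟨h3, h2⟩ := weyl_rel t c ht4 hW he
  constructor
  · have : c ^ 2 * c = 1 := by rw [← h3]; simp only [pow_succ, pow_zero, one_mul, mul_one, mul_assoc, mul_inv_rev, inv_inv, mul_inv_cancel_left, inv_mul_cancel_left, mul_inv_cancel, inv_mul_cancel, inv_one]
    exact inv_eq_of_mul_eq_one_left this
  · have : (t⁻¹ * c * t⁻¹) * c = 1 := by rw [← h2]; simp only [pow_succ, pow_zero, one_mul, mul_one, mul_assoc, mul_inv_rev, inv_inv, mul_inv_cancel_left, inv_mul_cancel_left, mul_inv_cancel, inv_mul_cancel, inv_one]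
    exact eq_inv_of_mul_eq_one_left this

end Cfsg.Agent.Helper64.SL3Weyl
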