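import Mathlib
import Cfsg.Agent.Helper96.SLPresDefs
import Cfsg.Agent.Helper59.SLPresComm

/-!
# S2289 piece (W4): window-4 version of helper59's `all_of_rules_odd` / `allComm_odd`

If `u` commutes with `u_1, u_2, u_3` (`u_i = h^i u h^{-i}`) and
`u_k = u_3 * u_2^(3c) * u_1^3 * u_0^c` (`c = ±1`), then all the `u_i` commute.
-/

set_option autoImplicit false

namespace Cfsg.Agent.Helper64.SU3P

open Cfsg.Agent.Helper96.SLPres

variable {D : Type*} [Group D]

/-- the combinatorial induction, window of length four -/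
theorem all_of_rules4 (T : ℤ → Prop) (k : ℤ) (hneg : ∀ d, T d → T (-d)) (h0 : T 0) (h1 : T 1)
    (h2 : T 2) (h3 : T 3)
    (Rk : ∀ r, T r → T (r + 1) → T (r + 2) → T (r + 3) → T (r + k))
    (R0 : ∀ r, T (r + 1) → T (r + 2) → T (r + 3) → T (r + k) → T r)
    (R3 : ∀ r, T r → T (r + 1) → T (r + 2) → T (r + k) → T (r + 3)) : ∀ d, T d := by
  have hm1 : T (-1) := hneg 1 h1
  have hm2 : T (-2) := hneg 2 h2
  have hm3 : T (-3) := hneg 3 h3
  have hP : ∀ j : ℕ, T j ∧ T (j + 1) ∧ T (j + 2) ∧ T (j + 3) ∧
      T (k + j - 3) ∧ T (k + j - 2) ∧ T (k + j - 1) ∧ T (k + j) := by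
    intro j
    induction j with
    | zero =>
      have a0 := Rk 0 h0 (by simpa using h1) (by simpa using h2) (by simpa using h3)
      have a1 := Rk (-1) hm1 (by simpa using h0) (by simpa using h1) (by simpa using h2)
      have a2 := Rk (-2) hm2 (by simpa using hm1) (by simpa using h0) (by simpa using h1)
      have a3 := Rk (-3) hm3 (by simpa using hm2) (by simpa using hm1) (by simpa using h0)
      rw [zero_add] at a0
      rw [show (-1 : ℤ) + k = k - 1 by ring] at a1
      rw [show (-2 : ℤ) + k = k - 2 by ring] at a2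
      rw [show (-3 : ℤ) + k = k - 3 by ring] at a3
      refine ⟨by simpa using h0, by simpa using h1, by simpa using h2, by simpa using h3,
        ?_, ?_, ?_, ?_⟩
      · simpa using a3
      · simpa using a2
      · simpa using a1
      · simpa using a0
    | succ j ih =>
      obtain ⟨b0, b1, b2, b3, b4, b5, b6, b7⟩ := ih
      have c1 : T (k + j + 1) := by
        have e1 : T (-(k + j + 1) + 1) := by
          rw [show -(k + (j : ℤ) + 1) + 1 = -(k + j) by ring]
          exact hneg _ b7
        have e2 : T (-(k + j + 1) + 2) := by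
          rw [show -(k + (j : ℤ) + 1) + 2 = -(k + j - 1) by ring]
          exact hneg _ b6
        have e3 : T (-(k + j + 1) + 3) := by
          rw [show -(k + (j : ℤ) + 1) + 3 = -(k + j - 2) by ring]
          exact hneg _ b5
        have e4 : T (-(k + j + 1) + k) := by
          rw [show -(k + (j : ℤ) + 1) + k = -((j : ℤ) + 1) by ring]
          exact hneg _ b1
        have := hneg _ (R0 _ e1 e2 e3 e4)
        rwa [neg_neg] at this
      have c2 : T ((j : ℤ) + 4) := by
        have e4 : T ((j : ℤ) + 1 + k) := by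
          rw [show (j : ℤ) + 1 + k = k + j + 1 by ring]
          exact c1
        have := R3 ((j : ℤ) + 1) b1 (by rw [show (j : ℤ) + 1 + 1 = j + 2 by ring]; exact b2)
          (by rw [show (j : ℤ) + 1 + 2 = j + 3 by ring]; exact b3) e4
        rwa [show (j : ℤ) + 1 + 3 = j + 4 by ring] at this
      push_cast
      refine ⟨b1, ?_, ?_, ?_, ?_, ?_, ?_, ?_⟩
      · rw [show (j : ℤ) + 1 + 1 = j + 2 by ring]; exact b2
      · rw [show (j : ℤ) + 1 + 2 = j + 3 by ring]; exact b3
      · rw [show (j : ℤ) + 1 + 3 = j + 4 by ring]; exact c2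
      · rw [show k + ((j : ℤ) + 1) - 3 = k + j - 2 by ring]; exact b5
      · rw [show k + ((j : ℤ) + 1) - 2 = k + j - 1 by ring]; exact b6
      · rw [show k + ((j : ℤ) + 1) - 1 = k + j by ring]; exact b7
      · rw [show k + ((j : ℤ) + 1) = k + j + 1 by ring]; exact c1
  intro d
  rcases le_total 0 d with hd | hd
  · obtain ⟨j, rfl⟩ := Int.eq_ofNat_of_zero_le hd
    exact (hP j).1
  · obtain ⟨j, hj⟩ := Int.eq_ofNat_of_zero_le (neg_nonneg.mpr hd)
    have := hneg _ (hP j).1
    rwa [← hj, neg_neg] at this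

/-- commuting with `x ^ c`, `c = ±1`, is commuting with `x` -/
theorem commute_of_zpow_pm {x y : D} {c : ℤ} (hc : c = 1 ∨ c = -1) (h : Commute y (x ^ c)) :
    Commute y x := by
  rcases hc with rfl | rfl
  · simpa using h
  · have := h.inv_right
    simpa using this

theorem allComm4 (h u : D) (h1 : Commute u (uz h u 1)) (h2 : Commute u (uz h u 2))
    (h3 : Commute u (uz h u 3)) (k c : ℤ) (hc : c = 1 ∨ c = -1)
    (hk : uz h u k = uz h u 3 * uz h u 2 ^ (3 * c) * uz h u 1 ^ 3 * uz h u 0 ^ c) :
    ∀ i j : ℤ, Commute (uz h u i) (uz h u j) := by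
  have rel : ∀ r : ℤ, uz h u (r + k) =
      uz h u (r + 3) * uz h u (r + 2) ^ (3 * c) * uz h u (r + 1) ^ 3 * uz h u (r + 0) ^ c := by
    intro r
    have := congrArg (fun x => h ^ r * x * (h ^ r)⁻¹) hk
    beta_reduce at this
    rw [uz_conj] at this
    rw [this, ← uz_conj h u 3 r, ← uz_conj h u 2 r, ← uz_conj h u 1 r, ← uz_conj h u 0 r,
      conj_zpow, conj_zpow, conj_pow]
    group
  apply all_commute_of_zero
  apply all_of_rules4 (fun d => Commute (uz h u 0) (uz h u d)) k
  · intro d hd
    exact commute_neg h u d hd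
  · exact Commute.refl _
  · rw [uz_zero]; exact h1
  · rw [uz_zero]; exact h2
  · rw [uz_zero]; exact h3
  · intro r a0 a1 a2 a3
    show Commute (uz h u 0) (uz h u (r + k))
    rw [rel r, add_zero]
    exact (((a3.mul_right (a2.zpow_right _)).mul_right (a1.pow_right _)).mul_right
      (a0.zpow_right _))
  · intro r a1 a2 a3 ak
    show Commute (uz h u 0) (uz h u r)
    have e : uz h u r ^ c =
        (uz h u (r + 3) * uz h u (r + 2) ^ (3 * c) * uz h u (r + 1) ^ 3)⁻¹ * uz h u (r + k) := by
      rw [rel r, add_zero]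
      group
    apply commute_of_zpow_pm hc
    rw [e]
    exact (((a3.mul_right (a2.zpow_right _)).mul_right (a1.pow_right _)).inv_right).mul_right ak
  · intro r a0 a1 a2 ak
    show Commute (uz h u 0) (uz h u (r + 3))
    have e : uz h u (r + 3) = uz h u (r + k) * (uz h u r ^ c)⁻¹ * (uz h u (r + 1) ^ 3)⁻¹ *
        (uz h u (r + 2) ^ (3 * c))⁻¹ := by
      rw [rel r, add_zero]
      group
    rw [e]
    exact ((ak.mul_right (a0.zpow_right _).inv_right).mul_right
      (a1.pow_right _).inv_right).mul_right (a2.zpow_right _).inv_right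

end Cfsg.Agent.Helper64.SU3P
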