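import Mathlib
import Cfsg.Agent.Helper96.SLPresDefs
import Cfsg.Agent.Helper59.SLPresComm
import Cfsg.Agent.Helper21.SLPresBorel
import Cfsg.Agent.Helper64.SU3P_W4

/-!
# S2289 piece (BM): the Borel relations modulo a subgroup `Z`

`Z ≤ D` normalised by `h` and centralised by `u`.  If the relations `u^p`, `⁅u, u_i⁆` (`i = 1,2,3`),
`u_k = u_3 u_2^{3c} u_1^3 u_0^c` and `m(h)·u` hold modulo `Z`, then every element of
`⟨u_i : i ∈ ℤ⟩` is, modulo `Z`, of the form `PW p h u f`, and the class only depends on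
`aeval lam f`.
-/

set_option autoImplicit false

namespace Cfsg.Agent.Helper64.SU3P

open Cfsg.Agent.Helper96.SLPres Polynomial

theorem commute_of_comm_eq_one {G : Type*} [Group G] {a b : G} (h : a * b * a⁻¹ * b⁻¹ = 1) :
    Commute a b := by
  show a * b = b * a
  have h1 : a * b * a⁻¹ = b := by
    have := mul_inv_eq_one.1 h
    exact this
  calc a * b = (a * b * a⁻¹) * a := by simp only [mul_assoc, inv_mul_cancel, mul_one]
    _ = b * a := by rw [h1]

theorem borel_mod {p : ℕ} [Fact p.Prime] {F : Type*} [Field F] [Algebra (ZMod p) F] (lam : F)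
    (hsurj : ∀ a : F, ∃ f : (ZMod p)[X], aeval lam f = a) (m : (ZMod p)[X])
    (hm : ∀ f : (ZMod p)[X], aeval lam f = 0 → m ∣ f) {D : Type*} [Group D] (h u : D)
    (Z : Subgroup D) (hZh : h ∈ Subgroup.normalizer (Z : Set D)) (hZu : ∀ z ∈ Z, Commute u z)
    (hu : u ^ p ∈ Z)
    (h1 : u * uz h u 1 * u⁻¹ * (uz h u 1)⁻¹ ∈ Z)
    (h2 : u * uz h u 2 * u⁻¹ * (uz h u 2)⁻¹ ∈ Z)
    (h3 : u * uz h u 3 * u⁻¹ * (uz h u 3)⁻¹ ∈ Z)
    (k c : ℤ) (hc : c = 1 ∨ c = -1)
    (hk : (uz h u 3 * uz h u 2 ^ (3 * c) * uz h u 1 ^ 3 * u ^ c)⁻¹ * uz h u k ∈ Z)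
    (hPW : PW p h u m ∈ Z) :
    ∀ x ∈ Subgroup.closure (Set.range (uz h u)),
      ∃ a : F, ∀ f : (ZMod p)[X], aeval lam f = a → (PW p h u f)⁻¹ * x ∈ Z := by
  classical
  -- `u` normalises `Z`
  have hNu : u ∈ Subgroup.normalizer (Z : Set D) := by
    rw [Subgroup.mem_normalizer_iff]
    intro z
    constructor
    · intro hz
      have hc' : u * z = z * u := hZu z hz
      rw [hc', mul_assoc, mul_inv_cancel, mul_one]
      exact hz
    · intro hz
      have hc' : u * (u * z * u⁻¹) = (u * z * u⁻¹) * u := hZu _ hz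
      have e : z = u * z * u⁻¹ := by
        have : u * z = u * (u * z * u⁻¹) := by
          rw [hc']; simp only [mul_assoc, inv_mul_cancel, mul_one]
        exact mul_left_cancel this
      rw [e]; exact hz
  -- the quotient of the normaliser
  let N : Subgroup D := Subgroup.normalizer (Z : Set D)
  let Z' : Subgroup N := Z.subgroupOf N
  have : Z'.Normal := Subgroup.normal_in_normalizer
  let π : N →* N ⧸ Z' := QuotientGroup.mk' Z'
  have hπ : ∀ y : N, π y = 1 ↔ (y : D) ∈ Z := by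
    intro y
    rw [QuotientGroup.mk'_apply, QuotientGroup.eq_one_iff, Subgroup.mem_subgroupOf]
  let hN : N := ⟨h, hZh⟩
  let uN : N := ⟨u, hNu⟩
  have huz : ∀ i : ℤ, ((uz hN uN i : N) : D) = uz h u i := by
    intro i
    have := map_uz N.subtype hN uN i
    exact this
  have hPWc : ∀ f : (ZMod p)[X], ((PW p hN uN f : N) : D) = PW p h u f := by
    intro f
    have := map_PW N.subtype p hN uN f
    exact this
  set hb : N ⧸ Z' := π hN with hhb
  set ub : N ⧸ Z' := π uN with hub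
  have huzb : ∀ i : ℤ, uz hb ub i = π (uz hN uN i) := fun i => (map_uz π hN uN i).symm
  have hPWb : ∀ f : (ZMod p)[X], PW p hb ub f = π (PW p hN uN f) := fun f =>
    (map_PW π p hN uN f).symm
  -- the relations in the quotient
  have r_u : ub ^ p = 1 := by
    rw [hub, ← map_pow, hπ]
    exact hu
  have r_c : ∀ i : ℤ, u * uz h u i * u⁻¹ * (uz h u i)⁻¹ ∈ Z → Commute ub (uz hb ub i) := by
    intro i hi
    apply commute_of_comm_eq_one
    rw [huzb, hub, ← map_inv, ← map_inv, ← map_mul, ← map_mul, ← map_mul, hπ]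
    simpa [huz] using hi
  have r_k : uz hb ub k = uz hb ub 3 * uz hb ub 2 ^ (3 * c) * uz hb ub 1 ^ 3 * uz hb ub 0 ^ c := by
    have e : π ((uz hN uN 3 * uz hN uN 2 ^ (3 * c) * uz hN uN 1 ^ 3 * uN ^ c)⁻¹ * uz hN uN k)
        = 1 := by
      rw [hπ]
      simpa [huz] using hk
    rw [map_mul, map_inv, inv_mul_eq_one] at e
    rw [huzb, ← e, huzb, huzb, huzb, uz_zero]
    simp only [map_mul, map_zpow, map_pow]
    rfl
  have r_m : PW p hb ub m = 1 := by
    rw [hPWb, hπ, hPWc]
    exact hPW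
  have hcomm := allComm4 hb ub (r_c 1 h1) (r_c 2 h2) (r_c 3 h3) k c hc r_k
  obtain ⟨xb, xadd, xone, xconj, xPW⟩ := exists_borel lam hsurj m hm hb ub r_u hcomm r_m
  have x0 : xb 0 = 1 := by
    have := xadd 0 0
    rw [add_zero] at this
    exact (mul_eq_left.1 this.symm)
  have xneg : ∀ a, xb (-a) = (xb a)⁻¹ := by
    intro a
    have := xadd a (-a)
    rw [add_neg_cancel, x0] at this
    exact (inv_eq_of_mul_eq_one_right this.symm).symm
  -- the range of `xb`
  let R : Subgroup (N ⧸ Z') :=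
    { carrier := {q | ∃ a, xb a = q}
      mul_mem' := by
        rintro _ _ ⟨a, rfl⟩ ⟨b, rfl⟩
        exact ⟨a + b, xadd a b⟩
      one_mem' := ⟨0, x0⟩
      inv_mem' := by
        rintro _ ⟨a, rfl⟩
        exact ⟨-a, xneg a⟩ }
  have huzR : ∀ i : ℤ, uz hb ub i ∈ R := by
    by_cases hl : lam = 0
    · -- degenerate case: everything is trivial
      have hall : ∀ a, xb a = 1 := by
        intro a
        have := xconj a
        rw [hl, zero_mul, x0] at this
        have h' : hb * xb a = hb := by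
          have := mul_inv_eq_one.1 this
          exact this
        exact mul_left_cancel (h'.trans (mul_one hb).symm)
      have hub1 : ub = 1 := by rw [← xone]; exact hall 1
      intro i
      refine ⟨0, ?_⟩
      rw [x0, hub1]
      simp [uz]
    · intro i
      induction i using Int.induction_on with
      | zero => exact ⟨1, by rw [xone, uz_zero]⟩
      | succ i ih =>
        obtain ⟨a, ha⟩ := ih
        refine ⟨lam * a, ?_⟩
        rw [← xconj, ha, uz_succ]
      | pred i ih =>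
        obtain ⟨a, ha⟩ := ih
        refine ⟨lam⁻¹ * a, ?_⟩
        have e1 := xconj (lam⁻¹ * a)
        rw [mul_inv_cancel_left₀ hl, ha] at e1
        have e2 := uz_succ hb ub (-(i : ℤ) - 1)
        rw [show -(i : ℤ) - 1 + 1 = -(i : ℤ) by ring] at e2
        have e3 : hb * xb (lam⁻¹ * a) * hb⁻¹ = hb * uz hb ub (-(i : ℤ) - 1) * hb⁻¹ := by
          rw [e1, e2]
        have e4 := mul_right_cancel e3
        exact mul_left_cancel e4
  -- elements of the closure
  have hcl : ∀ x ∈ Subgroup.closure (Set.range (uz h u)), ∃ hx : x ∈ N, π ⟨x, hx⟩ ∈ R := by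
    intro x hx
    induction hx using Subgroup.closure_induction with
    | mem x hx =>
      obtain ⟨i, rfl⟩ := hx
      have hmem : uz h u i ∈ N := by rw [← huz i]; exact (uz hN uN i).2
      refine ⟨hmem, ?_⟩
      have : (⟨uz h u i, hmem⟩ : N) = uz hN uN i := Subtype.ext (huz i).symm
      rw [this, ← huzb]
      exact huzR i
    | one => exact ⟨N.one_mem, by
        have : (⟨1, N.one_mem⟩ : N) = 1 := rfl
        rw [this, map_one]; exact R.one_mem⟩
    | mul x y _ _ ihx ihy =>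
      obtain ⟨hx, hxR⟩ := ihx
      obtain ⟨hy, hyR⟩ := ihy
      refine ⟨N.mul_mem hx hy, ?_⟩
      have : (⟨x * y, N.mul_mem hx hy⟩ : N) = ⟨x, hx⟩ * ⟨y, hy⟩ := rfl
      rw [this, map_mul]
      exact R.mul_mem hxR hyR
    | inv x _ ihx =>
      obtain ⟨hx, hxR⟩ := ihx
      refine ⟨N.inv_mem hx, ?_⟩
      have : (⟨x⁻¹, N.inv_mem hx⟩ : N) = (⟨x, hx⟩ : N)⁻¹ := rfl
      rw [this, map_inv]
      exact R.inv_mem hxR
  intro x hx
  obtain ⟨hxN, a, ha⟩ := hcl x hx
  refine ⟨a, ?_⟩
  intro f hf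
  have e : π ((PW p hN uN f)⁻¹ * ⟨x, hxN⟩) = 1 := by
    rw [map_mul, map_inv, ← hPWb, ← xPW, hf, ha, inv_mul_cancel]
  rw [hπ] at e
  simpa [hPWc] using e

end Cfsg.Agent.Helper64.SU3P
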