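import Cfsg.Agent.Helper19.SpBN.Pair
import Cfsg.Agent.Helper64.StCBruhat

/-!
# `Sp_{2m}(K)`: the descent criterion (P15)
-/

set_option autoImplicit false

namespace Cfsg.Agent.Helper64.SpBNP15

open Matrix Cfsg.Agent.Helper96.StN Cfsg.Agent.Helper96.StC Cfsg.Agent.Helper29.StCM
open Cfsg Cfsg.Agent.Helper6 Cfsg.Agent.Helper18 Cfsg.Agent.Helper19.Cox Cfsg.Agent.Helper19.Poinc
  Cfsg.Agent.Helper19.Stein Cfsg.Agent.Helper19.StBN Cfsg.Agent.Helper19.SpBN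

universe u

variable {K : Type u} [Field K] {m : ℕ}

/-- (P15) a simple reflection `(k, k')` is a right descent of a monomial element mapping the
root of `(k', k)` to a positive root -/
theorem descent_criterion (hM : MonoData (XS K m) reflPerm cw) [Fintype K]
    {k k' : Fin m ⊕ Fin m} (hk : rk k' = rk k + 1) (hkm : rk k < m) {n : SpG K m}
    (hn : n ∈ N K m) {π : Equiv.Perm (Fin m ⊕ Fin m)} {c : Fin m ⊕ Fin m → K}
    (hπ : IsMono (XS K m) n π c) (hlt : rk (π k') < rk (π k)) :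
    wl (wf (spBN hM)) (mkW (spBN hM) n hn *
      wf (spBN hM) ⟨W (XS K m) k k' 1, ⟨k, k', hk, hkm, rfl⟩⟩) <
      wl (wf (spBN hM)) (mkW (spBN hM) n hn) := by
  have hkk' : k ≠ k' := Cfsg.Agent.Helper64.StCB.ne_of_rk_succ hk
  have hs : W (XS K m) k k' 1 ∈ simpleSet K m := ⟨k, k', hk, hkm, rfl⟩
  have hklt : rk k < rk k' := by omega
  -- the element `b`
  have hbU : XS K m k k' 1 ∈ U K m :=
    Cfsg.Agent.Helper64.StCB.X_mem_UposC (XS K m) hklt 1
  have hbB : XS K m k k' 1 ∈ (spBN hM).B := (le_sup_left : U K m ≤ B K m) hbU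
  refine wl_mul_lt_of_mem_dc (spBN hM) hn ⟨W (XS K m) k k' 1, ⟨k, k', hk, hkm, rfl⟩⟩ hbB ?_
  show n * XS K m k k' 1 * W (XS K m) k k' 1 ∈ dc (spBN hM) n
  -- rewrite `X k k' 1`
  have e1 : XS K m k k' 1 = XS K m k' k 1 * W (XS K m) k k' 1 * XS K m k' k 1 := by
    have h1 := Cfsg.Agent.Helper64.StCB.X_neg_root_eq (X := XS K m) XS_spRel hkk'.symm
      (s := (1 : K)) one_ne_zero
    have h2 := hM.W_swap hkk' (t := (1 : K)) one_ne_zero
    rw [inv_one] at h1 h2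
    rw [h2]
    exact h1
  -- the three factors
  have f1 : n * XS K m k' k 1 * n⁻¹ ∈ U K m := by
    rw [hπ.2 k' k hkk'.symm 1]
    exact Cfsg.Agent.Helper64.StCB.X_mem_UposC (XS K m) hlt _
  have f2 : W (XS K m) k k' 1 * W (XS K m) k k' 1 ∈ H K m := simple_sq hM hs
  have f3 : (W (XS K m) k k' 1)⁻¹ * XS K m k' k 1 * W (XS K m) k k' 1 ∈ U K m := by
    have h1 := (hM.mono k k' hkk' (-1) (neg_ne_zero.mpr one_ne_zero)).2 k' k hkk'.symm 1
    rw [← hM.W_inv hkk' 1, Cfsg.Agent.Helper64.StCB.reflPerm_right hk,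
      Cfsg.Agent.Helper64.StCB.reflPerm_left hk, inv_inv] at h1
    rw [h1]
    exact Cfsg.Agent.Helper64.StCB.X_mem_UposC (XS K m) hklt _
  rw [mem_dc]
  refine ⟨n * XS K m k' k 1 * n⁻¹, (le_sup_left : U K m ≤ B K m) f1,
    (W (XS K m) k k' 1 * W (XS K m) k k' 1) *
      ((W (XS K m) k k' 1)⁻¹ * XS K m k' k 1 * W (XS K m) k k' 1),
    (B K m).mul_mem ((le_sup_right : H K m ≤ B K m) f2) ((le_sup_left : U K m ≤ B K m) f3), ?_⟩
  rw [e1]
  group

end Cfsg.Agent.Helper64.SpBNP15
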