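import Cfsg.Agent.Helper64.SpBNP15

/-!
# `Sp_{2m}(K)`: the longest element (P16)
-/

set_option autoImplicit false

namespace Cfsg.Agent.Helper64.SpBNP16

open Matrix Cfsg.Agent.Helper96.StN Cfsg.Agent.Helper96.StC Cfsg.Agent.Helper29.StCM
open Cfsg Cfsg.Agent.Helper6 Cfsg.Agent.Helper18 Cfsg.Agent.Helper19.Cox Cfsg.Agent.Helper19.Poinc
  Cfsg.Agent.Helper19.Stein Cfsg.Agent.Helper19.StBN Cfsg.Agent.Helper19.SpBN

universe u

variable {K : Type u} [Field K] {m : ℕ}

/-- a permutation reversing the adjacent ranks reverses all ranks -/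
theorem rev_of_adj {π : Equiv.Perm (Fin m ⊕ Fin m)}
    (h : ∀ k k' : Fin m ⊕ Fin m, rk k' = rk k + 1 → rk (π k') < rk (π k)) :
    ∀ x y : Fin m ⊕ Fin m, rk x < rk y → rk (π y) < rk (π x) := by
  have key : ∀ d : ℕ, ∀ x y : Fin m ⊕ Fin m, rk y = rk x + d + 1 → rk (π y) < rk (π x) := by
    intro d
    induction d with
    | zero =>
      intro x y hxy
      exact h x y (by omega)
    | succ d ih =>
      intro x y hxy
      have hy := rk_lt y
      obtain ⟨z, hz⟩ := Cfsg.Agent.Helper64.StCB.exists_rk (m := m) (r := rk x + d + 1)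
        (by omega)
      have h1 := ih x z (by omega)
      have h2 := h z y (by omega)
      omega
  intro x y hxy
  exact key (rk y - rk x - 1) x y (by omega)

/-- (P16) the longest element -/
theorem exists_longest (hM : MonoData (XS K m) reflPerm cw) [Fintype K] :
    ∃ n₀, ∃ hn₀ : n₀ ∈ N K m, MaxR (wf (spBN hM)) (mkW (spBN hM) n₀ hn₀) ∧
      ∀ u ∈ B K m, n₀⁻¹ * u * n₀ ∈ B K m ↔ u ∈ H K m := by
  have hE := exchData_wf (spBN hM)
  obtain ⟨w, hw⟩ := exists_maxR hE
  obtain ⟨n₀, hn₀, rfl⟩ := mkW_surjective (spBN hM) w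
  have hn₀' : n₀ ∈ N K m := hn₀
  refine ⟨n₀, hn₀', hw, ?_⟩
  obtain ⟨π, c, hπ, hbar⟩ :=
    Cfsg.Agent.Helper68.StCN2a.exists_isMono_bar hM (N_le_Nsub hn₀')
  -- `π` reverses the simple pairs
  have hsimple : ∀ k k' : Fin m ⊕ Fin m, rk k' = rk k + 1 → rk k < m →
      rk (π k') < rk (π k) := by
    intro k k' hk hkm
    by_contra hcon
    have hkk' : k ≠ k' := Cfsg.Agent.Helper64.StCB.ne_of_rk_succ hk
    have hne : rk (π k) ≠ rk (π k') := fun e => hkk' (π.injective (rk_injective e))
    have hlt : rk (π k) < rk (π k') := by omega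
    have hs : W (XS K m) k k' 1 ∈ simpleSet K m := ⟨k, k', hk, hkm, rfl⟩
    have hsN : W (XS K m) k k' 1 ∈ N K m := (spBN hM).subset hs
    have hn₁ : n₀ * W (XS K m) k k' 1 ∈ N K m := (N K m).mul_mem hn₀' hsN
    have hπ₁ := hπ.mul (hM.mono k k' hkk' 1 one_ne_zero)
    have hlt₁ : rk ((π * reflPerm k k') k') < rk ((π * reflPerm k k') k) := by
      rw [Equiv.Perm.mul_apply, Equiv.Perm.mul_apply,
        Cfsg.Agent.Helper64.StCB.reflPerm_right hk, Cfsg.Agent.Helper64.StCB.reflPerm_left hk]
      exact hlt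
    have h15 := Cfsg.Agent.Helper64.SpBNP15.descent_criterion hM hk hkm hn₁ hπ₁ hlt₁
    have hmax := hw ⟨W (XS K m) k k' 1, hs⟩
    have e1 : mkW (spBN hM) (n₀ * W (XS K m) k k' 1) hn₁ =
        mkW (spBN hM) n₀ hn₀ * wf (spBN hM) ⟨W (XS K m) k k' 1, hs⟩ := rfl
    rw [e1, mul_assoc, hE.inv, mul_one] at h15
    omega
  -- `π` reverses all the adjacent pairs
  have hadj : ∀ k k' : Fin m ⊕ Fin m, rk k' = rk k + 1 → rk (π k') < rk (π k) := by
    intro k k' hk
    by_cases hkm : rk k < m
    · exact hsimple k k' hk hkm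
    · have hk'l := rk_lt k'
      have h1 := hsimple (bar k') (bar k) (by rw [rk_bar, rk_bar]; omega)
        (by rw [rk_bar]; omega)
      rw [hbar, hbar, rk_bar, rk_bar] at h1
      have h2 := rk_lt (π k)
      have h3 := rk_lt (π k')
      omega
  have hrev := rev_of_adj hadj
  -- the entries of `n₀` at the positions `(π k, k)` are non-zero
  have hnz : ∀ k, n₀.1 (π k) k ≠ 0 := by
    intro k h0
    have h1 : (n₀⁻¹).1 * n₀.1 = 1 := congrArg Subtype.val (inv_mul_cancel n₀)
    have h2 := congrFun (congrFun h1 k) k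
    rw [Matrix.mul_apply, Matrix.one_apply_eq] at h2
    rw [Finset.sum_eq_zero] at h2
    · exact zero_ne_one h2
    · intro b _
      by_cases hb : b = π k
      · rw [hb, h0, mul_zero]
      · rw [mono_col_zero hπ hbar k b hb, mul_zero]
  have hpi : ∀ x, π (π⁻¹ x) = x := fun x => π.apply_symm_apply x
  intro u hu
  constructor
  · intro hv
    have huv : u * n₀ = n₀ * (n₀⁻¹ * u * n₀) := by group
    have hmat : u.1 * n₀.1 = n₀.1 * (n₀⁻¹ * u * n₀).1 := congrArg Subtype.val huv
    -- `u` is diagonal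
    have hdiag : ∀ a b, a ≠ b → u.1 a b = 0 := by
      intro a b hab
      rcases lt_or_gt_of_ne (fun e => hab (rk_injective e)) with h | h
      · have hL : (u.1 * n₀.1) a (π⁻¹ b) = u.1 a b * n₀.1 b (π⁻¹ b) := by
          rw [Matrix.mul_apply]
          refine Finset.sum_eq_single b ?_ ?_
          · intro x _ hx
            rw [mono_col_zero hπ hbar (π⁻¹ b) x (by simpa using hx), mul_zero]
          · intro h'
            exact absurd (Finset.mem_univ _) h'
        have hR : (n₀.1 * (n₀⁻¹ * u * n₀).1) a (π⁻¹ b) =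
            n₀.1 a (π⁻¹ a) * (n₀⁻¹ * u * n₀).1 (π⁻¹ a) (π⁻¹ b) := by
          rw [Matrix.mul_apply]
          refine Finset.sum_eq_single (π⁻¹ a) ?_ ?_
          · intro x _ hx
            have hax : a ≠ π x := by
              intro e
              apply hx
              rw [e]
              simp
            rw [mono_col_zero hπ hbar x a hax, zero_mul]
          · intro h'
            exact absurd (Finset.mem_univ _) h'
        have hv0 : (n₀⁻¹ * u * n₀).1 (π⁻¹ a) (π⁻¹ b) = 0 := by
          apply B_upper hM hv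
          by_contra hcon
          have hne : rk (π⁻¹ a) ≠ rk (π⁻¹ b) :=
            fun e => hab (π⁻¹.injective (rk_injective e))
          have h4 := hrev (π⁻¹ a) (π⁻¹ b) (by omega)
          rw [hpi, hpi] at h4
          omega
        have h5 := congrFun (congrFun hmat a) (π⁻¹ b)
        rw [hL, hR, hv0, mul_zero] at h5
        have h6 := hnz (π⁻¹ b)
        rw [hpi] at h6
        exact (mul_eq_zero.mp h5).resolve_right h6
      · exact B_upper hM hu a b h
    obtain ⟨u₁, hu₁, h₁, hh₁, huh⟩ := (mem_B_iff hM u).mp hu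
    have hh₁' := H_diag hM (inv_mem hh₁)
    have hu1 : u₁ = 1 := by
      apply Subtype.ext
      ext a b
      by_cases hab : a = b
      · subst hab
        rw [(U_unitri hu₁).2 a]
        exact (Matrix.one_apply_eq a).symm
      · have e : u₁ = u * h₁⁻¹ := by rw [huh]; group
        have e' : u₁.1 = u.1 * (h₁⁻¹).1 := congrArg Subtype.val e
        rw [e', Matrix.mul_apply]
        refine Eq.trans ?_ (Matrix.one_apply_ne hab).symm
        apply Finset.sum_eq_zero
        intro x _
        by_cases hax : a = x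
        · subst hax
          rw [hh₁' a b hab, mul_zero]
        · rw [hdiag a x hax, zero_mul]
    rw [huh, hu1, one_mul]
    exact hh₁
  · intro huH
    have h1 := hM.conj_mem_Hsub (inv_mem (N_le_Nsub hn₀')) huH
    rw [inv_inv] at h1
    exact (le_sup_right : H K m ≤ B K m) h1

end Cfsg.Agent.Helper64.SpBNP16
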