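import Cfsg.Prelude.Def_Transfer
import Cfsg.Agent.Helper1.SZ
import Cfsg.Agent.Helper78.PNilpotent
import Cfsg.Agent.Helper2.PComplement

set_option autoImplicit false

namespace Cfsg.Agent.Helper64

open Subgroup Pointwise

universe u

/-- A special case of Tate's theorem: if `Q ⊴ G` lies in the Frattini subgroup of a Sylow
`p`-subgroup `P` and `G ⧸ Q` has a normal `p`-complement, then so does `G`.
(Schur–Zassenhaus, the Frattini argument, and the non-generator property of `Φ(P)`.) -/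
theorem hasNormalPComplement_of_quotient_frattini {G : Type u} [Group G] [Finite G] {p : ℕ}
    [Fact p.Prime] (P : Sylow p G) (Q : Subgroup G) [hQn : Q.Normal] (hQP : Q ≤ (P : Subgroup G))
    (hQfr : ∀ q (hq : q ∈ Q), (⟨q, hQP hq⟩ : (P : Subgroup G)) ∈ frattini ↥(P : Subgroup G))
    (hquot : Cfsg.HasNormalPComplement p (G ⧸ Q)) : Cfsg.HasNormalPComplement p G := by
  have hp := (Fact.out : p.Prime)
  obtain ⟨P', Nb, hNbn, hNbc⟩ := hquot
  set M := Nb.comap (QuotientGroup.mk' Q) with hM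
  have hMn : M.Normal := by rw [hM]; infer_instance
  have hQM : Q ≤ M := by
    intro q hq
    rw [hM, Subgroup.mem_comap, QuotientGroup.mk'_apply, (QuotientGroup.eq_one_iff q).mpr hq]
    exact one_mem _
  obtain ⟨c, hc⟩ := IsPGroup.iff_card.mp (P.2.to_le hQP)
  obtain ⟨d, hd⟩ := IsPGroup.iff_card.mp P'.2
  have hMidx : M.index = p ^ d := by
    rw [hM, Subgroup.index_comap_of_surjective _ (QuotientGroup.mk'_surjective Q), ← hd]
    exact hNbc.symm.index_eq_card
  have hNbcard : ¬ p ∣ Nat.card Nb := by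
    rw [← hNbc.index_eq_card]; exact P'.not_dvd_index
  have hrel : Q.relIndex M = Nat.card Nb := by
    have h1 := Subgroup.relIndex_mul_index hQM
    have h2 : Q.index = Nat.card Nb * p ^ d := by
      rw [Subgroup.index_eq_card, ← hNbc.card_mul_card, hd]
    rw [hMidx, h2] at h1
    exact Nat.eq_of_mul_eq_mul_right (pow_pos hp.pos d) h1
  have hQ'card : Nat.card (Q.subgroupOf M) = p ^ c := by
    rw [← hc]; exact Nat.card_congr (Subgroup.subgroupOfEquivOfLe hQM).toEquiv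
  have hcop : (Nat.card (Q.subgroupOf M)).Coprime (Q.subgroupOf M).index := by
    rw [hQ'card]
    change (p ^ c).Coprime (Q.relIndex M)
    rw [hrel]
    exact Nat.Coprime.pow_left c ((Nat.Prime.coprime_iff_not_dvd hp).mpr hNbcard)
  obtain ⟨L₀, hL₀⟩ := Subgroup.exists_right_complement'_of_coprime hcop
  set L := L₀.map M.subtype with hL
  have hLM : L ≤ M := by
    rintro _ ⟨l, _, rfl⟩
    exact l.2
  have hL₀eq : L.subgroupOf M = L₀ := by
    rw [hL]
    exact Subgroup.comap_map_eq_self_of_injective M.subtype_injective L₀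
  have hL₀card : Nat.card L₀ = Nat.card Nb := by
    rw [← hL₀.symm.index_eq_card]; exact hrel
  have hLcard : Nat.card L = Nat.card Nb := by
    rw [hL, Subgroup.card_map_of_injective M.subtype_injective, hL₀card]
  -- `Q ∩ L = 1` and `M = Q L`
  have hdisj : Q ⊓ L = ⊥ := by
    rw [eq_bot_iff]
    rintro y hy
    obtain ⟨hyQ, hyL⟩ := Subgroup.mem_inf.mp hy
    obtain ⟨l, hl, rfl⟩ := hyL
    have h1 : l ∈ Q.subgroupOf M ⊓ L₀ := Subgroup.mem_inf.mpr ⟨Subgroup.mem_subgroupOf.mpr hyQ, hl⟩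
    rw [disjoint_iff.mp hL₀.disjoint, Subgroup.mem_bot] at h1
    rw [Subgroup.mem_bot, h1]; rfl
  have hprod : ∀ m ∈ M, ∃ q ∈ Q, ∃ x ∈ L, m = q * x := by
    intro m hm
    obtain ⟨⟨⟨q, hq⟩, ⟨x, hx⟩⟩, hqx⟩ := hL₀.2 ⟨m, hm⟩
    simp only at hqx
    refine ⟨q, Subgroup.mem_subgroupOf.mp hq, x, ⟨x, hx, rfl⟩, ?_⟩
    have := congrArg Subtype.val hqx
    simpa using this.symm
  -- Frattini argument
  have hfrat : ∀ h : G, ∃ m ∈ M, m⁻¹ * h ∈ normalizer (L : Set G) := by
    intro h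
    have hKM : MulAut.conj h • L ≤ M := by
      intro y hy
      rw [Helper1.mem_conj_smul] at hy
      have := hMn.conj_mem _ (hLM hy) h
      simpa [mul_assoc] using this
    have hKdisj : Q ⊓ MulAut.conj h • L = ⊥ := by
      rw [eq_bot_iff]
      intro y hy
      obtain ⟨hyQ, hyK⟩ := Subgroup.mem_inf.mp hy
      rw [Helper1.mem_conj_smul] at hyK
      have h1 : h⁻¹ * y * h ∈ Q := by
        have := hQn.conj_mem y hyQ h⁻¹
        simpa using this
      have h2 : h⁻¹ * y * h ∈ Q ⊓ L := Subgroup.mem_inf.mpr ⟨h1, hyK⟩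
      rw [hdisj, Subgroup.mem_bot] at h2
      rw [Subgroup.mem_bot]
      have h3 : y = h * (h⁻¹ * y * h) * h⁻¹ := by group
      rw [h3, h2]; simp
    have hKprod : ∀ l ∈ M, ∃ q ∈ Q, ∃ x ∈ MulAut.conj h • L, l = q * x := by
      intro l hl
      have h1 : h⁻¹ * l * h ∈ M := by
        have := hMn.conj_mem l hl h⁻¹
        simpa using this
      obtain ⟨q, hq, x, hx, hqx⟩ := hprod _ h1
      refine ⟨h * q * h⁻¹, hQn.conj_mem q hq h, h * x * h⁻¹, Helper1.conj_mem_conj_smul hx, ?_⟩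
      calc l = h * (h⁻¹ * l * h) * h⁻¹ := by group
        _ = h * (q * x) * h⁻¹ := by rw [hqx]
        _ = h * q * h⁻¹ * (h * x * h⁻¹) := by group
    have hK := Helper1.isComplement'_subgroupOf hKM hKdisj hKprod
    have hcop' : (Nat.card (Q.subgroupOf M)).Coprime (Nat.card (L.subgroupOf M)) := by
      rw [hL₀eq, ← hL₀.symm.index_eq_card]; exact hcop
    have hsolv : Group.IsSolvable (Q.subgroupOf M) := by
      have hQ'p : IsPGroup p (Q.subgroupOf M) := (P.2.to_le hQP).comap_subtype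
      have : Group.IsNilpotent (Q.subgroupOf M) := hQ'p.isNilpotent
      infer_instance
    obtain ⟨m, hm⟩ := Helper1.sz_conj (Q.subgroupOf M) (L.subgroupOf M)
      ((MulAut.conj h • L).subgroupOf M) hcop' (hL₀eq ▸ hL₀) hK (Or.inl hsolv)
    have hconj := Helper1.conj_of_subgroupOf hLM hKM m hm
    refine ⟨m, m.2, ?_⟩
    rw [mem_normalizer_iff]
    intro y
    have h1 : h * y * h⁻¹ ∈ MulAut.conj (m : G) • L ↔ h * y * h⁻¹ ∈ MulAut.conj h • L := by
      rw [hconj]
    rw [Helper1.mem_conj_smul, Helper1.mem_conj_smul] at h1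
    have h2 : h⁻¹ * (h * y * h⁻¹) * h = y := by group
    have h3 : (m : G)⁻¹ * h * y * ((m : G)⁻¹ * h)⁻¹ = (m : G)⁻¹ * (h * y * h⁻¹) * m := by group
    rw [h2] at h1
    rw [h3]
    exact h1.symm
  -- `P ≤ N_G(L)` by the non-generator property
  have hPX : (P : Subgroup G) ≤ normalizer (L : Set G) := by
    have htop : (normalizer (L : Set G)).subgroupOf (P : Subgroup G) ⊔
        frattini ↥(P : Subgroup G) = ⊤ := by
      rw [eq_top_iff]
      rintro ⟨u, hu⟩ -
      obtain ⟨m, hm, hmu⟩ := hfrat u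
      obtain ⟨q, hq, x, hx, rfl⟩ := hprod m hm
      have h1 : q⁻¹ * u ∈ normalizer (L : Set G) := by
        have := mul_mem (le_normalizer hx) hmu
        have h2 : x * ((q * x)⁻¹ * u) = q⁻¹ * u := by group
        rwa [h2] at this
      have h3 : (⟨u, hu⟩ : (P : Subgroup G)) =
          ⟨q, hQP hq⟩ * ⟨q⁻¹ * u, mul_mem (inv_mem (hQP hq)) hu⟩ := by
        apply Subtype.ext; simp
      rw [h3]
      exact mul_mem (mem_sup_right (hQfr q hq)) (mem_sup_left (Subgroup.mem_subgroupOf.mpr h1))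
    have := frattini_nongenerating htop
    rwa [Subgroup.subgroupOf_eq_top] at this
  -- `L` is normal in `G`
  have hLn : L.Normal := by
    rw [← Subgroup.normalizer_eq_top_iff, eq_top_iff]
    intro h _
    obtain ⟨m, hm, hmh⟩ := hfrat h
    obtain ⟨q, hq, x, hx, rfl⟩ := hprod m hm
    have := mul_mem (mul_mem (hPX (hQP hq)) (le_normalizer hx)) hmh
    have h2 : q * x * ((q * x)⁻¹ * h) = h := by group
    rwa [h2] at this
  -- cardinalities
  have hLc : (Nat.card L).Coprime p := by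
    rw [hLcard]
    exact ((Nat.Prime.coprime_iff_not_dvd hp).mpr hNbcard).symm
  have hLidx : L.index = p ^ (c + d) := by
    have h1 : Nat.card L * L.index = Nat.card G := L.card_mul_index
    have h2 : Nat.card M * M.index = Nat.card G := M.card_mul_index
    have h3 : Nat.card (Q.subgroupOf M) * Nat.card L₀ = Nat.card M := hL₀.card_mul_card
    rw [hQ'card, hL₀card] at h3
    rw [← h2, ← h3, hMidx, hLcard] at h1
    have hpos : 0 < Nat.card Nb := Nat.card_pos
    have h4 : Nat.card Nb * L.index = Nat.card Nb * p ^ (c + d) := by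
      rw [h1, pow_add]; ring
    exact Nat.eq_of_mul_eq_mul_left hpos h4
  exact ⟨P, L, hLn, Helper78.isComplement'_of_coprime_of_index P L hLc hLidx⟩


/-- If `N_G(P)` has a normal `p`-complement then it induces inner automorphisms on `P`. -/
theorem conj_eq_conj_of_hasNormalPComplement_normalizer {G : Type u} [Group G] [Finite G] {p : ℕ}
    [Fact p.Prime] (P : Sylow p G)
    (hN : Cfsg.HasNormalPComplement p ↥(normalizer ((P : Subgroup G) : Set G)))
    {n : G} (hn : n ∈ normalizer ((P : Subgroup G) : Set G)) {x : G} (hx : x ∈ (P : Subgroup G)) :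
    ∃ r ∈ (P : Subgroup G), n * x * n⁻¹ = r * x * r⁻¹ := by
  set K := normalizer ((P : Subgroup G) : Set G) with hK
  have hPK : (P : Subgroup G) ≤ K := le_normalizer
  obtain ⟨C, hCn, hCc⟩ := (Helper2.hasNormalPComplement_iff (P.subtype hPK)).mp hN
  have hPKn : ((P : Subgroup G).subgroupOf K).Normal := Subgroup.normal_in_normalizer
  obtain ⟨⟨⟨c, hc⟩, ⟨r, hr⟩⟩, hcr⟩ := hCc.2 ⟨n, hn⟩
  simp only at hcr
  have hr' : r ∈ (P : Subgroup G).subgroupOf K := hr
  set X : K := ⟨x, hPK hx⟩ with hX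
  have hXP : X ∈ (P : Subgroup G).subgroupOf K := Subgroup.mem_subgroupOf.mpr hx
  have hX' : r * X * r⁻¹ ∈ (P : Subgroup G).subgroupOf K := hPKn.conj_mem X hXP r
  have hcomm : c * (r * X * r⁻¹) * c⁻¹ * (r * X * r⁻¹)⁻¹ ∈ C ⊓ (P : Subgroup G).subgroupOf K := by
    refine Subgroup.mem_inf.mpr ⟨?_, ?_⟩
    · have h1 : (r * X * r⁻¹) * c⁻¹ * (r * X * r⁻¹)⁻¹ ∈ C := hCn.conj_mem _ (inv_mem hc) _
      have h2 : c * (r * X * r⁻¹) * c⁻¹ * (r * X * r⁻¹)⁻¹ =
          c * ((r * X * r⁻¹) * c⁻¹ * (r * X * r⁻¹)⁻¹) := by group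
      rw [h2]; exact mul_mem hc h1
    · exact mul_mem (hPKn.conj_mem _ hX' c) (inv_mem hX')
  have hbot : C ⊓ (P : Subgroup G).subgroupOf K = ⊥ := disjoint_iff.mp hCc.disjoint
  rw [hbot, Subgroup.mem_bot] at hcomm
  have h3 : c * (r * X * r⁻¹) * c⁻¹ = r * X * r⁻¹ := by
    have := mul_eq_one_iff_eq_inv.mp hcomm
    rwa [inv_inv] at this
  refine ⟨r, Subgroup.mem_subgroupOf.mp hr', ?_⟩
  have h4 : (⟨n, hn⟩ : K) * X * (⟨n, hn⟩ : K)⁻¹ = r * X * r⁻¹ := by
    rw [← hcr, ← h3]; group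
  have := congrArg Subtype.val h4
  simpa [hX] using this

/-- Burnside's transfer theorem in a quotient: if `Q ⊴ G`, `P' ≤ Q ≤ P` and `N_G(P)` induces
inner automorphisms on `P`, then `G ⧸ Q` has a normal `p`-complement. -/
theorem hasNormalPComplement_quotient_of_inner {G : Type u} [Group G] [Finite G] {p : ℕ}
    [Fact p.Prime] (P : Sylow p G) (Q : Subgroup G) [hQn : Q.Normal] (hQP : Q ≤ (P : Subgroup G))
    (hcomm : ∀ r ∈ (P : Subgroup G), ∀ x ∈ (P : Subgroup G), r * x * r⁻¹ * x⁻¹ ∈ Q)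
    (hinner : ∀ n ∈ normalizer ((P : Subgroup G) : Set G), ∀ x ∈ (P : Subgroup G),
      ∃ r ∈ (P : Subgroup G), n * x * n⁻¹ = r * x * r⁻¹) :
    Cfsg.HasNormalPComplement p (G ⧸ Q) := by
  have hsurj := QuotientGroup.mk'_surjective Q
  set Pb : Sylow p (G ⧸ Q) := P.mapSurjective hsurj with hPb
  apply Helper2.hasNormalPComplement_of_normalizer_le_centralizer Pb
  intro nb hnb
  obtain ⟨n, rfl⟩ := hsurj nb
  have hn : n ∈ normalizer ((P : Subgroup G) : Set G) := by
    have h1 : n ∈ (normalizer (((P : Subgroup G).map (QuotientGroup.mk' Q) : Subgroup (G ⧸ Q)) :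
        Set (G ⧸ Q))).comap (QuotientGroup.mk' Q) := hnb
    rw [Subgroup.comap_normalizer_eq_of_surjective _ hsurj, Subgroup.comap_map_eq,
      QuotientGroup.ker_mk', sup_eq_left.mpr hQP] at h1
    exact h1
  rw [mem_centralizer_iff]
  rintro xb hxb
  obtain ⟨x, hx, rfl⟩ := (show xb ∈ (P : Subgroup G).map (QuotientGroup.mk' Q) from hxb)
  obtain ⟨r, hr, hnr⟩ := hinner n hn x hx
  have h1 : (QuotientGroup.mk' Q) n * (QuotientGroup.mk' Q) x * ((QuotientGroup.mk' Q) n)⁻¹ =
      (QuotientGroup.mk' Q) x := by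
    rw [← map_inv, ← map_mul, ← map_mul, hnr]
    have h2 : r * x * r⁻¹ = (r * x * r⁻¹ * x⁻¹) * x := by group
    rw [h2, map_mul]
    have h3 : (QuotientGroup.mk' Q) (r * x * r⁻¹ * x⁻¹) = 1 :=
      (QuotientGroup.eq_one_iff _).mpr (hcomm r hr x hx)
    rw [h3, one_mul]
  calc (QuotientGroup.mk' Q) x * (QuotientGroup.mk' Q) n
      = ((QuotientGroup.mk' Q) n * (QuotientGroup.mk' Q) x * ((QuotientGroup.mk' Q) n)⁻¹) *
        (QuotientGroup.mk' Q) n := by rw [h1]
    _ = (QuotientGroup.mk' Q) n * (QuotientGroup.mk' Q) x := by group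

end Cfsg.Agent.Helper64
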